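import Mathlib
import Cfsg.Prelude.Def_OddOrderLocal
import Cfsg.Agent.Lib.Helper33.SylowSub
import Cfsg.Agent.Lib.Helper24.SylowInv
import Cfsg.Agent.Lib.Helper52.NormalRankTwo
import Cfsg.Agent.Lib.Helper70.Kulakoff3

set_option autoImplicit false

/-!
# Bender–Glauberman Lemma 12.12 (a), (b), (c)  -- helper90

From B&G 10.1 (both parts, for the fixed prime `q ∈ σ(M)`) and B&G 12.4(a) (`C_G(A) ≤ M` for
`A ≤ M` of type `(q, q)`), given as hypotheses.
-/

namespace Cfsg.Agent.Lib.Helper90.BG1212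

open Subgroup Cfsg Cfsg.Agent.Lib.Helper33 Cfsg.Agent.Lib.Helper24

variable {G : Type*} [Group G] [Finite G]

/-- a Sylow `q`-subgroup `Q` of `M` with `q ∈ σ(M)` has `N_G(Q) ≤ M` -/
theorem normalizer_le_of_sigma {M Q : Subgroup G} {q : ℕ} [Fact q.Prime] (hq : q ∈ sigma M)
    (hQM : Q ≤ M) (hQ : IsPGroup q Q) (hQi : ¬ q ∣ Q.relIndex M) :
    normalizer (Q : Set G) ≤ M := by
  obtain ⟨-, -, P₀, hP₀⟩ := hq
  obtain ⟨hUK, hUp, hUi⟩ := sylow_map_facts M P₀
  obtain ⟨P, hP⟩ := exists_sylow_map_eq M Q hQM hQ hQi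
  have hcard : Nat.card Q = Nat.card ((P₀ : Subgroup M).map M.subtype) := by
    rw [← hP, card_map_of_injective M.subtype_injective, card_map_of_injective M.subtype_injective,
      Sylow.card_eq_multiplicity, Sylow.card_eq_multiplicity]
  obtain ⟨k, hk, hkV⟩ := sylow_cj_of_facts M _ Q hUK hUp hUi hQM hQ hcard
  rw [hkV, normalizer_cj]
  intro x hx
  obtain ⟨y, hy, rfl⟩ := mem_cj'.mp hx
  exact M.mul_mem (M.mul_mem hk (hP₀ hy)) (M.inv_mem hk)

/-- a Sylow `q`-subgroup `Q` of `M` with `N_G(Q) ≤ M` is a maximal `q`-subgroup of `G` -/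
theorem maximal_of_normalizer_le {M Q : Subgroup G} {q : ℕ} [Fact q.Prime]
    (hQM : Q ≤ M) (hQ : IsPGroup q Q) (hQi : ¬ q ∣ Q.relIndex M)
    (hN : normalizer (Q : Set G) ≤ M) :
    ∀ R : Subgroup G, IsPGroup q R → Q ≤ R → R = Q := by
  intro R hR hQR
  by_contra hne
  have hlt : Q < R := lt_of_le_of_ne hQR (fun h => hne h.symm)
  have hgrow := normalizer_growth hR hlt
  set R1 := R ⊓ normalizer (Q : Set G) with hR1
  have hR1M : R1 ≤ M := inf_le_right.trans hN
  have hR1q : IsPGroup q R1 := hR.to_le inf_le_left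
  obtain ⟨c, -, hc⟩ := sylow_sub hQM hQ hQi hR1M hR1q
  have h1 : Nat.card R1 ≤ Nat.card Q := by
    rw [← card_cj c R1]
    exact Nat.card_mono (Set.toFinite _) hc
  have h2 : Nat.card Q < Nat.card R1 := by
    have hle : Nat.card Q ≤ Nat.card R1 := Nat.card_mono (Set.toFinite _) hgrow.le
    rcases hle.lt_or_eq with h | h
    · exact h
    · exact absurd (eq_of_le_of_card_ge hgrow.le h.ge) hgrow.ne
  omega

/-- every `q`-subgroup lies in a conjugate of a maximal `q`-subgroup -/
theorem exists_le_cj_of_maximal {Q T : Subgroup G} {q : ℕ} [Fact q.Prime]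
    (hQ : IsPGroup q Q) (hmax : ∀ R : Subgroup G, IsPGroup q R → Q ≤ R → R = Q)
    (hT : IsPGroup q T) : ∃ g : G, T ≤ cj g Q := by
  let Qs : Sylow q G := ⟨Q, hQ, fun {R} hR hQR => hmax R hR hQR⟩
  obtain ⟨R, hTR⟩ := hT.exists_le_sylow
  obtain ⟨g, hg⟩ := sylow_exists_cj Qs R
  refine ⟨g, ?_⟩
  have : cj g Q = (R : Subgroup G) := hg
  rw [this]
  exact hTR

/-- in a cyclic group, a subgroup is normalized by whatever normalizes the group -/
theorem normalizer_le_of_isCyclic {S X : Subgroup G} (hcyc : IsCyclic S) (hXS : X ≤ S) :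
    normalizer (S : Set G) ≤ normalizer (X : Set G) := by
  intro n hn
  rw [← cj_eq_self_iff] at hn ⊢
  have hle : cj n X ≤ S := by
    have := cj_mono (g := n) hXS
    rwa [hn] at this
  have heq : (cj n X).subgroupOf S = X.subgroupOf S := by
    apply Cfsg.Agent.Lib.Helper70.kk_cyclic_unique
    rw [Nat.card_congr (subgroupOfEquivOfLe hle).toEquiv,
      Nat.card_congr (subgroupOfEquivOfLe hXS).toEquiv, card_cj]
  have := congrArg (Subgroup.map S.subtype) heq
  rwa [map_subgroupOf_eq_of_le hle, map_subgroupOf_eq_of_le hXS] at this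

/-- **B&G Lemma 12.12 (a), (b), (c)** from 10.1 and 12.4(a) as hypotheses. -/
theorem main (hodd : Odd (Nat.card G)) {M Mstar X S : Subgroup G} {q : ℕ} [Fact q.Prime]
    (hq : q ∈ sigma M)
    (h101a : ∀ Y : Subgroup G, IsPGroup q Y → Y ≠ ⊥ → Y ≤ M → ∀ g : G,
      Y.map (MulAut.conj g).toMonoidHom ≤ M →
        ∃ m ∈ M, ∃ c ∈ centralizer (Y : Set G), g = m * c)
    (h101b : ∀ Y : Subgroup G, IsPGroup q Y → Y ≠ ⊥ → Y ≤ M →
      normalizer (Y : Set G) = (M ⊓ normalizer (Y : Set G)) ⊔ centralizer (Y : Set G))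
    (h124 : ∀ A : Subgroup G, A ≤ M → IsElementaryAbelian q A → Nat.card A = q ^ 2 →
      centralizer (A : Set G) ≤ M)
    (hX1 : X ≠ ⊥) (hne : Mstar ≠ M) (hNX : normalizer (X : Set G) ≤ Mstar)
    (hSle : S ≤ M ⊓ Mstar) (hSq : IsPGroup q S)
    (hSmax : ∀ T : Subgroup G, T ≤ M ⊓ Mstar → IsPGroup q T → S ≤ T → T = S)
    (hXS : X ≤ S) :
    (∀ g : G, Mstar ≠ M.map (MulAut.conj g).toMonoidHom) ∧
      normalizer (S : Set G) ≤ M ∧ ¬ q ∣ S.relIndex Mstar := by
  have hS1 : S ≠ ⊥ := by
    intro h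
    apply hX1
    rw [eq_bot_iff, ← h]
    exact hXS
  have hSM : S ≤ M := hSle.trans inf_le_left
  have hSMs : S ≤ Mstar := hSle.trans inf_le_right
  have hCS : centralizer (S : Set G) ≤ Mstar :=
    ((centralizer_le hXS).trans (centralizer_le_normalizer _)).trans hNX
  have hCN : centralizer (S : Set G) ≤ normalizer (S : Set G) := centralizer_le_normalizer _
  -- a Sylow `q`-subgroup `P` of `M` containing `S`
  obtain ⟨P₀, hP₀⟩ := (hSq.comap_subtype (K := M)).exists_le_sylow
  set P : Subgroup G := (P₀ : Subgroup M).map M.subtype with hPdef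
  obtain ⟨hPM, hPq, hPi⟩ := sylow_map_facts M P₀
  have hSP : S ≤ P := by
    have h : (S.subgroupOf M).map M.subtype ≤ (P₀ : Subgroup M).map M.subtype :=
      Subgroup.map_mono (f := M.subtype) hP₀
    have e : (S.subgroupOf M).map M.subtype = S := map_subgroupOf_eq_of_le hSM
    rw [e] at h
    exact h
  have hNP : normalizer (P : Set G) ≤ M := normalizer_le_of_sigma hq hPM hPq hPi
  have hPmax := maximal_of_normalizer_le hPM hPq hPi hNP
  -- the conjugation claim
  have claimK : ∀ g : G, S ≤ cj g M → ∃ c ∈ centralizer (S : Set G), cj g M = cj c⁻¹ M := by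
    intro g hg
    rw [le_cj_iff] at hg
    obtain ⟨m, hm, c, hc, hgmc⟩ := h101a S hSq hS1 hSM g⁻¹ hg
    refine ⟨c, hc, ?_⟩
    have hg' : g = c⁻¹ * m⁻¹ := by
      have := congrArg (fun x => x⁻¹) hgmc
      simpa using this
    rw [hg', cj_mul, cj_eq_self_of_mem (M.inv_mem hm)]
  -- (c): `S` is a maximal `q`-subgroup of `M*`
  have claimT : ∀ T : Subgroup G, T ≤ Mstar → IsPGroup q T → S ≤ T → T = S := by
    intro T hTMs hTq hST
    obtain ⟨g, hg⟩ := exists_le_cj_of_maximal hPq hPmax hTq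
    have hTgM : T ≤ cj g M := hg.trans (cj_mono hPM)
    obtain ⟨c, hc, hgc⟩ := claimK g (hST.trans hTgM)
    rw [hgc, le_cj_iff, inv_inv] at hTgM
    have hcMs : c ∈ Mstar := hCS hc
    have h1 : cj c T ≤ Mstar := by
      have := cj_mono (g := c) hTMs
      rwa [cj_eq_self_of_mem hcMs] at this
    have h2 : S ≤ cj c T := by
      have := cj_mono (g := c) hST
      rwa [cj_eq_self_iff.mpr (hCN hc)] at this
    have h3 : cj c T = S := hSmax _ (le_inf hTgM h1) (isPGroup_cj hTq) h2
    have h4 : Nat.card T ≤ Nat.card S := by rw [← h3, card_cj]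
    exact (eq_of_le_of_card_ge hST h4).symm
  -- (b): `C_G(S) ≤ M`
  have hq2 : q ≠ 2 := by
    intro h2
    have h1 : q ∣ Nat.card G := hq.2.1.trans (card_subgroup_dvd_card M)
    rw [h2] at h1
    exact hodd.not_two_dvd_nat h1
  have hCSM : centralizer (S : Set G) ≤ M := by
    rcases Cfsg.Agent.Lib.Helper52.normal_rank_two q hSq with ⟨N, -, hNc, hNe⟩ | hcyc | ⟨h2, -, -⟩
    · -- `S` contains a subgroup of type `(q, q)`
      set A : Subgroup G := N.map S.subtype with hA
      have hAS : A ≤ S := map_subtype_le N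
      have hAc : Nat.card A = q ^ 2 := by
        rw [hA, card_map_of_injective S.subtype_injective, hNc]
      have hAe : IsElementaryAbelian q A := by
        refine ⟨IsPGroup.isMulCommutative_of_card_eq_prime_sq hAc, ?_⟩
        rintro _ ⟨a, ha, rfl⟩
        rw [← map_pow, hNe a ha, map_one]
      exact (centralizer_le hAS).trans (h124 A (hAS.trans hSM) hAe hAc)
    · -- `S` is cyclic
      have hNSX : normalizer (S : Set G) ≤ normalizer (X : Set G) :=
        normalizer_le_of_isCyclic hcyc hXS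
      have hSP' : S = P := by
        by_contra hneq
        have hlt : S < P := lt_of_le_of_ne hSP hneq
        have hgrow := normalizer_growth hPq hlt
        have hR : P ⊓ normalizer (S : Set G) = S := by
          apply hSmax
          · exact le_inf (inf_le_left.trans hPM) (inf_le_right.trans (hNSX.trans hNX))
          · exact hPq.to_le inf_le_left
          · exact hgrow.le
        exact hgrow.ne hR.symm
      rw [hSP']
      exact (centralizer_le_normalizer _).trans hNP
    · exact absurd h2 hq2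
  have hNS : normalizer (S : Set G) ≤ M := by
    rw [h101b S hSq hS1 hSM]
    exact sup_le inf_le_left hCSM
  refine ⟨?_, hNS, ?_⟩
  · -- (a)
    intro g hg
    have hg' : Mstar = cj g M := hg
    have hSg : S ≤ cj g M := by rw [← hg']; exact hSMs
    obtain ⟨c, hc, hgc⟩ := claimK g hSg
    apply hne
    rw [hg', hgc, cj_eq_self_of_mem (M.inv_mem (hCSM hc))]
  · -- (c)
    let Ss : Sylow q Mstar := ⟨S.subgroupOf Mstar, hSq.comap_subtype, by
      intro Q' hQ' hle
      have hle' : S ≤ Q'.map Mstar.subtype := by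
        have h : (S.subgroupOf Mstar).map Mstar.subtype ≤ Q'.map Mstar.subtype :=
          Subgroup.map_mono (f := Mstar.subtype) hle
        have e : (S.subgroupOf Mstar).map Mstar.subtype = S := map_subgroupOf_eq_of_le hSMs
        rw [e] at h
        exact h
      have hT := claimT (Q'.map Mstar.subtype) (map_subtype_le Q') (hQ'.map _) hle'
      have e2 : (Q'.map Mstar.subtype).subgroupOf Mstar = Q' :=
        comap_map_eq_self_of_injective Mstar.subtype_injective Q'
      rw [← e2, hT]⟩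
    exact Ss.not_dvd_index

end Cfsg.Agent.Lib.Helper90.BG1212
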