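import Cfsg.Agent.Lib.Helper30.BG142C
import Cfsg.Agent.Lib.Helper68.BG147U
import Cfsg.Agent.Lib.Helper70.BG1369
import Cfsg.Agent.S1378
import Cfsg.Agent.S1404

/-!
# BG 14.7(b), "Part S": all partners of `M` coincide

For a maximal subgroup `M` with Hall `κ(M)`-subgroup `K ≠ 1`, call a maximal subgroup `L` a
*partner* if `N_G(X) ≤ L` for some `X ≤ K` of prime order.  `partner_eq`: any two partners are
equal.  It is an assembly of

* the single-partner analysis (`StmtPartner`, helper64's `BG147Pair.partner`),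
* Lemma P in the form "`|K|` not prime ⟹ `M = M_σ K`" (`StmtP1`),
* the star count (`StmtStar`, helper22's `star_count`),
* helper68's Lemma U and the landed rows S1378, S1404.
-/

set_option autoImplicit false
set_option linter.unusedSectionVars false
set_option linter.unusedVariables false
set_option linter.style.haveILetI false

universe u

namespace Cfsg.Agent.Lib.Helper90.BG147S

open Subgroup Cfsg Cfsg.Agent.Lib.Helper33 Cfsg.Agent.Lib.Helper63
open Cfsg.Agent.Lib.Helper56.BG143 (Stmt1430)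

variable {G : Type u} [Group G] [Finite G]

/-- what Part S uses of the single-partner analysis for `(M, K, X, L)` -/
def PartnerFacts (M K X L : Subgroup G) : Prop :=
  (∀ g : G, L ≠ M.map (MulAut.conj g).toMonoidHom) ∧
  X ≤ sigmaCore L ∧
  K ⊔ (sigmaCore M ⊓ centralizer (K : Set G)) ≤ L ∧
  sigmaCore M ⊓ L = sigmaCore M ⊓ centralizer (K : Set G) ∧
  M ⊓ L = K ⊔ (sigmaCore M ⊓ centralizer (K : Set G)) ∧
  ∃ K1 : Subgroup G, IsPiHallOf (kappa L) K1 L ∧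
    sigmaCore M ⊓ centralizer (K : Set G) ≤ K1 ∧
    sigmaCore L ⊓ centralizer (K1 : Set G) = sigmaCore L ⊓ M ∧
    sigmaCore L ⊓ centralizer (K1 : Set G) ≤ K ∧
    K ⊔ (sigmaCore M ⊓ centralizer (K : Set G)) =
      K1 ⊔ (sigmaCore L ⊓ centralizer (K1 : Set G))

/-- the single-partner analysis as a hypothesis -/
def StmtPartner (G : Type u) [Group G] : Prop :=
  ∀ (M K : Subgroup G), IsCoatom M → IsPiHallOf (kappa M) K M → K ≠ ⊥ →
    ∀ X : Subgroup G, X ≤ K → (Nat.card X).Prime →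
    ∀ L : Subgroup G, IsCoatom L → normalizer (X : Set G) ≤ L → PartnerFacts M K X L

/-- Lemma P, in the form "`|K|` not prime ⟹ `M` is of type `P1`" -/
def StmtP1 (G : Type u) [Group G] : Prop :=
  ∀ (M K : Subgroup G), IsCoatom M → IsPiHallOf (kappa M) K M → K ≠ ⊥ →
    ¬ (Nat.card K).Prime → M ≤ sigmaCore M ⊔ K

/-- the star count as a hypothesis (verbatim the statement of helper22's `star_count`,
with the index type in the universe of `G`) -/
def StmtStar (G : Type u) [Group G] : Prop :=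
  ∀ (ι : Type u) [Fintype ι] (i₀ i₁ : ι), i₀ ≠ i₁ →
    ∀ (H : ι → Subgroup G) (Z : Subgroup G),
    (∀ i, IsCoatom (H i)) →
    (∀ i j, i ≠ j → ∀ g : G, H j ≠ (H i).map (MulAut.conj g).toMonoidHom) →
    (∀ i, Z ≤ H i) →
    (∀ i j, i ≠ j → H i ⊓ H j ≤ Z) →
    (∀ i, H i ≤ sigmaCore (H i) ⊔ Z) →
    (∀ p : ℕ, p.Prime → p ∣ Nat.card Z → ∃ i, p ∈ sigma (H i)) →
    (∀ i, ∀ a ∈ sigmaCore (H i) ⊓ Z, (orderOf a).Prime → centralizer ({a} : Set G) ≤ H i) →
    False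

/-- a conjugate `L' = gLg⁻¹` of a partner `L ≥ N_G(X)`, `X ≤ L_σ`, that still contains `X`
is `L` itself -/
theorem eq_of_conj (hG : IsMinSimpleOddOrder G) {L L' X : Subgroup G} (hL : IsCoatom L)
    (hX : (Nat.card X).Prime) (hXσ : X ≤ sigmaCore L) (hNL : normalizer (X : Set G) ≤ L)
    (hXL' : X ≤ L') {g : G} (hg : L' = cj g L) : L' = L := by
  obtain ⟨p, hp⟩ : ∃ p, p = Nat.card X := ⟨_, rfl⟩
  have hpp : p.Prime := hp ▸ hX
  haveI : Fact p.Prime := ⟨hpp⟩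
  have hσL := BG13.hallStmt hG L hL
  have hpσ : p ∈ sigma L := hσL.2.1 p hpp (hp ▸ Subgroup.card_dvd_of_le hXσ)
  have hXL : X ≤ L := hXσ.trans hσL.1
  have hXp : IsPGroup p X := Cfsg.Agent.Lib.Helper30.BG142.isPGroup_of_card_prime hp.symm
  have hX1 : X ≠ ⊥ := Cfsg.Agent.Lib.Helper30.BG142.ne_bot_of_card_prime hX
  have hcj : X.map (MulAut.conj g⁻¹).toMonoidHom ≤ L := by
    show cj g⁻¹ X ≤ L
    rw [cj_le_iff, inv_inv, ← hg]; exact hXL'
  obtain ⟨m, hm, c, hc, hgmc⟩ :=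
    (Cfsg.Agent.S1404.result hG L hL p hpσ X hXp hX1 hXL).1 g⁻¹ hcj
  have hcL : c ∈ L := hNL (Subgroup.centralizer_le_normalizer _ hc)
  have hgL : g⁻¹ ∈ L := hgmc ▸ L.mul_mem hm hcL
  have hgL' : g ∈ L := by simpa using L.inv_mem hgL
  rw [hg, cj_eq_self_of_mem hgL']


/-- **Part S of BG 14.7(b)**: all partners of `M` coincide. -/
theorem partner_eq (hG : IsMinSimpleOddOrder G) (h30 : Stmt1430 G)
    (hPart : StmtPartner G) (hP1 : StmtP1 G) (hStar : StmtStar G)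
    {M K : Subgroup G} (hM : IsCoatom M) (hK : IsPiHallOf (kappa M) K M)
    {X X' L L' : Subgroup G} (hXK : X ≤ K) (hX : (Nat.card X).Prime)
    (hX'K : X' ≤ K) (hX' : (Nat.card X').Prime)
    (hL : IsCoatom L) (hNL : normalizer (X : Set G) ≤ L)
    (hL' : IsCoatom L') (hNL' : normalizer (X' : Set G) ≤ L') : L = L' := by
  classical
  by_contra hne
  have hK1 : K ≠ ⊥ := fun h =>
    Cfsg.Agent.Lib.Helper30.BG142.ne_bot_of_card_prime hX (le_bot_iff.mp (h ▸ hXK))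
  have hσM := BG13.hallStmt hG M hM
  have hsemi := (h30 M hM K hK hK1).1
  have hKs1 : sigmaCore M ⊓ centralizer (K : Set G) ≠ ⊥ :=
    Cfsg.Agent.Lib.Helper56.BG143.Ks_ne_bot hK hK1 hsemi
  have hcop := Cfsg.Agent.Lib.Helper70.BG1369.coprime_card hK
  -- the partner predicate
  obtain ⟨IsPartner, hIP⟩ : ∃ IsPartner : Subgroup G → Prop, ∀ H, IsPartner H ↔
      ∃ Y : Subgroup G, Y ≤ K ∧ (Nat.card Y).Prime ∧ IsCoatom H ∧ normalizer (Y : Set G) ≤ H :=
    ⟨_, fun _ => Iff.rfl⟩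
  have hLP : IsPartner L := (hIP L).2 ⟨X, hXK, hX, hL, hNL⟩
  have hL'P : IsPartner L' := (hIP L').2 ⟨X', hX'K, hX', hL', hNL'⟩
  -- (F1) distinct partners are not conjugate
  have F1 : ∀ H H', IsPartner H → IsPartner H' → H ≠ H' → ∀ g : G, H' ≠ cj g H := by
    intro H H' hH hH' hHH' g hg
    obtain ⟨Y, hYK, hY, hHc, hNY⟩ := (hIP H).1 hH
    obtain ⟨Y', hY'K, hY', hH'c, hNY'⟩ := (hIP H').1 hH'
    obtain ⟨_, hYσ, _⟩ := hPart M K hM hK hK1 Y hYK hY H hHc hNY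
    obtain ⟨_, _, hZH', _⟩ := hPart M K hM hK hK1 Y' hY'K hY' H' hH'c hNY'
    exact hHH' (eq_of_conj hG hHc hY hYσ hNY ((hYK.trans le_sup_left).trans hZH') hg).symm
  -- (F2) distinct partners have disjoint `σ`
  have F2 : ∀ H H', IsPartner H → IsPartner H' → H ≠ H' →
      ∀ q, q ∈ sigma H → q ∈ sigma H' → False := by
    intro H H' hH hH' hHH' q hq hq'
    obtain ⟨Y, hYK, hY, hHc, hNY⟩ := (hIP H).1 hH
    obtain ⟨Y', hY'K, hY', hH'c, hNY'⟩ := (hIP H').1 hH'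
    obtain ⟨g, hg⟩ := (Cfsg.Agent.S1378.result hG).2 H H' hHc hH'c ⟨q, hq, hq'⟩
    exact F1 H H' hH hH' hHH' g hg
  -- the prime of a partner lies in its `σ`
  have F0 : ∀ (H Y : Subgroup G), (Nat.card Y).Prime → IsCoatom H → Y ≤ sigmaCore H →
      Nat.card Y ∈ sigma H := by
    intro H Y hY hHc hYσ
    exact (BG13.hallStmt hG H hHc).2.1 _ hY (Subgroup.card_dvd_of_le hYσ)
  -- (F3) the prime-order subgroup of a second partner lies in `K1`
  have F3 : ∀ (H Y H' Y' K1 : Subgroup G), Y ≤ K → (Nat.card Y).Prime → IsCoatom H →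
      normalizer (Y : Set G) ≤ H → Y' ≤ K → (Nat.card Y').Prime → IsCoatom H' →
      normalizer (Y' : Set G) ≤ H' → H ≠ H' → IsPiHallOf (kappa H) K1 H →
      K ⊔ (sigmaCore M ⊓ centralizer (K : Set G)) =
        K1 ⊔ (sigmaCore H ⊓ centralizer (K1 : Set G)) → Y' ≤ K1 := by
    intro H Y H' Y' K1 hYK hY hHc hNY hY'K hY' hH'c hNY' hHH' hK1H he4
    have hY'Z : Y' ≤ K1 ⊔ (sigmaCore H ⊓ centralizer (K1 : Set G)) :=
      he4 ▸ hY'K.trans le_sup_left
    rcases Cfsg.Agent.Lib.Helper70.BG1369.le_or_le_of_card_prime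
      (Cfsg.Agent.Lib.Helper70.BG1369.commute_kstar H K1)
      (Cfsg.Agent.Lib.Helper70.BG1369.coprime_card hK1H) hY'Z hY' with h | h
    · exact h
    · exfalso
      obtain ⟨_, hY'σ, _⟩ := hPart M K hM hK hK1 Y' hY'K hY' H' hH'c hNY'
      exact F2 H H' ((hIP H).2 ⟨Y, hYK, hY, hHc, hNY⟩) ((hIP H').2 ⟨Y', hY'K, hY', hH'c, hNY'⟩)
        hHH' _ (F0 H Y' hY' hHc (h.trans inf_le_left)) (F0 H' Y' hY' hH'c hY'σ)
  -- (F4) two distinct partners meet in `Z`
  have F4 : ∀ H H', IsPartner H → IsPartner H' → H ≠ H' →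
      H ⊓ H' ≤ K ⊔ (sigmaCore M ⊓ centralizer (K : Set G)) := by
    intro H H' hH hH' hHH'
    obtain ⟨Y, hYK, hY, hHc, hNY⟩ := (hIP H).1 hH
    obtain ⟨Y', hY'K, hY', hH'c, hNY'⟩ := (hIP H').1 hH'
    obtain ⟨_, _, _, _, _, K1, hK1H, hKsK1, _, _, he4⟩ :=
      hPart M K hM hK hK1 Y hYK hY H hHc hNY
    have hY'K1 : Y' ≤ K1 :=
      F3 H Y H' Y' K1 hYK hY hHc hNY hY'K hY' hH'c hNY' hHH' hK1H he4
    have hK1ne : K1 ≠ ⊥ := fun h =>
      Cfsg.Agent.Lib.Helper30.BG142.ne_bot_of_card_prime hY' (le_bot_iff.mp (h ▸ hY'K1))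
    obtain ⟨_, _, _, _, h5, _⟩ := hPart H K1 hHc hK1H hK1ne Y' hY'K1 hY' H' hH'c hNY'
    rw [h5, he4]
  -- (F5) a partner with a second partner is of type `P1`
  have F5 : ∀ H H', IsPartner H → IsPartner H' → H ≠ H' →
      H ≤ sigmaCore H ⊔ (K ⊔ (sigmaCore M ⊓ centralizer (K : Set G))) := by
    intro H H' hH hH' hHH'
    obtain ⟨Y, hYK, hY, hHc, hNY⟩ := (hIP H).1 hH
    obtain ⟨Y', hY'K, hY', hH'c, hNY'⟩ := (hIP H').1 hH'
    obtain ⟨_, _, _, _, _, K1, hK1H, hKsK1, _, _, he4⟩ :=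
      hPart M K hM hK hK1 Y hYK hY H hHc hNY
    have hY'K1 : Y' ≤ K1 :=
      F3 H Y H' Y' K1 hYK hY hHc hNY hY'K hY' hH'c hNY' hHH' hK1H he4
    have hK1ne : K1 ≠ ⊥ := fun h =>
      Cfsg.Agent.Lib.Helper30.BG142.ne_bot_of_card_prime hY' (le_bot_iff.mp (h ▸ hY'K1))
    obtain ⟨x, hxKs, hxp⟩ := Cfsg.Agent.Lib.Helper56.BG143.exists_prime_sub hKs1
    have hnp : ¬ (Nat.card K1).Prime := by
      intro hpr
      have h1 : Nat.card Y' = Nat.card K1 :=
        (Nat.prime_dvd_prime_iff_eq hY' hpr).1 (Subgroup.card_dvd_of_le hY'K1)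
      have h2 : Nat.card (zpowers x) = Nat.card K1 :=
        (Nat.prime_dvd_prime_iff_eq hxp hpr).1 (Subgroup.card_dvd_of_le (hxKs.trans hKsK1))
      have h3 : Nat.card Y' ∣ Nat.card K := Subgroup.card_dvd_of_le hY'K
      have h4 : Nat.card Y' ∣ Nat.card ↥(sigmaCore M ⊓ centralizer (K : Set G)) := by
        rw [h1, ← h2]; exact Subgroup.card_dvd_of_le hxKs
      have h5 : Nat.card Y' ∣ 1 := by
        have := Nat.dvd_gcd h3 h4
        rwa [Nat.Coprime.gcd_eq_one hcop] at this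
      exact hY'.one_lt.ne' (Nat.dvd_one.1 h5)
    have h6 := hP1 H K1 hHc hK1H hK1ne hnp
    refine h6.trans (sup_le le_sup_left ?_)
    rw [he4]
    exact le_sup_left.trans le_sup_right
  -- (F6) `M` is of type `P1`
  have F6 : M ≤ sigmaCore M ⊔ (K ⊔ (sigmaCore M ⊓ centralizer (K : Set G))) := by
    obtain ⟨_, hXσ, _⟩ := hPart M K hM hK hK1 X hXK hX L hL hNL
    obtain ⟨_, hX'σ, _⟩ := hPart M K hM hK hK1 X' hX'K hX' L' hL' hNL'
    have hnp : ¬ (Nat.card K).Prime := by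
      intro hpr
      have h1 : Nat.card X = Nat.card K :=
        (Nat.prime_dvd_prime_iff_eq hX hpr).1 (Subgroup.card_dvd_of_le hXK)
      have h2 : Nat.card X' = Nat.card K :=
        (Nat.prime_dvd_prime_iff_eq hX' hpr).1 (Subgroup.card_dvd_of_le hX'K)
      refine F2 L L' hLP hL'P hne (Nat.card K) ?_ ?_
      · rw [← h1]; exact F0 L X hX hL hXσ
      · rw [← h2]; exact F0 L' X' hX' hL' hX'σ
    exact (hP1 M K hM hK hK1 hnp).trans (sup_le le_sup_left (le_sup_left.trans le_sup_right))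
  -- the index type
  obtain ⟨Z, hZ⟩ : ∃ Z : Subgroup G, Z = K ⊔ (sigmaCore M ⊓ centralizer (K : Set G)) := ⟨_, rfl⟩
  rw [← hZ] at F4 F5 F6
  let ι : Type u := {H : Subgroup G // H = M ∨ IsPartner H}
  haveI : Fintype ι := Fintype.ofFinite _
  have hPM : ∀ H, IsPartner H → (∀ g : G, H ≠ cj g M) ∧ Z ≤ H ∧ M ⊓ H = Z ∧ IsCoatom H := by
    intro H hH
    obtain ⟨Y, hYK, hY, hHc, hNY⟩ := (hIP H).1 hH
    obtain ⟨h1, _, h3, _, h5, _⟩ := hPart M K hM hK hK1 Y hYK hY H hHc hNY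
    exact ⟨h1, hZ ▸ h3, hZ ▸ h5, hHc⟩
  have hZM : Z ≤ M := hZ ▸ sup_le hK.1 (inf_le_left.trans hσM.1)
  refine hStar ι ⟨L, Or.inr hLP⟩ ⟨L', Or.inr hL'P⟩ (fun h => hne (congrArg Subtype.val h))
    (fun i => i.1) Z ?_ ?_ ?_ ?_ ?_ ?_ ?_
  · -- coatoms
    rintro ⟨H, rfl | hH⟩
    · exact hM
    · exact (hPM H hH).2.2.2
  · -- pairwise non-conjugate
    rintro ⟨H, hH⟩ ⟨H', hH'⟩ hij g
    have hHH' : H ≠ H' := fun h => hij (Subtype.ext h)
    show H' ≠ cj g H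
    rcases hH with rfl | hH <;> rcases hH' with rfl | hH'
    · exact absurd rfl hHH'
    · exact (hPM H' hH').1 g
    · intro h
      exact (hPM H hH).1 g⁻¹ (cj_eq_iff.1 h.symm)
    · exact F1 H H' hH hH' hHH' g
  · -- `Z ≤ H i`
    rintro ⟨H, rfl | hH⟩
    · exact hZM
    · exact (hPM H hH).2.1
  · -- pairwise intersections
    rintro ⟨H, hH⟩ ⟨H', hH'⟩ hij
    have hHH' : H ≠ H' := fun h => hij (Subtype.ext h)
    show H ⊓ H' ≤ Z
    rcases hH with rfl | hH <;> rcases hH' with rfl | hH'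
    · exact absurd rfl hHH'
    · exact le_of_eq (hPM H' hH').2.2.1
    · rw [inf_comm]; exact le_of_eq (hPM H hH).2.2.1
    · exact F4 H H' hH hH' hHH'
  · -- type `P1`
    rintro ⟨H, rfl | hH⟩
    · exact F6
    · show H ≤ sigmaCore H ⊔ Z
      by_cases hHL : H = L
      · exact F5 H L' hH hL'P (hHL ▸ hne)
      · exact F5 H L hH hLP hHL
  · -- primes of `Z`
    intro p hp hpZ
    haveI : Fact p.Prime := ⟨hp⟩
    obtain ⟨z, hz⟩ := exists_prime_orderOf_dvd_card' (G := Z) p hpZ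
    have hzo : orderOf (z : G) = p := by rw [Subgroup.orderOf_coe]; exact hz
    have hPc : Nat.card (zpowers (z : G)) = p := by rw [Nat.card_zpowers]; exact hzo
    have hPp : (Nat.card (zpowers (z : G))).Prime := hPc ▸ hp
    have hPZ : zpowers (z : G) ≤ K ⊔ (sigmaCore M ⊓ centralizer (K : Set G)) :=
      hZ ▸ (zpowers_le.2 z.2)
    rcases Cfsg.Agent.Lib.Helper70.BG1369.le_or_le_of_card_prime
      (Cfsg.Agent.Lib.Helper70.BG1369.commute_kstar M K) hcop hPZ hPp with h | h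
    · -- a partner for the prime `p`
      have hP1' : zpowers (z : G) ≠ ⊥ :=
        Cfsg.Agent.Lib.Helper30.BG142.ne_bot_of_card_prime hPp
      have hPtop : zpowers (z : G) ≠ ⊤ := by
        intro htop
        have : M = ⊤ := top_le_iff.1 (htop ▸ (h.trans hK.1))
        exact hM.1 this
      obtain ⟨H, hHc, hNH⟩ := Cfsg.Agent.Lib.Helper64.BG9.exists_coatom_ge
        (BG10.normalizer_ne_top hG hP1' hPtop)
      obtain ⟨_, hPσ, _⟩ := hPart M K hM hK hK1 _ h hPp H hHc hNH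
      refine ⟨⟨H, Or.inr ((hIP H).2 ⟨_, h, hPp, hHc, hNH⟩)⟩, ?_⟩
      show p ∈ sigma H
      rw [← hPc]; exact F0 H _ hPp hHc hPσ
    · refine ⟨⟨M, Or.inl rfl⟩, ?_⟩
      show p ∈ sigma M
      exact hσM.2.1 p hp (hPc ▸ Subgroup.card_dvd_of_le (h.trans inf_le_left))
  · -- centralizers
    rintro ⟨H, hH⟩ a ha hao
    show centralizer ({a} : Set G) ≤ H
    have hAc : Nat.card (zpowers a) = orderOf a := Nat.card_zpowers a
    have hAp : (Nat.card (zpowers a)).Prime := hAc.symm ▸ hao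
    have ha' : a ∈ sigmaCore H ⊓ Z := ha
    rcases hH with rfl | hH
    · -- `H = M`
      obtain ⟨_, _, h3, h4, _⟩ := hPart H K hM hK hK1 X hXK hX L hL hNL
      have haKs : a ∈ sigmaCore H ⊓ centralizer (K : Set G) := by
        rw [← h4]; exact ⟨ha'.1, h3 (hZ ▸ ha'.2)⟩
      have hA : zpowers a ≤ sigmaCore H ⊓ centralizer (K : Set G) := zpowers_le.2 haKs
      exact (Cfsg.Agent.Lib.Helper30.BG142.centralizer_singleton_le a).trans
        (Cfsg.Agent.Lib.Helper68.BG147.lemmaU hG h30 hM hK hK1 hA hAp).1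
    · obtain ⟨Y, hYK, hY, hHc, hNY⟩ := (hIP H).1 hH
      obtain ⟨_, _, _, _, _, K1, hK1H, hKsK1, he1, _, _⟩ :=
        hPart M K hM hK hK1 Y hYK hY H hHc hNY
      have hK1ne : K1 ≠ ⊥ := fun h => hKs1 (le_bot_iff.mp (h ▸ hKsK1))
      have haK1 : a ∈ sigmaCore H ⊓ centralizer (K1 : Set G) := by
        rw [he1]; exact ⟨ha'.1, hZM ha'.2⟩
      have hA : zpowers a ≤ sigmaCore H ⊓ centralizer (K1 : Set G) := zpowers_le.2 haK1
      exact (Cfsg.Agent.Lib.Helper30.BG142.centralizer_singleton_le a).trans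
        (Cfsg.Agent.Lib.Helper68.BG147.lemmaU hG h30 hHc hK1H hK1ne hA hAp).1

end Cfsg.Agent.Lib.Helper90.BG147S
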