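import Mathlib
import Cfsg.Prelude.Def_OddOrderLocal
import Cfsg.Agent.Lib.Helper33.Conj
import Cfsg.Agent.Lib.Helper19.HallRel
import Cfsg.Agent.Lib.Helper23.FitUniqueB
import Cfsg.Agent.Lib.Helper76.BGSigU
import Cfsg.Agent.Lib.Helper64.SylowMax
import Cfsg.Agent.Lib.Helper10.Card
import Cfsg.Agent.Lib.Helper63.BG10

set_option autoImplicit false

/-!
# `A(M) \ M_σ` is a TI-subset (B&G Theorem I piece)  -- helper90

For a standard factorisation `M = K U M_σ`: an element `x` of `U M_σ` outside `M_σ` that centralizes a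
non-identity element of `M_σ` has a non-identity `σ(M)'`-power `x ^ |M_σ|` which is conjugate in
`U M_σ` to an element of `U` with nontrivial fixed points on `M_σ`; so (given the statement of S1361)
`M` is the unique maximal subgroup containing `C_G(x ^ |M_σ|)`, and a conjugating element between two
such `x` lies in `M`, which normalizes the set.
-/

namespace Cfsg.Agent.Lib.Helper90.BG1362

open Subgroup Cfsg Cfsg.Agent.Lib.Helper33
open scoped Pointwise

variable {G : Type*} [Group G] [Finite G]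

/-- relative Hall conjugacy in a solvable subgroup `X` -/
theorem conj_le_of_hall {X H₂ U : Subgroup G} (hsX : Group.IsSolvable ↥X) (m n : ℕ)
    (hX : Nat.card X = m * n) (hmn : m.Coprime n) (hH₂X : H₂ ≤ X) (hH₂ : Nat.card H₂ = m)
    (hUX : U ≤ X) (hU : (Nat.card U).Coprime n) : ∃ g ∈ X, U ≤ cj g H₂ := by
  have hcardU : Nat.card (U.subgroupOf X) = Nat.card U :=
    Nat.card_congr (Subgroup.subgroupOfEquivOfLe hUX).toEquiv
  have hcardH : Nat.card (H₂.subgroupOf X) = m := by
    rw [Nat.card_congr (Subgroup.subgroupOfEquivOfLe hH₂X).toEquiv, hH₂]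
  obtain ⟨H', hH'card, hUH'⟩ := Cfsg.Agent.Lib.Helper1.hallDom_all ↥X hsX m n hX hmn
    (U.subgroupOf X) (by rw [hcardU]; exact hU)
  obtain ⟨g, hg⟩ := Cfsg.Agent.Lib.Helper1.hallConj_all ↥X hsX m n hX hmn
    (H₂.subgroupOf X) H' hcardH hH'card
  refine ⟨g, g.2, ?_⟩
  intro u hu
  have h1 : (⟨u, hUX hu⟩ : X) ∈ H' := hUH' (by rw [Subgroup.mem_subgroupOf]; exact hu)
  rw [← hg, Subgroup.mem_pointwise_smul_iff_inv_smul_mem] at h1
  rw [Subgroup.mem_subgroupOf] at h1
  rw [mem_cj]
  simpa [MulAut.smul_def, mul_assoc] using h1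

omit [Finite G] in
/-- `M` normalizes `M_σ` -/
theorem conj_mem_sigmaCore (M : Subgroup G) {m s : G} (hm : m ∈ M) (hs : s ∈ sigmaCore M) :
    m * s * m⁻¹ ∈ sigmaCore M := by
  obtain ⟨s', hs', rfl⟩ := hs
  refine ⟨⟨m, hm⟩ * s' * ⟨m, hm⟩⁻¹, ?_, rfl⟩
  exact (piCore_normal (sigma M) M).conj_mem s' hs' ⟨m, hm⟩

omit [Finite G] in
theorem le_normalizer_sigmaCore (M : Subgroup G) :
    M ≤ normalizer ((sigmaCore M : Subgroup G) : Set G) := by
  intro m hm
  rw [mem_normalizer_iff]
  intro s
  constructor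
  · intro hs
    exact conj_mem_sigmaCore M hm hs
  · intro hs
    have := conj_mem_sigmaCore M (M.inv_mem hm) hs
    simpa [mul_assoc] using this

omit [Finite G] in
theorem le_normalizer_sup {A B H : Subgroup G} (hA : H ≤ normalizer (A : Set G))
    (hB : H ≤ normalizer (B : Set G)) : H ≤ normalizer ((A ⊔ B : Subgroup G) : Set G) := by
  intro h hh
  rw [← cj_eq_self_iff, cj_sup, cj_eq_self_iff.mpr (hA hh), cj_eq_self_iff.mpr (hB hh)]

omit [Finite G] in
/-- the index `r = |M : M_σ|` kills `M` modulo `M_σ` -/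
theorem pow_relIndex_mem (M : Subgroup G) {x : G} (hx : x ∈ M) :
    x ^ (sigmaCore M).relIndex M ∈ sigmaCore M := by
  have hrel : (sigmaCore M).relIndex M = (piCore (sigma M) M).index := by
    unfold Subgroup.relIndex sigmaCore
    congr 1
    ext y
    simp [Subgroup.mem_subgroupOf]
  rw [hrel]
  have h := (piCore (sigma M) M).pow_index_mem (⟨x, hx⟩ : M)
  exact ⟨_, h, by simp⟩

omit [Finite G] in
/-- the index of `M_σ` in `M` is prime to its order -/
theorem coprime_card_relIndex {M : Subgroup G} (hσ : IsPiHallOf (sigma M) (sigmaCore M) M) :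
    (Nat.card (sigmaCore M)).Coprime ((sigmaCore M).relIndex M) := by
  apply Nat.coprime_of_dvd
  intro p hp h1 h2
  exact hσ.2.2 p hp (hσ.2.1 p hp h1) h2

section main

variable {M K U : Subgroup G}

/-- **S1362** from the statements of S1350 and S1361. -/
theorem ti_main (hG : IsMinSimpleOddOrder G) (hM : IsCoatom M)
    (hσ : IsPiHallOf (sigma M) (sigmaCore M) M)
    (hKU : IsSigmaDecomposition M K U)
    (h61 : ∀ X : Subgroup G, X ≤ U → X ≠ ⊥ → sigmaCore M ⊓ centralizer (X : Set G) ≠ ⊥ →
      centralizer (X : Set G) ≤ M ∧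
        ∀ L : Subgroup G, IsCoatom L → centralizer (X : Set G) ≤ L → L = M) :
    IsTISubset (sigmaA M U \ (sigmaCore M : Set G)) := by
  set S := sigmaCore M with hS
  set N := U ⊔ S with hN
  set n := Nat.card S with hn
  set r := S.relIndex M with hr
  have hSM : S ≤ M := map_subtype_le _
  have hMS : M ≤ normalizer (S : Set G) := le_normalizer_sigmaCore M
  have hUM : U ≤ M := hKU.compl.1
  have hUS : U ⊓ S = ⊥ := Cfsg.Agent.Lib.Helper76.BGSigU.U_inf_sigmaCore hKU
  have hKM : K ≤ M := hKU.hall.1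
  have hNM : N ≤ M := sup_le hUM hSM
  have hcop : n.Coprime r := coprime_card_relIndex hσ
  -- `M` normalizes `N`
  have hMN : M ≤ normalizer (N : Set G) := by
    have h1 : U ≤ normalizer (N : Set G) := le_sup_left.trans le_normalizer
    have h2 : K ⊔ S ≤ normalizer (N : Set G) := by
      apply sup_le
      · exact le_normalizer_sup hKU.normal (hKM.trans hMS)
      · exact le_sup_right.trans le_normalizer
    intro m hm
    obtain ⟨a, ha, b, hb, rfl⟩ := hKU.compl.2.2.2 m hm
    exact mul_mem (h1 ha) (h2 hb)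
  -- the order of `N`
  have hcardN : Nat.card N = Nat.card U * n := by
    have h := Cfsg.Agent.Lib.Helper10.card_sup_mul_card_inf (hUM.trans hMS)
    rw [hUS] at h
    simpa using h
  have hcardUr : Nat.card U ∣ r := by
    have h1 : Nat.card S * S.relIndex N = Nat.card N :=
      Cfsg.Agent.Lib.Helper76.BGSigU.card_mul_relIndex le_sup_right
    have h2 : S.relIndex N = Nat.card U := by
      have hpos : 0 < Nat.card S := Nat.card_pos
      rw [hcardN, mul_comm (Nat.card U)] at h1
      exact Nat.eq_of_mul_eq_mul_left hpos h1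
    rw [← h2, hr, ← Subgroup.relIndex_mul_relIndex S N M le_sup_right hNM]
    exact dvd_mul_right _ _
  have hcopU : (Nat.card U).Coprime n := (Nat.Coprime.coprime_dvd_left hcardUr hcop.symm)
  have hsolvN : Group.IsSolvable ↥N :=
    Cfsg.Agent.Lib.Helper23.isSolvable_of_ne_top hG
      (fun h => hM.1 (top_le_iff.mp (h ▸ hNM)))
  -- the set is normalized by `M`
  have hMX : M ≤ normalizer (sigmaA M U \ (S : Set G)) := by
    have key : ∀ m ∈ M, ∀ h ∈ sigmaA M U \ (S : Set G),
        m * h * m⁻¹ ∈ sigmaA M U \ (S : Set G) := by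
      rintro m hm h ⟨⟨⟨hhM, y, hy, hy1, hhy⟩, hhN⟩, hhS⟩
      refine ⟨⟨⟨M.mul_mem (M.mul_mem hm hhM) (M.inv_mem hm), m * y * m⁻¹,
        conj_mem_sigmaCore M hm hy, ?_, ?_⟩, ?_⟩, ?_⟩
      · intro h1
        apply hy1
        have := congrArg (fun z => m⁻¹ * z * m) h1
        simpa [mul_assoc] using this
      · calc m * h * m⁻¹ * (m * y * m⁻¹) = m * (h * y) * m⁻¹ := by group
          _ = m * (y * h) * m⁻¹ := by rw [hhy]
          _ = m * y * m⁻¹ * (m * h * m⁻¹) := by group
      · have h1 := hMN hm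
        rw [mem_normalizer_iff] at h1
        exact (h1 h).mp hhN
      · intro h1
        apply hhS
        have h2 := conj_mem_sigmaCore M (M.inv_mem hm) h1
        simpa [mul_assoc] using h2
    intro m hm
    rw [mem_set_normalizer_iff]
    intro h
    constructor
    · exact key m hm h
    · intro hh
      have := key m⁻¹ (M.inv_mem hm) _ hh
      simpa [mul_assoc] using this
  -- the uniqueness claim for elements of the set
  have claim : ∀ x ∈ sigmaA M U \ (S : Set G),
      x ^ n ≠ 1 ∧ ∀ L : Subgroup G, IsCoatom L →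
        centralizer ((zpowers (x ^ n) : Subgroup G) : Set G) ≤ L → L = M := by
    rintro x ⟨⟨⟨hxM, y, hy, hy1, hxy⟩, hxN⟩, hxS⟩
    have hxN' : x ∈ N := hxN
    have hxS' : x ∉ S := hxS
    set x1 := x ^ n with hx1
    -- `x1 ∉ S`
    have hx1S : x1 ∉ S := by
      intro h1
      apply hxS'
      have h2 : x ^ (n * n) = 1 := by
        rw [pow_mul]
        have : (⟨x ^ n, h1⟩ : S) ^ n = 1 := pow_card_eq_one'
        have := congrArg Subtype.val this
        simpa using this
      have h3 : x ^ r ∈ S := pow_relIndex_mem M hxM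
      have hc : (n * n).Coprime r := Nat.Coprime.mul_left hcop hcop
      have h4 : x ^ ((n * n : ℕ) : ℤ) ∈ S := by
        rw [zpow_natCast, h2]; exact S.one_mem
      have h5 : x ^ ((r : ℕ) : ℤ) ∈ S := by
        rw [zpow_natCast]; exact h3
      have h6 : x ^ ((Nat.gcd (n * n) r : ℕ) : ℤ) ∈ S := by
        rw [Nat.gcd_eq_gcd_ab, zpow_add, zpow_mul, zpow_mul]
        exact S.mul_mem (S.zpow_mem h4 _) (S.zpow_mem h5 _)
      rw [hc.gcd_eq_one] at h6
      simpa using h6
    have hx1ne : x1 ≠ 1 := fun h => hx1S (h ▸ S.one_mem)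
    have hx1N : x1 ∈ N := N.pow_mem hxN' n
    -- the order of `x1` divides `r`
    have hx1r : x1 ^ r = 1 := by
      rw [hx1, ← pow_mul, mul_comm, pow_mul]
      have h3 : x ^ r ∈ S := pow_relIndex_mem M hxM
      have : (⟨x ^ r, h3⟩ : S) ^ n = 1 := pow_card_eq_one'
      have := congrArg Subtype.val this
      simpa using this
    have hcardZ : (Nat.card (zpowers x1)).Coprime n := by
      rw [Nat.card_zpowers]
      exact Nat.Coprime.coprime_dvd_left (orderOf_dvd_of_pow_eq_one hx1r) hcop.symm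
    obtain ⟨g, hgN, hle⟩ := conj_le_of_hall hsolvN (Nat.card U) n hcardN hcopU le_sup_left rfl
      ((zpowers_le).mpr hx1N) hcardZ
    have hgM : g ∈ M := hNM hgN
    have hx1g : x1 ∈ cj g U := hle (mem_zpowers x1)
    rw [mem_cj] at hx1g
    set u := g⁻¹ * x1 * g with hu
    have hu1 : u ≠ 1 := by
      intro h
      apply hx1ne
      have := congrArg (fun z => g * z * g⁻¹) h
      simpa [hu, mul_assoc] using this
    -- fixed points
    have hyx1 : x1 * y = y * x1 := by
      have : Commute x y := hxy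
      exact (this.pow_left n).eq
    set y' := g⁻¹ * y * g with hy'
    have hy'S : y' ∈ S := by
      have := conj_mem_sigmaCore M (M.inv_mem hgM) hy
      simpa using this
    have hy'1 : y' ≠ 1 := by
      intro h
      apply hy1
      have := congrArg (fun z => g * z * g⁻¹) h
      simpa [hy', mul_assoc] using this
    have huy : u * y' = y' * u := by
      calc u * y' = g⁻¹ * (x1 * y) * g := by rw [hu, hy']; group
        _ = g⁻¹ * (y * x1) * g := by rw [hyx1]
        _ = y' * u := by rw [hu, hy']; group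
    have hfix : S ⊓ centralizer ((zpowers u : Subgroup G) : Set G) ≠ ⊥ := by
      intro h
      apply hy'1
      have hmem : y' ∈ S ⊓ centralizer ((zpowers u : Subgroup G) : Set G) := by
        refine Subgroup.mem_inf.mpr ⟨hy'S, ?_⟩
        rw [mem_centralizer_iff]
        rintro _ ⟨k, rfl⟩
        have : Commute u y' := huy
        exact ((this.zpow_left k).eq)
      rw [h, mem_bot] at hmem
      exact hmem
    obtain ⟨-, huniq⟩ := h61 (zpowers u) ((zpowers_le).mpr hx1g) (by
      intro h
      apply hu1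
      have : u ∈ (⊥ : Subgroup G) := h ▸ mem_zpowers u
      simpa using this) hfix
    refine ⟨hx1ne, ?_⟩
    intro L hL hCL
    -- transport to `u`
    have hz : zpowers x1 = cj g (zpowers u) := by
      have hx1u : x1 = g * u * g⁻¹ := by rw [hu]; group
      rw [cj, MonoidHom.map_zpowers, hx1u]
      rfl
    rw [hz, centralizer_cj, cj_le_iff] at hCL
    have hL' : IsCoatom (cj g⁻¹ L) := Cfsg.Agent.Lib.Helper64.isCoatom_map_conj hL g⁻¹
    have h1 := huniq _ hL' hCL
    have h2 : L = cj g M := by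
      rw [← h1, cj_cj_inv]
    rw [h2, cj_eq_self_of_mem hgM]
  -- the TI property
  intro g hg x hx hgx
  exfalso
  apply hg
  apply hMX
  obtain ⟨hx1ne, -⟩ := claim x hx
  obtain ⟨-, huniq'⟩ := claim (g * x * g⁻¹) hgx
  have hxM : x ∈ M := hx.1.1.1
  have hMne : M ≠ ⊥ := by
    intro h
    have h1 : x ∈ (⊥ : Subgroup G) := h ▸ hxM
    rw [mem_bot] at h1
    rw [h1, one_pow] at hx1ne
    exact hx1ne rfl
  have hpow : (g * x * g⁻¹) ^ n = g * x ^ n * g⁻¹ := by
    rw [conj_pow]
  have hz : zpowers ((g * x * g⁻¹) ^ n) = cj g (zpowers (x ^ n)) := by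
    rw [hpow, cj, MonoidHom.map_zpowers]
    rfl
  -- `C_G(x^n) ≤ M`
  have hCM : centralizer ((zpowers (x ^ n) : Subgroup G) : Set G) ≤ M := by
    -- take a coatom above the centralizer
    have hne : centralizer ((zpowers (x ^ n) : Subgroup G) : Set G) ≠ ⊤ := by
      apply Cfsg.Agent.Lib.Helper63.BG10.centralizer_ne_top hG
      intro h
      have : x ^ n ∈ (⊥ : Subgroup G) := h ▸ mem_zpowers (x ^ n)
      exact hx1ne (by simpa using this)
    obtain ⟨L, hL, hle⟩ := (eq_top_or_exists_le_coatom _).resolve_left hne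
    have := (claim x hx).2 L hL hle
    rw [← this]; exact hle
  have hCg : centralizer ((zpowers ((g * x * g⁻¹) ^ n) : Subgroup G) : Set G) ≤ cj g M := by
    rw [hz, centralizer_cj]
    exact cj_mono hCM
  have hcoat : IsCoatom (cj g M) := Cfsg.Agent.Lib.Helper64.isCoatom_map_conj hM g
  have heq : cj g M = M := huniq' _ hcoat hCg
  have hgN : g ∈ normalizer (M : Set G) := cj_eq_self_iff.mp heq
  rw [Cfsg.Agent.Lib.Helper23.normalizer_eq_of_isCoatom hG hM hMne le_rfl le_normalizer] at hgN
  exact hgN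

end main

end Cfsg.Agent.Lib.Helper90.BG1362
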