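import Mathlib
import Cfsg.Prelude.Def_MonsterType

set_option autoImplicit false

namespace Cfsg.Agent.Lib.Helper90

open Cfsg

variable {G : Type*} [Group G]

/-- A normal `p`-subgroup lies in every Sylow `p`-subgroup. -/
theorem normal_pgroup_le_sylow {p : ℕ} [Fact p.Prime] [Finite G] (N : Subgroup G) [hN : N.Normal]
    (hp : IsPGroup p N) (P : Sylow p G) : N ≤ P := by
  obtain ⟨P', hP'⟩ := hp.exists_le_sylow
  obtain ⟨g, hg⟩ := MulAction.exists_smul_eq G P' P
  intro x hx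
  have hx' : g⁻¹ * x * g ∈ N := by
    have := hN.conj_mem x hx g⁻¹
    simpa using this
  have h2 : g⁻¹ * x * g ∈ (P' : Subgroup G) := hP' hx'
  have h3 : g * (g⁻¹ * x * g) * g⁻¹ ∈ ((g • P' : Sylow p G) : Subgroup G) := by
    rw [Sylow.coe_subgroup_smul]
    rw [Subgroup.mem_pointwise_smul_iff_inv_smul_mem]
    simp only [MulAut.smul_def, MulAut.conj_inv_apply]
    simpa [mul_assoc] using h2
  rw [hg] at h3
  simpa [mul_assoc] using h3

theorem pCore_le_sylow {p : ℕ} [Fact p.Prime] [Finite G] (P : Sylow p G) :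
    Cfsg.pCore p G ≤ P := by
  apply sSup_le
  rintro N ⟨hN, hp⟩
  exact normal_pgroup_le_sylow N hp P

theorem pCore_isPGroup {p : ℕ} [Fact p.Prime] [Finite G] : IsPGroup p (Cfsg.pCore p G) := by
  obtain ⟨P⟩ : Nonempty (Sylow p G) := inferInstance
  exact P.2.to_le (pCore_le_sylow P)

/-- If `Q` normalizes `K`, `K` normalizes `Q` elementwise on a subgroup `K' ≤ K`... basic commutator
trick: if `k` normalizes `Q`, `Q` normalizes `K ∋ k`, and `Q ⊓ K = ⊥`, then `k` centralizes `Q`. -/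
theorem mem_centralizer_of_mutual_normalize (Q K : Subgroup G) (hQK : Q ⊓ K = ⊥)
    (hQ : Q ≤ Subgroup.normalizer (K : Set G)) {k : G} (hk : k ∈ K)
    (hkQ : k ∈ Subgroup.normalizer (Q : Set G)) : k ∈ Subgroup.centralizer (Q : Set G) := by
  rw [Subgroup.mem_centralizer_iff]
  intro q hq
  have hq' : q ∈ Q := hq
  have h1 : q * k * q⁻¹ * k⁻¹ ∈ K := by
    have := (Subgroup.mem_normalizer_iff.mp (hQ hq') k).mp hk
    exact K.mul_mem this (K.inv_mem hk)
  have h2 : q * k * q⁻¹ * k⁻¹ ∈ Q := by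
    have := (Subgroup.mem_normalizer_iff.mp hkQ q⁻¹).mp (Q.inv_mem hq')
    have h3 : q * (k * q⁻¹ * k⁻¹) ∈ Q := Q.mul_mem hq' this
    simpa [mul_assoc] using h3
  have h3 : q * k * q⁻¹ * k⁻¹ ∈ Q ⊓ K := ⟨h2, h1⟩
  rw [hQK, Subgroup.mem_bot] at h3
  have : q * k = k * q := by
    have h4 : q * k * q⁻¹ * k⁻¹ * k * q = k * q := by rw [h3]; simp
    simpa [mul_assoc] using h4
  exact this

/-- The core argument: if `Q` is an extraspecial 2-group with `C_G(Q) = Z(Q)`, normal in `C_G(Z(Q))`, and an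
odd-order subgroup `K` normalized by `Q` centralizes `Z(Q)`, then `K` is trivial. -/
theorem odd_normalized_trivial_of_centralizes [Finite G] (Q : Subgroup G) (hL1 : Cfsg.IsExtraspecial 2 ↥Q)
    (hL2 : Subgroup.centralizer (Q : Set G) = ((Subgroup.center ↥Q).map Q.subtype))
    (hL3 : Subgroup.centralizer (((Subgroup.center ↥Q).map Q.subtype) : Set G) ≤ Subgroup.normalizer (Q : Set G))
    (K : Subgroup G) (hodd : Odd (Nat.card K)) (hQK : Q ≤ Subgroup.normalizer (K : Set G))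
    (hKZ : K ≤ Subgroup.centralizer (((Subgroup.center ↥Q).map Q.subtype) : Set G)) : K = ⊥ := by
  have hQ2 : IsPGroup 2 Q := hL1.1.1
  have hcop : Nat.Coprime (Nat.card Q) (Nat.card K) := by
    obtain ⟨n, hn⟩ := IsPGroup.iff_card.mp hQ2
    rw [hn]
    exact Nat.Coprime.pow_left n (Nat.coprime_two_left.mpr hodd)
  have hinf : Q ⊓ K = ⊥ := (Subgroup.disjoint_of_coprime_natCard hcop).eq_bot
  have hKQ : K ≤ Q := by
    intro k hk
    have h1 : k ∈ Subgroup.centralizer (Q : Set G) :=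
      mem_centralizer_of_mutual_normalize Q K hinf hQK hk (hL3 (hKZ hk))
    rw [hL2] at h1
    obtain ⟨y, _, rfl⟩ := h1
    exact y.2
  rw [eq_bot_iff, ← hinf]
  exact le_inf hKQ le_rfl

end Cfsg.Agent.Lib.Helper90
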