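import Mathlib
import Cfsg.Prelude.Def_OddOrderLocal
import Cfsg.Agent.S1350
import Cfsg.Agent.S1417
import Cfsg.Agent.S1418
import Cfsg.Agent.Lib.Helper19.BG124a
import Cfsg.Agent.Lib.Helper23.AlphaB
import Cfsg.Agent.Lib.Helper23.FitUniqueB
import Cfsg.Agent.Lib.Helper56.FrobApply
import Cfsg.Agent.Lib.Helper70.BG1216b
import Cfsg.Agent.Lib.Helper96.BG127
import Cfsg.Agent.Lib.Helper10.BGLemR
import Cfsg.Agent.Lib.Helper90.Basic
import Cfsg.Agent.Lib.Helper90.BG1362

/-!
# (PP): every element of prime power order of `E` normalizes a point of `A`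

B&G §12, towards 12.8(b) (statements S1421(b) / S1360).  `M` maximal, `E` a complement of `M_σ`,
`p ∈ τ₂(M)`, `A ≤ E` elementary abelian of order `p²`.  Given helper10's Lemma R (taken as a
hypothesis `hR`), an element `x ∈ E` of prime power order `r ^ k` normalizes a subgroup of order
`p` of `A`, provided that (when `r ∈ τ₁(M) ∪ τ₃(M)`) the elements of order `r` of `⟨x⟩` act
regularly on `M_σ`.
-/

set_option autoImplicit false
set_option linter.unusedSectionVars false
set_option linter.unusedVariables false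

namespace Cfsg.Agent.Lib.Helper90.BGPP

open Subgroup Cfsg

universe u

variable {G : Type u} [Group G]

/-- The conclusion of helper10's Lemma R, for the data `E`, `A`, `p`. -/
def LemmaR (E A : Subgroup G) (p : ℕ) : Prop :=
  ∀ {r : ℕ} [Fact r.Prime], r ≠ p → ∀ {x : G}, x ∈ E → IsPGroup r (zpowers x) →
    (∀ X : Subgroup G, X ≤ A → Nat.card X = p → x ∉ normalizer (X : Set G)) →
    ∀ y ∈ zpowers x, (∀ a ∈ A, y * a = a * y) → y = 1

/-- A subgroup of a group of order `p ^ 2` is trivial, everything, or of order `p`. -/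
theorem card_cases [Finite G] {p : ℕ} (hp : p.Prime) {A D : Subgroup G} (hA : Nat.card A = p ^ 2)
    (hDA : D ≤ A) : D = ⊥ ∨ D = A ∨ Nat.card D = p := by
  have hdvd : Nat.card D ∣ p ^ 2 := hA ▸ Subgroup.card_dvd_of_le hDA
  obtain ⟨i, hi, hc⟩ := (Nat.dvd_prime_pow hp).mp hdvd
  interval_cases i
  · left
    exact Subgroup.card_eq_one.mp (by simpa using hc)
  · right; right
    simpa using hc
  · right; left
    exact Subgroup.eq_of_le_of_card_ge hDA (by rw [hA, hc])

/-- A group of order `p ^ 2` has a subgroup of order `p`. -/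
theorem exists_point [Finite G] {p : ℕ} [hp : Fact p.Prime] {A : Subgroup G}
    (hA : Nat.card A = p ^ 2) : ∃ X : Subgroup G, X ≤ A ∧ Nat.card X = p := by
  have hd : p ^ 1 ∣ Nat.card A := by rw [hA]; exact pow_dvd_pow p (by norm_num)
  obtain ⟨K, hK⟩ := Sylow.exists_subgroup_card_pow_prime p hd
  refine ⟨K.map A.subtype, Subgroup.map_subtype_le K, ?_⟩
  rw [Subgroup.card_map_of_injective (Subgroup.subtype_injective A), hK, pow_one]

/-- Every prime divisor of `|E|` lies in `τ₁(M) ∪ τ₂(M) ∪ τ₃(M)`. -/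
theorem mem_tau_of_dvd_card_compl [Finite G] (hG : IsMinSimpleOddOrder G) {M E : Subgroup G}
    (hM : IsCoatom M) (hE : IsComplIn E (sigmaCore M) M) {r : ℕ} (hr : r.Prime)
    (hrE : r ∣ Nat.card E) : r ∈ tau1 M ∪ tau3 M ∨ r ∈ tau2 M := by
  have hHall := (Cfsg.Agent.S1350.result hG M hM).1
  have hrσ : r ∉ sigma M :=
    Cfsg.Agent.Lib.Helper96.BG127.not_mem_sigma_of_dvd_card_compl hHall hE hr hrE
  have hrM : r ∣ Nat.card M := hrE.trans (Subgroup.card_dvd_of_le hE.1)
  have hασ := Cfsg.Agent.Lib.Helper23.alpha_subset_sigma hG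
    (Cfsg.Agent.Lib.Helper19.BG124.uniqStmt hG) hM
  have h2 : PRankLE r 2 M := by
    by_contra h
    exact hrσ (hασ ⟨hr, h⟩)
  by_cases h1 : PRankLE r 1 M
  · left
    by_cases hd : r ∣ Nat.card ↥⁅M, M⁆
    · right; exact ⟨hr, hrσ, hd, h1⟩
    · left; exact ⟨hr, hrσ, hrM, hd, h1⟩
  · right
    exact ⟨hr, hrσ, h2, h1⟩

/-- **(PP)**: an element of prime power order of `E` normalizes a subgroup of order `p` of `A`. -/
theorem exists_point_normalized [Finite G] (hG : IsMinSimpleOddOrder G) {M E : Subgroup G}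
    (hM : IsCoatom M) (hE : IsComplIn E (sigmaCore M) M) {p : ℕ} [hpf : Fact p.Prime]
    (hp : p ∈ tau2 M) {A : Subgroup G}
    (hA : A ≤ E ∧ IsElementaryAbelian p A ∧ Nat.card A = p ^ 2) (hR : LemmaR E A p) {x : G}
    (hxE : x ∈ E) {r k : ℕ} (hr : r.Prime) (hxo : orderOf x = r ^ k)
    (hreg : r ∈ tau1 M ∪ tau3 M → ∀ y ∈ zpowers x, orderOf y = r →
      sigmaCore M ⊓ centralizer ({y} : Set G) = ⊥) :
    ∃ X : Subgroup G, X ≤ A ∧ Nat.card X = p ∧ x ∈ normalizer (X : Set G) := by
  have : Fact r.Prime := ⟨hr⟩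
  have hpp : p.Prime := hpf.out
  have hHall := (Cfsg.Agent.S1350.result hG M hM).1
  have h18 := Cfsg.Agent.S1418.result hG M hM E hE p hp A hA
  have hAM : A ≤ M := hA.1.trans hE.1
  have h17 := Cfsg.Agent.S1417.result hG M hM p hp A ⟨hAM, hA.2⟩
  have hEN : E ≤ normalizer (A : Set G) := h18.1.1
  have hxN : x ∈ normalizer (A : Set G) := hEN hxE
  by_contra hno
  have hirr : ∀ X : Subgroup G, X ≤ A → Nat.card X = p → x ∉ normalizer (X : Set G) :=
    fun X hXA hXc hx => hno ⟨X, hXA, hXc, hx⟩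
  obtain ⟨X₀, hX₀A, hX₀c⟩ := exists_point (p := p) hA.2.2
  -- `x ≠ 1`, so `k ≥ 1`
  have hx1 : x ≠ 1 := by
    intro h
    apply hirr X₀ hX₀A hX₀c
    rw [h]; exact Subgroup.one_mem _
  have hk : k ≠ 0 := by
    intro h
    rw [h, pow_zero, orderOf_eq_one_iff] at hxo
    exact hx1 hxo
  have hxr : IsPGroup r (zpowers x) := by
    rw [IsPGroup.iff_card, Nat.card_zpowers]
    exact ⟨k, hxo⟩
  -- the case `r = p`: `x` centralizes `A`
  have hrp : r ≠ p := by
    intro hrp
    subst hrp
    -- `A ⊔ ⟨x⟩` is a `p`-subgroup of `M`, hence abelian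
    have hAp : IsPGroup r A := IsPGroup.of_card hA.2.2
    have hsup : IsPGroup r (A ⊔ zpowers x : Subgroup G) := by
      have hle : zpowers x ≤ normalizer (A : Set G) := (zpowers_le).mpr hxN
      exact IsPGroup.to_sup_of_normal_left' hAp hxr hle
    have hsupM : A ⊔ zpowers x ≤ M := sup_le hAM ((zpowers_le).mpr (hE.1 hxE))
    obtain ⟨P, hP⟩ := (hsup.comap_subtype (K := M)).exists_le_sylow
    have hPab := (h17.2.1 P).1
    have hmem : ∀ g ∈ A ⊔ zpowers x, ∃ g' : M, g' ∈ (P : Subgroup M) ∧ (g' : G) = g := by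
      intro g hg
      exact ⟨⟨g, hsupM hg⟩, hP (Subgroup.mem_subgroupOf.mpr hg), rfl⟩
    have hcomm : ∀ a ∈ A, x * a = a * x := by
      intro a ha
      obtain ⟨x', hx'P, hx'⟩ := hmem x (le_sup_right (a := A) (mem_zpowers x))
      obtain ⟨a', ha'P, ha'⟩ := hmem a (le_sup_left (b := zpowers x) ha)
      have := hPab.is_comm.comm ⟨x', hx'P⟩ ⟨a', ha'P⟩
      have h2 : x' * a' = a' * x' := congrArg Subtype.val this
      have h3 := congrArg (Subtype.val : M → G) h2
      simpa [hx', ha'] using h3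
    apply hirr X₀ hX₀A hX₀c
    apply Cfsg.Agent.Lib.Helper10.BG13.mem_normalizer_of_conj_mem
    intro a ha
    have := hcomm a (hX₀A ha)
    rw [this, mul_inv_cancel_right]
    exact ha
  -- Lemma R: `C_⟨x⟩(A) = 1`
  have hC := hR hrp hxE hxr hirr
  -- the element `y₀` of order `r` of `⟨x⟩`
  set y₀ := x ^ (r ^ (k - 1)) with hy₀
  have hy₀x : y₀ ∈ zpowers x := Subgroup.npow_mem_zpowers x _
  have hy₀o : orderOf y₀ = r := by
    have hne : orderOf x ≠ 0 := by rw [hxo]; exact pow_ne_zero _ hr.ne_zero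
    have hd : r ∣ orderOf x := by rw [hxo]; exact dvd_pow_self r hk
    have := orderOf_pow_orderOf_div hne hd
    have hdiv : orderOf x / r = r ^ (k - 1) := by
      rw [hxo]
      obtain ⟨j, rfl⟩ := Nat.exists_eq_succ_of_ne_zero hk
      rw [Nat.succ_sub_one, pow_succ, Nat.mul_div_cancel _ hr.pos]
    rw [hdiv] at this
    exact this
  have hy₀1 : y₀ ≠ 1 := by
    intro h
    rw [h, orderOf_one] at hy₀o
    exact hr.one_lt.ne hy₀o
  have hrE : r ∣ Nat.card E := by
    have h1 : orderOf x ∣ Nat.card E := by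
      have := orderOf_dvd_natCard (⟨x, hxE⟩ : E)
      rwa [Subgroup.orderOf_mk] at this
    exact (by rw [hxo]; exact dvd_pow_self r hk : r ∣ orderOf x).trans h1
  rcases mem_tau_of_dvd_card_compl hG hM hE hr hrE with hτ | hτ
  · -- `r ∈ τ₁ ∪ τ₃`: Frobenius action of `A⟨x⟩` on `M_σ`
    have hregy := hreg hτ y₀ hy₀x hy₀o
    have hE1 : zpowers x ≠ ⊥ := by
      intro h
      exact hx1 (Subgroup.zpowers_eq_bot.mp h)
    have hUn : ∀ e ∈ zpowers x, ∀ u ∈ A, e * u * e⁻¹ ∈ A := by
      intro e he u hu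
      have heN : e ∈ normalizer (A : Set G) := ((zpowers_le).mpr hxN) he
      exact (Subgroup.mem_normalizer_iff.mp heN u).mp hu
    have hfpf : ∀ e ∈ zpowers x, e ≠ 1 → ∀ u ∈ A, e * u = u * e → u = 1 := by
      intro e he he1 u hu heu
      -- `D = C_A(e)` is `x`-invariant
      obtain ⟨D, hD⟩ : ∃ D : Subgroup G, D = A ⊓ centralizer ({e} : Set G) := ⟨_, rfl⟩
      have hDA : D ≤ A := hD ▸ inf_le_left
      have hDmem : ∀ a : G, a ∈ D ↔ a ∈ A ∧ e * a = a * e := by
        intro a
        rw [hD, Subgroup.mem_inf, Subgroup.mem_centralizer_iff]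
        constructor
        · rintro ⟨h1, h2⟩
          exact ⟨h1, h2 e (Set.mem_singleton e)⟩
        · rintro ⟨h1, h2⟩
          refine ⟨h1, fun z hz => ?_⟩
          rw [Set.mem_singleton_iff] at hz
          subst hz
          exact h2
      have hxe : x * e = e * x := by
        obtain ⟨j, rfl⟩ := Subgroup.mem_zpowers_iff.mp he
        exact ((Commute.refl x).zpow_right j).eq
      have hxD : x ∈ normalizer (D : Set G) := by
        apply Cfsg.Agent.Lib.Helper10.BG13.mem_normalizer_of_conj_mem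
        intro a ha
        rw [hDmem] at ha ⊢
        refine ⟨(Subgroup.mem_normalizer_iff.mp hxN a).mp ha.1, ?_⟩
        have hae : e * a = a * e := ha.2
        have hxe' : x⁻¹ * e = e * x⁻¹ :=
          (Commute.inv_left (show Commute x e from hxe)).eq
        calc e * (x * a * x⁻¹) = x * (e * a) * x⁻¹ := by
              rw [← mul_assoc, ← mul_assoc, ← hxe, mul_assoc x e a]
          _ = x * (a * e) * x⁻¹ := by rw [hae]
          _ = x * a * x⁻¹ * e := by
              rw [mul_assoc x (a * e), mul_assoc a e, ← hxe', ← mul_assoc a, ← mul_assoc x,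
                ← mul_assoc x]
      rcases card_cases hpp hA.2.2 hDA with h | h | h
      · have : u ∈ D := (hDmem u).mpr ⟨hu, heu⟩
        rw [h] at this
        exact Subgroup.mem_bot.mp this
      · -- `e` centralizes `A`: contradiction with Lemma R
        exfalso
        apply he1
        apply hC e he
        intro a ha
        have : a ∈ D := by rw [h]; exact ha
        exact ((hDmem a).mp this).2
      · exact absurd hxD (hirr D hDA h)
    have hsupE : A ⊔ zpowers x ≤ E := sup_le hA.1 ((zpowers_le).mpr hxE)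
    have hHn : ∀ g ∈ A ⊔ zpowers x, ∀ h ∈ sigmaCore M, g * h * g⁻¹ ∈ sigmaCore M :=
      fun g hg h hh =>
        Cfsg.Agent.Lib.Helper90.BG1362.conj_mem_sigmaCore M (hE.1 (hsupE hg)) hh
    have hMtop : M ≠ ⊤ := hM.1
    have hsolvM : Group.IsSolvable ↥M := Cfsg.Agent.Lib.Helper23.isSolvable_of_ne_top hG hMtop
    have hσM : sigmaCore M ≤ M := hHall.1
    have hsolv : Group.IsSolvable ↥(sigmaCore M) :=
      Group.isSolvable_of_isSolvable_injective (Subgroup.inclusion_injective hσM)
    have hcopE := Cfsg.Agent.Lib.Helper70.BG1216.coprime_card_compl hHall hE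
    have hcop : Nat.Coprime (Nat.card (sigmaCore M)) (Nat.card ↥(A ⊔ zpowers x)) :=
      (Nat.Coprime.coprime_dvd_left (Subgroup.card_dvd_of_le hsupE) hcopE).symm
    have hform := Cfsg.Agent.Lib.Helper56.FrobApply.frobenius_formula A (zpowers x)
      (sigmaCore M) hE1 hUn hfpf hHn hsolv hcop
    have h17d : sigmaCore M ⊓ centralizer (A : Set G) = ⊥ := h17.2.2.2.1
    have hc1 : Nat.card ↥(sigmaCore M ⊓ centralizer (A : Set G)) = 1 := by
      rw [h17d]; exact Subgroup.card_bot
    have hc2 : Nat.card ↥(sigmaCore M ⊓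
        centralizer ((A ⊔ zpowers x : Subgroup G) : Set G)) = 1 := by
      have hle : sigmaCore M ⊓ centralizer ((A ⊔ zpowers x : Subgroup G) : Set G) ≤
          sigmaCore M ⊓ centralizer (A : Set G) :=
        inf_le_inf_left _ (Subgroup.centralizer_le (by
          intro a ha; exact (le_sup_left : A ≤ A ⊔ zpowers x) ha))
      rw [h17d] at hle
      rw [le_bot_iff.mp hle]; exact Subgroup.card_bot
    rw [hc1, hc2, one_pow, one_mul, mul_one] at hform
    have hσne := Cfsg.Agent.Lib.Helper19.BG124.sigmaCore_ne_bot hG hM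
    have hne : sigmaCore M ⊓ centralizer ((zpowers x : Subgroup G) : Set G) ≠ ⊥ := by
      intro h
      rw [h, Subgroup.card_bot, one_pow] at hform
      exact hσne (Subgroup.card_eq_one.mp hform)
    apply hne
    rw [eq_bot_iff]
    intro h hh
    have : h ∈ sigmaCore M ⊓ centralizer ({y₀} : Set G) := by
      refine Subgroup.mem_inf.mpr ⟨hh.1, ?_⟩
      rw [Subgroup.mem_centralizer_iff]
      intro z hz
      rw [Set.mem_singleton_iff] at hz
      subst hz
      exact (Subgroup.mem_centralizer_iff.mp hh.2) _ hy₀x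
    rw [hregy] at this
    exact this
  · -- `r ∈ τ₂(M)`, `r ≠ p`: `y₀` lies in the normal `E_{r²}` of `E`, which centralizes `A`
    obtain ⟨B, hB⟩ := Cfsg.Agent.Lib.Helper96.BG127.exists_elemAb_sq_le_compl hE hτ
    have h18r := Cfsg.Agent.S1418.result hG M hM E hE r hτ B hB
    have hEB : E ≤ normalizer (B : Set G) := h18r.1.1
    have hy₀B : y₀ ∈ B := by
      apply h18r.1.2 (zpowers y₀) ((zpowers_le).mpr (E.pow_mem hxE _))
        (by rw [Nat.card_zpowers, hy₀o])
      exact mem_zpowers y₀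
    have hAB : A ⊓ B = ⊥ := by
      have hcop : (Nat.card A).Coprime (Nat.card B) := by
        rw [hA.2.2, hB.2.2]
        exact Nat.Coprime.pow _ _ ((Nat.coprime_primes hpp hr).mpr (Ne.symm hrp))
      exact (Subgroup.disjoint_of_coprime_natCard hcop).eq_bot
    have hcent := Cfsg.Agent.Lib.Helper90.mem_centralizer_of_mutual_normalize A B hAB
      (hA.1.trans hEB) hy₀B (hEN (E.pow_mem hxE _))
    apply hy₀1
    apply hC y₀ hy₀x
    intro a ha
    exact (Subgroup.mem_centralizer_iff.mp hcent a ha).symm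

/-- helper10's Lemma R in the shape `LemmaR`, with the statements of S1417 and S1418 plugged in from
main; the statements of S1423 and S1427 remain hypotheses. -/
theorem lemmaR_of [Finite G] (hG : IsMinSimpleOddOrder G)
    (h23 : Cfsg.Agent.Lib.Helper10.BG13.StmtR1423 G)
    (h27 : Cfsg.Agent.Lib.Helper10.BG13.StmtR1427 G) {M E : Subgroup G} (hM : IsCoatom M)
    (hE : IsComplIn E (sigmaCore M) M) {p : ℕ} [hpf : Fact p.Prime] (hp : p ∈ tau2 M)
    {A : Subgroup G} (hA : A ≤ E ∧ IsElementaryAbelian p A ∧ Nat.card A = p ^ 2) :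
    LemmaR E A p := by
  intro r _ hrp x hxE hxr hirr
  exact Cfsg.Agent.Lib.Helper10.BG13.lemmaR hG
    (fun M hM p _ hp A hA => Cfsg.Agent.S1417.result hG M hM p hp A hA)
    (fun M hM E hE p _ hp A hA => Cfsg.Agent.S1418.result hG M hM E hE p hp A hA)
    h23 h27 hM hE hp hA hrp hxE hxr hirr

end Cfsg.Agent.Lib.Helper90.BGPP
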