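import Cfsg.Agent.Lib.Helper90.BG147S
import Cfsg.Agent.Lib.Helper47.BG147P
import Cfsg.Agent.S1430

/-!
# Lemma P without cyclicity: `|K|` not prime ⟹ `M = M_σ K`

Same proof as helper47's `card_prime_of_U_ne_bot`, but the abelian Hall subgroup `U` comes from
S1430(2) (no `IsSigmaDecomposition`, hence no cyclicity of `K`), and `C_{M_σ}(U) = 1` comes from
S1429 (instead of S1360).
-/

set_option autoImplicit false
set_option linter.unusedSectionVars false
set_option linter.unusedVariables false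
set_option linter.style.haveILetI false

universe u

namespace Cfsg.Agent.Lib.Helper90.BG147S

open Subgroup Cfsg Cfsg.Agent.Lib.Helper33 Cfsg.Agent.Lib.Helper63

variable {G : Type u} [Group G] [Finite G]

/-- **Lemma P, `P1` form, unconditional**: if `|K|` is not a prime then `M = M_σ K`. -/
theorem stmtP1 (hG : IsMinSimpleOddOrder G) : StmtP1 G := by
  intro M K hM hK hK1 hnp
  classical
  have hσ := BG13.hallStmt hG M hM
  obtain ⟨hsp, ⟨U, hUab, hU, hKU, hreg⟩, _⟩ := Cfsg.Agent.S1430.result hG M hM K hK hK1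
  have hE := Cfsg.Agent.Lib.Helper30.BG142.isComplIn_UK hσ hK hU hKU
  by_cases hU1 : U = ⊥
  · intro m hm
    obtain ⟨a, ha, b, hb, rfl⟩ := hE.2.2.2 m hm
    rw [hU1, bot_sup_eq] at ha
    exact (sigmaCore M ⊔ K).mul_mem ((le_sup_right : K ≤ _) ha)
      ((le_sup_left : sigmaCore M ≤ _) hb)
  · exfalso
    apply hnp
    have hUM : U ≤ M := hU.1
    have hKM : K ≤ M := hK.1
    have hWM : sigmaCore M ≤ M := hσ.1
    have hMtop : M ≠ ⊤ := hM.1
    have hcard : Nat.card U ≠ 1 := fun h => hU1 (Subgroup.card_eq_one.mp h)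
    obtain ⟨p, hp, hpU⟩ := Nat.exists_prime_and_dvd hcard
    haveI : Fact p.Prime := ⟨hp⟩
    obtain ⟨_, hpκ, hpσ⟩ := hU.2.1 p hp hpU
    have hpM : p ∣ Nat.card M := hpU.trans (Subgroup.card_dvd_of_le hUM)
    obtain ⟨S⟩ : Nonempty (Sylow p M) := inferInstance
    have hnP1 : ¬ (∀ q : ℕ, q.Prime → q ∣ Nat.card M → q ∉ sigma M → q ∈ kappa M) :=
      fun h => hpκ (h p hp hpM hpσ)
    have hpσκ : p ∉ sigma M ∪ kappa M := by
      rintro (h | h)
      · exact hpσ h
      · exact hpκ h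
    obtain ⟨_, hCA, hnil⟩ := Cfsg.Agent.S1429.result hG M hM hnP1 p hpM hpσκ S
    have hNW : M ≤ normalizer ((sigmaCore M : Subgroup G) : Set G) :=
      Cfsg.Agent.Lib.Helper76.BGSigU.le_normalizer_sigmaCore' M
    have hW1 : sigmaCore M ≠ ⊥ := Cfsg.Agent.Lib.Helper19.BG124.sigmaCore_ne_bot hG hM
    -- move the Sylow subgroup into `U`
    have hQ : IsPGroup p ((S : Subgroup M).map M.subtype) := S.2.map _
    have hQM : (S : Subgroup M).map M.subtype ≤ M := Subgroup.map_subtype_le _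
    have hN : ¬ p ∣ U.relIndex M := hU.2.2 p hp ⟨hp, hpκ, hpσ⟩
    obtain ⟨m, hmM, hm⟩ :=
      Cfsg.Agent.Lib.Helper76.BGSigU.exists_conj_le_of_not_dvd hUM hN hQ hQM
    -- `C_{M_σ}(U) = 1`
    have hCK : sigmaCore M ⊓ centralizer (U : Set G) = ⊥ := by
      rw [eq_bot_iff]
      intro y hy
      rw [Subgroup.mem_bot]
      have hy' : m * y * m⁻¹ ∈ sigmaCore M :=
        (Subgroup.mem_normalizer_iff.mp (hNW hmM) y).mp hy.1
      have hAle : Subgroup.closure {x : G | x ∈ (S : Subgroup M).map M.subtype ∧ x ^ p = 1} ≤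
          centralizer ({m * y * m⁻¹} : Set G) := by
        rw [Subgroup.closure_le]
        intro a ha
        rw [SetLike.mem_coe, Subgroup.mem_centralizer_iff]
        intro h hh
        rw [Set.mem_singleton_iff] at hh
        subst hh
        have h1 : m⁻¹ * a * m ∈ U := hm a ha.1
        have h2 : (m⁻¹ * a * m) * y = y * (m⁻¹ * a * m) :=
          Subgroup.mem_centralizer_iff.mp hy.2 _ h1
        calc m * y * m⁻¹ * a = m * (y * (m⁻¹ * a * m)) * m⁻¹ := by group
          _ = m * ((m⁻¹ * a * m) * y) * m⁻¹ := by rw [h2]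
          _ = a * (m * y * m⁻¹) := by group
      have hyA : m * y * m⁻¹ ∈ centralizer ((Subgroup.closure
          {x : G | x ∈ (S : Subgroup M).map M.subtype ∧ x ^ p = 1} : Subgroup G) : Set G) := by
        rw [Subgroup.mem_centralizer_iff]
        intro a ha
        have h3 := hAle ha
        rw [Subgroup.mem_centralizer_iff] at h3
        exact (h3 _ rfl).symm
      have h4 : m * y * m⁻¹ ∈ (⊥ : Subgroup G) := hCA ▸ ⟨hy', hyA⟩
      rw [Subgroup.mem_bot] at h4
      calc y = m⁻¹ * (m * y * m⁻¹) * m := by group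
        _ = 1 := by rw [h4]; group
    have hcop : (Nat.card ↥(U ⊔ K)).Coprime (Nat.card (sigmaCore M)) :=
      Cfsg.Agent.Lib.Helper70.BG1216.coprime_card_compl hσ hE
    have hUKM : U ⊔ K ≤ M := sup_le hUM hKM
    have hUKtop : U ⊔ K ≠ ⊤ := fun h => hMtop (top_le_iff.mp (h ▸ hUKM))
    have hsolv : Group.IsSolvable ↥(U ⊔ K) :=
      Cfsg.Agent.Lib.Helper23.isSolvable_of_ne_top hG hUKtop
    have hodd : Odd (Nat.card ↥(U ⊔ K)) := Cfsg.Agent.Lib.Helper23.odd_card_subgroup hG _
    have hKR : U ⊓ K = ⊥ := by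
      apply Disjoint.eq_bot
      apply Subgroup.disjoint_of_coprime_natCard
      apply Nat.coprime_of_dvd
      intro q hq h1 h2
      exact (hU.2.1 q hq h1).2.1 (hK.2.1 q hq h2)
    exact (Cfsg.Agent.S1446.result (X := G) U K (sigmaCore M) hU1 hK1 hKR hKU
      hreg hsolv hodd hW1 hnil (hUM.trans hNW) (hKM.trans hNW) hcop hCK hsp).1

end Cfsg.Agent.Lib.Helper90.BG147S
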