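import Cfsg.Agent.Lib.Helper90.BG147SGlue
import Cfsg.Agent.Lib.Helper90.BG147P1
import Cfsg.Agent.Lib.Helper68.BG147E
import Cfsg.Agent.S1377
import Cfsg.Agent.S1430
import Cfsg.Agent.S1433

/-!
# Part S of BG 14.7(b), unconditional
-/

set_option autoImplicit false
set_option linter.unusedSectionVars false
set_option linter.unusedVariables false

universe u

namespace Cfsg.Agent.Lib.Helper90.BG147S

open Subgroup Cfsg

variable {G : Type u} [Group G] [Finite G]

/-- the real S1430 in the `Stmt1430` shape -/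
theorem stmt1430' (hG : IsMinSimpleOddOrder G) : Cfsg.Agent.Lib.Helper56.BG143.Stmt1430 G :=
  fun M hM K hK hK1 => Cfsg.Agent.S1430.result hG M hM K hK hK1

/-- the real S1433 in helper22's `Stmt1433` shape -/
theorem stmt1433' (hG : IsMinSimpleOddOrder G) : Cfsg.Agent.Lib.Helper22.StarCount.Stmt1433 G :=
  fun M N hM hN x y hx hy hx1 hy1 hxy =>
    Cfsg.Agent.S1433.result hG M N hM hN x y hx hy hx1 hy1 hxy

/-- the real S1377 in helper22's `Stmt1377` shape -/
theorem stmt1377' (hG : IsMinSimpleOddOrder G) : Cfsg.Agent.Lib.Helper22.StarCount.Stmt1377 G :=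
  fun M hM => Cfsg.Agent.S1377.result hG M hM

/-- **Part S, unconditional**: all partners of `M` coincide. -/
theorem partner_eq_uncond (hG : IsMinSimpleOddOrder G)
    {M K : Subgroup G} (hM : IsCoatom M) (hK : IsPiHallOf (kappa M) K M)
    {X X' L L' : Subgroup G} (hXK : X ≤ K) (hX : (Nat.card X).Prime)
    (hX'K : X' ≤ K) (hX' : (Nat.card X').Prime)
    (hL : IsCoatom L) (hNL : normalizer (X : Set G) ≤ L)
    (hL' : IsCoatom L') (hNL' : normalizer (X' : Set G) ≤ L') : L = L' :=
  partner_eq hG (stmt1430' hG) (stmtPartner_of hG (stmt1430' hG)) (stmtP1 hG)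
    (stmtStar_of hG (stmt1377' hG) (stmt1433' hG)) hM hK hXK hX hX'K hX' hL hNL hL' hNL'

/-- helper68's `StmtPartnerEq`, unconditional -/
theorem stmtPartnerEq (hG : IsMinSimpleOddOrder G) :
    Cfsg.Agent.Lib.Helper68.BG147.StmtPartnerEq G := by
  intro M K hM hK _ X X' L L' hXK hX hX'K hX' hL hNL hL' hNL'
  exact partner_eq_uncond hG hM hK hXK hX hX'K hX' hL hNL hL' hNL'

end Cfsg.Agent.Lib.Helper90.BG147S
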