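import Mathlib

/-!
# R7C-CNT (Rt hive of helper12, sub-leaf of RT-R7CENT by helper52)

An endomorphism `S` of a finite `K`-space with `S ^ p = 1` (`p` prime, `K` finite): the number of
vectors is congruent mod `p` to the number of vectors fixed by `S`.
-/

namespace Cfsg.Agent.Lib.Helper12.Rt

theorem r7cent_card_modEq {K : Type*} [Field K] [Fintype K] {V : Type*} [AddCommGroup V]
    [Module K V] [Module.Finite K V] (p : ℕ) (hp : p.Prime) (S : Module.End K V)
    (hS : S ^ p = 1) :
    Fintype.card K ^ Module.finrank K V ≡
      Fintype.card K ^ Module.finrank K (LinearMap.ker (S - 1)) [MOD p] := by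
  haveI : Fact p.Prime := ⟨hp⟩
  have hp0 : p ≠ 0 := hp.ne_zero
  -- the unit
  let u : (Module.End K V)ˣ := Units.ofPow 1 S hp0 (by simpa using hS)
  have hu : (u : Module.End K V) = S := rfl
  have hup : u ^ p = 1 := by
    apply Units.ext
    simp [hu, hS]
  -- the p-group
  let Z : Subgroup (Module.End K V)ˣ := Subgroup.zpowers u
  have hZ : IsPGroup p Z := by
    rintro ⟨g, hg⟩
    obtain ⟨n, rfl⟩ := Subgroup.mem_zpowers_iff.mp hg
    refine ⟨1, ?_⟩
    apply Subtype.ext
    simp only [pow_one, Subgroup.coe_pow, Subgroup.coe_one]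
    rw [← zpow_natCast, ← zpow_mul, mul_comm, zpow_mul, zpow_natCast, hup, one_zpow]
  haveI : Finite K := Finite.of_fintype K
  haveI : Finite V := Module.finite_of_finite K
  have key := hZ.card_modEq_card_fixedPoints V
  -- fixed points = ker (S - 1)
  have hfix : (MulAction.fixedPoints Z V) = (LinearMap.ker (S - 1) : Set V) := by
    ext v
    simp only [MulAction.mem_fixedPoints, SetLike.mem_coe, LinearMap.mem_ker, LinearMap.sub_apply,
      Module.End.one_apply, sub_eq_zero]
    constructor
    · intro h
      have := h ⟨u, Subgroup.mem_zpowers u⟩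
      exact this
    · intro h
      rintro ⟨g, hg⟩
      have h1 : u ∈ MulAction.stabilizer (Module.End K V)ˣ v := by
        rw [MulAction.mem_stabilizer_iff]
        exact h
      have h2 := (Subgroup.zpowers_le.mpr h1) hg
      rw [MulAction.mem_stabilizer_iff] at h2
      exact h2
  have hcardfix : Nat.card (MulAction.fixedPoints Z V) = Nat.card (LinearMap.ker (S - 1)) := by
    rw [hfix]
    rfl
  rw [hcardfix, Module.natCard_eq_pow_finrank (K := K) (V := V),
    Module.natCard_eq_pow_finrank (K := K) (V := LinearMap.ker (S - 1)),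
    Nat.card_eq_fintype_card] at key
  exact key

end Cfsg.Agent.Lib.Helper12.Rt
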