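import Mathlib
import Cfsg.Agent.Lib.Helper13.UnitaryGen5

set_option autoImplicit false

/-!
# Psu hive (S2412): shared definitions

Diagonal model: `Cfsg.hermForm n F q u v = ∑ i, u i * v i ^ q`, unitary transvections
`utv q u c : GL (Fin n) F` (`x ↦ x + c * h(x,u) • u`, helper99 `UnitaryBase`),
`suGL n q = GU ⊓ SL` inside `GL (Fin n) F`, `utvGroup n q F` (helper99 `UnitaryTI`),
`suGL_le_utvGroup` (helper13 `UnitaryGen5`).
-/

namespace Cfsg.Agent.Lib.Helper90.Psu

open Matrix Cfsg.Agent.Lib.Helper99 Cfsg.Agent.Lib.Helper13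

variable {F : Type*} [Field F] {n : ℕ}

/-- `Tset q H`: the isotropic vectors `v` all of whose unitary transvections `utv q v c`
(`c + c ^ q = 0`) lie in `H`. -/
def Tset (q : ℕ) (H : Subgroup (GL (Fin n) F)) : Set (Fin n → F) :=
  {v | Cfsg.hermForm n F q v v = 0 ∧ ∀ c : F, c + c ^ q = 0 → utv q v c ∈ H}

/-- `v` is supported on the first `k` coordinates. -/
def SuppLt (k : ℕ) (v : Fin n → F) : Prop := ∀ j : Fin n, k ≤ j.val → v j = 0

/-- `v` is supported on the coordinates `≥ k`. -/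
def SuppGe (k : ℕ) (v : Fin n → F) : Prop := ∀ j : Fin n, j.val < k → v j = 0

/-- quasi-reflection `x ↦ x + ((ν - 1) / h(b,b)) * h(x,b) • b` (for anisotropic `b`, `ν ≠ 0`);
it multiplies `b` by `ν` and fixes `b^⊥` pointwise. -/
noncomputable def qr (q : ℕ) (b : Fin n → F) (ν : F) : GL (Fin n) F :=
  utv q b ((ν - 1) / Cfsg.hermForm n F q b b)

/-- the Heisenberg (Eichler/Siegel) matrix `x ↦ x + h(x,e) • (r + β • e) - h(x,r) • e`. -/
def heisM (q : ℕ) (e r : Fin n → F) (β : F) : Matrix (Fin n) (Fin n) F :=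
  1 + vecMulVec (r + β • e) (fun j => e j ^ q) - vecMulVec e (fun j => r j ^ q)

/-- the Heisenberg element as an element of `GL` (junk value `1` if not invertible). -/
noncomputable def heis (q : ℕ) (e r : Fin n → F) (β : F) : GL (Fin n) F :=
  haveI := Classical.dec ((heisM q e r β).det ≠ 0)
  if h : (heisM q e r β).det ≠ 0 then Matrix.GeneralLinearGroup.mkOfDetNeZero _ h else 1

/-- A family of `m` pairwise orthogonal hyperbolic pairs `(e i, f i)`, the `i`-th one supported on
the coordinates `2 i`, `2 i + 1`. -/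
structure WittCfg (q n m : ℕ) (F : Type*) [Field F] where
  e : Fin m → (Fin n → F)
  f : Fin m → (Fin n → F)
  hee : ∀ i j, Cfsg.hermForm n F q (e i) (e j) = 0
  hff : ∀ i j, Cfsg.hermForm n F q (f i) (f j) = 0
  hef : ∀ i j, Cfsg.hermForm n F q (e i) (f j) = if i = j then 1 else 0
  supp : ∀ (i : Fin m) (k : Fin n), k.val ≠ 2 * i.val → k.val ≠ 2 * i.val + 1 →
    e i k = 0 ∧ f i k = 0

/-- the vector `∑ a i • e i + ∑ b i • f i`. -/
def WittCfg.vec {q n m : ℕ} (C : WittCfg q n m F) (a b : Fin m → F) : Fin n → F :=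
  ∑ i, a i • C.e i + ∑ i, b i • C.f i

end Cfsg.Agent.Lib.Helper90.Psu
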