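import Mathlib
import Cfsg.Agent.Lib.Helper22.CgDefs
import Cfsg.Agent.Lib.Helper9.CoprimeIndex

/-! # Cg hive (S4257, helper22): leaves CG1a, CG1b (second hand for helper11, who holds four leaves). -/

set_option autoImplicit false

namespace Cfsg.Agent.Lib.Helper22.Cg

open Subgroup

universe u

/-- CG1a. Coprime class sizes: `G = C(x) C(y)`, so every product of conjugates of `x` and `y`
is conjugate to `x * y`. -/
theorem cg1a {G : Type u} [Group G] [Finite G] (x y : G) (hc : (cs x).Coprime (cs y)) (g h : G) :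
    ∃ k : G, (g * x * g⁻¹) * (h * y * h⁻¹) = k * (x * y) * k⁻¹ := by
  obtain ⟨d, hd, c, hcx, hdc⟩ := Cfsg.Agent.Lib.Helper9.exists_mul_of_coprime_index
    (centralizer ({y} : Set G)) (centralizer ({x} : Set G)) hc.symm (h⁻¹ * g)
  have hd' : y * d = d * y := by
    rw [Subgroup.mem_centralizer_iff] at hd
    exact hd y (Set.mem_singleton y)
  have hc' : x * c = c * x := by
    rw [Subgroup.mem_centralizer_iff] at hcx
    exact hcx x (Set.mem_singleton x)
  have hg : g = h * d * c := by
    have : h * (h⁻¹ * g) = h * (d * c) := by rw [hdc]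
    rw [mul_inv_cancel_left] at this
    rw [this, mul_assoc]
  refine ⟨h * d, ?_⟩
  have h1 : g * x * g⁻¹ = (h * d) * x * (h * d)⁻¹ := by
    rw [hg]
    have : h * d * c * x * (h * d * c)⁻¹ = h * d * (c * x * c⁻¹) * (h * d)⁻¹ := by group
    rw [this, ← hc', mul_inv_cancel_right]
  have h2 : h * y * h⁻¹ = (h * d) * y * (h * d)⁻¹ := by
    have : h * d * y * (h * d)⁻¹ = h * (d * y * d⁻¹) * h⁻¹ := by group
    rw [this, ← hd', mul_inv_cancel_right]
  rw [h1, h2]
  group

/-- CG1b. Coprime class sizes: `|(xy)^G|` divides `|x^G| |y^G|`. -/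
theorem cg1b {G : Type u} [Group G] [Finite G] (x y : G) (hc : (cs x).Coprime (cs y)) :
    cs (x * y) ∣ cs x * cs y := by
  have hle : centralizer ({x} : Set G) ⊓ centralizer ({y} : Set G) ≤ centralizer ({x * y} : Set G) := by
    intro z hz
    obtain ⟨hzx, hzy⟩ := Subgroup.mem_inf.mp hz
    rw [Subgroup.mem_centralizer_iff] at hzx hzy ⊢
    intro w hw
    rw [Set.mem_singleton_iff] at hw
    subst hw
    have h1 : x * z = z * x := hzx x (Set.mem_singleton x)
    have h2 : y * z = z * y := hzy y (Set.mem_singleton y)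
    rw [mul_assoc, h2, ← mul_assoc, h1, mul_assoc]
  have h1 := Subgroup.index_dvd_of_le hle
  rw [Cfsg.Agent.Lib.Helper9.index_inf_of_coprime_index _ _ hc] at h1
  exact h1

end Cfsg.Agent.Lib.Helper22.Cg
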