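import Mathlib
import Cfsg.Prelude.Def_OddOrderLocal
import Cfsg.Agent.Lib.Helper22.BG1372
import Cfsg.Agent.Lib.Helper68.BG1215b
import Cfsg.Agent.Lib.Helper56.BG147
import Cfsg.Agent.Lib.Helper55.InvolSylow
import Cfsg.Agent.Lib.Helper76.BGSigU
import Cfsg.Agent.Lib.Helper23.TypeP
import Cfsg.Agent.Lib.Helper23.FitUniqueB
import Cfsg.Agent.Lib.Helper9.BG147P
import Cfsg.Agent.S1367
import Cfsg.Agent.S1368
import Cfsg.Agent.S1369
import Cfsg.Agent.S1378
import Cfsg.Agent.S1404
import Cfsg.Agent.S1429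
import Cfsg.Agent.S1430
import Cfsg.Agent.S1432

/-!
# The setting of S1435 (B&G Theorem 15.7): basic facts

From the hypotheses of S1435 (verbatim) we derive the basic facts on `M`, `M*`, `K`, `U`, `H`
that the other parts of the proof use (`Facts`).
-/

namespace Cfsg.Agent.Lib.Helper90.BG1435

open Subgroup Cfsg Cfsg.Agent.Lib.Helper33

universe u

variable {G : Type u} [Group G] [Finite G]

/-- the basic facts in the setting of S1435 -/
structure Facts (M K U Mstar H : Subgroup G) : Prop where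
  cardK : (Nat.card K).Prime
  nilM : Group.IsNilpotent (sigmaCore M)
  abU : IsMulCommutative U
  centU : sigmaCore M ⊓ centralizer (U : Set G) = ⊥
  regU : ∀ k ∈ K, k ≠ 1 → U ⊓ centralizer ({k} : Set G) = ⊥
  U_le : U ≤ H
  K_le : K ≤ H
  ne_M : H ≠ M
  not_conj_M : ∀ g : G, H ≠ M.map (MulAut.conj g).toMonoidHom
  not_conj_Ms : ∀ g : G, H ≠ Mstar.map (MulAut.conj g).toMonoidHom
  kappaH : kappa H = ∅
  cardK_notin : Nat.card K ∉ sigma H
  disj_M : sigma H ∩ sigma M = ∅
  disj_Ms : sigma H ∩ sigma Mstar = ∅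
  K_le_Ms : K ≤ sigmaCore Mstar
  cardK_mem : Nat.card K ∈ sigma Mstar
  centK_le : centralizer (K : Set G) ≤ Mstar
  centK_uniq : ∀ L : Subgroup G, IsCoatom L → centralizer (K : Set G) ≤ L → L = Mstar
  inf_Ms : M ⊓ Mstar = K ⊔ (sigmaCore M ⊓ centralizer (K : Set G))
  centK : sigmaCore H ⊓ centralizer (K : Set G) = ⊥
  nilH : Group.IsNilpotent (sigmaCore H)
  neH : sigmaCore H ≠ ⊥

/-- a prime dividing `|U|` is not in `σ(M)` -/
theorem not_sigma_of_dvd_card_U (hG : IsMinSimpleOddOrder G) {M K U : Subgroup G}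
    (hM : IsCoatom M) (hKU : IsSigmaDecomposition M K U) {p : ℕ} (hp : p.Prime)
    (hpU : p ∣ Nat.card U) : p ∉ sigma M := by
  haveI : Fact p.Prime := ⟨hp⟩
  obtain ⟨x, hx⟩ := exists_prime_orderOf_dvd_card' p hpU
  have hx1 : (x : G) ≠ 1 := by
    intro h
    have h1 : x = 1 := Subtype.ext h
    rw [h1, orderOf_one] at hx
    exact hp.one_lt.ne hx
  have hxp : (x : G) ^ p = 1 := by
    have h1 : x ^ p = 1 := by rw [← hx]; exact pow_orderOf_eq_one x
    have := congrArg Subtype.val h1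
    simpa using this
  exact Cfsg.Agent.Lib.Helper76.BGSigU.not_sigma_of_mem_U
    (Cfsg.Agent.Lib.Helper47.BG11.sigmaHallIn_of_coatom hG hM) hKU x.2 hx1 hxp

/-- `U` is abelian -/
theorem abU_of (hG : IsMinSimpleOddOrder G) {M K U : Subgroup G} (hM : IsCoatom M)
    (hKU : IsSigmaDecomposition M K U) (hK1 : K ≠ ⊥) : IsMulCommutative U := by
  obtain ⟨_, ⟨U', hU'ab, hU'H, _, _⟩, _⟩ := Cfsg.Agent.S1430.result hG M hM K hKU.hall hK1
  haveI : Group.IsSolvable M := Cfsg.Agent.Lib.Helper23.isSolvable_of_ne_top hG hM.1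
  obtain ⟨g, _, hle⟩ := Cfsg.Agent.Lib.Helper68.BG1215.hall_pi_conj_le (K := M)
    {q | q.Prime ∧ q ∉ kappa M ∧ q ∉ sigma M} (H := U') (Y := U) hU'H.1 hU'H.2.1 hU'H.2.2
    hKU.compl.1 (fun p hp hpU => ⟨hp,
      Cfsg.Agent.Lib.Helper76.BGSigU.not_kappa_of_dvd_card_U hKU hp hpU,
      not_sigma_of_dvd_card_U hG hM hKU hp hpU⟩)
  refine ⟨⟨fun a b => ?_⟩⟩
  have ha : g * (a : G) * g⁻¹ ∈ U' := hle (conj_mem_cj a.2)
  have hb : g * (b : G) * g⁻¹ ∈ U' := hle (conj_mem_cj b.2)
  have h := Cfsg.Agent.Lib.Helper9.BG147P.comm_of_isMulCommutative hU'ab ha hb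
  apply Subtype.ext
  have h2 : g * ((a : G) * b) * g⁻¹ = g * ((b : G) * a) * g⁻¹ := by
    calc g * ((a : G) * b) * g⁻¹ = (g * a * g⁻¹) * (g * b * g⁻¹) := by group
      _ = (g * b * g⁻¹) * (g * a * g⁻¹) := h
      _ = g * ((b : G) * a) * g⁻¹ := by group
  have h3 := mul_left_cancel (mul_right_cancel h2)
  simpa using h3

/-- the normalizer of an abelian `U` normalizes every Sylow subgroup of `U` -/
theorem normalizer_le_normalizer_sylow {U : Subgroup G} (hUab : IsMulCommutative U) {r : ℕ}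
    [Fact r.Prime] (R : Sylow r U) :
    normalizer (U : Set G) ≤
      normalizer (((R : Subgroup U).map U.subtype : Subgroup G) : Set G) := by
  -- `R` is normal in `U`
  haveI hRn : (R : Subgroup U).Normal := by
    refine ⟨fun x hx u => ?_⟩
    have h := hUab.is_comm.comm u x
    rw [h, mul_inv_cancel_right]
    exact hx
  haveI : Subsingleton (Sylow r U) := (Sylow.unique_of_normal R hRn).instSubsingleton
  -- key: conjugation by `n ∈ N(U)` maps `R` into `R`
  have key : ∀ n ∈ normalizer (U : Set G), ∀ x ∈ (R : Subgroup U).map U.subtype,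
      n * x * n⁻¹ ∈ (R : Subgroup U).map U.subtype := by
    intro n hn x hx
    have hRU : (R : Subgroup U).map U.subtype ≤ U := by
      rintro _ ⟨y, _, rfl⟩; exact y.2
    set Q : Subgroup G := cj n ((R : Subgroup U).map U.subtype) with hQ
    have hQU : Q ≤ U := by
      intro y hy
      rw [hQ, mem_cj] at hy
      have h1 := hRU hy
      have h2 := (mem_normalizer_iff.mp hn (n⁻¹ * y * n)).mp h1
      have h3 : n * (n⁻¹ * y * n) * n⁻¹ = y := by group
      rwa [h3] at h2
    have hQp : IsPGroup r (Q.subgroupOf U) := by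
      have h1 : IsPGroup r ((R : Subgroup U).map U.subtype) := R.2.map U.subtype
      have h2 : IsPGroup r Q := isPGroup_cj h1
      exact h2.comap_of_injective U.subtype U.subtype_injective
    obtain ⟨S, hS⟩ := hQp.exists_le_sylow
    have hSR : S = R := Subsingleton.elim _ _
    rw [hSR] at hS
    have hxQ : n * x * n⁻¹ ∈ Q := conj_mem_cj hx
    have h4 : (⟨n * x * n⁻¹, hQU hxQ⟩ : U) ∈ Q.subgroupOf U := by
      rw [mem_subgroupOf]; exact hxQ
    exact ⟨⟨n * x * n⁻¹, hQU hxQ⟩, hS h4, rfl⟩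
  intro n hn
  rw [mem_normalizer_iff]
  intro x
  constructor
  · exact key n hn x
  · intro hx
    have h1 := key n⁻¹ (inv_mem hn) _ hx
    have h2 : n⁻¹ * (n * x * n⁻¹) * n⁻¹⁻¹ = x := by group
    rwa [h2] at h1

/-- membership in `σ(H)` from a subgroup of Sylow order with normalizer in `H` -/
theorem mem_sigma_of_card {H X : Subgroup G} {r : ℕ} [hr : Fact r.Prime] (hXH : X ≤ H)
    (hX1 : X ≠ ⊥) (hcard : Nat.card X = r ^ (Nat.card H).factorization r)
    (hN : normalizer (X : Set G) ≤ H) : r ∈ sigma H := by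
  have hc : Nat.card (X.subgroupOf H) = r ^ (Nat.card H).factorization r := by
    rw [Nat.card_congr (Subgroup.subgroupOfEquivOfLe hXH).toEquiv, hcard]
  refine ⟨hr.out, ?_, Sylow.ofCard (X.subgroupOf H) hc, ?_⟩
  · by_contra hnd
    rw [Nat.factorization_eq_zero_of_not_dvd hnd, pow_zero] at hcard
    exact hX1 (Subgroup.card_eq_one.mp hcard)
  · have h1 : ((Sylow.ofCard (X.subgroupOf H) hc : Sylow r H) : Subgroup H) = X.subgroupOf H :=
      Sylow.coe_ofCard _ _
    rw [h1, Subgroup.map_subgroupOf_eq_of_le hXH]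
    exact hN

/-- **The setting of S1435**: hypotheses verbatim. -/
theorem facts (hG : Cfsg.IsMinSimpleOddOrder G)
    (M : Subgroup G) (hM : IsCoatom M) (K U : Subgroup G) (hKU : Cfsg.IsSigmaDecomposition M K U)
    (hK1 : K ≠ ⊥) (hU1 : U ≠ ⊥) (Mstar : Subgroup G) (hMstar : IsCoatom Mstar)
    (hKst : K = Cfsg.sigmaCore Mstar ⊓ Subgroup.centralizer
      ((Cfsg.sigmaCore M ⊓ Subgroup.centralizer (K : Set G)) : Set G))
    (hKstH : Cfsg.IsPiHallOf (Cfsg.kappa Mstar)
      (Cfsg.sigmaCore M ⊓ Subgroup.centralizer (K : Set G)) Mstar)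
    (r : ℕ) [Fact r.Prime] (hr : r ∣ Nat.card U) (R : Sylow r U) (H : Subgroup G) (hH : IsCoatom H)
    (hNR : Subgroup.normalizer (((R : Subgroup U).map U.subtype : Subgroup G) : Set G) ≤ H) :
    Facts M K U Mstar H := by
  have hP2 : Cfsg.Agent.Lib.Helper22.BG1372.P2 M K U := ⟨hG, hM, hKU, hK1, hU1⟩
  obtain ⟨hp0, -, hnilM⟩ := hP2.main
  haveI : Fact (Nat.card K).Prime := ⟨hp0⟩
  have hUab : IsMulCommutative U := abU_of hG hM hKU hK1
  have hσM := Cfsg.Agent.Lib.Helper47.BG11.sigmaHallIn_of_coatom hG hM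
  have hσMs := Cfsg.Agent.Lib.Helper47.BG11.sigmaHallIn_of_coatom hG hMstar
  have hσH := Cfsg.Agent.Lib.Helper47.BG11.sigmaHallIn_of_coatom hG hH
  set R' : Subgroup G := (R : Subgroup U).map U.subtype with hR'
  have hR'U : R' ≤ U := by rintro _ ⟨y, _, rfl⟩; exact y.2
  -- `U ⊔ K ≤ N(R) ≤ H`
  have hNU := normalizer_le_normalizer_sylow hUab R
  have hUH : U ≤ H := fun u hu => hNR (hNU (le_normalizer hu))
  have hKH : K ≤ H := fun k hk => hNR (hNU (hKU.normal hk))
  -- `r ∉ σ(M)`, `r ∉ κ(M)`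
  have hrσ : r ∉ sigma M := not_sigma_of_dvd_card_U hG hM hKU Fact.out hr
  have hrκ : r ∉ kappa M :=
    Cfsg.Agent.Lib.Helper76.BGSigU.not_kappa_of_dvd_card_U hKU Fact.out hr
  -- the order of `R'`
  have hcR : Nat.card R' = r ^ (Nat.card U).factorization r := by
    rw [hR', Nat.card_congr ((R : Subgroup U).equivMapOfInjective U.subtype
      U.subtype_injective).symm.toEquiv]
    exact R.card_eq_multiplicity
  have hR'1 : R' ≠ ⊥ := by
    intro h
    rw [h, Subgroup.card_bot] at hcR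
    have h1 : (Nat.card U).factorization r = 0 := by
      by_contra h0
      have : 1 < r ^ (Nat.card U).factorization r :=
        Nat.one_lt_pow h0 (Fact.out : r.Prime).one_lt
      omega
    have h2 := (Nat.factorization_eq_zero_iff _ _).mp h1
    rcases h2 with h2 | h2 | h2
    · exact h2 Fact.out
    · exact h2 hr
    · exact Nat.card_pos.ne' h2
  -- `r ∤ |K ⊔ M_σ|`
  have hKN : K ≤ normalizer ((sigmaCore M : Subgroup G) : Set G) :=
    le_trans hKU.hall.1 hP2.hNW
  have hrc : ¬ r ∣ Nat.card (K ⊔ sigmaCore M : Subgroup G) := by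
    intro h
    have h1 := dvd_trans h
      (Cfsg.Agent.Lib.Helper55.card_sup_dvd_mul_of_le_normalizer K (sigmaCore M) hKN)
    rcases (Nat.Prime.dvd_mul Fact.out).mp h1 with h2 | h2
    · exact hrκ (hKU.hall.2.1 r Fact.out h2)
    · exact hrσ (hσM.2.1 r Fact.out h2)
  have hfact : (Nat.card M).factorization r = (Nat.card U).factorization r := by
    have h1 := Cfsg.Agent.Lib.Helper23.card_isComplIn hKU.compl
    rw [← h1, Nat.factorization_mul Nat.card_pos.ne' Nat.card_pos.ne', Finsupp.add_apply,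
      Nat.factorization_eq_zero_of_not_dvd hrc, add_zero]
  -- `H` is not conjugate to `M`
  have hncM : ∀ g : G, H ≠ M.map (MulAut.conj g).toMonoidHom := by
    intro g hg
    have hg' : H = cj g M := hg
    apply hrσ
    rw [← Cfsg.Agent.Lib.Helper56.BG147.sigma_cj_eq g M, ← hg']
    apply mem_sigma_of_card (le_trans hR'U hUH) hR'1 _ hNR
    rw [hcR, hg', card_cj, hfact]
  have hneM : H ≠ M := by
    intro h
    apply hncM 1
    rw [h]
    exact (cj_eq_self_of_mem (one_mem M)).symm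
  -- facts on the pair
  have h67 := (Cfsg.Agent.S1367.result hG M hM K U hKU hK1 Mstar hMstar hKst hKstH).2
  obtain ⟨hCK, hCKu⟩ := h67 K le_rfl hp0
  have h68 := (Cfsg.Agent.S1368.result hG M hM K U hKU hK1 Mstar hMstar hKst hKstH).1
  have hKMs : K ≤ sigmaCore Mstar := by
    intro k hk
    rw [hKst] at hk
    exact hk.1
  have hKp : IsPGroup (Nat.card K) K := IsPGroup.of_card (n := 1) (by rw [pow_one])
  have hp0σ : Nat.card K ∈ sigma Mstar :=
    hσMs.2.1 _ hp0 (Subgroup.card_dvd_of_le hKMs)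
  -- `H` is not conjugate to `M*`
  have hncMs : ∀ g : G, H ≠ Mstar.map (MulAut.conj g).toMonoidHom := by
    intro g hg
    have hg' : H = cj g Mstar := hg
    have h1 : K.map (MulAut.conj g⁻¹).toMonoidHom ≤ Mstar := by
      change cj g⁻¹ K ≤ Mstar
      rw [cj_le_iff, inv_inv, ← hg']
      exact hKH
    obtain ⟨m, hm, c, hc, hgmc⟩ :=
      (Cfsg.Agent.S1404.result hG Mstar hMstar (Nat.card K) hp0σ K hKp hK1
        (le_trans hKMs hσMs.1)).1 g⁻¹ h1
    have hgi : g⁻¹ ∈ Mstar := by rw [hgmc]; exact mul_mem hm (hCK hc)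
    have hgM : g ∈ Mstar := by simpa using inv_mem hgi
    have hHMs : H = Mstar := by rw [hg', cj_eq_self_of_mem hgM]
    have hU2 : U ≤ K ⊔ sigmaCore M := by
      intro u hu
      have h2 : u ∈ M ⊓ Mstar := ⟨hKU.compl.1 hu, hHMs ▸ hUH hu⟩
      rw [h68] at h2
      exact (sup_le_sup_left inf_le_left K) h2
    apply hU1
    rw [eq_bot_iff, ← hKU.compl.2.2.1]
    exact le_inf le_rfl hU2
  -- `κ(H) = ∅`
  have hκH : kappa H = ∅ := by
    by_contra hne
    obtain ⟨g, hg | hg⟩ :=
      (Cfsg.Agent.S1369.result hG M hM K U hKU hK1 Mstar hMstar hKst hKstH).2 H hH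
        (Set.nonempty_iff_ne_empty.mpr hne)
    · exact hncM g hg
    · exact hncMs g hg
  have h78 := (Cfsg.Agent.S1378.result hG).2
  have hdM : sigma H ∩ sigma M = ∅ := by
    by_contra hne
    obtain ⟨p, hp1, hp2⟩ := Set.nonempty_iff_ne_empty.mpr hne
    obtain ⟨g, hg⟩ := h78 M H hM hH ⟨p, hp2, hp1⟩
    exact hncM g hg
  have hdMs : sigma H ∩ sigma Mstar = ∅ := by
    by_contra hne
    obtain ⟨p, hp1, hp2⟩ := Set.nonempty_iff_ne_empty.mpr hne
    obtain ⟨g, hg⟩ := h78 Mstar H hMstar hH ⟨p, hp2, hp1⟩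
    exact hncMs g hg
  have hp0H : Nat.card K ∉ sigma H := by
    intro h
    have : Nat.card K ∈ sigma H ∩ sigma Mstar := ⟨h, hp0σ⟩
    rw [hdMs] at this
    exact this
  -- `C_{H_σ}(K) = 1`
  have hcentK : sigmaCore H ⊓ centralizer (K : Set G) = ⊥ := by
    rw [eq_bot_iff]
    intro y hy
    rw [Subgroup.mem_bot]
    by_contra hy1
    obtain ⟨k', hk'⟩ := (Subgroup.ne_bot_iff_exists_ne_one).mp hK1
    obtain ⟨k, hk, hk1⟩ : ∃ k : G, k ∈ K ∧ k ≠ 1 :=
      ⟨(k' : G), k'.2, fun h => hk' (Subtype.ext h)⟩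
    have hky : k ∈ H ⊓ centralizer ({y} : Set G) := by
      refine ⟨hKH hk, ?_⟩
      show k ∈ centralizer ({y} : Set G)
      rw [mem_centralizer_iff]
      intro z hz
      rw [Set.mem_singleton_iff] at hz
      rw [hz]
      exact (mem_centralizer_iff.mp hy.2 k hk).symm
    have hok : orderOf k = Nat.card K := by
      have h1 : orderOf k ∣ Nat.card K := by
        have := orderOf_dvd_natCard (⟨k, hk⟩ : K)
        rwa [Subgroup.orderOf_mk] at this
      rcases (Nat.dvd_prime hp0).mp h1 with h2 | h2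
      · exact absurd (orderOf_eq_one_iff.mp h2) hk1
      · exact h2
    have hσk : ∀ p : ℕ, p.Prime → p ∣ orderOf k → p ∉ sigma H := by
      intro p hp hpk
      rw [hok] at hpk
      rw [(Nat.prime_dvd_prime_iff_eq hp hp0).mp hpk]
      exact hp0H
    rcases Cfsg.Agent.S1432.result hG H hH y hy.1 hy1 k hky hk1 hσk with ⟨h1, -⟩ | ⟨-, -, -, h3⟩
    · have := h1 (Nat.card K) hp0 (by rw [hok])
      rw [hκH] at this
      exact this
    · have hzk : centralizer ({k} : Set G) ≤ Mstar := by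
        intro c hc
        apply hCK
        rw [mem_centralizer_iff]
        intro z hz
        -- `K = zpowers k`
        have hzp : z ∈ Subgroup.zpowers k := by
          have h4 : Nat.card (Subgroup.zpowers k) = Nat.card K := by
            rw [Nat.card_zpowers, hok]
          have h5 : Subgroup.zpowers k ≤ K := Subgroup.zpowers_le.mpr hk
          have h6 : Subgroup.zpowers k = K :=
            Subgroup.eq_of_le_of_card_ge h5 (le_of_eq h4.symm)
          rw [h6]; exact hz
        obtain ⟨n, rfl⟩ := Subgroup.mem_zpowers_iff.mp hzp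
        have hck : k * c = c * k :=
          mem_centralizer_iff.mp hc k (Set.mem_singleton k)
        exact ((Commute.zpow_left (show Commute k c from hck) n).eq)
      have := h3 Mstar hMstar hzk
      apply hncMs 1
      rw [← this]
      exact (cj_eq_self_of_mem (one_mem Mstar)).symm
  -- `H_σ` is nilpotent
  have hp0dvd : Nat.card K ∣ Nat.card H := Subgroup.card_dvd_of_le hKH
  have hnilH : Group.IsNilpotent (sigmaCore H) := by
    have hP1 : ¬ (∀ q : ℕ, q.Prime → q ∣ Nat.card H → q ∉ sigma H → q ∈ kappa H) := by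
      intro h
      have := h _ hp0 hp0dvd hp0H
      rw [hκH] at this
      exact this
    have hp : Nat.card K ∉ sigma H ∪ kappa H := by
      rw [hκH, Set.union_empty]
      exact hp0H
    obtain ⟨S⟩ : Nonempty (Sylow (Nat.card K) H) := Sylow.nonempty
    exact (Cfsg.Agent.S1429.result hG H hH hP1 (Nat.card K) hp0dvd hp S).2.2
  exact
    { cardK := hp0
      nilM := hnilM
      abU := hUab
      centU := hP2.cent_U
      regU := hP2.hreg
      U_le := hUH
      K_le := hKH
      ne_M := hneM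
      not_conj_M := hncM
      not_conj_Ms := hncMs
      kappaH := hκH
      cardK_notin := hp0H
      disj_M := hdM
      disj_Ms := hdMs
      K_le_Ms := hKMs
      cardK_mem := hp0σ
      centK_le := hCK
      centK_uniq := hCKu
      inf_Ms := h68
      centK := hcentK
      nilH := hnilH
      neH := Cfsg.Agent.Lib.Helper19.BG124.sigmaCore_ne_bot hG hH }

end Cfsg.Agent.Lib.Helper90.BG1435
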