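import Cfsg.Agent.Lib.Helper90.G2iRS

/-! # G2i mini-hive (S2177, helper2), leaf G2I-RL `long_root_conj` (helper90) -/

set_option autoImplicit false

namespace Cfsg.Agent.Lib.Helper2.G2i

open Cfsg Cfsg.Lie Cfsg.Agent.Lib.Helper36 Cfsg.Agent.Lib.Helper20.G2c

variable (F : Type*) [Field F]

/-- G2I-RL -/
theorem long_root_conj (r : ℕ) (hr : r = 6 ∨ r = 10 ∨ r = 11) (k : F) (hk : k ≠ 0) :
    ∃ h ∈ chevG2.group F, h * xg F r k * h⁻¹ = xg F 11 1 := by
  have h11 : ∀ k : F, k ≠ 0 → ∃ h ∈ chevG2.group F, h * xg F 11 k * h⁻¹ = xg F 11 1 := fun k hk =>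
    rs_torus F 6 11 (by decide) (by decide) (by decide) k hk
  have h10 : ∀ k : F, k ≠ 0 → ∃ h ∈ chevG2.group F, h * xg F 10 k * h⁻¹ = xg F 11 1 := by
    intro k hk
    obtain ⟨h, hh, k', hk', e⟩ := rs_refl F 1 10 (by decide) (by decide) k hk
    rw [show chevG2.reflectRoot 1 10 = 11 from by decide] at e
    exact rs_trans F ⟨h, hh, e⟩ (h11 k' hk')
  have h6 : ∀ k : F, k ≠ 0 → ∃ h ∈ chevG2.group F, h * xg F 6 k * h⁻¹ = xg F 11 1 := by
    intro k hk
    obtain ⟨h, hh, k', hk', e⟩ := rs_refl F 0 6 (by decide) (by decide) k hk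
    rw [show chevG2.reflectRoot 0 6 = 10 from by decide] at e
    exact rs_trans F ⟨h, hh, e⟩ (h10 k' hk')
  rcases hr with rfl | rfl | rfl
  · exact h6 k hk
  · exact h10 k hk
  · exact h11 k hk

end Cfsg.Agent.Lib.Helper2.G2i
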