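import Cfsg.Agent.Lib.Helper2.G2iRel
import Cfsg.Agent.Lib.Helper36.ChevHU

/-! # G2i mini-hive (S2177, helper2), leaves G2I-RS `short_root_conj` and (shared lemmas for) G2I-RL (helper90):
root elements of `G₂(F)` are conjugate to `x_9(1)` (short) resp. `x_11(1)` (long) by `N`- and `H`-elements. -/

set_option autoImplicit false

namespace Cfsg.Agent.Lib.Helper2.G2i

open Cfsg Cfsg.Lie Cfsg.Agent.Lib.Helper36 Cfsg.Agent.Lib.Helper20.G2c

variable (F : Type*) [Field F]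

theorem rs_hGL_mem (r : ℕ) (t : F) : hGL chevG2 hG2 F r t ∈ chevG2.group F := by
  unfold hGL
  apply wordGL_mem
  intro p _
  exact xGL_mem_group chevG2 hG2 F p.1 p.2

theorem rs_nGL_mem (r : ℕ) (t : F) : nGL chevG2 hG2 F r t ∈ chevG2.group F := by
  unfold nGL
  apply wordGL_mem
  intro p _
  exact xGL_mem_group chevG2 hG2 F p.1 p.2

/-- a fundamental reflection moves `x_r(k)` to `x_{w_i r}(± k)` -/
theorem rs_refl (i r : ℕ) (hi : i < chevG2.rank) (hr : r < chevG2.nroots) (k : F) (hk : k ≠ 0) :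
    ∃ h ∈ chevG2.group F, ∃ k' : F, k' ≠ 0 ∧ h * xg F r k * h⁻¹ = xg F (chevG2.reflectRoot i r) k' := by
  obtain ⟨-, -, -, -, hs'⟩ := chkN2_spec chevG2 (chkN2_all chevG2 hG2) i hi
  obtain ⟨-, -, h3, -, -, -, -⟩ := hs' r hr
  have hsq : ((nEta chevG2 i r : ℤ) : F) * ((nEta chevG2 i r : ℤ) : F) = 1 := by
    rcases h3 with h | h <;> rw [h] <;> simp
  have hne : ((nEta chevG2 i r : ℤ) : F) ≠ 0 := by
    intro h0
    rw [h0, mul_zero] at hsq
    exact zero_ne_one hsq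
  refine ⟨nGL chevG2 hG2 F (chevG2.simple i) 1, rs_nGL_mem F _ _, ((nEta chevG2 i r : ℤ) : F) * k,
    mul_ne_zero hne hk, ?_⟩
  have h1 := xGL_reflect chevG2 hG2 F i r hi hr (((nEta chevG2 i r : ℤ) : F) * k)
  rw [← mul_assoc, hsq, one_mul] at h1
  exact h1.symm

/-- a torus element with `⟨s, dᵛ⟩ = 1` normalises the parameter of `x_s` to `1` -/
theorem rs_torus (d s : ℕ) (hd : d < chevG2.nroots) (hs : s < chevG2.nroots) (hgc : gc chevG2 d s = 1)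
    (k : F) (hk : k ≠ 0) : ∃ h ∈ chevG2.group F, h * xg F s k * h⁻¹ = xg F s 1 := by
  refine ⟨hGL chevG2 hG2 F d k⁻¹, rs_hGL_mem F _ _, ?_⟩
  have h1 := hGL_conj_xGL chevG2 hG2 F d s hd hs k⁻¹ (inv_ne_zero hk) k
  rw [hgc, zpow_one, inv_mul_cancel₀ hk] at h1
  exact h1

/-- composing two conjugations -/
theorem rs_trans {x y z : GL chevG2.Idx F} (h1 : ∃ h ∈ chevG2.group F, h * x * h⁻¹ = y)
    (h2 : ∃ h ∈ chevG2.group F, h * y * h⁻¹ = z) : ∃ h ∈ chevG2.group F, h * x * h⁻¹ = z := by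
  obtain ⟨a, ha, rfl⟩ := h1
  obtain ⟨b, hb, rfl⟩ := h2
  exact ⟨b * a, mul_mem hb ha, by group⟩

/-- G2I-RS -/
theorem short_root_conj (r : ℕ) (hr : r = 7 ∨ r = 8 ∨ r = 9) (k : F) (hk : k ≠ 0) :
    ∃ h ∈ chevG2.group F, h * xg F r k * h⁻¹ = xg F 9 1 := by
  have h9 : ∀ k : F, k ≠ 0 → ∃ h ∈ chevG2.group F, h * xg F 9 k * h⁻¹ = xg F 9 1 := fun k hk =>
    rs_torus F 7 9 (by decide) (by decide) (by decide) k hk
  have h8 : ∀ k : F, k ≠ 0 → ∃ h ∈ chevG2.group F, h * xg F 8 k * h⁻¹ = xg F 9 1 := by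
    intro k hk
    obtain ⟨h, hh, k', hk', e⟩ := rs_refl F 0 8 (by decide) (by decide) k hk
    rw [show chevG2.reflectRoot 0 8 = 9 from by decide] at e
    exact rs_trans F ⟨h, hh, e⟩ (h9 k' hk')
  have h7 : ∀ k : F, k ≠ 0 → ∃ h ∈ chevG2.group F, h * xg F 7 k * h⁻¹ = xg F 9 1 := by
    intro k hk
    obtain ⟨h, hh, k', hk', e⟩ := rs_refl F 1 7 (by decide) (by decide) k hk
    rw [show chevG2.reflectRoot 1 7 = 8 from by decide] at e
    exact rs_trans F ⟨h, hh, e⟩ (h8 k' hk')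
  rcases hr with rfl | rfl | rfl
  · exact h7 k hk
  · exact h8 k hk
  · exact h9 k hk

end Cfsg.Agent.Lib.Helper2.G2i
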