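import Cfsg.Agent.Lib.Helper2.G2oDefs

/-! # G2o hive (S4278, architect helper2), leaf G2O-H2: the three involutions of `H` are fused in `G₂(F)`.

An element of `H` is `charDiag χ` for a root character `χ`, determined by `(χ 7, χ 6)`. For an involution both are
`±1`: `(1,-1) = h_7(-1)`, `(-1,-1) = h_8(-1) = n_b h_7(-1) n_b⁻¹`, `(-1,1) = h_9(-1) = n_a h_8(-1) n_a⁻¹`. -/

set_option autoImplicit false

namespace Cfsg.Agent.Lib.Helper2.G2o

open Cfsg Cfsg.Lie Cfsg.Agent.Lib.Helper36 Cfsg.Agent.Lib.Helper20.G2c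

variable (F : Type*) [Field F]

variable {F} in
/-- a root character of `G₂` is determined by its values at the two fundamental roots -/
theorem g2oh2_char_det (χ χ' : ℕ → Fˣ) (hχ : chevG2.IsRootCharacter χ) (hχ' : chevG2.IsRootCharacter χ')
    (h6 : χ 6 = χ' 6) (h7 : χ 7 = χ' 7) : ∀ r, r < 12 → χ r = χ' r := by
  have e8 : ∀ ψ : ℕ → Fˣ, chevG2.IsRootCharacter ψ → ψ 8 = ψ 7 * ψ 6 :=
    fun ψ h => h.2 7 6 8 (by decide) (by decide) (by decide)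
  have e9 : ∀ ψ : ℕ → Fˣ, chevG2.IsRootCharacter ψ → ψ 9 = ψ 7 * ψ 8 :=
    fun ψ h => h.2 7 8 9 (by decide) (by decide) (by decide)
  have e10 : ∀ ψ : ℕ → Fˣ, chevG2.IsRootCharacter ψ → ψ 10 = ψ 7 * ψ 9 :=
    fun ψ h => h.2 7 9 10 (by decide) (by decide) (by decide)
  have e11 : ∀ ψ : ℕ → Fˣ, chevG2.IsRootCharacter ψ → ψ 11 = ψ 6 * ψ 10 :=
    fun ψ h => h.2 6 10 11 (by decide) (by decide) (by decide)
  have n5 : ∀ ψ : ℕ → Fˣ, chevG2.IsRootCharacter ψ → ψ 5 = (ψ 6)⁻¹ :=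
    fun ψ h => h.1 6 (by decide)
  have n4 : ∀ ψ : ℕ → Fˣ, chevG2.IsRootCharacter ψ → ψ 4 = (ψ 7)⁻¹ :=
    fun ψ h => h.1 7 (by decide)
  have n3 : ∀ ψ : ℕ → Fˣ, chevG2.IsRootCharacter ψ → ψ 3 = (ψ 8)⁻¹ :=
    fun ψ h => h.1 8 (by decide)
  have n2 : ∀ ψ : ℕ → Fˣ, chevG2.IsRootCharacter ψ → ψ 2 = (ψ 9)⁻¹ :=
    fun ψ h => h.1 9 (by decide)
  have n1 : ∀ ψ : ℕ → Fˣ, chevG2.IsRootCharacter ψ → ψ 1 = (ψ 10)⁻¹ :=
    fun ψ h => h.1 10 (by decide)
  have n0 : ∀ ψ : ℕ → Fˣ, chevG2.IsRootCharacter ψ → ψ 0 = (ψ 11)⁻¹ :=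
    fun ψ h => h.1 11 (by decide)
  have h8 : χ 8 = χ' 8 := by rw [e8 χ hχ, e8 χ' hχ', h6, h7]
  have h9 : χ 9 = χ' 9 := by rw [e9 χ hχ, e9 χ' hχ', h8, h7]
  have h10 : χ 10 = χ' 10 := by rw [e10 χ hχ, e10 χ' hχ', h9, h7]
  have h11 : χ 11 = χ' 11 := by rw [e11 χ hχ, e11 χ' hχ', h10, h6]
  intro r hr
  interval_cases r
  · rw [n0 χ hχ, n0 χ' hχ', h11]
  · rw [n1 χ hχ, n1 χ' hχ', h10]
  · rw [n2 χ hχ, n2 χ' hχ', h9]
  · rw [n3 χ hχ, n3 χ' hχ', h8]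
  · rw [n4 χ hχ, n4 χ' hχ', h7]
  · rw [n5 χ hχ, n5 χ' hχ', h6]
  · exact h6
  · exact h7
  · exact h8
  · exact h9
  · exact h10
  · exact h11

variable {F} in
/-- two elements with the same character on the roots are equal -/
theorem g2oh2_eq_of_char (h h' : GL chevG2.Idx F) (χ χ' : ℕ → Fˣ)
    (hm : (h : Matrix chevG2.Idx chevG2.Idx F) = chevG2.charDiag F χ)
    (hm' : (h' : Matrix chevG2.Idx chevG2.Idx F) = chevG2.charDiag F χ')
    (hag : ∀ r, r < 12 → χ r = χ' r) : h = h' := by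
  apply Units.ext
  rw [hm, hm']
  unfold ChevalleyDatum.charDiag
  congr 1
  funext x
  rcases x with j | s
  · rfl
  · have hs : s.val < 12 := s.isLt
    simp only [Sum.elim_inr]
    rw [hag s.val hs]

/-- the character of `h_r(c)` -/
theorem g2oh2_hGL_char (r s : ℕ) (hr : r < chevG2.nroots) (hs : s < chevG2.nroots) (c : F) (hc : c ≠ 0)
    (χ : ℕ → Fˣ) (hχ : chevG2.IsRootCharacter χ)
    (hm : (hGL chevG2 hG2 F r c : Matrix chevG2.Idx chevG2.Idx F) = chevG2.charDiag F χ) :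
    (χ s : F) = c ^ gc chevG2 r s := by
  have h1 := diag_conj_xGL chevG2 hG2 F (hGL chevG2 hG2 F r c) χ hχ hm s hs 1
  rw [hGL_conj_xGL chevG2 hG2 F r s hr hs c hc 1] at h1
  have h2 := xGL_injective' chevG2 hG2 F s hs _ _ h1
  rw [mul_one, mul_one] at h2
  exact h2.symm

/-- identify an element of `H` with `h_r(-1)` from the two fundamental values of its character -/
theorem g2oh2_eq_hGL (h : GL chevG2.Idx F) (χ : ℕ → Fˣ) (hχ : chevG2.IsRootCharacter χ)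
    (hm : (h : Matrix chevG2.Idx chevG2.Idx F) = chevG2.charDiag F χ) (r : ℕ) (hr : r < chevG2.nroots)
    (h7 : (χ 7 : F) = (-1 : F) ^ gc chevG2 r 7) (h6 : (χ 6 : F) = (-1 : F) ^ gc chevG2 r 6) :
    h = hGL chevG2 hG2 F r (-1) := by
  have hne : (-1 : F) ≠ 0 := neg_ne_zero.mpr one_ne_zero
  obtain ⟨χ', hχ', hm'⟩ := exists_character_of_mem_diagonal chevG2 hG2 F _
    (hGL_mem_diag chevG2 hG2 F r hr (-1) hne)
  refine g2oh2_eq_of_char h _ χ χ' hm hm' (g2oh2_char_det χ χ' hχ hχ' ?_ ?_)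
  · apply Units.ext
    rw [h6, g2oh2_hGL_char F r 6 hr (by decide) (-1) hne χ' hχ' hm']
  · apply Units.ext
    rw [h7, g2oh2_hGL_char F r 7 hr (by decide) (-1) hne χ' hχ' hm']

/-- G2O-H2 -/
theorem h2conj (h2F : (2 : F) ≠ 0) (h : GL chevG2.Idx F) (hh : h ∈ chevG2.diagonalSubgroup F) (h2 : h * h = 1)
    (h1 : h ≠ 1) : ∃ g ∈ chevG2.group F, g * h * g⁻¹ = hGL chevG2 hG2 F 7 (-1) := by
  have hne : (-1 : F) ≠ 0 := neg_ne_zero.mpr one_ne_zero
  obtain ⟨χ, hχ, hm⟩ := exists_character_of_mem_diagonal chevG2 hG2 F h hh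
  -- `χ r ^ 2 = 1`
  have hsq : ∀ r, r < chevG2.nroots → (χ r : F) = 1 ∨ (χ r : F) = -1 := by
    intro r hr
    have e1 := diag_conj_xGL chevG2 hG2 F h χ hχ hm r hr 1
    have e2 := diag_conj_xGL chevG2 hG2 F h χ hχ hm r hr ((χ r : F) * 1)
    rw [← e1] at e2
    have e3 : h * (h * xGL chevG2 hG2 F r 1 * h⁻¹) * h⁻¹ = xGL chevG2 hG2 F r 1 := by
      have : h * (h * xGL chevG2 hG2 F r 1 * h⁻¹) * h⁻¹ =
          (h * h) * xGL chevG2 hG2 F r 1 * (h * h)⁻¹ := by group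
      rw [this, h2, one_mul, inv_one, mul_one]
    rw [e3] at e2
    have e4 := xGL_injective' chevG2 hG2 F r hr _ _ e2
    rw [mul_one] at e4
    exact mul_self_eq_one_iff.mp e4.symm
  have hn6 : chevG2.simple 1 < chevG2.nroots := by decide
  have hn7 : chevG2.simple 0 < chevG2.nroots := by decide
  have hnb : nGL chevG2 hG2 F (chevG2.simple 1) 1 ∈ chevG2.group F :=
    monomial_le_group chevG2 hG2 F (nGL_mem_mono chevG2 hG2 F _ hn6)
  have hna : nGL chevG2 hG2 F (chevG2.simple 0) 1 ∈ chevG2.group F :=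
    monomial_le_group chevG2 hG2 F (nGL_mem_mono chevG2 hG2 F _ hn7)
  -- `h_8(-1) = n_b h_7(-1) n_b⁻¹`, `h_9(-1) = n_a h_8(-1) n_a⁻¹`
  have r8 : hGL chevG2 hG2 F 8 (-1) = nGL chevG2 hG2 F (chevG2.simple 1) 1 * hGL chevG2 hG2 F 7 (-1) *
      (nGL chevG2 hG2 F (chevG2.simple 1) 1)⁻¹ :=
    hGL_reflect chevG2 hG2 F 1 7 (by decide) (by decide) (-1) hne
  have r9 : hGL chevG2 hG2 F 9 (-1) = nGL chevG2 hG2 F (chevG2.simple 0) 1 * hGL chevG2 hG2 F 8 (-1) *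
      (nGL chevG2 hG2 F (chevG2.simple 0) 1)⁻¹ :=
    hGL_reflect chevG2 hG2 F 0 8 (by decide) (by decide) (-1) hne
  have g77 : gc chevG2 7 7 = 2 := by decide
  have g76 : gc chevG2 7 6 = -3 := by decide
  have g87 : gc chevG2 8 7 = -1 := by decide
  have g86 : gc chevG2 8 6 = 3 := by decide
  have g97 : gc chevG2 9 7 = 1 := by decide
  have g96 : gc chevG2 9 6 = 0 := by decide
  rcases hsq 7 (by decide) with h7 | h7 <;> rcases hsq 6 (by decide) with h6 | h6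
  · -- `χ = 1`: `h = 1`
    exfalso
    apply h1
    have e : (1 : GL chevG2.Idx F) = hGL chevG2 hG2 F 7 1 := by
      apply Units.ext
      rw [hGL_coe, Units.val_one]
      exact ((hMat_all chevG2 hG2 7 (by decide) (1 : F) one_ne_zero).1.trans (by
        unfold hDiag
        rw [← Matrix.diagonal_one]
        congr 1
        funext x
        rcases x with j | s <;> simp)).symm
    obtain ⟨χ', hχ', hm'⟩ := exists_character_of_mem_diagonal chevG2 hG2 F _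
      (hGL_mem_diag chevG2 hG2 F 7 (by decide) (1 : F) one_ne_zero)
    rw [e]
    refine g2oh2_eq_of_char h _ χ χ' hm hm' (g2oh2_char_det χ χ' hχ hχ' ?_ ?_)
    · apply Units.ext
      rw [h6, g2oh2_hGL_char F 7 6 (by decide) (by decide) 1 one_ne_zero χ' hχ' hm', one_zpow]
    · apply Units.ext
      rw [h7, g2oh2_hGL_char F 7 7 (by decide) (by decide) 1 one_ne_zero χ' hχ' hm', one_zpow]
  · -- `(1, -1)`: `h = h_7(-1)`
    refine ⟨1, one_mem _, ?_⟩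
    rw [one_mul, inv_one, mul_one]
    refine g2oh2_eq_hGL F h χ hχ hm 7 (by decide) ?_ ?_
    · rw [h7, g77, Even.neg_one_zpow (by decide)]
    · rw [h6, g76, Odd.neg_one_zpow (by decide)]
  · -- `(-1, 1)`: `h = h_9(-1)`
    have e : h = hGL chevG2 hG2 F 9 (-1) := by
      refine g2oh2_eq_hGL F h χ hχ hm 9 (by decide) ?_ ?_
      · rw [h7, g97, Odd.neg_one_zpow (by decide)]
      · rw [h6, g96, Even.neg_one_zpow (by decide)]
    refine ⟨(nGL chevG2 hG2 F (chevG2.simple 0) 1 * nGL chevG2 hG2 F (chevG2.simple 1) 1)⁻¹,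
      inv_mem (mul_mem hna hnb), ?_⟩
    rw [e, r9, r8]
    group
  · -- `(-1, -1)`: `h = h_8(-1)`
    have e : h = hGL chevG2 hG2 F 8 (-1) := by
      refine g2oh2_eq_hGL F h χ hχ hm 8 (by decide) ?_ ?_
      · rw [h7, g87, Odd.neg_one_zpow (by decide)]
      · rw [h6, g86, Odd.neg_one_zpow (by decide)]
    refine ⟨(nGL chevG2 hG2 F (chevG2.simple 1) 1)⁻¹, inv_mem hnb, ?_⟩
    rw [e, r8]
    group

end Cfsg.Agent.Lib.Helper2.G2o
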