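import Mathlib
import Cfsg.Agent.S1861
import Cfsg.Agent.Lib.Helper22.KbDefs
import Cfsg.Agent.Lib.Helper22.KbDefs2

/-!
# Kb hive (S1299, owner helper22). LEAF KB-SYS, the core: the hypotheses `KbSys` of the abstract covering
theorem for `W = θ(a)`, `ℱ =` hyperplanes of `A` through `a`, `Y = Δ`, from the other leaves (as hypotheses).
-/

set_option autoImplicit false

namespace Cfsg.Agent.Lib.Helper22.Kb

open Subgroup Cfsg
open scoped commutatorElement

variable {G : Type*} [Group G]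

variable {p k : ℕ} {A : Subgroup G}

/-- a hyperplane has order at least `p ^ (k + 1)` -/
theorem kbsys_hyp_card [Fact p.Prime] (hAk : p ^ (k + 2) ≤ Nat.card ↥A) {a : G} {F : Subgroup G}
    (hF : F ∈ kbHyp p A a) : p ^ (k + 1) ≤ Nat.card F := by
  have hp : p.Prime := Fact.out
  obtain ⟨-, -, hc⟩ := hF
  have h1 : p * p ^ (k + 1) ≤ p * Nat.card F := by
    rw [hc, ← pow_succ']
    exact hAk
  exact Nat.le_of_mul_le_mul_left h1 hp.pos

/-- the core of KB-SYS, all the other leaves as hypotheses -/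
theorem kbsys_core [Finite G] [Fact p.Prime]
    (hA : Cfsg.IsElementaryAbelian p A) (hAk : p ^ (k + 2) ≤ Nat.card ↥A) {a : G} (haA : a ∈ A)
    (ha1 : a ≠ 1)
    (D1a : ∀ {E E' : Subgroup G}, E ≤ E' → signalizerDelta p E' ≤ signalizerDelta p E)
    (D1b : ∀ E : Subgroup G, signalizerDelta p E ≤ centralizer (E : Set G))
    (D1c : ∀ {E : Subgroup G}, E ≤ A → A ≤ normalizer (signalizerDelta p E : Set G))
    (D1d : ∀ {E : Subgroup G}, E ≠ ⊥ → ¬ p ∣ Nat.card (signalizerDelta p E))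
    (D2 : ∀ {E E' : Subgroup G}, E ≤ A → p ^ k ≤ Nat.card E → E' ≤ A →
      signalizerDelta p E ⊓ centralizer (E' : Set G) ≤ signalizerDelta p E')
    (GEN : ∀ {X D : Subgroup G}, A ≤ normalizer (X : Set G) → ¬ p ∣ Nat.card X → D ≤ A → D ≠ A →
      X ≤ centralizer (D : Set G) →
      X ≤ ⨆ F ∈ {F : Subgroup G | D ≤ F ∧ F ≤ A ∧ p * Nat.card F = Nat.card A},
        X ⊓ centralizer (F : Set G))
    (INF : ∀ {F F' : Subgroup G}, F ∈ kbHyp p A a → F' ∈ kbHyp p A a →
      Nat.card A ≤ p * p * Nat.card (F ⊓ F' : Subgroup G))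
    (DL : ∀ {F : Subgroup G}, F ∈ kbHyp p A a → signalizerDelta p F ≤ kbTheta p k A a)
    (TC : kbTheta p k A a ≤ Cfsg.centralizerPPrimeCore p a) :
    KbSys p A (kbTheta p k A a) (kbHyp p A a) (signalizerDelta p) := by
  classical
  have hp : p.Prime := Fact.out
  refine ⟨?_, ?_, ?_, ?_, ?_, ?_, ?_, ?_⟩
  · -- hAp
    intro g
    refine ⟨1, ?_⟩
    rw [pow_one]
    exact Subtype.ext (hA.2 g.1 g.2)
  · -- hFA
    intro F hF
    exact hF.1
  · -- hW
    intro hdvd
    have h1 : Nat.card (kbTheta p k A a) ∣ Nat.card (Cfsg.centralizerPPrimeCore p a) :=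
      Subgroup.card_dvd_of_le TC
    exact Cfsg.Agent.S1861.cppc_card a (hdvd.trans h1)
  · -- hYW
    intro F hF
    exact DL hF
  · -- hYC
    intro F _
    exact D1b F
  · -- hYA
    intro F hF
    exact D1c hF.1
  · -- hcross
    intro F hF F' hF'
    have h1 : p ^ k ≤ Nat.card F' :=
      le_trans (Nat.pow_le_pow_right hp.pos (Nat.le_succ k)) (kbsys_hyp_card hAk hF')
    exact D2 hF'.1 h1 hF.1
  · -- hpair
    intro F hF F' hF'
    have hDA : F ⊓ F' ≤ A := inf_le_left.trans hF.1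
    have haD : a ∈ F ⊓ F' := ⟨hF.2.1, hF'.2.1⟩
    have hDbot : F ⊓ F' ≠ ⊥ := by
      intro h
      rw [h, mem_bot] at haD
      exact ha1 haD
    have hDne : F ⊓ F' ≠ A := by
      intro h
      have h1 : Nat.card A ≤ Nat.card F := by
        rw [← h]
        exact Subgroup.card_le_of_le inf_le_left
      have h2 : 0 < Nat.card F := Nat.card_pos
      have h3 : 2 ≤ p := hp.two_le
      have h4 := hF.2.2
      nlinarith
    have hDk : p ^ k ≤ Nat.card (F ⊓ F' : Subgroup G) := by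
      have h1 := INF hF hF'
      have h2 : p * p * p ^ k ≤ p * p * Nat.card (F ⊓ F' : Subgroup G) := by
        refine le_trans ?_ h1
        refine le_trans (le_of_eq ?_) hAk
        ring
      exact Nat.le_of_mul_le_mul_left h2 (Nat.mul_pos hp.pos hp.pos)
    refine ⟨signalizerDelta p (F ⊓ F'), D1a inf_le_left, D1a inf_le_right, D1c hDA, ?_⟩
    intro X hXZ hAX
    have hXp : ¬ p ∣ Nat.card X := by
      intro hdvd
      exact D1d hDbot (hdvd.trans (Subgroup.card_dvd_of_le hXZ))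
    have hDX : X ≤ centralizer ((F ⊓ F' : Subgroup G) : Set G) := hXZ.trans (D1b _)
    refine (GEN hAX hXp hDA hDne hDX).trans (iSup₂_le fun F'' hF'' => ?_)
    obtain ⟨hDF'', hF''A, hF''c⟩ := hF''
    have hmem : F'' ∈ kbHyp p A a := ⟨hF''A, hDF'' haD, hF''c⟩
    have h1 : X ⊓ centralizer (F'' : Set G) ≤ X ⊓ signalizerDelta p F'' := by
      refine le_inf inf_le_left ?_
      exact (inf_le_inf_right _ hXZ).trans (D2 hDA hDk hF''A)
    refine h1.trans ?_
    unfold kbCov
    exact le_iSup₂_of_le F'' hmem le_rfl
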