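import Mathlib
import Cfsg.Agent.S1861
import Cfsg.Agent.Lib.Helper31.GenRank
import Cfsg.Agent.Lib.Helper22.KbDefs
import Cfsg.Agent.Lib.Helper22.KbDefs2
import Cfsg.Agent.Lib.Helper90.KbSYSCore
import Cfsg.Agent.Lib.Helper95.KbD1
import Cfsg.Agent.Lib.Helper95.KbTC
import Cfsg.Agent.Lib.Helper86.KbD2
import Cfsg.Agent.Lib.Helper86.KbDL
import Cfsg.Agent.Lib.Helper80.KbGEN
import Cfsg.Agent.Lib.Helper43.KbINF

/-!
# Kb hive (S1299, owner helper22). LEAF KB-SYS `kb_sys`: the hypotheses `KbSys` of the abstract covering theorem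
`kb_core`, for `W = θ(a)`, `ℱ =` the hyperplanes of `A` through `a`, `Y = Δ`. All the work is in
`kbsys_core` (`Cfsg.Agent.Lib.Helper90.KbSYSCore`), this file plugs in the other leaves.
-/

set_option autoImplicit false

namespace Cfsg.Agent.Lib.Helper22.Kb

open Subgroup Cfsg
open scoped commutatorElement

variable {G : Type*} [Group G]

variable {p k : ℕ} {A : Subgroup G}

/-- LEAF KB-SYS (the hypotheses of `kb_core`). [fields as in the skeleton notes: `hpair` with
`Z = Δ(F ⊓ F')`, KB-INF, KB-GEN with `D = F ⊓ F'`, KB-D2] -/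
theorem kb_sys [Finite G] [Fact p.Prime] (hk : 1 ≤ k) (hbal : Cfsg.IsKBalanced p k G)
    (hA : Cfsg.IsElementaryAbelian p A) (hAk : p ^ (k + 2) ≤ Nat.card ↥A) {a : G} (haA : a ∈ A)
    (ha1 : a ≠ 1) : KbSys p A (kbTheta p k A a) (kbHyp p A a) (signalizerDelta p) :=
  kbsys_core hA hAk haA ha1 (fun h => kb_delta_anti h) (fun E => kb_delta_le_centralizer E)
    (fun hE => kb_delta_normalizer (Cfsg.Agent.S1861.comm_of_elemAb hA) hE)
    (fun hE => kb_delta_card hE)
    (fun hE hEk hE' => kb_delta_inf_centralizer hbal hA hE hEk hE')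
    (fun hAX hX hDA hDne hDX => kb_gen_over hA hAX hX hDA hDne hDX)
    (fun hF hF' => kb_card_inf hF hF')
    (fun hF => kb_delta_le_theta hA hAk hF)
    (kb_theta_le_core hk hbal hA haA ha1)

end Cfsg.Agent.Lib.Helper22.Kb
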