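import Cfsg.Agent.Lib.Helper90.U3CjAux90

/-! # U3-CONJ sub-hive (helper60), leaf CJ-INV1 `inv_u1` (helper90): the invariants of `u1` at `x = t • f`. -/

set_option autoImplicit false

namespace Cfsg.Agent.Lib.Helper23.U3

open Matrix Cfsg.Agent.Lib.Helper99 Cfsg.Agent.Lib.Helper13 Cfsg.Agent.Lib.Helper90.Psu

variable {F : Type*} [Field F] [Fintype F] {q : ℕ}

local notation "hh" => Cfsg.hermForm 3 F q

/-- CJ-INV1 (M): the invariants of `u1` at `x = t • f`.  (CJ-U1V, CJ-HVEC, CJ-DET3; `t ^ q = t`, `N(a) c = s³`.) -/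
theorem inv_u1 (hF : Fintype.card F = q ^ 2) (C : Cfg q F) :
    nilp C.u1 *ᵥ (nilp C.u1 *ᵥ (nilp C.u1 *ᵥ (C.t • C.f))) = 0 ∧
      hh (tri C.u1 (C.t • C.f) 1) (tri C.u1 (C.t • C.f) 1) = C.c * C.s ∧
      (tri C.u1 (C.t • C.f)).det = - (C.a * C.c ^ 2) * C.frame.det := by
  have hs := cj90_s_ne C
  have hc0 := C.hc0
  have hN : C.a ^ (q + 1) = C.s ^ 3 / C.c := by
    rw [eq_div_iff hc0]
    exact C.ha
  have hN' : C.a ^ q * C.a = C.s ^ 3 / C.c := by rw [← hN, pow_succ]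
  have h1 : nilp C.u1 *ᵥ (C.t • C.f) = C.vec (C.β * C.t) (C.a * C.t) 0 := by
    rw [cj90_vec_smul_f, cj90_nilp_u1_vec hF]
    congr 1
    ring
  have h2 : nilp C.u1 *ᵥ (nilp C.u1 *ᵥ (C.t • C.f)) = C.vec (- C.a ^ q * (C.a * C.t)) 0 0 := by
    rw [h1, cj90_nilp_u1_vec hF]
    congr 1 <;> ring
  have h3 : nilp C.u1 *ᵥ (nilp C.u1 *ᵥ (nilp C.u1 *ᵥ (C.t • C.f))) = 0 := by
    rw [h2, cj90_nilp_u1_vec hF, ← cj90_vec_zero C]
    congr 1 <;> ring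
  refine ⟨h3, ?_, ?_⟩
  · have e1 : tri C.u1 (C.t • C.f) 1 = nilp C.u1 *ᵥ (C.t • C.f) := rfl
    rw [e1, h1, cj90_hh_vec hF, mul_pow, cj90_t_frob hF C]
    have e2 : C.β * C.t * 0 ^ q + C.a * C.t * (C.a ^ q * C.t) + 0 * (C.β * C.t) ^ q =
        (C.a ^ q * C.a) * C.t ^ 2 := by
      have hq : q ≠ 0 := by have := Helper99.q_ge_two hF; omega
      rw [zero_pow hq]
      ring
    rw [e2, hN']
    unfold Cfg.t
    field_simp
  · have e1 : tri C.u1 (C.t • C.f) =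
        Matrix.of ![C.vec 0 0 C.t, C.vec (C.β * C.t) (C.a * C.t) 0, C.vec (- C.a ^ q * (C.a * C.t)) 0 0] := by
      unfold tri
      rw [h2, h1, cj90_vec_smul_f]
    rw [e1, cj90_det_vec, Matrix.det_fin_three]
    simp only [Matrix.of_apply, Matrix.cons_val_zero, Matrix.cons_val_one, Matrix.cons_val_two,
      Matrix.head_cons, Matrix.tail_cons]
    have e3 : (0 * (C.a * C.t) * 0 - 0 * 0 * 0 - 0 * (C.β * C.t) * 0 + 0 * 0 * (-C.a ^ q * (C.a * C.t)) +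
        C.t * (C.β * C.t) * 0 - C.t * (C.a * C.t) * (-C.a ^ q * (C.a * C.t))) =
        (C.a ^ q * C.a) * C.a * C.t ^ 3 := by ring
    rw [e3, hN']
    unfold Cfg.t
    field_simp

end Cfsg.Agent.Lib.Helper23.U3
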