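import Cfsg.Agent.Lib.Helper90.U3CjAux90

/-! # U3-CONJ sub-hive (helper60), leaf CJ-INV2b `inv_u2_rho` (helper90): `ρ(u2; e) = c s`. -/

set_option autoImplicit false

namespace Cfsg.Agent.Lib.Helper23.U3

open Matrix Cfsg.Agent.Lib.Helper99 Cfsg.Agent.Lib.Helper13 Cfsg.Agent.Lib.Helper90.Psu

variable {F : Type*} [Field F] [Fintype F] {q : ℕ}

local notation "hh" => Cfsg.hermForm 3 F q

/-- `N' e = vec v1 v2 v3` (first conjunct of CJ-INV2a), proved directly from U3-ACT -/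
theorem cjinv2b_nilp_e (hF : Fintype.card F = q ^ 2) (C : Cfg q F) :
    nilp C.u2 *ᵥ C.e = C.vec C.v1 C.v2 C.v3 := by
  have hS : (C.S : Matrix (Fin 3) (Fin 3) F) *ᵥ C.e = C.vec C.μ 0 0 := by
    rw [act_S, cj90_heε hF C]
    simp [Cfg.vec]
  have hT : (C.T : Matrix (Fin 3) (Fin 3) F) *ᵥ C.vec C.μ 0 0 = C.vec C.μ 0 (C.c * C.μ) := by
    rw [act_T, cj90_hh_vec_f hF]
    simp [Cfg.vec]
  have hu2 : (C.u2 : Matrix (Fin 3) (Fin 3) F) *ᵥ C.e =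
      C.vec (C.μ - C.a ^ q * 0 + C.β * (C.c * C.μ)) (0 + C.a * (C.c * C.μ)) (C.c * C.μ) := by
    unfold Cfg.u2
    rw [Units.val_mul, Units.val_mul, ← Matrix.mulVec_mulVec, ← Matrix.mulVec_mulVec, hS, hT,
      cj90_u1_vec hF]
  unfold nilp
  rw [Matrix.sub_mulVec, Matrix.one_mulVec, hu2]
  unfold Cfg.vec Cfg.v1 Cfg.v2 Cfg.v3
  ext j
  simp only [Pi.add_apply, Pi.sub_apply, Pi.smul_apply, smul_eq_mul]
  ring

/-- CJ-INV2b (M): `ρ(u2; e) = c s`. -/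
theorem inv_u2_rho (hF : Fintype.card F = q ^ 2) (C : Cfg q F) :
    hh (tri C.u2 C.e 1) (tri C.u2 C.e 1) = C.c * C.s := by
  have e1 : tri C.u2 C.e 1 = nilp C.u2 *ᵥ C.e := rfl
  rw [e1, cjinv2b_nilp_e hF C, cj90_hh_vec hF]
  have hm := C.μ_ne_zero
  have hmq := cj90_mu_frob C
  have hcq := cj90_c_frob C
  -- Frobenius images
  have hγ : (C.c * C.β) ^ q = 3 * C.μ - 2 - C.μ ^ 3 := by
    rw [C.hβ, Helper99.frob_sub hF, Helper99.frob_sub hF, mul_pow, ← pow_mul, mul_comm 3 q, pow_mul,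
      Helper99.frob_inv, hmq, inv_inv]
    have h3 : (3 : F) ^ q = 3 := by
      have : ((3 : ℕ) : F) ^ q = ((3 : ℕ) : F) := by
        rw [← Helper99.frobU_apply hF, map_natCast]
      exact_mod_cast this
    have h2 : (2 : F) ^ q = 2 := by
      have : ((2 : ℕ) : F) ^ q = ((2 : ℕ) : F) := by
        rw [← Helper99.frobU_apply hF, map_natCast]
      exact_mod_cast this
    rw [h3, h2]
  have hv3 : C.v3 ^ q = C.μ⁻¹ * (- C.c) := by
    unfold Cfg.v3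
    rw [mul_pow, hmq, hcq]
  have hv2 : C.v2 ^ q = C.μ⁻¹ * (- C.c) * C.a ^ q := by
    unfold Cfg.v2
    rw [mul_pow, mul_pow, hmq, hcq]
  have hv1 : C.v1 ^ q = C.μ⁻¹ * (1 + (3 * C.μ - 2 - C.μ ^ 3)) - 1 := by
    unfold Cfg.v1
    rw [Helper99.frob_sub hF, mul_pow, Helper99.frob_add hF, hγ, hmq, one_pow]
  rw [hv3, hv2, hv1]
  have ha' : C.a ^ q * C.a * C.c = (C.μ⁻¹ - C.μ) ^ 3 := by
    rw [← pow_succ]; exact C.ha
  have h2 : C.v2 * (C.μ⁻¹ * (- C.c) * C.a ^ q) = - C.c * (C.μ⁻¹ - C.μ) ^ 3 := by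
    unfold Cfg.v2
    rw [← ha']
    field_simp
  rw [h2]
  unfold Cfg.v1 Cfg.v3 Cfg.s
  rw [C.hβ]
  field_simp
  ring

end Cfsg.Agent.Lib.Helper23.U3
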