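import Cfsg.Agent.Lib.Helper90.U3CjAux90
import Cfsg.Agent.Lib.Helper54.U3REL
import Cfsg.Agent.Lib.Helper32.U3COORD

/-! # U3-CONJ sub-hive (helper60), leaf CJ-NE `conj_ne` (helper90): the non-vanishing facts. -/

set_option autoImplicit false

namespace Cfsg.Agent.Lib.Helper23.U3

open Matrix Cfsg.Agent.Lib.Helper99 Cfsg.Agent.Lib.Helper13 Cfsg.Agent.Lib.Helper90.Psu

variable {F : Type*} [Field F] [Fintype F] {q : ℕ}

local notation "hh" => Cfsg.hermForm 3 F q

/-- CJ-NE (E): the non-vanishing facts. -/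
theorem conj_ne (hF : Fintype.card F = q ^ 2) (C : Cfg q F) :
    C.s ≠ 0 ∧ C.a ≠ 0 ∧ C.frame.det ≠ 0 := by
  refine ⟨cj90_s_ne C, cfg_a_ne_zero C, ?_⟩
  have hind := frame_indep hF C
  have hrow : LinearIndependent F C.frame.row := by
    have e : C.frame.row = ![C.e, C.ε, C.f] := by
      funext i
      fin_cases i <;> rfl
    rw [e]
    exact hind
  have hunit : IsUnit C.frame := Matrix.linearIndependent_rows_iff_isUnit.1 hrow
  exact ((Matrix.isUnit_iff_isUnit_det _).1 hunit).ne_zero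

end Cfsg.Agent.Lib.Helper23.U3
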