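import Cfsg.Agent.Lib.Helper9.SlK3Defs

/-!
# K3-COMB-TA (Sl hive S2332 of helper76 / K3 sub-hive of helper9 / K3-COMB sub-split of helper27)

Transitivity of the moves `hD` (diagonal) and `hT` (middle transvections) on the non-zero `α` (with `β = 0`).
-/

set_option autoImplicit false

namespace Cfsg.Agent.Lib.Helper76.Sl

open Matrix

variable (F : Type*) [Field F] [Fintype F] [DecidableEq F]

/-- K3-COMB-TA -/
theorem k3comb_transA (m : ℕ) (μ : (Fin (m + 1) → F) → (Fin (m + 1) → F) → ℕ)
    (hD : ∀ d : Fin (m + 3) → F, (∀ i, d i ≠ 0) → ∏ i, d i = 1 → ∀ α β,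
      μ α β = μ (fun j => α j * d (k3mid m j) / d 0)
        (fun j => β j * d (Fin.last (m + 2)) / d (k3mid m j)))
    (hT : ∀ i j : Fin (m + 1), i ≠ j → ∀ (c : F) (α β : Fin (m + 1) → F),
      μ α β = μ (fun l => α l + if l = i then c * α j else 0)
        (fun l => β l - if l = j then c * β i else 0)) :
    ∀ α : Fin (m + 1) → F, α ≠ 0 → μ α 0 = μ (Pi.single 0 1) 0 := by
  classical
  -- the moves with `β = 0`
  have hT0 : ∀ i j : Fin (m + 1), i ≠ j → ∀ (c : F) (α : Fin (m + 1) → F),
      μ α 0 = μ (fun l => α l + if l = i then c * α j else 0) 0 := by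
    intro i j hij c α
    have h := hT i j hij c α 0
    rw [h]
    congr 1
    funext l
    simp
  have hD0 : ∀ d : Fin (m + 3) → F, (∀ i, d i ≠ 0) → ∏ i, d i = 1 → ∀ α : Fin (m + 1) → F,
      μ α 0 = μ (fun j => α j * d (k3mid m j) / d 0) 0 := by
    intro d hd hp α
    have h := hD d hd hp α 0
    rw [h]
    congr 1
    funext l
    simp
  -- step 2: kill the coordinates in `S`
  have step2 : ∀ α : Fin (m + 1) → F, α 0 ≠ 0 → ∀ S : Finset (Fin (m + 1)), (0 : Fin (m + 1)) ∉ S →
      μ α 0 = μ (fun l => if l ∈ S then 0 else α l) 0 := by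
    intro α h0 S
    induction S using Finset.induction_on with
    | empty =>
      intro _
      simp
    | insert i S hi ih =>
      intro h0S
      have hi0 : i ≠ 0 := by
        rintro rfl
        exact h0S (Finset.mem_insert_self _ _)
      have h0S' : (0 : Fin (m + 1)) ∉ S := fun h => h0S (Finset.mem_insert_of_mem h)
      rw [ih h0S', hT0 i 0 hi0 (-(α i) / α 0) (fun l => if l ∈ S then 0 else α l)]
      congr 1
      funext l
      by_cases hl : l = i
      · subst hl
        simp only [if_true, hi, if_false, h0S', Finset.mem_insert_self]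
        field_simp
        ring
      · simp [hl, Finset.mem_insert]
  intro α hα
  -- step 1: make coordinate `0` non-zero
  obtain ⟨α', h0', hαα'⟩ : ∃ α' : Fin (m + 1) → F, α' 0 ≠ 0 ∧ μ α 0 = μ α' 0 := by
    by_cases h0 : α 0 = 0
    · obtain ⟨j, hj⟩ : ∃ j, α j ≠ 0 := by
        by_contra h
        push_neg at h
        exact hα (funext h)
      have hj0 : (0 : Fin (m + 1)) ≠ j := by
        rintro rfl
        exact hj h0
      refine ⟨_, ?_, hT0 0 j hj0 1 α⟩
      simp [h0, hj]
    · exact ⟨α, h0, rfl⟩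
  rw [hαα', step2 α' h0' (Finset.univ.erase 0) (Finset.notMem_erase _ _)]
  have hfun : (fun l => if l ∈ Finset.univ.erase (0 : Fin (m + 1)) then 0 else α' l)
      = Pi.single 0 (α' 0) := by
    funext l
    by_cases hl : l = 0
    · subst hl
      simp
    · simp [hl]
  rw [hfun]
  -- step 3: scale
  obtain ⟨a, ha⟩ : ∃ a : F, a = α' 0 := ⟨_, rfl⟩
  rw [← ha]
  have ha0 : a ≠ 0 := by rw [ha]; exact h0'
  have h01 : (0 : Fin (m + 3)) ≠ k3mid m 0 := by
    simp [k3mid, Fin.ext_iff]
  have h0l : (0 : Fin (m + 3)) ≠ Fin.last (m + 2) := by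
    simp [Fin.ext_iff]
  have h1l : k3mid m 0 ≠ Fin.last (m + 2) := by
    simp [k3mid, Fin.ext_iff]
  let d : Fin (m + 3) → F := fun i =>
    (if i = k3mid m 0 then a else 1) * (if i = Fin.last (m + 2) then a⁻¹ else 1)
  have hd : ∀ i, d i ≠ 0 := by
    intro i
    apply mul_ne_zero
    · split_ifs
      · exact ha0
      · exact one_ne_zero
    · split_ifs
      · exact inv_ne_zero ha0
      · exact one_ne_zero
  have hp : ∏ i, d i = 1 := by
    show ∏ i, ((if i = k3mid m 0 then a else 1) * (if i = Fin.last (m + 2) then a⁻¹ else 1)) = 1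
    rw [Finset.prod_mul_distrib, Finset.prod_ite_eq', Finset.prod_ite_eq']
    simp [ha0]
  have hd0 : d 0 = 1 := by
    show (if (0 : Fin (m + 3)) = k3mid m 0 then a else 1) *
      (if (0 : Fin (m + 3)) = Fin.last (m + 2) then a⁻¹ else 1) = 1
    rw [if_neg h01, if_neg h0l, one_mul]
  have hd1 : d (k3mid m 0) = a := by
    show (if k3mid m 0 = k3mid m 0 then a else 1) *
      (if k3mid m 0 = Fin.last (m + 2) then a⁻¹ else 1) = a
    rw [if_pos rfl, if_neg h1l, mul_one]
  have h3 := hD0 d hd hp (Pi.single 0 1)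
  rw [h3]
  congr 1
  funext j
  by_cases hj : j = 0
  · subst hj
    simp [hd0, hd1]
  · simp [hj]

end Cfsg.Agent.Lib.Helper76.Sl
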