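import Cfsg.Agent.Lib.Helper37.G2zDefs
import Cfsg.Agent.Lib.Helper54.G2oCLS
import Cfsg.Agent.Lib.Helper33.G2oPID
import Cfsg.Agent.Lib.Helper75.C2gGen

/-! # G2z mini-hive (S4279, architect helper37), leaf G2Z-CN: `C_N(t0) ≤ L1 L2 H`.

`n ∈ N` acts on the roots through one of the 12 tables of `W(G₂)` (helper54 `clsW`). If `n` commutes with
`t0 = h_6(-1)` its table preserves the sign `(-1)^{⟨r, b^∨⟩}`, which leaves `1, s_6, s_9, s_6 s_9`. These are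
realised by `1, n_6, n_9, n_6 n_9 ∈ L1 L2`, and an element of `N` acting trivially on the roots is in `H`
(helper33 `pid`). -/

set_option autoImplicit false

namespace Cfsg.Agent.Lib.Helper37.G2z

open Cfsg Cfsg.Lie Cfsg.Agent.Lib.Helper36 Cfsg.Agent.Lib.Helper20.G2c Cfsg.Agent.Lib.Helper18
open Cfsg.Agent.Lib.Helper2.G2o

variable (F : Type*) [Field F]

/-- the four tables fixing the sign character of `t0` -/
def g2zcn_T6 : List ℕ := [1, 0, 2, 4, 3, 6, 5, 8, 7, 9, 11, 10]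
def g2zcn_T9 : List ℕ := [10, 11, 9, 7, 8, 5, 6, 3, 4, 2, 0, 1]
def g2zcn_T0 : List ℕ := [11, 10, 9, 8, 7, 6, 5, 4, 3, 2, 1, 0]
def g2zcn_T1 : List ℕ := [0, 1, 2, 3, 4, 5, 6, 7, 8, 9, 10, 11]

theorem g2zcn_tab : ∀ T ∈ clsW,
    ((List.range 12).all fun r => decide (Even (gc chevG2 6 (T.getD r 0)) ↔ Even (gc chevG2 6 r))) = true →
      T ∈ [g2zcn_T1, g2zcn_T6, g2zcn_T9, g2zcn_T0] := by decide

theorem g2zcn_tab9 : ∀ T ∈ clsW, T.getD 9 0 = 2 → T.getD 6 0 = 6 → T = g2zcn_T9 := by decide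

theorem g2zcn_invol : ∀ T ∈ [g2zcn_T1, g2zcn_T6, g2zcn_T9, g2zcn_T0], ∀ r < chevG2.nroots,
    T.getD r 0 < chevG2.nroots ∧ T.getD (T.getD r 0) 0 = r := by decide

theorem g2zcn_comp : ∀ r < chevG2.nroots, g2zcn_T6.getD (g2zcn_T9.getD r 0) 0 = g2zcn_T0.getD r 0 := by decide

theorem g2zcn_w1 : ∀ r < chevG2.nroots, wRoot chevG2 [1] r = g2zcn_T6.getD r 0 := by decide

/-- `t0` acts on `X_r` by the sign `(-1)^{⟨r, b^∨⟩}` -/
theorem g2zcn_t0_conj (r : ℕ) (hr : r < chevG2.nroots) (t : F) :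
    t0 F * xg F r t * (t0 F)⁻¹ = xg F r ((-1 : F) ^ gc chevG2 6 r * t) :=
  hGL_conj_xGL chevG2 hG2 F 6 r (by decide) hr (-1) (neg_ne_zero.mpr one_ne_zero) t

/-- an element acting through `π` and commuting with `t0` preserves the sign -/
theorem g2zcn_sign (n : GL chevG2.Idx F) (π : ℕ → ℕ) (h : Acts F n π) (hc : t0 F * n = n * t0 F) (r : ℕ)
    (hr : r < chevG2.nroots) (hπ : π r < chevG2.nroots) :
    (-1 : F) ^ gc chevG2 6 (π r) = (-1 : F) ^ gc chevG2 6 r := by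
  obtain ⟨c, hc0, hact⟩ := h r hr
  have e1 : n * (t0 F * xg F r 1 * (t0 F)⁻¹) * n⁻¹ = t0 F * (n * xg F r 1 * n⁻¹) * (t0 F)⁻¹ := by
    have e2 : n * (t0 F * xg F r 1 * (t0 F)⁻¹) * n⁻¹ = (n * t0 F) * xg F r 1 * (n * t0 F)⁻¹ := by group
    rw [e2, ← hc]
    group
  rw [g2zcn_t0_conj F r hr, hact, hact, g2zcn_t0_conj F (π r) hπ] at e1
  have e3 := xGL_injective' chevG2 hG2 F (π r) hπ _ _ e1
  rw [mul_one, mul_one, mul_comm] at e3
  exact (mul_right_cancel₀ hc0 e3).symm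

/-- signs and parity -/
theorem g2zcn_parity (h2 : (2 : F) ≠ 0) (a b : ℤ) (h : (-1 : F) ^ a = (-1 : F) ^ b) : Even a ↔ Even b := by
  have hne : (1 : F) ≠ -1 := fun e => h2 (by linear_combination e)
  rcases Int.even_or_odd a with ha | ha <;> rcases Int.even_or_odd b with hb | hb
  · exact ⟨fun _ => hb, fun _ => ha⟩
  · rw [Even.neg_one_zpow ha, Odd.neg_one_zpow hb] at h
    exact absurd h hne
  · rw [Odd.neg_one_zpow ha, Even.neg_one_zpow hb] at h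
    exact absurd h.symm hne
  · exact ⟨fun e => absurd e (Int.not_even_iff_odd.mpr ha), fun e => absurd e (Int.not_even_iff_odd.mpr hb)⟩

/-- the table of an element of `N`, with the action through it -/
theorem g2zcn_table (n : GL chevG2.Idx F) (hn : n ∈ chevG2.monomialSubgroup F) :
    ∃ T ∈ clsW, Acts F n (fun r => T.getD r 0) ∧ ∀ r < chevG2.nroots, T.getD r 0 < chevG2.nroots := by
  obtain ⟨l, hl, hact⟩ := exists_word_conj chevG2 hG2 F n hn
  have hA : Acts F n (wRoot chevG2 l) := hact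
  refine ⟨(List.range 12).map (wRoot chevG2 l), cls_orbit l hl, ?_, ?_⟩
  · exact cls_acts_congr hA (fun r hr => by rw [cls_nroots] at hr; exact (cls_getD _ r hr).symm)
  · intro r hr
    have hr' : r < 12 := by rw [cls_nroots] at hr; exact hr
    rw [cls_getD _ r hr']
    exact wRoot_lt chevG2 hG2 l hl r hr

/-- the table of an element of `N` commuting with `t0` is one of the four -/
theorem g2zcn_table4 (h2 : (2 : F) ≠ 0) (n : GL chevG2.Idx F) (T : List ℕ) (hT : T ∈ clsW)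
    (hA : Acts F n (fun r => T.getD r 0)) (hlt : ∀ r < chevG2.nroots, T.getD r 0 < chevG2.nroots)
    (hc : t0 F * n = n * t0 F) : T ∈ [g2zcn_T1, g2zcn_T6, g2zcn_T9, g2zcn_T0] := by
  apply g2zcn_tab T hT
  rw [List.all_eq_true]
  intro r hr
  rw [List.mem_range] at hr
  have hr' : r < chevG2.nroots := by rw [cls_nroots]; exact hr
  rw [decide_eq_true_eq]
  exact g2zcn_parity F h2 _ _ (g2zcn_sign F n _ hA hc r hr' (hlt r hr'))

theorem g2zcn_x_mem (r : ℕ) (t : F) : xg F r t ∈ chevG2.rootSubgroup F r :=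
  Subgroup.subset_closure ⟨t, xGL_coe chevG2 hG2 F r t⟩

/-- `n_6 ∈ L1` -/
theorem g2zcn_n6_mem : nGL chevG2 hG2 F 6 1 ∈ LL F := by
  rw [nGL_eq chevG2 hG2 F 6 1]
  have h5 : chevG2.neg 6 = 5 := by decide
  rw [h5]
  have hx6 : ∀ t : F, xGL chevG2 hG2 F 6 t ∈ LL F := fun t =>
    (le_sup_left : L1 F ≤ LL F) ((le_sup_left : chevG2.rootSubgroup F 6 ≤ L1 F) (g2zcn_x_mem F 6 t))
  have hx5 : ∀ t : F, xGL chevG2 hG2 F 5 t ∈ LL F := fun t =>
    (le_sup_left : L1 F ≤ LL F) ((le_sup_right : chevG2.rootSubgroup F 5 ≤ L1 F) (g2zcn_x_mem F 5 t))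
  exact mul_mem (mul_mem (hx6 _) (hx5 _)) (hx6 _)

/-- `n_9 ∈ L2` -/
theorem g2zcn_n9_mem : nGL chevG2 hG2 F 9 1 ∈ LL F := by
  rw [nGL_eq chevG2 hG2 F 9 1]
  have h2 : chevG2.neg 9 = 2 := by decide
  rw [h2]
  have hx9 : ∀ t : F, xGL chevG2 hG2 F 9 t ∈ LL F := fun t =>
    (le_sup_right : L2 F ≤ LL F) ((le_sup_left : chevG2.rootSubgroup F 9 ≤ L2 F) (g2zcn_x_mem F 9 t))
  have hx2 : ∀ t : F, xGL chevG2 hG2 F 2 t ∈ LL F := fun t =>
    (le_sup_right : L2 F ≤ LL F) ((le_sup_right : chevG2.rootSubgroup F 2 ≤ L2 F) (g2zcn_x_mem F 2 t))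
  exact mul_mem (mul_mem (hx9 _) (hx2 _)) (hx9 _)

/-- `n_6` acts through `s_6` -/
theorem g2zcn_n6_acts : Acts F (nGL chevG2 hG2 F 6 1) (fun r => g2zcn_T6.getD r 0) := by
  have h1 := cls_acts_word F [1] (by decide)
  have e : nWordGL chevG2 hG2 F [1] = nGL chevG2 hG2 F 6 1 := by
    have h6 : chevG2.simple 1 = 6 := by decide
    simp [nWordGL, h6]
  rw [e] at h1
  exact cls_acts_congr h1 g2zcn_w1

/-- `n_9` commutes with `X_6` -/
theorem g2zcn_n9_comm (u : F) :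
    nGL chevG2 hG2 F 9 1 * xg F 6 u * (nGL chevG2 hG2 F 9 1)⁻¹ = xg F 6 u := by
  have c9 : ∀ t : F, xGL chevG2 hG2 F 9 t * xGL chevG2 hG2 F 6 u = xGL chevG2 hG2 F 6 u * xGL chevG2 hG2 F 9 t :=
    fun t => Cfsg.Agent.Lib.Helper67.C2g.xGL_comm_of_nil chevG2 hG2 F 6 9 (by decide) (by decide) (by decide)
      (by decide) (by decide) u t
  have c2 : ∀ t : F, xGL chevG2 hG2 F 2 t * xGL chevG2 hG2 F 6 u = xGL chevG2 hG2 F 6 u * xGL chevG2 hG2 F 2 t :=
    fun t => Cfsg.Agent.Lib.Helper67.C2g.xGL_comm_of_nil chevG2 hG2 F 6 2 (by decide) (by decide) (by decide)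
      (by decide) (by decide) u t
  rw [mul_inv_eq_iff_eq_mul, nGL_eq chevG2 hG2 F 9 1]
  have h2 : chevG2.neg 9 = 2 := by decide
  rw [h2]
  show xGL chevG2 hG2 F 9 1 * xGL chevG2 hG2 F 2 (-1⁻¹) * xGL chevG2 hG2 F 9 1 * xGL chevG2 hG2 F 6 u =
    xGL chevG2 hG2 F 6 u * (xGL chevG2 hG2 F 9 1 * xGL chevG2 hG2 F 2 (-1⁻¹) * xGL chevG2 hG2 F 9 1)
  rw [mul_assoc, c9, ← mul_assoc, mul_assoc (xGL chevG2 hG2 F 9 1), c2, ← mul_assoc, c9]
  group

/-- `n_9` acts through `s_9` -/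
theorem g2zcn_n9_acts : Acts F (nGL chevG2 hG2 F 9 1) (fun r => g2zcn_T9.getD r 0) := by
  obtain ⟨T, hT, hA, hlt⟩ := g2zcn_table F (nGL chevG2 hG2 F 9 1) (nGL_mem_mono chevG2 hG2 F 9 (by decide))
  have hT9 : T = g2zcn_T9 := by
    apply g2zcn_tab9 T hT
    · -- `n_9 X_9 n_9⁻¹ = X_2`
      obtain ⟨c, hc0, hact⟩ := hA 9 (by decide)
      have hR := (rank1Rel_all chevG2 hG2 F 9 (by decide)).1 1
      have e1 : nGL chevG2 hG2 F 9 1 * xg F 9 1 * (nGL chevG2 hG2 F 9 1)⁻¹ = xg F (chevG2.neg 9) (-1) := by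
        rw [mul_inv_eq_iff_eq_mul]
        exact hR
      rw [hact 1] at e1
      have h2 : chevG2.neg 9 = 2 := by decide
      rw [h2] at e1
      exact (cls_root_eq F 2 _ (by decide) (hlt 9 (by decide)) (-1) (c * 1)
        (neg_ne_zero.mpr one_ne_zero) e1.symm).symm
    · obtain ⟨c, hc0, hact⟩ := hA 6 (by decide)
      have e1 := g2zcn_n9_comm F 1
      rw [hact 1] at e1
      exact (cls_root_eq F 6 _ (by decide) (hlt 6 (by decide)) 1 (c * 1) one_ne_zero e1.symm).symm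
  rw [hT9] at hA
  exact hA

/-- an element of `N` with the same table as an element `m ∈ N ⊓ LL` lies in `LL ⊔ H` -/
theorem g2zcn_finish (n m : GL chevG2.Idx F) (hn : n ∈ chevG2.monomialSubgroup F)
    (hm : m ∈ chevG2.monomialSubgroup F) (hmLL : m ∈ LL F) (T : List ℕ)
    (hT : ∀ r < chevG2.nroots, T.getD r 0 < chevG2.nroots ∧ T.getD (T.getD r 0) 0 = r)
    (hAn : Acts F n (fun r => T.getD r 0)) (hAm : Acts F m (fun r => T.getD r 0)) :
    n ∈ LL F ⊔ chevG2.diagonalSubgroup F := by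
  have hinv : Acts F m⁻¹ (fun r => T.getD r 0) := cls_acts_inv hAm hT
  have hmul := cls_acts_mul hAn hinv (fun r hr => (hT r hr).1)
  have hid : Acts F (n * m⁻¹) id := cls_acts_congr hmul (fun r hr => (hT r hr).2)
  have hH := Cfsg.Agent.Lib.Helper2.G2o.pid F (n * m⁻¹) (mul_mem hn (inv_mem hm)) hid
  have e' : n = (n * m⁻¹) * m := by group
  rw [e']
  exact mul_mem (Subgroup.mem_sup_right hH) (Subgroup.mem_sup_left hmLL)

/-- G2Z-CN -/
theorem cent_N (h2 : (2 : F) ≠ 0) (n : GL chevG2.Idx F) (hn : n ∈ chevG2.monomialSubgroup F)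
    (hc : t0 F * n = n * t0 F) : n ∈ LL F ⊔ chevG2.diagonalSubgroup F := by
  obtain ⟨T, hT, hA, hlt⟩ := g2zcn_table F n hn
  have h4 := g2zcn_table4 F h2 n T hT hA hlt hc
  have hN6 := nGL_mem_mono chevG2 hG2 F 6 (by decide)
  have hN9 := nGL_mem_mono chevG2 hG2 F 9 (by decide)
  simp only [List.mem_cons, List.not_mem_nil, or_false] at h4
  rcases h4 with rfl | rfl | rfl | rfl
  · -- trivial table
    refine g2zcn_finish F n 1 hn (one_mem _) (one_mem _) g2zcn_T1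
      (g2zcn_invol _ (by simp)) hA ?_
    intro r hr
    refine ⟨1, one_ne_zero, fun t => ?_⟩
    have e : g2zcn_T1.getD r 0 = r := by
      have : ∀ r < chevG2.nroots, g2zcn_T1.getD r 0 = r := by decide
      exact this r hr
    show 1 * xg F r t * 1⁻¹ = xg F (g2zcn_T1.getD r 0) (1 * t)
    rw [e, one_mul, one_mul, inv_one, mul_one]
  · exact g2zcn_finish F n _ hn hN6 (g2zcn_n6_mem F) g2zcn_T6 (g2zcn_invol _ (by simp)) hA
      (g2zcn_n6_acts F)
  · exact g2zcn_finish F n _ hn hN9 (g2zcn_n9_mem F) g2zcn_T9 (g2zcn_invol _ (by simp)) hA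
      (g2zcn_n9_acts F)
  · refine g2zcn_finish F n (nGL chevG2 hG2 F 6 1 * nGL chevG2 hG2 F 9 1) hn (mul_mem hN6 hN9)
      (mul_mem (g2zcn_n6_mem F) (g2zcn_n9_mem F)) g2zcn_T0 (g2zcn_invol _ (by simp)) hA ?_
    have hmul := cls_acts_mul (g2zcn_n6_acts F) (g2zcn_n9_acts F)
      (fun r hr => (g2zcn_invol g2zcn_T9 (by simp) r hr).1)
    exact cls_acts_congr hmul g2zcn_comp

end Cfsg.Agent.Lib.Helper37.G2z
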