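import Cfsg.Agent.Lib.Helper4.RuDefs

/-! Ru hive (S1628, helper4): leaf RU-PARA - the parity lemmas `par0`, `par1`, `par2`. -/

set_option autoImplicit false

namespace Cfsg.Agent.Lib.Helper4.Ru

open Cfsg.Spor

theorem para_sum (x d : RuVec) (T : Finset RuIdx) (g : RuIdx → ℤ)
    (h : ∀ p, (4 : ℤ) ∣ (x p).re * (d p).re + (x p).im * (d p).im - (if p ∈ T then 2 * g p else 0)) :
    (4 : ℤ) ∣ ip x d - 2 * ∑ p ∈ T, g p := by
  classical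
  have h1 : 2 * ∑ p ∈ T, g p = ∑ p, (if p ∈ T then 2 * g p else 0) := by
    rw [Finset.mul_sum, Finset.sum_ite_mem, Finset.univ_inter]
  rw [h1]
  unfold ip
  rw [← Finset.sum_sub_distrib]
  exact Finset.dvd_sum fun p _ => h p

theorem para_t0 (a b α β : ℤ) (c : Prop) [Decidable c] (hα : α % 4 = if c then 2 else 0)
    (hβ : β % 4 = if c then 2 else 0) :
    (4 : ℤ) ∣ a * α + b * β - (if c then 2 * (a + b) else 0) := by
  by_cases hc : c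
  · rw [if_pos hc] at hα hβ ⊢
    obtain ⟨α', rfl⟩ : ∃ α', α = 4 * α' + 2 := ⟨α / 4, by omega⟩
    obtain ⟨β', rfl⟩ : ∃ β', β = 4 * β' + 2 := ⟨β / 4, by omega⟩
    exact ⟨a * α' + b * β', by ring⟩
  · rw [if_neg hc] at hα hβ ⊢
    obtain ⟨α', rfl⟩ : ∃ α', α = 4 * α' := ⟨α / 4, by omega⟩
    obtain ⟨β', rfl⟩ : ∃ β', β = 4 * β' := ⟨β / 4, by omega⟩
    exact ⟨a * α' + b * β', by ring⟩

theorem para_t1 (a b α β : ℤ) (c : Prop) [Decidable c] (hab : (a + b) % 2 = 0)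
    (hα : α % 2 = 0) (hβ : β % 2 = 0) (hs : (α + β) % 4 = if c then 2 else 0) :
    (4 : ℤ) ∣ a * α + b * β - (if c then 2 * a else 0) := by
  obtain ⟨e, rfl⟩ : ∃ e, b = -a + 2 * e := ⟨(a + b) / 2, by omega⟩
  obtain ⟨β', rfl⟩ : ∃ β', β = 2 * β' := ⟨β / 2, by omega⟩
  by_cases hc : c
  · rw [if_pos hc] at hs ⊢
    obtain ⟨s, hs'⟩ : ∃ s, α = -(2 * β') + 4 * s + 2 := ⟨(α + 2 * β') / 4, by omega⟩
    subst hs'
    exact ⟨a * s - a * β' + e * β', by ring⟩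
  · rw [if_neg hc] at hs ⊢
    obtain ⟨s, hs'⟩ : ∃ s, α = -(2 * β') + 4 * s := ⟨(α + 2 * β') / 4, by omega⟩
    subst hs'
    exact ⟨a * s - a * β' + e * β', by ring⟩

theorem para_t2 (a b α β : ℤ) (c : Prop) [Decidable c] (ha : a % 2 = 0) (hb : b % 2 = 0)
    (hα : α % 2 = if c then 1 else 0) (hβ : β % 2 = if c then 1 else 0) :
    (4 : ℤ) ∣ a * α + b * β - (if c then 2 * (a / 2 + b / 2) else 0) := by
  obtain ⟨a', rfl⟩ : ∃ a', a = 2 * a' := ⟨a / 2, by omega⟩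
  obtain ⟨b', rfl⟩ : ∃ b', b = 2 * b' := ⟨b / 2, by omega⟩
  have e1 : 2 * a' / 2 = a' := by omega
  have e2 : 2 * b' / 2 = b' := by omega
  rw [e1, e2]
  by_cases hc : c
  · rw [if_pos hc] at hα hβ ⊢
    obtain ⟨α', rfl⟩ : ∃ α', α = 2 * α' + 1 := ⟨α / 2, by omega⟩
    obtain ⟨β', rfl⟩ : ∃ β', β = 2 * β' + 1 := ⟨β / 2, by omega⟩
    exact ⟨a' * α' + b' * β', by ring⟩
  · rw [if_neg hc] at hα hβ ⊢
    obtain ⟨α', rfl⟩ : ∃ α', α = 2 * α' := ⟨α / 2, by omega⟩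
    obtain ⟨β', rfl⟩ : ∃ β', β = 2 * β' := ⟨β / 2, by omega⟩
    exact ⟨a' * α' + b' * β', by ring⟩

/-- level 0: `d ≡ (2 + 2i) 1_T (mod 4)` -/
theorem par0 (x d : RuVec) (T : Finset RuIdx)
    (hd : ∀ p, (d p).re % 4 = (if p ∈ T then 2 else 0) ∧ (d p).im % 4 = (if p ∈ T then 2 else 0)) :
    (4 : ℤ) ∣ ip x d - 2 * ∑ p ∈ T, ((x p).re + (x p).im) := by
  classical
  exact para_sum x d T _ fun p => para_t0 _ _ _ _ _ (hd p).1 (hd p).2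

/-- level 1: all `re + im` of `x` even; `d` even with `re + im ≡ 2 · 1_T (mod 4)` -/
theorem par1 (x d : RuVec) (T : Finset RuIdx)
    (hx : ∀ p, ((x p).re + (x p).im) % 2 = 0)
    (hd : ∀ p, (d p).re % 2 = 0 ∧ (d p).im % 2 = 0 ∧
      ((d p).re + (d p).im) % 4 = (if p ∈ T then 2 else 0)) :
    (4 : ℤ) ∣ ip x d - 2 * ∑ p ∈ T, (x p).re := by
  classical
  exact para_sum x d T _ fun p => para_t1 _ _ _ _ _ (hx p) (hd p).1 (hd p).2.1 (hd p).2.2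

/-- level 2: all coordinates of `x` even; `d ≡ (1 + i) 1_T (mod 2)` -/
theorem par2 (x d : RuVec) (T : Finset RuIdx)
    (hx : ∀ p, (x p).re % 2 = 0 ∧ (x p).im % 2 = 0)
    (hd : ∀ p, (d p).re % 2 = (if p ∈ T then 1 else 0) ∧ (d p).im % 2 = (if p ∈ T then 1 else 0)) :
    (4 : ℤ) ∣ ip x d - 2 * ∑ p ∈ T, ((x p).re / 2 + (x p).im / 2) := by
  classical
  exact para_sum x d T _ fun p => para_t2 _ _ _ _ _ (hx p).1 (hx p).2 (hd p).1 (hd p).2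

end Cfsg.Agent.Lib.Helper4.Ru
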