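import Mathlib
import Cfsg.Agent.Lib.Helper57.U62Defs
import Cfsg.Agent.S0779

/-!
# U62-TV (U62 hive of helper57, S1684 + S0471)

For an isotropic `u ≠ 0` in `F4^6` the unitary transvection `v ↦ v + h(v, u) u` lies in `SU 6 F4 2`.
-/

set_option autoImplicit false

namespace Cfsg.Agent.Lib.Helper57.U62

open Cfsg.Agent.Lib.Helper28.Sp44F4

theorem tv_det (u : Fin 6 → F4) (h0 : Cfsg.hermForm 6 F4 2 u u = 0) :
    (Cfsg.unitaryTransvection 6 2 u (1 : F4)).det = 1 := by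
  unfold Cfsg.unitaryTransvection
  rw [one_smul, Matrix.vecMulVec_eq Unit, Matrix.det_one_add_replicateCol_mul_replicateRow]
  have : (fun j => u j ^ 2) ⬝ᵥ u = Cfsg.hermForm 6 F4 2 u u := by
    unfold Cfsg.hermForm dotProduct
    apply Finset.sum_congr rfl
    intro i _
    rw [mul_comm]
  rw [this, h0, add_zero]

theorem exists_tv (u : Fin 6 → F4) (hu : u ≠ 0) (h0 : Cfsg.hermForm 6 F4 2 u u = 0) :
    ∃ A : ↥(Cfsg.SU 6 F4 2), ∀ v : Fin 6 → F4,
      ((A : Matrix.SpecialLinearGroup (Fin 6) F4) : Matrix (Fin 6) (Fin 6) F4).mulVec v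
        = v + Cfsg.hermForm 6 F4 2 v u • u := by
  have hF : Fintype.card F4 = 2 ^ 2 := by rw [F4.card_eq]; norm_num
  have hc : (1 : F4) ^ (2 - 1) = -1 := by decide
  have hiso := (Cfsg.Agent.S0779.result hF 6 u hu h0 1).mpr (Or.inr hc)
  refine ⟨⟨⟨Cfsg.unitaryTransvection 6 2 u (1 : F4), tv_det u h0⟩, ?_⟩, ?_⟩
  · intro x y
    exact hiso x y
  · intro v
    show (Cfsg.unitaryTransvection 6 2 u (1 : F4)).mulVec v = _
    rw [Cfsg.Agent.Lib.Helper13.unitaryTransvection_mulVec, one_mul]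

end Cfsg.Agent.Lib.Helper57.U62
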