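import Mathlib

/-!
# U62-RESTR (U62 hive of helper57, S1684 + S0471)

A permutation action on `ℕ` that preserves the range of an injective `e : Fin m → ℕ` restricts to an
action on `Fin m`.
-/

set_option autoImplicit false

namespace Cfsg.Agent.Lib.Helper57.U62

theorem exists_restrict {H : Type*} [Group H] (σ : H →* Equiv.Perm ℕ) {m : ℕ} (e : Fin m → ℕ)
    (he : Function.Injective e) (hinv : ∀ h i, ∃ j, σ h (e i) = e j) :
    ∃ ρ : H →* Equiv.Perm (Fin m), ∀ h i, e (ρ h i) = σ h (e i) := by
  classical
  choose f hf using hinv
  have hmul : ∀ h h' i, f (h * h') i = f h (f h' i) := by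
    intro h h' i
    apply he
    rw [← hf, ← hf, ← hf, map_mul, Equiv.Perm.mul_apply]
  have hone : ∀ i, f 1 i = i := by
    intro i
    apply he
    rw [← hf, map_one, Equiv.Perm.one_apply]
  let F : H →* Function.End (Fin m) :=
    { toFun := fun h => f h
      map_one' := by funext i; exact hone i
      map_mul' := by intro h h'; funext i; exact hmul h h' i }
  refine ⟨MonoidHom.toHomPerm F, ?_⟩
  intro h i
  show e (f h i) = _
  exact (hf h i).symm

end Cfsg.Agent.Lib.Helper57.U62
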