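import Cfsg.Agent.Lib.Helper64.MiKIDefs
import Cfsg.Agent.Lib.Helper43.MiTV1
import Cfsg.Agent.Lib.Helper54.MiTV2

/-!
# KI-TOR (MI-KI sub-hive of helper64, Mi hive S2140 of helper81)

The block-diagonal element `m = diag(c1, h, c3) ∈ SL_(k+2)(F)` and its conjugation action on the Heisenberg
elements `hu a b c`.
-/

set_option autoImplicit false

namespace Cfsg.Agent.Lib.Helper81.Mi

open Matrix

variable {F : Type*} [Field F] {n k : ℕ}

/-- the inner block `diag(h, c3)` -/
def kitor_inner (h : Matrix (Fin k) (Fin k) F) (c3 : F) : Matrix (Fin (k + 1)) (Fin (k + 1)) F :=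
  Matrix.of fun i j =>
    Fin.lastCases (Fin.lastCases c3 (fun _ => 0) j) (fun i' => Fin.lastCases 0 (fun j' => h i' j') j) i

/-- the block matrix `diag(c1, h, c3)` -/
def kitor_mat (h : Matrix (Fin k) (Fin k) F) (c1 c3 : F) : Matrix (Fin (k + 2)) (Fin (k + 2)) F :=
  Matrix.of fun i j =>
    Fin.cases (Fin.cases c1 (fun _ => 0) j) (fun i' => Fin.cases 0 (fun j' => kitor_inner h c3 i' j') j) i

section entries
variable (h : Matrix (Fin k) (Fin k) F) (c1 c3 : F)

@[simp] theorem kitor_inner_cc (i j : Fin k) : kitor_inner h c3 i.castSucc j.castSucc = h i j := by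
  simp [kitor_inner]

@[simp] theorem kitor_inner_cl (i : Fin k) : kitor_inner h c3 i.castSucc (Fin.last k) = 0 := by
  simp [kitor_inner]

@[simp] theorem kitor_inner_lc (j : Fin k) : kitor_inner h c3 (Fin.last k) j.castSucc = 0 := by
  simp [kitor_inner]

@[simp] theorem kitor_inner_ll : kitor_inner h c3 (Fin.last k) (Fin.last k) = c3 := by
  simp [kitor_inner]

@[simp] theorem kitor_mat_zz : kitor_mat h c1 c3 0 0 = c1 := by
  simp [kitor_mat]

@[simp] theorem kitor_mat_zs (j : Fin (k + 1)) : kitor_mat h c1 c3 0 j.succ = 0 := by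
  simp [kitor_mat]

@[simp] theorem kitor_mat_sz (i : Fin (k + 1)) : kitor_mat h c1 c3 i.succ 0 = 0 := by
  simp [kitor_mat]

@[simp] theorem kitor_mat_ss (i j : Fin (k + 1)) :
    kitor_mat h c1 c3 i.succ j.succ = kitor_inner h c3 i j := by
  simp [kitor_mat]

@[simp] theorem kitor_mat_zl : kitor_mat h c1 c3 0 (Fin.last (k + 1)) = 0 := by
  rw [← Fin.succ_last]; exact kitor_mat_zs h c1 c3 _

@[simp] theorem kitor_mat_lz : kitor_mat h c1 c3 (Fin.last (k + 1)) 0 = 0 := by
  rw [← Fin.succ_last]; exact kitor_mat_sz h c1 c3 _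

@[simp] theorem kitor_mat_ml (i : Fin k) : kitor_mat h c1 c3 i.castSucc.succ (Fin.last (k + 1)) = 0 := by
  rw [← Fin.succ_last, kitor_mat_ss, kitor_inner_cl]

@[simp] theorem kitor_mat_lm (j : Fin k) : kitor_mat h c1 c3 (Fin.last (k + 1)) j.castSucc.succ = 0 := by
  rw [← Fin.succ_last, kitor_mat_ss, kitor_inner_lc]

@[simp] theorem kitor_mat_ll : kitor_mat h c1 c3 (Fin.last (k + 1)) (Fin.last (k + 1)) = c3 := by
  rw [← Fin.succ_last, kitor_mat_ss, kitor_inner_ll]

@[simp] theorem kitor_mat_mm (i j : Fin k) :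
    kitor_mat h c1 c3 i.castSucc.succ j.castSucc.succ = h i j := by
  rw [kitor_mat_ss, kitor_inner_cc]

end entries

section vectors

@[simp] theorem kitor_e0_zero : e0 F (k + 2) 0 = 1 := by simp [e0]

@[simp] theorem kitor_e0_succ (i : Fin (k + 1)) : e0 F (k + 2) i.succ = 0 := by simp [e0]

@[simp] theorem kitor_elast_zero : elast F (k + 2) 0 = 0 := by simp [elast]

@[simp] theorem kitor_elast_mid (j : Fin k) : elast F (k + 2) j.castSucc.succ = 0 := by
  have := j.isLt
  simp only [elast, Fin.val_succ, Fin.val_castSucc]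
  rw [if_neg]
  omega

@[simp] theorem kitor_elast_last : elast F (k + 2) (Fin.last k).succ = 1 := by
  simp [elast]

@[simp] theorem kitor_emb_zero (a : Fin k → F) : emb a 0 = 0 := by simp [emb]

@[simp] theorem kitor_emb_mid (a : Fin k → F) (j : Fin k) : emb a j.castSucc.succ = a j := by
  have hj := j.isLt
  unfold emb
  rw [dif_pos]
  · congr 1
  · simp only [Fin.val_succ, Fin.val_castSucc]
    omega

@[simp] theorem kitor_emb_last (a : Fin k → F) : emb a (Fin.last k).succ = 0 := by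
  unfold emb
  rw [dif_neg]
  simp only [Fin.val_succ, Fin.val_last]
  omega

@[simp] theorem kitor_e0_last' : e0 F (k + 2) (Fin.last (k + 1)) = 0 := by
  rw [← Fin.succ_last]; exact kitor_e0_succ _

@[simp] theorem kitor_elast_last' : elast F (k + 2) (Fin.last (k + 1)) = 1 := by
  rw [← Fin.succ_last]; exact kitor_elast_last

@[simp] theorem kitor_emb_last' (a : Fin k → F) : emb a (Fin.last (k + 1)) = 0 := by
  rw [← Fin.succ_last]; exact kitor_emb_last a

theorem kitor_sum (f : Fin (k + 2) → F) :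
    ∑ i, f i = f 0 + ∑ j : Fin k, f j.castSucc.succ + f (Fin.last k).succ := by
  rw [Fin.sum_univ_succ, Fin.sum_univ_castSucc]
  ring

/-- a function on `Fin (k+2)` is determined by its values at `0`, the middle and the last index -/
theorem kitor_ext {x y : Fin (k + 2) → F} (h0 : x 0 = y 0)
    (hm : ∀ j : Fin k, x j.castSucc.succ = y j.castSucc.succ)
    (hl : x (Fin.last k).succ = y (Fin.last k).succ) : x = y := by
  funext i
  refine Fin.cases h0 (fun i' => ?_) i
  refine Fin.lastCases hl (fun i'' => ?_) i'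
  exact hm i''

theorem kitor_emb_smul (c : F) (a : Fin k → F) : emb (c • a) = c • emb a := by
  apply kitor_ext <;> simp

end vectors

section action
variable (h : Matrix (Fin k) (Fin k) F) (c1 c3 : F)

theorem kitor_mulVec_e0 : kitor_mat h c1 c3 *ᵥ e0 F (k + 2) = c1 • e0 F (k + 2) := by
  apply kitor_ext
  · simp [Matrix.mulVec, dotProduct, kitor_sum]
  · intro j
    simp [Matrix.mulVec, dotProduct, kitor_sum]
  · simp [Matrix.mulVec, dotProduct, kitor_sum]

theorem kitor_elast_vecMul : elast F (k + 2) ᵥ* kitor_mat h c1 c3 = c3 • elast F (k + 2) := by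
  apply kitor_ext
  · simp [Matrix.vecMul, dotProduct, kitor_sum]
  · intro j
    simp [Matrix.vecMul, dotProduct, kitor_sum]
  · simp [Matrix.vecMul, dotProduct, kitor_sum]

theorem kitor_mulVec_emb (b : Fin k → F) : kitor_mat h c1 c3 *ᵥ emb b = emb (h *ᵥ b) := by
  apply kitor_ext
  · simp [Matrix.mulVec, dotProduct, kitor_sum]
  · intro j
    simp [Matrix.mulVec, dotProduct, kitor_sum]
  · simp [Matrix.mulVec, dotProduct, kitor_sum]

theorem kitor_emb_vecMul (a : Fin k → F) : emb a ᵥ* kitor_mat h c1 c3 = emb (a ᵥ* h) := by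
  apply kitor_ext
  · simp [Matrix.vecMul, dotProduct, kitor_sum]
  · intro j
    simp [Matrix.vecMul, dotProduct, kitor_sum]
  · simp [Matrix.vecMul, dotProduct, kitor_sum]

theorem kitor_det_inner : (kitor_inner h c3).det = c3 * h.det := by
  rw [Matrix.det_succ_row _ (Fin.last k), Fin.sum_univ_castSucc]
  have h1 : ∀ j : Fin k, (-1 : F) ^ ((Fin.last k : ℕ) + (j.castSucc : ℕ)) *
      kitor_inner h c3 (Fin.last k) j.castSucc *
      ((kitor_inner h c3).submatrix (Fin.last k).succAbove j.castSucc.succAbove).det = 0 := by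
    intro j
    rw [kitor_inner_lc, mul_zero, zero_mul]
  rw [Finset.sum_eq_zero (fun j _ => h1 j), zero_add, kitor_inner_ll]
  have h2 : (kitor_inner h c3).submatrix (Fin.last k).succAbove (Fin.last k).succAbove = h := by
    ext i j
    simp [Fin.succAbove_last]
  rw [h2]
  have h3 : (-1 : F) ^ ((Fin.last k : ℕ) + (Fin.last k : ℕ)) = 1 := Even.neg_one_pow ⟨_, rfl⟩
  rw [h3, one_mul]

theorem kitor_det : (kitor_mat h c1 c3).det = c1 * (c3 * h.det) := by
  rw [Matrix.det_succ_row_zero, Fin.sum_univ_succ]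
  have h1 : ∀ j : Fin (k + 1), (-1 : F) ^ (j.succ : ℕ) * kitor_mat h c1 c3 0 j.succ *
      ((kitor_mat h c1 c3).submatrix Fin.succ j.succ.succAbove).det = 0 := by
    intro j
    rw [kitor_mat_zs, mul_zero, zero_mul]
  rw [Finset.sum_eq_zero (fun j _ => h1 j), add_zero, kitor_mat_zz]
  have h2 : (kitor_mat h c1 c3).submatrix Fin.succ (Fin.succAbove 0) = kitor_inner h c3 := by
    ext i j
    simp [Fin.succAbove_zero]
  rw [h2, kitor_det_inner]
  simp

end action

/-- KI-TOR -/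
theorem exists_torus (h : Matrix (Fin k) (Fin k) F) (c1 c3 : F) (hdet : c1 * c3 * h.det = 1) :
    ∃ m : SLn (k + 2) F, ∀ (a b : Fin k → F) (c : F),
      m * hu a b c * m⁻¹ = hu (c1 • ((h⁻¹)ᵀ *ᵥ a)) (c3⁻¹ • (h *ᵥ b)) (c1 * c3⁻¹ * c) := by
  have hc1 : c1 ≠ 0 := by
    rintro rfl
    simp at hdet
  have hc3 : c3 ≠ 0 := by
    rintro rfl
    simp at hdet
  have hh : h.det ≠ 0 := by
    intro h0
    rw [h0] at hdet
    simp at hdet
  have hhu : IsUnit h.det := isUnit_iff_ne_zero.mpr hh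
  have hinvmul : h⁻¹ * h = 1 := Matrix.nonsing_inv_mul h hhu
  have hdetM : (kitor_mat h c1 c3).det = 1 := by
    rw [kitor_det, ← hdet]
    ring
  let m : SLn (k + 2) F := ⟨kitor_mat h c1 c3, hdetM⟩
  have hm1 : (m : Matrix (Fin (k + 2)) (Fin (k + 2)) F) = kitor_mat h c1 c3 := rfl
  have hmm : (m : Matrix (Fin (k + 2)) (Fin (k + 2)) F) *
      ((m⁻¹ : SLn (k + 2) F) : Matrix (Fin (k + 2)) (Fin (k + 2)) F) = 1 := by
    rw [← Matrix.SpecialLinearGroup.coe_mul, mul_inv_cancel, Matrix.SpecialLinearGroup.coe_one]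
  -- action of `m⁻¹` on covectors
  have hel : elast F (k + 2) ᵥ* ((m⁻¹ : SLn (k + 2) F) : Matrix (Fin (k + 2)) (Fin (k + 2)) F)
      = c3⁻¹ • elast F (k + 2) := by
    have h1 := congrArg (fun φ => φ ᵥ* ((m⁻¹ : SLn (k + 2) F) : Matrix (Fin (k + 2)) (Fin (k + 2)) F))
      (kitor_elast_vecMul h c1 c3)
    simp only [Matrix.vecMul_vecMul, ← hm1, hmm, Matrix.vecMul_one, Matrix.smul_vecMul] at h1
    rw [eq_inv_smul_iff₀ hc3]
    exact h1.symm
  have hemb : ∀ a : Fin k → F,
      emb a ᵥ* ((m⁻¹ : SLn (k + 2) F) : Matrix (Fin (k + 2)) (Fin (k + 2)) F) = emb ((h⁻¹)ᵀ *ᵥ a) := by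
    intro a
    have h1 := congrArg (fun φ => φ ᵥ* ((m⁻¹ : SLn (k + 2) F) : Matrix (Fin (k + 2)) (Fin (k + 2)) F))
      (kitor_emb_vecMul h c1 c3 (a ᵥ* h⁻¹))
    simp only [Matrix.vecMul_vecMul, ← hm1, hmm, Matrix.vecMul_one, hinvmul] at h1
    rw [Matrix.mulVec_transpose, h1]
  have hpair : ∀ a b : Fin k → F, ((h⁻¹)ᵀ *ᵥ a) ⬝ᵥ (h *ᵥ b) = a ⬝ᵥ b := by
    intro a b
    rw [Matrix.mulVec_transpose, ← Matrix.dotProduct_mulVec, Matrix.mulVec_mulVec, hinvmul,
      Matrix.one_mulVec]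
  refine ⟨m, ?_⟩
  intro a b c
  have hsplit : m * hu a b c * m⁻¹ =
      (m * tv (e0 F (k + 2)) (emb a + (c - a ⬝ᵥ b) • elast F (k + 2)) * m⁻¹) *
        (m * tv (emb b) (elast F (k + 2)) * m⁻¹) := by
    unfold hu
    group
  rw [hsplit, conj_tv, conj_tv, hm1, kitor_mulVec_e0, kitor_mulVec_emb, hel, Matrix.add_vecMul,
    Matrix.smul_vecMul, hel, hemb, tv_smul]
  unfold hu
  congr 1
  · congr 1
    rw [smul_add, kitor_emb_smul, smul_smul, smul_smul]
    congr 2
    rw [smul_dotProduct, dotProduct_smul, hpair, smul_eq_mul, smul_eq_mul]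
    ring
  · rw [← tv_smul, kitor_emb_smul]

end Cfsg.Agent.Lib.Helper81.Mi
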