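import Cfsg.Agent.Lib.Helper66.S3Defs

/-! # S3 hive (S4305, helper66), sub-split C1B of helper32: auxiliary lemmas for G6 (second hand, helper90).
Only `S3Defs` is imported. -/

set_option autoImplicit false

namespace Cfsg.Agent.Lib.Helper66.S3

universe u

section c1bx

variable {H V : Type u} [Group H] [CommGroup V] [MulDistribMulAction A3 H]
  [MulDistribMulAction A3 V] [MulDistribMulAction H V] {p r : ℕ} {F : Subgroup H}

/-- (a) the prime `r` is at least 5. -/
theorem c1bx_r_ge_five (cfg : Config H V p r F) : 5 ≤ r := by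
  haveI := cfg.hyp.finH
  have hr := cfg.rprime
  obtain ⟨h, hh⟩ : ∃ h : H, h ∉ F := by
    by_contra hcon
    push_neg at hcon
    exact cfg.Fne (eq_top_iff.mpr fun x _ => hcon x)
  have hcop6 : (orderOf h).Coprime 6 :=
    Nat.Coprime.coprime_dvd_left (orderOf_dvd_natCard h) cfg.hyp.copH
  have key : ¬ r.Coprime (orderOf h) := by
    intro hc
    obtain ⟨m, hm⟩ := exists_pow_eq_self_of_coprime hc
    apply hh
    rw [← hm]
    exact F.pow_mem (cfg.quot_exp h) m
  by_contra hlt
  push_neg at hlt
  have h2 := hr.two_le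
  interval_cases r
  · exact key (Nat.Coprime.symm (Nat.Coprime.coprime_dvd_right (by norm_num : 2 ∣ 6) hcop6))
  · exact key (Nat.Coprime.symm (Nat.Coprime.coprime_dvd_right (by norm_num : 3 ∣ 6) hcop6))
  · exact absurd hr (by decide)

/-- a subgroup containing `F` is normal. -/
theorem c1bx_normal_of_le (cfg : Config H V p r F) (M : Subgroup H) (hFM : F ≤ M) : M.Normal := by
  refine ⟨fun m hm g => ?_⟩
  have hc : g * m * g⁻¹ * m⁻¹ ∈ M := by
    apply hFM
    apply cfg.quot_comm
    rw [commutator_def]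
    have := Subgroup.commutator_mem_commutator (Subgroup.mem_top g) (Subgroup.mem_top m)
    simpa [commutatorElement_def] using this
  have : g * m * g⁻¹ = (g * m * g⁻¹ * m⁻¹) * m := by group
  rw [this]
  exact M.mul_mem hc hm

/-- (b) a proper subgroup containing `F` has index at least `r`. -/
theorem c1bx_index (cfg : Config H V p r F) (M : Subgroup H) (hFM : F ≤ M) (hM : M ≠ ⊤) :
    r * Nat.card M ≤ Nat.card H := by
  haveI := cfg.hyp.finH
  haveI : M.Normal := c1bx_normal_of_le cfg M hFM
  have hr := cfg.rprime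
  obtain ⟨h, hh⟩ : ∃ h : H, h ∉ M := by
    by_contra hcon
    push_neg at hcon
    exact hM (eq_top_iff.mpr fun x _ => hcon x)
  set q : H ⧸ M := (h : H ⧸ M) with hq
  have hq1 : q ≠ 1 := by
    intro h1
    exact hh ((QuotientGroup.eq_one_iff h).mp h1)
  have hqr : q ^ r = 1 := by
    rw [hq, ← QuotientGroup.mk_pow]
    exact (QuotientGroup.eq_one_iff _).mpr (hFM (cfg.quot_exp h))
  have hord : orderOf q = r := by
    have hdvd : orderOf q ∣ r := orderOf_dvd_of_pow_eq_one hqr
    rcases (Nat.dvd_prime hr).mp hdvd with h1 | h1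
    · exact absurd (orderOf_eq_one_iff.mp h1) hq1
    · exact h1
  have hdvd : r ∣ Nat.card (H ⧸ M) := hord ▸ orderOf_dvd_natCard q
  have hcard : Nat.card H = Nat.card (H ⧸ M) * Nat.card M :=
    Subgroup.card_eq_card_quotient_mul_card_subgroup M
  have hpos : 0 < Nat.card (H ⧸ M) := Nat.card_pos
  have hle : r ≤ Nat.card (H ⧸ M) := Nat.le_of_dvd hpos hdvd
  rw [hcard]
  exact Nat.mul_le_mul_right _ hle

end c1bx

end Cfsg.Agent.Lib.Helper66.S3
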