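import Cfsg.Agent.Lib.Helper66.S3Defs
import Cfsg.Agent.Lib.Helper66.S3.D3
import Cfsg.Agent.Lib.Helper32.S3C1Bbase
import Cfsg.Agent.Lib.Helper90.S3C1BG6a

/-! # S3 hive (S4305, helper66), sub-split C1B of helper32, G6: the `σ`-fixed set of an `H`-orbit of
components is small (helper90, piece (c) as assigned by helper32 in #9340). -/

set_option autoImplicit false

namespace Cfsg.Agent.Lib.Helper66.S3

universe u

section c1bx

variable {H V : Type u} [Group H] [CommGroup V] [MulDistribMulAction A3 H]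
  [MulDistribMulAction A3 V] [MulDistribMulAction H V] {p r : ℕ} {F : Subgroup H}

/-- the stabilizer in `H` of the subgroup `C` under conjugation. -/
def c1bxStab (C : Subgroup H) : Subgroup H where
  carrier := {k | mapH k C = C}
  one_mem' := c1b_mapH_one C
  mul_mem' := by
    intro x y hx hy
    show mapH (x * y) C = C
    rw [c1b_mapH_mul, (show mapH y C = C from hy), (show mapH x C = C from hx)]
  inv_mem' := by
    intro x hx
    show mapH x⁻¹ C = C
    have hx' : mapH x C = C := hx
    calc mapH x⁻¹ C = mapH x⁻¹ (mapH x C) := by rw [hx']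
      _ = mapH (x⁻¹ * x) C := by rw [c1b_mapH_mul]
      _ = C := by rw [inv_mul_cancel, c1b_mapH_one]

theorem c1bx_mem_stab (C : Subgroup H) (k : H) : k ∈ c1bxStab C ↔ mapH k C = C := Iff.rfl

/-- two points of the orbit agree iff the quotient lies in the stabilizer. -/
theorem c1bx_mapH_eq (C : Subgroup H) (h h' : H) (he : mapH h' C = mapH h C) :
    h⁻¹ * h' ∈ c1bxStab C := by
  show mapH (h⁻¹ * h') C = C
  rw [c1b_mapH_mul, he, ← c1b_mapH_mul, inv_mul_cancel, c1b_mapH_one]

/-- D1' (own copy): a nonzero component has its kernel inside `F`. -/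
theorem c1bx_comp_le (C : Subgroup H) (hC : comp (V := V) F C ≠ ⊥) : C ≤ F := by
  by_contra hcon
  apply hC
  unfold comp
  rw [eq_bot_iff]
  apply iSup_le
  intro U
  apply iSup_le
  rintro ⟨_, hker⟩
  exfalso
  apply hcon
  rw [← hker]
  intro f hf
  exact hf.1

/-- G3 (own copy): `F` fixes every nonzero component. -/
theorem c1bx_F_le_stab (cfg : Config H V p r F) (C : Subgroup H) (hC : comp (V := V) F C ≠ ⊥) :
    ∀ f ∈ F, mapH f C = C := by
  intro f hf
  have hCF := c1bx_comp_le (V := V) C hC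
  ext x
  rw [c1b_mem_mapH]
  constructor
  · intro hx
    have hxF : f⁻¹ * x * f ∈ F := hCF hx
    have hxF' : x ∈ F := by
      have : x = f * (f⁻¹ * x * f) * f⁻¹ := by group
      rw [this]
      exact F.mul_mem (F.mul_mem hf hxF) (F.inv_mem hf)
    have : f⁻¹ * x * f = x := by
      rw [mul_assoc, cfg.Fcomm x hxF' f hf, ← mul_assoc, inv_mul_cancel, one_mul]
    rwa [this] at hx
  · intro hx
    have hxF : x ∈ F := hCF hx
    have : f⁻¹ * x * f = x := by
      rw [mul_assoc, cfg.Fcomm x hxF f hf, ← mul_assoc, inv_mul_cancel, one_mul]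
    rwa [this]

/-- G2 (own copy): the `H`-translates of a nonzero component are nonzero. -/
theorem c1bx_Om_mapH (cfg : Config H V p r F) (C : Subgroup H) (hC : comp (V := V) F C ≠ ⊥) (h : H) :
    comp (V := V) F (mapH h C) ≠ ⊥ := by
  obtain ⟨⟨v, hv⟩, hv1'⟩ := (Subgroup.ne_bot_iff_exists_ne_one).mp hC
  have hv1 : v ≠ 1 := fun h1 => hv1' (Subtype.ext h1)
  intro hbot
  have hmem := comp_smulH cfg C h v hv
  rw [hbot, Subgroup.mem_bot] at hmem
  apply hv1
  have : h⁻¹ • (h • v) = h⁻¹ • (1 : V) := by rw [hmem]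
  rwa [inv_smul_smul, smul_one] at this

/-- (c), core: the `σ`-fixed set of the `H`-orbit of `C` has at most `|H| / r` elements. -/
theorem c1bx_sig_set (cfg : Config H V p r F)
    (hone : ∀ (C : Subgroup H), comp (V := V) F C ≠ ⊥ → mapA sig C = C → ∀ h : H,
      mapA sig (mapH h C) = mapH h C → mapH h C = C)
    (C : Subgroup H) (hC : comp (V := V) F C ≠ ⊥) (hCtop : ∃ h : H, mapH h C ≠ C) :
    Set.ncard {h : H | mapA sig (mapH h C) = mapH h C} * r ≤ Nat.card H := by
  classical
  haveI := cfg.hyp.finH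
  by_cases hne : ∃ h₀ : H, mapA sig (mapH h₀ C) = mapH h₀ C
  · obtain ⟨h₀, hh₀⟩ := hne
    have hFle : F ≤ c1bxStab C := fun f hf => c1bx_F_le_stab cfg C hC f hf
    have hne_top : c1bxStab C ≠ ⊤ := by
      intro htop
      obtain ⟨h, hh⟩ := hCtop
      exact hh ((c1bx_mem_stab C h).mp (htop ▸ Subgroup.mem_top h))
    have hidx := c1bx_index cfg (c1bxStab C) hFle hne_top
    have hsub : {h : H | mapA sig (mapH h C) = mapH h C} ⊆
        (fun k => h₀ * k) '' ((c1bxStab C : Subgroup H) : Set H) := by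
      intro h hh
      have hh' : mapA sig (mapH h C) = mapH h C := hh
      have h1 : mapH (h * h₀⁻¹) (mapH h₀ C) = mapH h C := by
        rw [← c1b_mapH_mul, inv_mul_cancel_right]
      have h2 : mapH (h * h₀⁻¹) (mapH h₀ C) = mapH h₀ C := by
        apply hone (mapH h₀ C) (c1bx_Om_mapH cfg C hC h₀) hh₀ (h * h₀⁻¹)
        rw [h1]; exact hh'
      have h3 : mapH h C = mapH h₀ C := by rw [← h1, h2]
      refine ⟨h₀⁻¹ * h, c1bx_mapH_eq C h₀ h h3, ?_⟩
      show h₀ * (h₀⁻¹ * h) = h
      group
    have hcard1 : Set.ncard {h : H | mapA sig (mapH h C) = mapH h C} ≤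
        Set.ncard ((fun k => h₀ * k) '' ((c1bxStab C : Subgroup H) : Set H)) :=
      Set.ncard_le_ncard hsub (Set.toFinite _)
    have hcard2 : Set.ncard ((fun k => h₀ * k) '' ((c1bxStab C : Subgroup H) : Set H)) ≤
        Set.ncard ((c1bxStab C : Subgroup H) : Set H) := Set.ncard_image_le (Set.toFinite _)
    have hcard3 : Set.ncard ((c1bxStab C : Subgroup H) : Set H) = Nat.card ↥(c1bxStab C) :=
      (Nat.card_coe_set_eq _).symm
    calc Set.ncard {h : H | mapA sig (mapH h C) = mapH h C} * r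
        ≤ Nat.card ↥(c1bxStab C) * r := by
          apply Nat.mul_le_mul_right
          rw [← hcard3]; exact hcard1.trans hcard2
      _ = r * Nat.card ↥(c1bxStab C) := mul_comm _ _
      _ ≤ Nat.card H := hidx
  · have hempty : {h : H | mapA sig (mapH h C) = mapH h C} = ∅ := by
      ext h
      simp only [Set.mem_setOf_eq, Set.mem_empty_iff_false, iff_false]
      exact fun hh => hne ⟨h, hh⟩
    rw [hempty, Set.ncard_empty, zero_mul]
    exact Nat.zero_le _

end c1bx

end Cfsg.Agent.Lib.Helper66.S3
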