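import Cfsg.Agent.Lib.Helper66.S3Defs
import Cfsg.Agent.Lib.Helper66.S3.D3
import Cfsg.Agent.Lib.Helper32.S3C1Bbase
import Cfsg.Agent.Lib.Helper90.S3C1BG6a
import Cfsg.Agent.Lib.Helper90.S3C1BG6s

/-! # S3 hive (S4305, helper66), sub-split C1B of helper32, G6c (backup copy by helper90, own name
`c1bx_fixset`): the set of points of an `H`-orbit of components fixed by `a : A3` is empty or a coset of
a subgroup containing `F`. -/

set_option autoImplicit false

namespace Cfsg.Agent.Lib.Helper66.S3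

universe u

section c1bx

variable {H V : Type u} [Group H] [CommGroup V] [MulDistribMulAction A3 H]
  [MulDistribMulAction A3 V] [MulDistribMulAction H V] {p r : ℕ} {F : Subgroup H}

/-- the subgroup `{k | k⁻¹ * a • k ∈ N}` for a normal subgroup `N`. -/
def c1bxTw (a : A3) (N : Subgroup H) [hN : N.Normal] : Subgroup H where
  carrier := {k | k⁻¹ * a • k ∈ N}
  one_mem' := by
    show (1 : H)⁻¹ * a • (1 : H) ∈ N
    rw [smul_one, inv_one, one_mul]; exact N.one_mem
  mul_mem' := by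
    intro x y hx hy
    show (x * y)⁻¹ * a • (x * y) ∈ N
    have hx' : x⁻¹ * a • x ∈ N := hx
    have hy' : y⁻¹ * a • y ∈ N := hy
    have h1 : y⁻¹ * (x⁻¹ * a • x) * y⁻¹⁻¹ ∈ N := hN.conj_mem _ hx' y⁻¹
    have : (x * y)⁻¹ * a • (x * y) = (y⁻¹ * (x⁻¹ * a • x) * y⁻¹⁻¹) * (y⁻¹ * a • y) := by
      rw [smul_mul']; group
    rw [this]
    exact N.mul_mem h1 hy'
  inv_mem' := by
    intro x hx
    show x⁻¹⁻¹ * a • x⁻¹ ∈ N
    have hx' : x⁻¹ * a • x ∈ N := hx
    have h1 : x * (x⁻¹ * a • x)⁻¹ * x⁻¹ ∈ N := hN.conj_mem _ (N.inv_mem hx') x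
    have : x⁻¹⁻¹ * a • x⁻¹ = x * (x⁻¹ * a • x)⁻¹ * x⁻¹ := by
      rw [smul_inv']; group
    rw [this]
    exact h1

/-- G6c (backup copy): the `a`-fixed set of the `H`-orbit of `C`. -/
theorem c1bx_fixset (cfg : Config H V p r F) (C : Subgroup H) (hC : comp (V := V) F C ≠ ⊥) (a : A3) :
    ∃ M : Subgroup H, F ≤ M ∧ (M = ⊤ → ∀ h : H, mapA a (mapH h C) = mapH h C) ∧
      Set.ncard {h : H | mapA a (mapH h C) = mapH h C} ≤ Nat.card M := by
  classical
  haveI := cfg.hyp.finH
  by_cases hne : ∃ h₀ : H, mapA a (mapH h₀ C) = mapH h₀ C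
  · obtain ⟨h₀, hh₀⟩ := hne
    set C₀ : Subgroup H := mapH h₀ C with hC₀
    have hC₀Om : comp (V := V) F C₀ ≠ ⊥ := c1bx_Om_mapH cfg C hC h₀
    have hFle : F ≤ c1bxStab C₀ := fun f hf => c1bx_F_le_stab cfg C₀ hC₀Om f hf
    haveI hN : (c1bxStab C₀).Normal := c1bx_normal_of_le cfg _ hFle
    -- translation of points
    have hpt : ∀ h : H, mapH (h * h₀⁻¹) C₀ = mapH h C := by
      intro h
      rw [hC₀, ← c1b_mapH_mul, inv_mul_cancel_right]
    -- membership criterion
    have hcrit : ∀ k : H, mapA a (mapH k C₀) = mapH k C₀ ↔ k ∈ c1bxTw a (c1bxStab C₀) := by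
      intro k
      have h1 : mapA a (mapH k C₀) = mapH (a • k) C₀ := by rw [c1b_mapA_mapH, hh₀]
      rw [h1]
      constructor
      · intro he
        exact c1bx_mapH_eq C₀ k (a • k) he
      · intro hk
        have hk' : mapH (k⁻¹ * a • k) C₀ = C₀ := hk
        calc mapH (a • k) C₀ = mapH (k * (k⁻¹ * a • k)) C₀ := by
              rw [mul_inv_cancel_left]
          _ = mapH k C₀ := by rw [c1b_mapH_mul, hk']
    refine ⟨c1bxTw a (c1bxStab C₀), ?_, ?_, ?_⟩
    · intro f hf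
      show f⁻¹ * a • f ∈ c1bxStab C₀
      exact hFle (F.mul_mem (F.inv_mem hf) (cfg.FA a f hf))
    · intro htop h
      have hk : h * h₀⁻¹ ∈ c1bxTw a (c1bxStab C₀) := htop ▸ Subgroup.mem_top _
      have := (hcrit (h * h₀⁻¹)).mpr hk
      rwa [hpt h] at this
    · have hsub : {h : H | mapA a (mapH h C) = mapH h C} ⊆
          (fun k => k * h₀) '' ((c1bxTw a (c1bxStab C₀) : Subgroup H) : Set H) := by
        intro h hh
        have hh' : mapA a (mapH h C) = mapH h C := hh
        refine ⟨h * h₀⁻¹, ?_, ?_⟩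
        · apply (hcrit (h * h₀⁻¹)).mp
          rw [hpt h]; exact hh'
        · show h * h₀⁻¹ * h₀ = h
          group
      calc Set.ncard {h : H | mapA a (mapH h C) = mapH h C}
          ≤ Set.ncard ((fun k => k * h₀) '' ((c1bxTw a (c1bxStab C₀) : Subgroup H) : Set H)) :=
            Set.ncard_le_ncard hsub (Set.toFinite _)
        _ ≤ Set.ncard ((c1bxTw a (c1bxStab C₀) : Subgroup H) : Set H) :=
            Set.ncard_image_le (Set.toFinite _)
        _ = Nat.card ↥(c1bxTw a (c1bxStab C₀)) := (Nat.card_coe_set_eq _)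
  · refine ⟨F, le_refl F, fun htop => absurd htop cfg.Fne, ?_⟩
    have hempty : {h : H | mapA a (mapH h C) = mapH h C} = ∅ := by
      ext h
      simp only [Set.mem_setOf_eq, Set.mem_empty_iff_false, iff_false]
      exact fun hh => hne ⟨h, hh⟩
    rw [hempty, Set.ncard_empty]
    exact Nat.zero_le _

end c1bx

end Cfsg.Agent.Lib.Helper66.S3
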