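import Cfsg.Agent.Lib.Helper70.SlK2Defs
import Cfsg.Agent.Lib.Helper3.Degree
import Cfsg.Agent.Lib.Helper3.CharOps

/-!
# K2-FIB (Sl hive S2332 of helper76, sub-hive K2 of helper70)

The map `(v, f) ↦ 1 + v fᵀ` from `TPair` onto `Tset` has all fibres of size `q - 1`.
-/

set_option autoImplicit false

namespace Cfsg.Agent.Lib.Helper76.Sl

open Matrix Cfsg

variable {F : Type*} [Field F] [Fintype F] [DecidableEq F]

omit [Fintype F] [DecidableEq F] in
theorem k2fib_det {n : ℕ} (v f : Fin n → F) (h : f ⬝ᵥ v = 0) :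
    (1 + Matrix.vecMulVec v f).det = 1 := by
  rw [Matrix.vecMulVec_eq Unit, Matrix.det_one_add_replicateCol_mul_replicateRow, h, add_zero]

omit [Fintype F] [DecidableEq F] in
/-- the fibre lemma on raw vectors -/
theorem k2fib_fiber {n : ℕ} (v f v' f' : Fin n → F) (hv : v ≠ 0) (hf : f ≠ 0)
    (h1 : Matrix.vecMulVec v f = Matrix.vecMulVec v' f') :
    ∃ c : Fˣ, v' = (c : F) • v ∧ f' = ((c⁻¹ : Fˣ) : F) • f := by
  have h2 : ∀ i j, v i * f j = v' i * f' j := by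
    intro i j
    have := congrFun (congrFun h1 i) j
    simpa [Matrix.vecMulVec_apply] using this
  obtain ⟨i₀, hi₀⟩ : ∃ i, v i ≠ 0 := by
    by_contra hcon
    push_neg at hcon
    exact hv (funext hcon)
  obtain ⟨j₀, hj₀⟩ : ∃ j, f j ≠ 0 := by
    by_contra hcon
    push_neg at hcon
    exact hf (funext hcon)
  have h00 : v' i₀ * f' j₀ ≠ 0 := by
    rw [← h2]; exact mul_ne_zero hi₀ hj₀
  have hv'0 : v' i₀ ≠ 0 := left_ne_zero_of_mul h00
  have hf'0 : f' j₀ ≠ 0 := right_ne_zero_of_mul h00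
  refine ⟨Units.mk0 (v' i₀ / v i₀) (div_ne_zero hv'0 hi₀), ?_, ?_⟩
  · show v' = (v' i₀ / v i₀) • v
    funext i
    rw [Pi.smul_apply, smul_eq_mul]
    have h3 : v' i * v i₀ * f j₀ = v' i₀ * v i * f j₀ := by
      calc v' i * v i₀ * f j₀ = v' i * (v i₀ * f j₀) := by ring
        _ = v' i * (v' i₀ * f' j₀) := by rw [h2 i₀ j₀]
        _ = v' i₀ * (v' i * f' j₀) := by ring
        _ = v' i₀ * (v i * f j₀) := by rw [h2 i j₀]
        _ = v' i₀ * v i * f j₀ := by ring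
    have h4 : v' i * v i₀ = v' i₀ * v i := mul_right_cancel₀ hj₀ h3
    field_simp
    exact h4
  · show f' = ((Units.mk0 (v' i₀ / v i₀) (div_ne_zero hv'0 hi₀))⁻¹ : Fˣ).1 • f
    funext j
    rw [Pi.smul_apply, smul_eq_mul, Units.val_inv_eq_inv_val, Units.val_mk0]
    have h3 := h2 i₀ j
    field_simp
    rw [mul_comm (f' j), ← h3, mul_comm]

omit [Fintype F] [DecidableEq F] in
theorem k2fib_scale {n : ℕ} (c : Fˣ) (v f : Fin n → F) :
    Matrix.vecMulVec ((c : F) • v) (((c⁻¹ : Fˣ) : F) • f) = Matrix.vecMulVec v f := by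
  ext i j
  simp only [Matrix.vecMulVec_apply, Pi.smul_apply, smul_eq_mul]
  have : (c : F) * ((c⁻¹ : Fˣ) : F) = 1 := by rw [← Units.val_mul, mul_inv_cancel, Units.val_one]
  calc (c : F) * v i * (((c⁻¹ : Fˣ) : F) * f j) = ((c : F) * ((c⁻¹ : Fˣ) : F)) * (v i * f j) := by ring
    _ = v i * f j := by rw [this, one_mul]

/-- K2-FIB -/
theorem card_TPair_eq (m : ℕ) :
    Nat.card (TPair F (m + 2)) = (Fintype.card F - 1) * Nat.card (Tset F m) := by
  classical
  -- representatives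
  have hrep : ∀ g : Tset F m, ∃ p : TPair F (m + 2),
      (g.1 : Gm F m).1 = 1 + Matrix.vecMulVec p.1.1 p.1.2 := by
    rintro ⟨g, v, f, hv, hf, hfv, hg⟩
    exact ⟨⟨(v, f), hv, hf, hfv⟩, hg⟩
  choose rep hrep using hrep
  have hcne : ∀ c : Fˣ, (c : F) ≠ 0 := fun c => c.ne_zero
  let Φ : Fˣ × Tset F m → TPair F (m + 2) := fun x =>
    ⟨((x.1 : F) • (rep x.2).1.1, ((x.1⁻¹ : Fˣ) : F) • (rep x.2).1.2),
      smul_ne_zero (hcne _) (rep x.2).2.1, smul_ne_zero (hcne _) (rep x.2).2.2.1, by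
        show (((x.1⁻¹ : Fˣ) : F) • (rep x.2).1.2) ⬝ᵥ ((x.1 : F) • (rep x.2).1.1) = 0
        rw [smul_dotProduct, dotProduct_smul, (rep x.2).2.2.2, smul_zero, smul_zero]⟩
  have hΦmat : ∀ x, (1 : Matrix (Fin (m + 2)) (Fin (m + 2)) F) +
      Matrix.vecMulVec (Φ x).1.1 (Φ x).1.2 = (x.2.1 : Gm F m).1 := by
    intro x
    show 1 + Matrix.vecMulVec ((x.1 : F) • (rep x.2).1.1) (((x.1⁻¹ : Fˣ) : F) • (rep x.2).1.2) = _
    rw [k2fib_scale, hrep]
  have hbij : Function.Bijective Φ := by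
    constructor
    · rintro ⟨c, g⟩ ⟨c', g'⟩ h
      have hg : g = g' := by
        apply Subtype.ext
        apply Subtype.ext
        rw [← hΦmat (c, g), ← hΦmat (c', g'), h]
      subst hg
      have h1 : (c : F) • (rep g).1.1 = (c' : F) • (rep g).1.1 := by
        have := congrArg (fun p : TPair F (m + 2) => p.1.1) h
        exact this
      have h2 : ((c : F) - (c' : F)) • (rep g).1.1 = 0 := by rw [sub_smul, h1, sub_self]
      rcases smul_eq_zero.mp h2 with h3 | h3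
      · have : c = c' := Units.ext (sub_eq_zero.mp h3)
        rw [this]
      · exact absurd h3 (rep g).2.1
    · intro p
      have hdet : (1 + Matrix.vecMulVec p.1.1 p.1.2 : Matrix (Fin (m + 2)) (Fin (m + 2)) F).det = 1 :=
        k2fib_det _ _ p.2.2.2
      let g : Tset F m := ⟨⟨1 + Matrix.vecMulVec p.1.1 p.1.2, hdet⟩,
        p.1.1, p.1.2, p.2.1, p.2.2.1, p.2.2.2, rfl⟩
      have hg : (1 : Matrix (Fin (m + 2)) (Fin (m + 2)) F) + Matrix.vecMulVec p.1.1 p.1.2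
          = 1 + Matrix.vecMulVec (rep g).1.1 (rep g).1.2 := hrep g
      obtain ⟨c, hc1, hc2⟩ := k2fib_fiber (rep g).1.1 (rep g).1.2 p.1.1 p.1.2 (rep g).2.1 (rep g).2.2.1
        (add_left_cancel hg).symm
      refine ⟨(c, g), ?_⟩
      apply Subtype.ext
      show ((c : F) • (rep g).1.1, ((c⁻¹ : Fˣ) : F) • (rep g).1.2) = p.1
      rw [← hc1, ← hc2]
  rw [← Nat.card_congr (Equiv.ofBijective Φ hbij), Nat.card_prod, Nat.card_units,
    Nat.card_eq_fintype_card]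

end Cfsg.Agent.Lib.Helper76.Sl
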