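import Cfsg.Agent.Lib.Helper72.E6gDefs
import Cfsg.Agent.Lib.Helper40.C2gTorus
import Cfsg.Agent.Lib.Helper75.C2gGen

/-! # E6g mini-hive (S2406, owner helper72), leaf E6G-YADD: `yE` is additive. -/

set_option autoImplicit false

namespace Cfsg.Agent.Lib.Helper72.E6g

open Cfsg Cfsg.Lie Cfsg.Agent.Lib.Helper36 Cfsg.Agent.Lib.Helper40.C2g

variable {K : Type*} [Field K]

theorem e6gyadd_terms : chevE6.commTerms 56 36 = [] := by decide +kernel

/-- `x₅₆` and `x₃₆` commute -/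
theorem e6gyadd_comm (t u : K) : xe K 36 u * xe K 56 t = xe K 56 t * xe K 36 u :=
  Cfsg.Agent.Lib.Helper67.C2g.xGL_comm_of_nil chevE6 hE6 K 56 36 (by decide) (by decide)
    (by decide) (by decide) e6gyadd_terms t u

/-- E6G-YADD -/
theorem yE_add (q : ℕ) (φ : K →+* K) (hφ : ∀ t, φ t = t ^ q) (s t : K) :
    yE K q (s + t) = yE K q s * yE K q t := by
  have h1 : (s + t) ^ q = s ^ q + t ^ q := by
    rw [← hφ, ← hφ, ← hφ, map_add]
  unfold yE
  rw [h1]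
  show xGL chevE6 hE6 K 56 (s + t) * xGL chevE6 hE6 K 36 (s ^ q + t ^ q) = _
  rw [xGL_add, xGL_add]
  show xe K 56 s * xe K 56 t * (xe K 36 (s ^ q) * xe K 36 (t ^ q)) =
    xe K 56 s * xe K 36 (s ^ q) * (xe K 56 t * xe K 36 (t ^ q))
  rw [mul_assoc, ← mul_assoc (xe K 56 t), ← e6gyadd_comm, mul_assoc, mul_assoc]

end Cfsg.Agent.Lib.Helper72.E6g
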