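import Cfsg.Agent.Lib.Helper73.SlK5Defs
import Cfsg.Agent.Lib.Helper3.CharOps

/-!
# SL-K5-NORM (SL-K5 sub-hive of helper73, Sl hive S2332 of helper76)

`diag(1, A)` normalises `Q` (the matrices whose rows `≠ 0` are identity rows).
-/

set_option autoImplicit false

namespace Cfsg.Agent.Lib.Helper76.Sl

open Matrix Cfsg

variable {F : Type*} [Field F] [Fintype F] [DecidableEq F]

theorem k5norm_col_zero (m : ℕ) (A : Matrix (Fin (m + 2)) (Fin (m + 2)) F) (i : Fin (m + 3))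
    (hi : i ≠ 0) : k5Mat F m A i 0 = 0 := by
  obtain ⟨i', rfl⟩ := Fin.exists_succ_eq.mpr hi
  simp [k5Mat]

/-- SL-K5-NORM: `diag(1, A)` normalises `Q`. -/
theorem k5_norm (m : ℕ) (l : Gm F m) (y x : Gm F (m + 1)) (hy : y.1 = k5Mat F m l.1)
    (hx : x ∈ Qset F (m + 1)) : y * x * y⁻¹ ∈ Qset F (m + 1) := by
  intro i j hi
  have hY0 : y.1 i 0 = 0 := by rw [hy]; exact k5norm_col_zero m l.1 i hi
  have hrow : ∀ k, (y.1 * x.1) i k = y.1 i k := by
    intro k
    rw [Matrix.mul_apply]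
    have : ∀ t ∈ (Finset.univ : Finset (Fin (m + 1 + 2))), y.1 i t * x.1 t k
        = y.1 i t * (1 : Matrix (Fin (m + 1 + 2)) (Fin (m + 1 + 2)) F) t k := by
      intro t _
      by_cases ht : t = 0
      · subst ht
        rw [hY0, zero_mul, zero_mul]
      · rw [hx t k ht]
    rw [Finset.sum_congr rfl this, ← Matrix.mul_apply, Matrix.mul_one]
  have hinv : y.1 * (y⁻¹).1 = 1 := by
    rw [← Matrix.SpecialLinearGroup.coe_mul, mul_inv_cancel, Matrix.SpecialLinearGroup.coe_one]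
  show (y * x * y⁻¹).1 i j = _
  rw [Matrix.SpecialLinearGroup.coe_mul, Matrix.SpecialLinearGroup.coe_mul, Matrix.mul_apply]
  rw [Finset.sum_congr rfl (fun k _ => by rw [hrow k])]
  rw [← Matrix.mul_apply, hinv]

end Cfsg.Agent.Lib.Helper76.Sl
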