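import Mathlib

set_option autoImplicit false

namespace Cfsg.Agent.Lib.Helper90

section
variable {A : Type*} [Group A]

/-- An odd-order automorphism of a commutative 2-group fixing all elements of square one is
trivial. -/
theorem aut_eq_one_of_fix_sq_one (hcomm : ∀ a b : A, a * b = b * a) (hA : IsPGroup 2 A)
    (φ : MulAut A) (k : ℕ) (hk : Odd k) (hφk : φ ^ k = 1)
    (hfix : ∀ t : A, t ^ 2 = 1 → φ t = t) : φ = 1 := by
  have key : ∀ j : ℕ, ∀ a : A, a ^ (2 ^ j) = 1 → φ a = a := by
    intro j
    induction j with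
    | zero =>
      intro a ha
      rw [pow_zero, pow_one] at ha
      rw [ha, map_one]
    | succ j ih =>
      intro a ha
      have h2 : φ (a ^ 2) = a ^ 2 := ih _ (by rw [← pow_mul, ← pow_succ']; exact ha)
      obtain ⟨c, hc⟩ : ∃ c, c = φ a * a⁻¹ := ⟨_, rfl⟩
      have hφa : φ a = a * c := by rw [hc, hcomm a, inv_mul_cancel_right]
      have hc2 : c ^ 2 = 1 := by
        have : c ^ 2 = φ (a ^ 2) * (a ^ 2)⁻¹ := by
          rw [hc, map_pow, (show Commute (φ a) a⁻¹ from hcomm _ _).mul_pow, inv_pow]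
        rw [this, h2, mul_inv_cancel]
      have hφc : φ c = c := hfix c hc2
      have hpow : ∀ i : ℕ, (φ ^ i) a = a * c ^ i := by
        intro i
        induction i with
        | zero => simp
        | succ i ih2 =>
          rw [pow_succ', MulAut.mul_apply, ih2, map_mul, map_pow, hφc, hφa, mul_assoc, ← pow_succ']
      have h3 := hpow k
      rw [hφk, MulAut.one_apply] at h3
      have hck : c ^ k = 1 := by
        have h4 : a * 1 = a * c ^ k := by rw [mul_one]; exact h3
        exact (mul_left_cancel h4).symm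
      obtain ⟨q, hq⟩ := hk
      have hc1 : c = 1 := by
        have : c ^ k = c := by rw [hq, pow_succ, pow_mul, hc2, one_pow, one_mul]
        rw [← this, hck]
      rw [hφa, hc1, mul_one]
  apply MulEquiv.ext
  intro a
  obtain ⟨j, hj⟩ := hA a
  exact key j a hj

theorem orderOf_two_iff' (t : A) : orderOf t = 2 ↔ t ≠ 1 ∧ t * t = 1 := by
  constructor
  · intro ht
    refine ⟨?_, ?_⟩
    · rintro rfl
      rw [orderOf_one] at ht; omega
    · have := pow_orderOf_eq_one t
      rwa [ht, sq] at this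
  · rintro ⟨h1, h2⟩
    exact orderOf_eq_prime (by rw [sq]; exact h2) h1

/-- In a 2-group every nonidentity element has a power of order two. -/
theorem exists_pow_orderOf_two (hA : IsPGroup 2 A) (z : A) (hz : z ≠ 1) :
    ∃ i : ℕ, orderOf (z ^ i) = 2 := by
  obtain ⟨j, hj⟩ := (IsPGroup.iff_orderOf.mp hA) z
  have hj0 : j ≠ 0 := by
    rintro rfl
    rw [pow_zero, orderOf_eq_one_iff] at hj
    exact hz hj
  obtain ⟨i, rfl⟩ := Nat.exists_eq_succ_of_ne_zero hj0
  refine ⟨2 ^ i, ?_⟩
  have hdvd : 2 ^ i ∣ orderOf z := by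
    rw [hj]; exact pow_dvd_pow 2 (by omega)
  rw [orderOf_pow_of_dvd (by positivity) hdvd, hj, Nat.succ_eq_add_one, pow_succ,
    Nat.mul_div_cancel_left _ (by positivity)]

end

/-- A commutative 2-group with exactly three involutions `t`, `u`, `t * u`. -/
structure ThreeInv (A : Type*) [Group A] (t u : A) : Prop where
  comm : ∀ a b : A, a * b = b * a
  pgroup : IsPGroup 2 A
  ot : orderOf t = 2
  ou : orderOf u = 2
  ne : t ≠ u
  all : ∀ s : A, orderOf s = 2 → s = t ∨ s = u ∨ s = t * u

namespace ThreeInv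

variable {A : Type*} [Group A] {t u : A}

theorem of_equiv {B : Type*} [Group B] (e : A ≃* B) {t u : B} (h : ThreeInv B t u) :
    ThreeInv A (e.symm t) (e.symm u) where
  comm a b := by
    apply e.injective
    rw [map_mul, map_mul, h.comm]
  pgroup := h.pgroup.of_equiv e.symm
  ot := by rw [MulEquiv.orderOf_eq]; exact h.ot
  ou := by rw [MulEquiv.orderOf_eq]; exact h.ou
  ne := fun he => h.ne (e.symm.injective he)
  all s hs := by
    have h1 : orderOf (e s) = 2 := by rw [MulEquiv.orderOf_eq]; exact hs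
    rcases h.all (e s) h1 with h2 | h2 | h2
    · left; rw [← h2, e.symm_apply_apply]
    · right; left; rw [← h2, e.symm_apply_apply]
    · right; right; rw [← map_mul, ← h2, e.symm_apply_apply]

variable (h : ThreeInv A t u)
include h

theorem tt : t * t = 1 := ((orderOf_two_iff' t).mp h.ot).2
theorem uu : u * u = 1 := ((orderOf_two_iff' u).mp h.ou).2

theorem otu : orderOf (t * u) = 2 := by
  rw [orderOf_two_iff']
  refine ⟨fun he => h.ne ?_, ?_⟩
  · have : t = u⁻¹ := eq_inv_of_mul_eq_one_left he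
    rw [this]; exact inv_eq_of_mul_eq_one_right h.uu
  · rw [← sq, (show Commute t u from h.comm t u).mul_pow, sq, sq, h.tt, h.uu, one_mul]

/-- Any two distinct involutions and their product are all the involutions. -/
theorem all' (s r w : A) (hs : orderOf s = 2) (hr : orderOf r = 2) (hsr : s ≠ r)
    (hw : orderOf w = 2) : w = s ∨ w = r ∨ w = s * r := by
  have tt := h.tt
  have uu := h.uu
  have e1 : t * (t * u) = u := by rw [← mul_assoc, tt, one_mul]
  have e2 : u * (t * u) = t := by rw [h.comm t u, ← mul_assoc, uu, one_mul]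
  have e3 : (t * u) * t = u := by rw [h.comm, e1]
  have e4 : (t * u) * u = t := by rw [mul_assoc, uu, mul_one]
  have e5 : u * t = t * u := h.comm u t
  rcases h.all s hs with h1 | h1 | h1 <;> rcases h.all r hr with h2 | h2 | h2 <;>
    rcases h.all w hw with h3 | h3 | h3 <;>
    first
    | exact absurd (h1.trans h2.symm) hsr
    | (left; rw [h1, h3]; done)
    | (right; left; rw [h2, h3]; done)
    | (right; right; rw [h1, h2, h3]; done)
    | (right; right; rw [h1, h2, h3, e1]; done)
    | (right; right; rw [h1, h2, h3, e2]; done)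
    | (right; right; rw [h1, h2, h3, e3]; done)
    | (right; right; rw [h1, h2, h3, e4]; done)
    | (right; right; rw [h1, h2, h3, e5]; done)

theorem exists_other (s : A) (_hs : orderOf s = 2) : ∃ r : A, orderOf r = 2 ∧ s ≠ r := by
  by_cases hst : s = t
  · exact ⟨u, h.ou, by rw [hst]; exact h.ne⟩
  · exact ⟨t, h.ot, hst⟩

/-- An odd-order automorphism fixing two distinct involutions is trivial. -/
theorem eq_one_of_fix_two (φ : MulAut A) (k : ℕ) (hk : Odd k) (hφk : φ ^ k = 1) (s r : A)
    (hs : orderOf s = 2) (hr : orderOf r = 2) (hsr : s ≠ r) (hfs : φ s = s) (hfr : φ r = r) :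
    φ = 1 := by
  apply aut_eq_one_of_fix_sq_one h.comm h.pgroup φ k hk hφk
  intro w hw2
  by_cases hw1 : w = 1
  · rw [hw1, map_one]
  · have hw : orderOf w = 2 := (orderOf_two_iff' w).mpr ⟨hw1, by rw [← sq]; exact hw2⟩
    rcases h.all' s r w hs hr hsr hw with rfl | rfl | rfl
    · exact hfs
    · exact hfr
    · rw [map_mul, hfs, hfr]

/-- An odd-order automorphism fixing an involution is trivial. -/
theorem eq_one_of_fix_inv (φ : MulAut A) (k : ℕ) (hk : Odd k) (hφk : φ ^ k = 1) (s : A)
    (hs : orderOf s = 2) (hfs : φ s = s) : φ = 1 := by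
  obtain ⟨r, hr, hsr⟩ := h.exists_other s hs
  have ss : s * s = 1 := ((orderOf_two_iff' s).mp hs).2
  have hφr : orderOf (φ r) = 2 := by rw [MulEquiv.orderOf_eq]; exact hr
  have hsr2 : orderOf (s * r) = 2 := by
    rw [orderOf_two_iff']
    refine ⟨fun he => hsr ?_, ?_⟩
    · have : s = r⁻¹ := eq_inv_of_mul_eq_one_left he
      rw [this]; exact inv_eq_of_mul_eq_one_right ((orderOf_two_iff' r).mp hr).2
    · rw [← sq, (show Commute s r from h.comm s r).mul_pow, sq, sq, ss,
        ((orderOf_two_iff' r).mp hr).2, one_mul]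
  rcases h.all' s r (φ r) hs hr hsr hφr with h1 | h1 | h1
  · exfalso
    apply hsr
    apply φ.injective
    rw [hfs, h1]
  · exact h.eq_one_of_fix_two φ k hk hφk s r hs hr hsr hfs h1
  · -- φ² fixes s and r
    have h2 : φ ^ 2 = 1 := by
      apply h.eq_one_of_fix_two (φ ^ 2) k hk (by rw [← pow_mul, mul_comm, pow_mul, hφk, one_pow])
        s r hs hr hsr
      · rw [sq, MulAut.mul_apply, hfs, hfs]
      · rw [sq, MulAut.mul_apply, h1, map_mul, hfs, h1, ← mul_assoc, ss, one_mul]
    obtain ⟨q, hq⟩ := hk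
    rw [hq, pow_succ, pow_mul, h2, one_pow, one_mul] at hφk
    exact hφk

/-- An odd-order automorphism fixing a nonidentity element is trivial. -/
theorem eq_one_of_fix (φ : MulAut A) (k : ℕ) (hk : Odd k) (hφk : φ ^ k = 1) (z : A)
    (hz : z ≠ 1) (hfz : φ z = z) : φ = 1 := by
  obtain ⟨i, hi⟩ := exists_pow_orderOf_two h.pgroup z hz
  exact h.eq_one_of_fix_inv φ k hk hφk (z ^ i) hi (by rw [map_pow, hfz])

/-- A nontrivial odd-order automorphism permutes the three involutions transitively. -/
theorem exists_pow_apply_eq (φ : MulAut A) (k : ℕ) (hk : Odd k) (hφk : φ ^ k = 1) (hφ : φ ≠ 1)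
    (s r : A) (hs : orderOf s = 2) (hr : orderOf r = 2) : ∃ i : ℕ, (φ ^ i) s = r := by
  by_cases hsr : s = r
  · exact ⟨0, by rw [pow_zero, MulAut.one_apply, hsr]⟩
  have hφs : orderOf (φ s) = 2 := by rw [MulEquiv.orderOf_eq]; exact hs
  rcases h.all' s r (φ s) hs hr hsr hφs with h1 | h1 | h1
  · exact absurd (h.eq_one_of_fix_inv φ k hk hφk s hs h1) hφ
  · exact ⟨1, by rw [pow_one, h1]⟩
  · have hw : orderOf (s * r) = 2 := by rw [← h1]; exact hφs
    have hφw : orderOf (φ (s * r)) = 2 := by rw [MulEquiv.orderOf_eq]; exact hw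
    rcases h.all' s r (φ (s * r)) hs hr hsr hφw with h2 | h2 | h2
    · exfalso
      apply hφ
      have h3 : φ ^ 2 = 1 := by
        apply h.eq_one_of_fix_inv (φ ^ 2) k hk (by rw [← pow_mul, mul_comm, pow_mul, hφk, one_pow])
          s hs
        rw [sq, MulAut.mul_apply, h1, h2]
      obtain ⟨q, hq⟩ := hk
      rw [hq, pow_succ, pow_mul, h3, one_pow, one_mul] at hφk
      exact hφk
    · exact ⟨2, by rw [sq, MulAut.mul_apply, h1, h2]⟩
    · exact absurd (h.eq_one_of_fix_inv φ k hk hφk (s * r) hw h2) hφ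

/-- An odd-order group of automorphisms has order one or three. -/
theorem card_odd_aut (K : Subgroup (MulAut A)) (hK : Odd (Nat.card K)) :
    Nat.card K = 1 ∨ Nat.card K = 3 := by
  have hK0 : Nat.card K ≠ 0 := by
    rintro h0
    rw [h0] at hK
    exact absurd hK (by decide)
  have : Finite K := Nat.finite_of_card_ne_zero hK0
  have hpow : ∀ φ : MulAut A, φ ∈ K → φ ^ Nat.card K = 1 := by
    intro φ hφ
    have := pow_card_eq_one' (G := K) (x := ⟨φ, hφ⟩)
    exact congrArg Subtype.val this
  let T : Set A := {t, u, t * u}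
  have hT : ∀ φ : K, (φ : MulAut A) t ∈ T := by
    intro φ
    have : orderOf ((φ : MulAut A) t) = 2 := by rw [MulEquiv.orderOf_eq]; exact h.ot
    rcases h.all _ this with h1 | h1 | h1
    · rw [h1]; simp [T]
    · rw [h1]; simp [T]
    · rw [h1]; simp [T]
  let f : K → T := fun φ => ⟨(φ : MulAut A) t, hT φ⟩
  have hf : Function.Injective f := by
    intro φ ψ hfe
    have h1 : (φ : MulAut A) t = (ψ : MulAut A) t := congrArg Subtype.val hfe
    have h2 : ((ψ : MulAut A)⁻¹ * (φ : MulAut A)) t = t := by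
      rw [MulAut.mul_apply, h1, MulAut.inv_apply_self]
    have h3 := h.eq_one_of_fix_inv _ _ hK (hpow _ (K.mul_mem (K.inv_mem ψ.2) φ.2)) t h.ot h2
    apply Subtype.ext
    have := congrArg (fun x => (ψ : MulAut A) * x) h3
    simpa using this
  have hle : Nat.card K ≤ Nat.card T := Nat.card_le_card_of_injective f hf
  have hT3 : Nat.card T ≤ 3 := by
    rw [Nat.card_coe_set_eq]
    calc T.ncard ≤ ({u, t * u} : Set A).ncard + 1 := Set.ncard_insert_le _ _
      _ ≤ (({t * u} : Set A).ncard + 1) + 1 := by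
        have := Set.ncard_insert_le u ({t * u} : Set A)
        omega
      _ = 3 := by rw [Set.ncard_singleton]
  have hle3 : Nat.card K ≤ 3 := hle.trans hT3
  obtain ⟨q, hq⟩ := hK
  omega

end ThreeInv

end Cfsg.Agent.Lib.Helper90
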