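import Mathlib
import Cfsg.Agent.Lib.Helper90.OddAut

set_option autoImplicit false

namespace Cfsg.Agent.Lib.Helper90

section
variable {G : Type*} [Group G]

/-- Restriction of an automorphism to an invariant subgroup of a finite group. -/
noncomputable def restrictAut [Finite G] (φ : MulAut G) (Y : Subgroup G) (hY : ∀ y ∈ Y, φ y ∈ Y) :
    MulAut Y :=
  MulEquiv.ofBijective ((φ.toMonoidHom.comp Y.subtype).codRestrict Y (fun y => hY y y.2)) (by
    have hinj : Function.Injective
        ((φ.toMonoidHom.comp Y.subtype).codRestrict Y (fun y => hY y y.2)) := by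
      intro a b hab
      have h1 : φ (a : G) = φ (b : G) := congrArg Subtype.val hab
      exact Subtype.ext (φ.injective h1)
    exact ⟨hinj, Finite.surjective_of_injective hinj⟩)

theorem restrictAut_apply [Finite G] (φ : MulAut G) (Y : Subgroup G) (hY : ∀ y ∈ Y, φ y ∈ Y)
    (y : Y) : ((restrictAut φ Y hY y : Y) : G) = φ y := rfl

theorem restrictAut_pow_apply [Finite G] (φ : MulAut G) (Y : Subgroup G)
    (hY : ∀ y ∈ Y, φ y ∈ Y) (i : ℕ) (y : Y) :
    (((restrictAut φ Y hY) ^ i) y : G) = (φ ^ i) y := by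
  induction i generalizing y with
  | zero => simp
  | succ i ih =>
    rw [pow_succ, MulAut.mul_apply, ih, restrictAut_apply, pow_succ, MulAut.mul_apply]

/-- An odd-order automorphism preserving a commutative 2-subgroup with exactly three involutions, and
fixing one of them, fixes the subgroup pointwise. -/
theorem fix_of_threeInv_sub [Finite G] (φ : MulAut G) (k : ℕ) (hk : Odd k) (hφk : φ ^ k = 1)
    (Y : Subgroup G) (hY : ∀ y ∈ Y, φ y ∈ Y) (hcomm : ∀ a ∈ Y, ∀ b ∈ Y, a * b = b * a)
    (h2 : IsPGroup 2 Y) (t u : G) (ht : t ∈ Y) (hu : u ∈ Y) (ot : orderOf t = 2)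
    (ou : orderOf u = 2) (hne : t ≠ u)
    (hall : ∀ s ∈ Y, orderOf s = 2 → s = t ∨ s = u ∨ s = t * u)
    (e : G) (he : e ∈ Y) (oe : orderOf e = 2) (hfe : φ e = e) : ∀ y ∈ Y, φ y = y := by
  have hT : ThreeInv Y ⟨t, ht⟩ ⟨u, hu⟩ := by
    refine ⟨fun a b => Subtype.ext (hcomm a a.2 b b.2), h2, ?_, ?_, ?_, ?_⟩
    · rw [Subgroup.orderOf_mk]; exact ot
    · rw [Subgroup.orderOf_mk]; exact ou
    · intro he'
      exact hne (congrArg Subtype.val he')
    · intro s hs
      rw [← Subgroup.orderOf_coe] at hs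
      rcases hall s s.2 hs with h1 | h1 | h1
      · left; exact Subtype.ext h1
      · right; left; exact Subtype.ext h1
      · right; right; exact Subtype.ext h1
  have hψk : (restrictAut φ Y hY) ^ k = 1 := by
    apply MulEquiv.ext
    intro y
    apply Subtype.ext
    rw [restrictAut_pow_apply, hφk]
    rfl
  have h1 := hT.eq_one_of_fix_inv (restrictAut φ Y hY) k hk hψk ⟨e, he⟩
    (by rw [Subgroup.orderOf_mk]; exact oe) (Subtype.ext (by rw [restrictAut_apply]; exact hfe))
  intro y hy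
  have := congrArg (fun ψ : MulAut Y => ((ψ ⟨y, hy⟩ : Y) : G)) h1
  simpa [restrictAut_apply] using this

/-- An odd-order automorphism of a 2-group fixing pointwise a subgroup of index two is trivial. -/
theorem aut_eq_one_of_fix_index_two (hG : IsPGroup 2 G) (φ : MulAut G) (k : ℕ) (hk : Odd k)
    (hφk : φ ^ k = 1) (Y : Subgroup G) (hidx : ∀ a b : G, a ∉ Y → b ∉ Y → a⁻¹ * b ∈ Y)
    (hfix : ∀ y ∈ Y, φ y = y) : φ = 1 := by
  apply MulEquiv.ext
  intro g
  rw [MulAut.one_apply]
  by_cases hg : g ∈ Y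
  · exact hfix g hg
  · have hφg : φ g ∉ Y := by
      intro hh
      apply hg
      have h1 := hfix _ hh
      have h2 := φ.injective h1
      rw [← h2]; exact hh
    obtain ⟨c, hc⟩ : ∃ c, c = g⁻¹ * φ g := ⟨_, rfl⟩
    have hcY : c ∈ Y := hc ▸ hidx g (φ g) hg hφg
    have hφg' : φ g = g * c := by rw [hc, mul_inv_cancel_left]
    have hφc : φ c = c := hfix c hcY
    have hpow : ∀ i : ℕ, (φ ^ i) g = g * c ^ i := by
      intro i
      induction i with
      | zero => simp
      | succ i ih =>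
        rw [pow_succ', MulAut.mul_apply, ih, map_mul, map_pow, hφc, hφg', mul_assoc, ← pow_succ']
    have h3 := hpow k
    rw [hφk, MulAut.one_apply] at h3
    have hck : c ^ k = 1 := by
      have h4 : g * 1 = g * c ^ k := by rw [mul_one]; exact h3
      exact (mul_left_cancel h4).symm
    obtain ⟨j, hj⟩ := hG c
    have hc1 : c = 1 := by
      have hcop : Nat.Coprime k (2 ^ j) := by
        apply Nat.Coprime.pow_right
        exact Nat.coprime_two_right.mpr hk
      have h5 : orderOf c ∣ Nat.gcd k (2 ^ j) :=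
        Nat.dvd_gcd (orderOf_dvd_of_pow_eq_one hck) (orderOf_dvd_of_pow_eq_one hj)
      rw [hcop] at h5
      exact orderOf_eq_one_iff.mp (Nat.dvd_one.mp h5)
    rw [hφg', hc1, mul_one]

/-- From a non-2-group of automorphisms of a finite group extract a nontrivial automorphism of odd
order. -/
theorem exists_odd_aut_of_not_isPGroup [Finite G] (hA : ¬ IsPGroup 2 (MulAut G)) :
    ∃ (φ : MulAut G) (k : ℕ), Odd k ∧ φ ^ k = 1 ∧ φ ≠ 1 := by
  unfold IsPGroup at hA
  push Not at hA
  obtain ⟨φ, hφ⟩ := hA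
  have hpos : 0 < orderOf φ := orderOf_pos φ
  obtain ⟨a, r, hr, hor⟩ := Nat.exists_eq_two_pow_mul_odd hpos.ne'
  refine ⟨φ ^ (2 ^ a), r, hr, ?_, hφ a⟩
  rw [← pow_mul, ← hor]
  exact pow_orderOf_eq_one φ

end

end Cfsg.Agent.Lib.Helper90
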