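import Mathlib
import Cfsg.Agent.Lib.Helper90.AutTwo

set_option autoImplicit false

namespace Cfsg.Agent.Lib.Helper90

open Subgroup

section
variable {V : Type*} [Group V]

theorem map_center_eq (φ : MulAut V) : (center V).map (φ : V →* V) = center V :=
  (characteristic_iff_map_eq.mp (inferInstance : (center V).Characteristic)) φ

theorem aut_mem_center (φ : MulAut V) (y : V) (hy : y ∈ center V) : φ y ∈ center V := by
  rw [← map_center_eq φ]
  exact ⟨y, hy, rfl⟩

/-- The action of automorphisms on the quotient by the centre. -/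
noncomputable def autQuotCenter : MulAut V →* MulAut (V ⧸ center V) where
  toFun φ := QuotientGroup.congr (center V) (center V) φ (map_center_eq φ)
  map_one' := by
    ext q
    induction q using QuotientGroup.induction_on with
    | H v => rw [QuotientGroup.congr_mk]; rfl
  map_mul' φ ψ := by
    ext q
    induction q using QuotientGroup.induction_on with
    | H v => simp only [QuotientGroup.congr_mk, MulAut.mul_apply]

theorem autQuotCenter_mk (φ : MulAut V) (v : V) :
    autQuotCenter φ (v : V ⧸ center V) = ((φ v : V) : V ⧸ center V) :=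
  QuotientGroup.congr_mk (center V) (center V) φ (map_center_eq φ) v

theorem mem_ker_autQuotCenter (φ : MulAut V) :
    φ ∈ (autQuotCenter (V := V)).ker ↔ ∀ v : V, v⁻¹ * φ v ∈ center V := by
  rw [MonoidHom.mem_ker]
  constructor
  · intro h v
    have := congrArg (fun σ : MulAut (V ⧸ center V) => σ (v : V ⧸ center V)) h
    simp only [autQuotCenter_mk, MulAut.one_apply] at this
    exact QuotientGroup.eq.mp this.symm
  · intro h
    ext q
    induction q using QuotientGroup.induction_on with
    | H v =>
      rw [autQuotCenter_mk, MulAut.one_apply]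
      exact (QuotientGroup.eq.mpr (h v)).symm

/-- An automorphism acting trivially modulo a cyclic centre of 2-power order has 2-power order. -/
theorem exists_pow_two_pow_eq_one [Finite V] (hc : IsCyclic (center V))
    (h2 : IsPGroup 2 (center V)) (φ : MulAut V) (hφ : ∀ v : V, v⁻¹ * φ v ∈ center V) :
    ∃ k : ℕ, φ ^ (2 ^ k) = 1 := by
  obtain ⟨j, hj⟩ := h2.exists_card_eq
  have hA : ∃ m : ℕ, Nat.card (MulAut (center V)) = 2 ^ m := by
    rw [IsCyclic.card_mulAut, hj]
    rcases j with _ | j
    · exact ⟨0, by simp⟩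
    · exact ⟨j, by rw [Nat.totient_prime_pow_succ Nat.prime_two]; simp⟩
  obtain ⟨m, hm⟩ := hA
  have hZ : ∀ y ∈ center V, φ y ∈ center V := aut_mem_center φ
  have hα : (restrictAut φ (center V) hZ) ^ (2 ^ m) = 1 := by
    rw [← hm]; exact pow_card_eq_one'
  obtain ⟨ψ, hψ⟩ : ∃ ψ : MulAut V, ψ = φ ^ (2 ^ m) := ⟨_, rfl⟩
  have hψfix : ∀ y ∈ center V, ψ y = y := by
    intro y hy
    have := congrArg (fun α : MulAut (center V) => ((α ⟨y, hy⟩ : center V) : V)) hα
    simp only [restrictAut_pow_apply, MulAut.one_apply] at this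
    rw [hψ]; exact this
  have hpow : ∀ (i : ℕ) (v : V), v⁻¹ * (φ ^ i) v ∈ center V := by
    intro i
    induction i with
    | zero => intro v; simp
    | succ i ih =>
      intro v
      rw [pow_succ, MulAut.mul_apply]
      have h1 := hφ v
      have h3 := ih (φ v)
      have : v⁻¹ * (φ ^ i) (φ v) = (v⁻¹ * φ v) * ((φ v)⁻¹ * (φ ^ i) (φ v)) := by group
      rw [this]
      exact mul_mem h1 h3
  have hψtriv : ∀ v : V, v⁻¹ * ψ v ∈ center V := by
    intro v; rw [hψ]; exact hpow _ v
  have hψpow : ∀ (i : ℕ) (v : V), (ψ ^ i) v = v * (v⁻¹ * ψ v) ^ i := by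
    intro i v
    induction i with
    | zero => simp
    | succ i ih =>
      rw [pow_succ', MulAut.mul_apply, ih, map_mul, map_pow, hψfix _ (hψtriv v), pow_succ',
        ← mul_assoc, ← mul_assoc, mul_inv_cancel, one_mul]
  have hψone : ψ ^ (2 ^ j) = 1 := by
    ext v
    rw [hψpow, MulAut.one_apply]
    have h1 : (⟨v⁻¹ * ψ v, hψtriv v⟩ : center V) ^ (2 ^ j) = 1 := by
      rw [← hj]; exact pow_card_eq_one'
    have h3 := congrArg Subtype.val h1
    simp only [Subgroup.coe_pow, Subgroup.coe_one] at h3
    rw [h3, mul_one]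
  refine ⟨m + j, ?_⟩
  rw [pow_add, pow_mul, ← hψ, hψone]

theorem isPGroup_ker_autQuotCenter [Finite V] (hc : IsCyclic (center V))
    (h2 : IsPGroup 2 (center V)) : IsPGroup 2 (autQuotCenter (V := V)).ker := by
  rintro ⟨φ, hφ⟩
  obtain ⟨k, hk⟩ := exists_pow_two_pow_eq_one hc h2 φ ((mem_ker_autQuotCenter φ).mp hφ)
  exact ⟨k, Subtype.ext (by simpa using hk)⟩

/-- An odd divisor of the order of the automorphism group of a 2-group with cyclic centre of index
at most four is one or three. -/
theorem odd_dvd_card_mulAut [Finite V] (hc : IsCyclic (center V)) (h2 : IsPGroup 2 (center V))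
    (hidx : (center V).index ≤ 4) (r : ℕ) (hr : Odd r) (hd : r ∣ Nat.card (MulAut V)) :
    r = 1 ∨ r = 3 := by
  obtain ⟨a, ha⟩ := (isPGroup_ker_autQuotCenter hc h2).exists_card_eq
  have h1 : Nat.card (MulAut V) = 2 ^ a * Nat.card (autQuotCenter (V := V)).range := by
    rw [← ha, ← Subgroup.index_ker, Subgroup.card_mul_index]
  have h3 : Nat.card (autQuotCenter (V := V)).range ∣ 24 := by
    have e1 : Nat.card (autQuotCenter (V := V)).range ∣ Nat.card (MulAut (V ⧸ center V)) :=
      Subgroup.card_subgroup_dvd_card _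
    have e2 : Nat.card (MulAut (V ⧸ center V)) ∣ Nat.card (Equiv.Perm (V ⧸ center V)) :=
      Subgroup.card_dvd_of_injective (MulAut.toPerm (V ⧸ center V))
        (fun a b hab => MulEquiv.ext (fun q => by
          have := congrArg (fun σ : Equiv.Perm (V ⧸ center V) => σ q) hab
          exact this))
    have e3 : Nat.card (Equiv.Perm (V ⧸ center V)) ∣ 24 := by
      rw [Nat.card_perm]
      have : Nat.card (V ⧸ center V) = (center V).index := rfl
      rw [this]
      exact (Nat.factorial_dvd_factorial hidx).trans (by decide)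
    exact e1.trans (e2.trans e3)
  rw [h1] at hd
  have hcop : Nat.Coprime r (2 ^ a) := Nat.Coprime.pow_right a (Nat.coprime_two_right.mpr hr)
  have h4 : r ∣ 24 := (hcop.dvd_of_dvd_mul_left hd).trans h3
  have hcop8 : Nat.Coprime r 8 := by
    have : (8 : ℕ) = 2 ^ 3 := by norm_num
    rw [this]; exact Nat.Coprime.pow_right 3 (Nat.coprime_two_right.mpr hr)
  have h5 : r ∣ 3 := by
    have : (24 : ℕ) = 8 * 3 := by norm_num
    rw [this] at h4
    exact hcop8.dvd_of_dvd_mul_left h4
  exact (Nat.dvd_prime Nat.prime_three).mp h5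

end

/-- `V / Z(V)` consists of the four cosets of `1`, `t`, `u`, `t * u`. -/
structure QZ (V : Type*) [Group V] (t u : V) : Prop where
  tt : t * t ∈ center V
  u_not : u ∉ center V
  tu_not : t⁻¹ * u ∉ center V
  cases : ∀ v : V, v ∈ center V ∨ t⁻¹ * v ∈ center V ∨ u⁻¹ * v ∈ center V ∨
    (t * u)⁻¹ * v ∈ center V

theorem mem_center_equiv {V V' : Type*} [Group V] [Group V'] (e : V' ≃* V) (x : V') :
    x ∈ center V' ↔ e x ∈ center V := by
  rw [mem_center_iff, mem_center_iff]
  constructor
  · intro h g
    have := congrArg e (h (e.symm g))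
    simpa using this
  · intro h g
    apply e.injective
    rw [map_mul, map_mul]
    exact h (e g)

namespace QZ

variable {V : Type*} [Group V] {t u : V}

theorem of_equiv {V' : Type*} [Group V'] (e : V' ≃* V) (hq : QZ V t u) :
    QZ V' (e.symm t) (e.symm u) where
  tt := by
    rw [mem_center_equiv e, map_mul, e.apply_symm_apply]; exact hq.tt
  u_not := by
    rw [mem_center_equiv e, e.apply_symm_apply]; exact hq.u_not
  tu_not := by
    rw [mem_center_equiv e, map_mul, map_inv, e.apply_symm_apply, e.apply_symm_apply]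
    exact hq.tu_not
  cases v := by
    rcases hq.cases (e v) with h | h | h | h
    · left; rw [mem_center_equiv e]; exact h
    · right; left
      rw [mem_center_equiv e, map_mul, map_inv, e.apply_symm_apply]; exact h
    · right; right; left
      rw [mem_center_equiv e, map_mul, map_inv, e.apply_symm_apply]; exact h
    · right; right; right
      rw [mem_center_equiv e, map_mul, map_inv, map_mul, e.apply_symm_apply,
        e.apply_symm_apply]; exact h

variable (hq : QZ V t u)
include hq

theorem index_le : (center V).index ≤ 4 := by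
  let f : Fin 4 → V ⧸ center V := ![1, (t : V ⧸ center V), (u : V ⧸ center V),
    ((t * u : V) : V ⧸ center V)]
  have hf : Function.Surjective f := by
    intro q
    induction q using QuotientGroup.induction_on with
    | H v =>
      rcases hq.cases v with h | h | h | h
      · exact ⟨0, ((QuotientGroup.eq_one_iff v).mpr h).symm⟩
      · exact ⟨1, QuotientGroup.eq.mpr h⟩
      · exact ⟨2, QuotientGroup.eq.mpr h⟩
      · exact ⟨3, QuotientGroup.eq.mpr h⟩
  have := Nat.card_le_card_of_surjective f hf
  rw [Nat.card_fin] at this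
  exact this

/-- An odd-order automorphism fixing the coset of `t` is trivial. -/
theorem eq_one_of_fix [Finite V] (hc : IsCyclic (center V)) (h2 : IsPGroup 2 (center V))
    (φ : MulAut V) (k : ℕ) (hk : Odd k) (hφk : φ ^ k = 1) (hfix : t⁻¹ * φ t ∈ center V) :
    φ = 1 := by
  obtain ⟨σ, hσ⟩ : ∃ σ : MulAut (V ⧸ center V), σ = autQuotCenter φ := ⟨_, rfl⟩
  have hσmk : ∀ v : V, σ (v : V ⧸ center V) = ((φ v : V) : V ⧸ center V) := by
    intro v; rw [hσ, autQuotCenter_mk]
  have hσt : σ (t : V ⧸ center V) = (t : V ⧸ center V) := by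
    rw [hσmk]; exact (QuotientGroup.eq.mpr hfix).symm
  have htt : (t : V ⧸ center V) * (t : V ⧸ center V) = 1 := by
    rw [← QuotientGroup.mk_mul]; exact (QuotientGroup.eq_one_iff _).mpr hq.tt
  have hσu : σ (u : V ⧸ center V) = (u : V ⧸ center V) ∨
      σ (u : V ⧸ center V) = (t : V ⧸ center V) * (u : V ⧸ center V) := by
    rw [hσmk]
    rcases hq.cases (φ u) with h | h | h | h
    · exfalso
      have h1 : σ (u : V ⧸ center V) = 1 := by
        rw [hσmk]; exact (QuotientGroup.eq_one_iff _).mpr h
      have h3 : (u : V ⧸ center V) = 1 := by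
        apply σ.injective; rw [h1, map_one]
      exact hq.u_not ((QuotientGroup.eq_one_iff u).mp h3)
    · exfalso
      have h1 : σ (u : V ⧸ center V) = σ (t : V ⧸ center V) := by
        rw [hσt, hσmk]; exact (QuotientGroup.eq.mpr h).symm
      have h3 : (t : V ⧸ center V) = (u : V ⧸ center V) := (σ.injective h1).symm
      exact hq.tu_not (QuotientGroup.eq.mp h3)
    · left; exact (QuotientGroup.eq.mpr h).symm
    · right; rw [← QuotientGroup.mk_mul]; exact (QuotientGroup.eq.mpr h).symm
  have hσ2t : (σ ^ 2) (t : V ⧸ center V) = (t : V ⧸ center V) := by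
    rw [sq, MulAut.mul_apply, hσt, hσt]
  have hσ2u : (σ ^ 2) (u : V ⧸ center V) = (u : V ⧸ center V) := by
    rw [sq, MulAut.mul_apply]
    rcases hσu with h | h
    · rw [h, h]
    · rw [h, map_mul, hσt, h, ← mul_assoc, htt, one_mul]
  have hσ2 : σ ^ 2 = 1 := by
    ext q
    induction q using QuotientGroup.induction_on with
    | H v =>
      rw [MulAut.one_apply]
      rcases hq.cases v with h | h | h | h
      · rw [(QuotientGroup.eq_one_iff v).mpr h, map_one]
      · rw [← QuotientGroup.eq.mpr h]; exact hσ2t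
      · rw [← QuotientGroup.eq.mpr h]; exact hσ2u
      · rw [← QuotientGroup.eq.mpr h, QuotientGroup.mk_mul, map_mul, hσ2t, hσ2u]
  have hker : φ ^ 2 ∈ (autQuotCenter (V := V)).ker := by
    rw [MonoidHom.mem_ker, map_pow, ← hσ, hσ2]
  obtain ⟨j, hj⟩ := exists_pow_two_pow_eq_one hc h2 (φ ^ 2) ((mem_ker_autQuotCenter _).mp hker)
  rw [← pow_mul, ← pow_succ'] at hj
  have h1 : orderOf φ ∣ k := orderOf_dvd_of_pow_eq_one hφk
  have h3 : orderOf φ ∣ 2 ^ (j + 1) := orderOf_dvd_of_pow_eq_one hj
  have hcop : Nat.Coprime k (2 ^ (j + 1)) :=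
    Nat.Coprime.pow_right _ (Nat.coprime_two_right.mpr hk)
  exact orderOf_eq_one_iff.mp (Nat.eq_one_of_dvd_coprimes hcop h1 h3)

end QZ

end Cfsg.Agent.Lib.Helper90
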