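import Mathlib
import Cfsg.Prelude.Def_OddOrderLocal
import Cfsg.Agent.Lib.Helper10.BG145c
import Cfsg.Agent.Lib.Helper22.Fitting
import Cfsg.Agent.Lib.Helper55.Cores
import Cfsg.Agent.Lib.Helper76.BGSigU
import Cfsg.Agent.Lib.Helper76.BGSigU2
import Cfsg.Agent.Lib.Helper76.BG152Q
import Cfsg.Agent.Lib.Helper47.BG11e
import Cfsg.Agent.S1375
import Cfsg.Agent.S1408
import Cfsg.Agent.S1414
import Cfsg.Agent.S1417
import Cfsg.Agent.S1420

/-!
# B&G 14.4(d)-type fact in a 14.4-configuration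

`(M, x, N)`: `x ∈ M_σ#`, `C_G(x) ≰ M`, `N` the maximal subgroup over `C_G(x)`.
If `M_σ` is nilpotent, every prime of `σ(N)` dividing `|M|` is an ideal prime (`Cfg.ideal`).

Proof.  Let `q ∣ o(x)` be a prime of `τ₂(N)`, `B ≤ N` elementary abelian of order `q²`.  If `p` is
not ideal then `p ∉ β(N)`, so by S1414 every prime dividing `|N : O_{p'}(N)|` is `≤ p`; `B` is not
inside `O_{p'}(N)` (it would centralize the `p`-elements of the nilpotent `N_σ`, against
`C_{N_σ}(B) = 1`, S1417(d)), so `q < p`.  As `q` is not ideal (S1408), `q ∉ β(M)` and S1414 for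
`(M, q)` puts every `p`-element `y` of `M` in `O_{q'}(M)`, which centralizes the `q`-elements of the
nilpotent `M_σ`, in particular the `q`-part `x_q` of `x`.  By S1420(4) `C_G(x_q) ≤ N`, so
`y ∈ M ∩ N_σ = 1`.
-/

set_option autoImplicit false
set_option linter.unusedSectionVars false
set_option linter.unusedVariables false
set_option linter.style.haveILetI false

namespace Cfsg.Agent.Lib.Helper90.BG1436

open Subgroup Cfsg

universe u

variable {G : Type u} [Group G] [Finite G]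

/-- an element of prime-power order lies in a normal subgroup of index prime to it -/
theorem mem_of_pow_of_not_dvd_index {L : Type*} [Group L] [Finite L] (T : Subgroup L) [T.Normal]
    {q : ℕ} (hq : q.Prime) (hd : ¬ q ∣ T.index) {b : L} {k : ℕ} (hb : b ^ q ^ k = 1) : b ∈ T := by
  have h1 : ((b : L) : L ⧸ T) ^ q ^ k = 1 := by
    rw [← QuotientGroup.mk_pow, hb]; rfl
  have h2 : ((b : L) : L ⧸ T) ^ T.index = 1 := by
    rw [Subgroup.index_eq_card]; exact pow_card_eq_one'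
  have hcop : Nat.Coprime (q ^ k) T.index :=
    Nat.Coprime.pow_left k ((Nat.Prime.coprime_iff_not_dvd hq).2 hd)
  have h3 : ((b : L) : L ⧸ T) = 1 := by
    have h := (pow_gcd_eq_one (a := ((b : L) : L ⧸ T)) (m := q ^ k) (n := T.index)).2 ⟨h1, h2⟩
    rwa [Nat.Coprime.gcd_eq_one hcop, pow_one] at h
  exact (QuotientGroup.eq_one_iff _).1 h3

/-- in a nilpotent finite group the `q`-elements are closed under multiplication -/
theorem qElement_mul {W : Type*} [Group W] [Finite W] [hW : Group.IsNilpotent W] {q : ℕ}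
    [Fact q.Prime] {a b : W} (ha : ∃ k, a ^ q ^ k = 1) (hb : ∃ k, b ^ q ^ k = 1) :
    ∃ k, (a * b) ^ q ^ k = 1 := by
  obtain ⟨P⟩ : Nonempty (Sylow q W) := Sylow.nonempty
  haveI hPn : (P : Subgroup W).Normal := inferInstance
  haveI : Subsingleton (Sylow q W) := (Sylow.unique_of_normal P hPn).instSubsingleton
  have key : ∀ c : W, (∃ k, c ^ q ^ k = 1) → c ∈ (P : Subgroup W) := by
    intro c ⟨k, hk⟩
    have hz : IsPGroup q (zpowers c) := by
      rintro ⟨_, ⟨m, rfl⟩⟩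
      refine ⟨k, Subtype.ext ?_⟩
      change (c ^ m) ^ q ^ k = 1
      rw [← zpow_natCast, ← zpow_mul, mul_comm, zpow_mul, zpow_natCast, hk, one_zpow]
    obtain ⟨S, hS⟩ := hz.exists_le_sylow
    have hSP : S = P := Subsingleton.elim _ _
    rw [hSP] at hS
    exact hS (mem_zpowers c)
  have hab : a * b ∈ (P : Subgroup W) := mul_mem (key a ha) (key b hb)
  obtain ⟨k, hk⟩ := P.2 ⟨a * b, hab⟩
  refine ⟨k, ?_⟩
  have := congrArg Subtype.val hk
  simpa using this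

/-- a normal `q'`-subgroup `T` of `L` centralizes the `q`-elements of a normal nilpotent
subgroup `W` of `L` -/
theorem commute_of_normal_coprime_nilpotent {L W T : Subgroup G}
    (hWn : Group.IsNilpotent W) (hWL : W ≤ L) (hLW : L ≤ normalizer (W : Set G)) (hTL : T ≤ L)
    (hLT : L ≤ normalizer (T : Set G)) {q : ℕ} [hq : Fact q.Prime]
    (hT : (Nat.card T).Coprime q) {w t : G} (hw : w ∈ W) (hwq : ∃ k, w ^ q ^ k = 1)
    (ht : t ∈ T) : t * w = w * t := by
  -- the commutator `c = t w t⁻¹ w⁻¹`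
  have h1 : t * w * t⁻¹ ∈ W := Cfsg.Agent.Lib.Helper76.BG152.h76_conj_mem hLW (hTL ht) hw
  have h2 : w * t⁻¹ * w⁻¹ ∈ T :=
    Cfsg.Agent.Lib.Helper76.BG152.h76_conj_mem hLT (hWL hw) (T.inv_mem ht)
  set c := t * w * t⁻¹ * w⁻¹ with hc
  have hcT : c ∈ T := by
    have : c = t * (w * t⁻¹ * w⁻¹) := by rw [hc]; group
    rw [this]
    exact T.mul_mem ht h2
  have hcW : c ∈ W := W.mul_mem h1 (W.inv_mem hw)
  -- `c` is a `q`-element
  obtain ⟨k, hk⟩ := hwq
  have ha : ∃ k, (⟨t * w * t⁻¹, h1⟩ : W) ^ q ^ k = 1 := by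
    refine ⟨k, Subtype.ext ?_⟩
    rw [Subgroup.coe_pow, Subgroup.coe_one]
    change (t * w * t⁻¹) ^ q ^ k = 1
    rw [conj_pow, hk]; group
  have hb : ∃ k, (⟨w⁻¹, W.inv_mem hw⟩ : W) ^ q ^ k = 1 := by
    refine ⟨k, Subtype.ext ?_⟩
    rw [Subgroup.coe_pow, Subgroup.coe_one]
    change (w⁻¹) ^ q ^ k = 1
    rw [inv_pow, hk, inv_one]
  obtain ⟨m, hm⟩ := qElement_mul (W := W) ha hb
  have hm' : c ^ q ^ m = 1 := by
    have := congrArg Subtype.val hm
    rw [Subgroup.coe_pow, Subgroup.coe_one] at this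
    exact this
  have hcT' : c ^ Nat.card T = 1 := by
    have h0 : (⟨c, hcT⟩ : T) ^ Nat.card T = 1 := pow_card_eq_one'
    have := congrArg Subtype.val h0
    rw [Subgroup.coe_pow, Subgroup.coe_one] at this
    exact this
  have hcop : Nat.Coprime (q ^ m) (Nat.card T) := (Nat.Coprime.pow_right m hT).symm
  have hc1 : c = 1 := by
    have h := (pow_gcd_eq_one (a := c) (m := q ^ m) (n := Nat.card T)).2 ⟨hm', hcT'⟩
    rwa [Nat.Coprime.gcd_eq_one hcop, pow_one] at h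
  have : t * w * t⁻¹ * w⁻¹ = 1 := hc1
  calc t * w = (t * w * t⁻¹ * w⁻¹) * w * t := by group
    _ = w * t := by rw [this, one_mul]

/-- `O_{p'}(L)` as a subgroup of `G` -/
def ppc (p : ℕ) (L : Subgroup G) : Subgroup G := (pPrimeCore p ↥L).map L.subtype

theorem ppc_le (p : ℕ) (L : Subgroup G) : ppc p L ≤ L := by
  rintro _ ⟨t, _, rfl⟩; exact t.2

theorem le_normalizer_ppc (p : ℕ) (L : Subgroup G) : L ≤ normalizer ((ppc p L : Subgroup G) : Set G) := by
  apply Cfsg.Agent.Lib.Helper76.BG152.h76_le_normalizer_of_conj_mem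
  rintro a ha _ ⟨t, ht, rfl⟩
  haveI := Cfsg.Agent.Lib.Helper22.pPrimeCore_normal' p ↥L
  have h1 : (⟨a, ha⟩ : L) * t * (⟨a, ha⟩ : L)⁻¹ ∈ pPrimeCore p ↥L :=
    (Cfsg.Agent.Lib.Helper22.pPrimeCore_normal' p ↥L).conj_mem t ht ⟨a, ha⟩
  exact ⟨_, h1, rfl⟩

theorem card_ppc_coprime (p : ℕ) (L : Subgroup G) : (Nat.card (ppc p L)).Coprime p := by
  unfold ppc
  rw [Subgroup.card_map_of_injective L.subtype_injective]
  exact Cfsg.Agent.Lib.Helper55.pPrimeCore_card_coprime p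

/-- a `q`-element of `L` lies in `O_{p'}(L)` if `q` does not divide its index -/
theorem mem_ppc_of_not_dvd {p q : ℕ} (hq : q.Prime) {L : Subgroup G}
    (hd : ¬ q ∣ (pPrimeCore p ↥L).index) {b : G} (hbL : b ∈ L) {k : ℕ} (hb : b ^ q ^ k = 1) :
    b ∈ ppc p L := by
  haveI := Cfsg.Agent.Lib.Helper22.pPrimeCore_normal' p ↥L
  have h1 : (⟨b, hbL⟩ : L) ∈ pPrimeCore p ↥L :=
    mem_of_pow_of_not_dvd_index _ hq hd (k := k) (Subtype.ext (by simpa using hb))
  exact ⟨_, h1, rfl⟩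

/-- the facts of a 14.4-configuration `(M, x, N)` -/
structure Cfg (M : Subgroup G) (x : G) (N : Subgroup G) : Prop where
  hM : IsCoatom M
  hN : IsCoatom N
  hx : x ∈ sigmaCore M
  hx1 : x ≠ 1
  hCN : centralizer ({x} : Set G) ≤ N
  hne : N ≠ M
  hcompl : IsComplIn (M ⊓ N) (sigmaCore N) N
  hdisj : ∀ s : ℕ, s ∈ sigma M → s ∈ sigma N → False
  hnilN : Group.IsNilpotent ↥(sigmaCore N)
  hq : ∃ q : ℕ, q.Prime ∧ q ∣ orderOf x ∧ q ∈ tau2 N
  hR : ∃ w ∈ sigmaCore N, w ≠ 1 ∧ x * w = w * x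
  huniq : ∀ L : Subgroup G, IsCoatom L → centralizer ({x} : Set G) ≤ L → L = N

/-- the configuration from the hypotheses of S1376/S1436 -/
theorem cfg_of (hG : IsMinSimpleOddOrder G) {M : Subgroup G} (hM : IsCoatom M) {x : G}
    (hx : x ∈ sigmaCore M) (hx1 : x ≠ 1) (hxM : ¬ centralizer ({x} : Set G) ≤ M)
    {N : Subgroup G} (hN : IsCoatom N) (hxN : centralizer ({x} : Set G) ≤ N) : Cfg M x N := by
  obtain ⟨N₀, ⟨hN₀, hCN₀⟩, huniq, -, -, hcC, -, -⟩ :=
    Cfsg.Agent.S1375.result hG M hM x hx hx1 hxM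
  have hNN : N = N₀ := huniq N hN hxN
  obtain ⟨L, c, hq⟩ := Cfsg.Agent.Lib.Helper10.BG145.exists_ctx2 hG hM hx hx1
  have hLN : L = N₀ := huniq L c.hL c.hCL
  have hLM : L ≠ M := by
    intro h
    exact hxM (h ▸ c.hCL)
  rcases c.hcase with h | ⟨-, hcompl, hdisj, hnil⟩
  · exact absurd h hLM
  subst hNN
  subst hLN
  refine ⟨hM, hN, hx, hx1, hxN, hLM, hcompl, hdisj, hnil, hq hLM, ?_, huniq⟩
  -- `C_{N_σ}(x) ≠ 1`
  by_contra hno
  push Not at hno
  apply hxM
  intro z hz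
  obtain ⟨a, ha, b, hb, rfl⟩ := hcC.2.2.2 z hz
  have hb1 : b = 1 := by
    by_contra hb1
    have hbc : b ∈ centralizer ({x} : Set G) := hb.2
    have := hno b hb.1 hb1
    apply this
    exact (Cfsg.Agent.Lib.Helper10.BG144T.mem_centralizer_singleton.mp hbc)
  rw [hb1, mul_one]
  exact ha.1

namespace Cfg

variable {M N : Subgroup G} {x : G}

theorem hσM (hG : IsMinSimpleOddOrder G) (c : Cfg M x N) :
    IsPiHallOf (sigma M) (sigmaCore M) M :=
  Cfsg.Agent.Lib.Helper47.BG11.sigmaHallIn_of_coatom hG c.hM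

theorem hσN (hG : IsMinSimpleOddOrder G) (c : Cfg M x N) :
    IsPiHallOf (sigma N) (sigmaCore N) N :=
  Cfsg.Agent.Lib.Helper47.BG11.sigmaHallIn_of_coatom hG c.hN

/-- `M ∩ N_σ = 1` -/
theorem inf_sigmaCore (c : Cfg M x N) : M ⊓ sigmaCore N = ⊥ := by
  rw [eq_bot_iff, ← c.hcompl.2.2.1]
  intro z hz
  exact ⟨⟨hz.1, c.hcompl.2.1 hz.2⟩, hz.2⟩

/-- a `p`-element of `M ∩ N` with `p ∈ σ(N)` is trivial -/
theorem eq_one_of_sigma (hG : IsMinSimpleOddOrder G) (c : Cfg M x N) {p : ℕ} [Fact p.Prime]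
    (hp : p ∈ sigma N) {y : G} (hyM : y ∈ M) (hyN : y ∈ N) {k : ℕ} (hy : y ^ p ^ k = 1) :
    y = 1 := by
  have hz : IsPGroup p (zpowers y) := by
    rintro ⟨_, ⟨m, rfl⟩⟩
    refine ⟨k, Subtype.ext ?_⟩
    change (y ^ m) ^ p ^ k = 1
    rw [← zpow_natCast, ← zpow_mul, mul_comm, zpow_mul, zpow_natCast, hy, one_zpow]
  have hle : zpowers y ≤ sigmaCore N :=
    Cfsg.Agent.Lib.Helper76.BGSigU.le_sigmaCore_of_isPGroup (c.hσN hG) hp hz
      ((zpowers_le).2 hyN)
  have : y ∈ M ⊓ sigmaCore N := ⟨hyM, hle (mem_zpowers y)⟩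
  rw [c.inf_sigmaCore, mem_bot] at this
  exact this

/-- **(D')**: in a 14.4-configuration with `M_σ` nilpotent, a prime of `σ(N)` dividing `|M|` is an
ideal prime. -/
theorem ideal (hG : IsMinSimpleOddOrder G) (c : Cfg M x N)
    (hnilM : Group.IsNilpotent ↥(sigmaCore M)) {p : ℕ} (hp : p ∈ sigma N)
    (hpM : p ∣ Nat.card M) : IsIdealPrime p G := by
  by_contra hnot
  have hpp : p.Prime := hp.1
  haveI : Fact p.Prime := ⟨hpp⟩
  obtain ⟨q, hqp, hqx, hqτ⟩ := c.hq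
  haveI : Fact q.Prime := ⟨hqp⟩
  have hσM := c.hσM hG
  have hσN := c.hσN hG
  have hqσ : q ∈ sigma M :=
    Cfsg.Agent.Lib.Helper10.BG144T.sigma_of_mem_sigmaCore hG c.hM c.hx hqp hqx
  have hqp_ne : q ≠ p := by
    intro h
    exact c.hdisj q hqσ (h ▸ hp)
  have hxM : x ∈ M := hσM.1 c.hx
  have hxN : x ∈ N := c.hCN (Cfsg.Agent.Lib.Helper10.BG144T.self_mem_centralizer x)
  -- `B ≤ N` elementary abelian of order `q²`
  obtain ⟨-, hqσN, hq2, hq1⟩ := id hqτ
  obtain ⟨B, hBN, hBe, hBc⟩ := Cfsg.Agent.Lib.Helper76.BGSigU.exists_elemAb_sq hq1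
  have hCB : sigmaCore N ⊓ centralizer (B : Set G) = ⊥ :=
    (Cfsg.Agent.S1417.result hG N c.hN q hqτ B ⟨hBN, hBe, hBc⟩).2.2.2.1
  -- step 1: `q < p`
  have hpβ : p ∉ beta N := fun h => hnot h.2
  have h14N := ((Cfsg.Agent.S1414.result hG N c.hN).2.2.2.2 p hpp hp.2.1 hpβ).2.2
  have hq_dvd : q ∣ (pPrimeCore p ↥N).index := by
    by_contra hd
    -- a `p`-element `z ≠ 1` of `N_σ`
    have hpW : p ∣ Nat.card (sigmaCore N) := by
      have h1 := Cfsg.Agent.Lib.Helper76.BGSigU.card_mul_relIndex hσN.1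
      have h2 : p ∣ Nat.card (sigmaCore N) * (sigmaCore N).relIndex N := by
        rw [h1]; exact hp.2.1
      rcases (Nat.Prime.dvd_mul hpp).1 h2 with h3 | h3
      · exact h3
      · exact absurd h3 (hσN.2.2 p hpp hp)
    obtain ⟨z, hz⟩ := exists_prime_orderOf_dvd_card' p hpW
    have hz1 : (z : G) ≠ 1 := by
      intro h
      have h1 : z = 1 := Subtype.ext h
      rw [h1, orderOf_one] at hz
      exact hpp.one_lt.ne hz
    have hzp : (z : G) ^ p ^ 1 = 1 := by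
      rw [pow_one]
      have h1 : z ^ p = 1 := by rw [← hz]; exact pow_orderOf_eq_one z
      have := congrArg Subtype.val h1
      simpa using this
    have hzc : (z : G) ∈ sigmaCore N ⊓ centralizer (B : Set G) := by
      refine ⟨z.2, ?_⟩
      show (z : G) ∈ centralizer (B : Set G)
      rw [mem_centralizer_iff]
      intro b hb
      have hbT : b ∈ ppc p N :=
        mem_ppc_of_not_dvd hqp hd (hBN hb) (k := 1) (by rw [pow_one]; exact hBe.2 b hb)
      exact commute_of_normal_coprime_nilpotent c.hnilN hσN.1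
        (Cfsg.Agent.Lib.Helper76.BGSigU.le_normalizer_sigmaCore' N) (ppc_le p N)
        (le_normalizer_ppc p N) (card_ppc_coprime p N) z.2 ⟨1, hzp⟩ hbT
    rw [hCB, mem_bot] at hzc
    exact hz1 hzc
  have hqlt : q < p := lt_of_le_of_ne (h14N q hqp hq_dvd) hqp_ne
  -- step 2: the `p`-elements of `M` lie in `O_{q'}(M)`
  have hq_not_ideal : ¬ IsIdealPrime q G :=
    (Cfsg.Agent.S1408.result hG N c.hN q hqσN hq2 hq1).1
  have hqβ : q ∉ beta M := fun h => hq_not_ideal h.2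
  have hqM : q ∣ Nat.card M := by
    have h1 : orderOf x ∣ Nat.card M := Subgroup.orderOf_dvd_natCard M hxM
    exact hqx.trans h1
  have h14M := ((Cfsg.Agent.S1414.result hG M c.hM).2.2.2.2 q hqp hqM hqβ).2.2
  have hp_ndvd : ¬ p ∣ (pPrimeCore q ↥M).index := by
    intro h
    have := h14M p hpp h
    omega
  -- an element `y` of order `p` of `M`
  obtain ⟨y, hy⟩ := exists_prime_orderOf_dvd_card' p hpM
  have hy1 : (y : G) ≠ 1 := by
    intro h
    have h1 : y = 1 := Subtype.ext h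
    rw [h1, orderOf_one] at hy
    exact hpp.one_lt.ne hy
  have hyp : (y : G) ^ p ^ 1 = 1 := by
    rw [pow_one]
    have h1 : y ^ p = 1 := by rw [← hy]; exact pow_orderOf_eq_one y
    have := congrArg Subtype.val h1
    simpa using this
  have hyT : (y : G) ∈ ppc q M := mem_ppc_of_not_dvd hpp hp_ndvd y.2 hyp
  -- the `q`-part of `x`
  have ho0 : orderOf x ≠ 0 := (orderOf_pos x).ne'
  set xq := x ^ (orderOf x / q) with hxq
  have hoxq : orderOf xq = q := orderOf_pow_orderOf_div ho0 hqx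
  have hxq1 : xq ≠ 1 := by
    intro h
    rw [h, orderOf_one] at hoxq
    exact hqp.one_lt.ne hoxq
  have hxqW : xq ∈ sigmaCore M := (sigmaCore M).pow_mem c.hx _
  have hxqq : xq ^ q ^ 1 = 1 := by rw [pow_one, ← hoxq]; exact pow_orderOf_eq_one xq
  have hcomm : (y : G) * xq = xq * y :=
    commute_of_normal_coprime_nilpotent hnilM hσM.1
      (Cfsg.Agent.Lib.Helper76.BGSigU.le_normalizer_sigmaCore' M) (ppc_le q M)
      (le_normalizer_ppc q M) (card_ppc_coprime q M) hxqW ⟨1, hxqq⟩ hyT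
  -- step 3: `C_G(x_q) ≤ N`
  obtain ⟨w, hwW, hw1, hxw⟩ := c.hR
  have hxqN : xq ∈ N := N.pow_mem hxN _
  have hxqhat : xq ∈ sigmaHat N := by
    refine ⟨hxqN, w, hwW, hw1, ?_⟩
    exact ((show Commute x w from hxw).pow_left _).eq
  have hτxq : ∀ p' : ℕ, p'.Prime → p' ∣ orderOf xq → p' ∈ tau2 N := by
    intro p' hp' hd
    rw [hoxq] at hd
    rw [(Nat.prime_dvd_prime_iff_eq hp' hqp).mp hd]
    exact hqτ
  have hCxq := ((Cfsg.Agent.S1420.result hG N c.hN (M ⊓ N) c.hcompl).2.2.2 xq hxqN hxq1 hτxq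
    hxqhat).1
  have hyN : (y : G) ∈ N := by
    apply hCxq
    rw [Cfsg.Agent.Lib.Helper10.BG144T.mem_centralizer_singleton]
    exact hcomm.symm
  exact hy1 (c.eq_one_of_sigma hG hp y.2 hyN hyp)

end Cfg

end Cfsg.Agent.Lib.Helper90.BG1436
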