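import Cfsg.Agent.Lib.Helper90.BG1436D
import Cfsg.Agent.Lib.Helper76.BG159C
import Cfsg.Agent.Lib.Helper50.CoprimeHyperplane
import Cfsg.Agent.Lib.Helper96.BG142IV
import Cfsg.Agent.Lib.Helper70.BG1379b
import Cfsg.Agent.Lib.Helper56.BG147
import Cfsg.Agent.Lib.Helper23.LargeFitD
import Cfsg.Agent.Lib.Helper63.BG13d
import Cfsg.Agent.S1405
import Cfsg.Agent.S1418
import Cfsg.Agent.S1423
import Cfsg.Agent.S1425
import Cfsg.Agent.S1432

/-!
# S1436(a), the `τ₂`-part, when `κ(N) = ∅` (B&G 15.8(b))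

`(M, x, N)` a 14.4-configuration, `κ(N) = ∅`, `κ(M) = ∅`, `p ∈ σ(N)` dividing `|M|`.
Then `τ₂(M) = ∅` (`tau2_empty_of_kappa_empty`).

Suppose `s ∈ τ₂(M)`, `A ≤ E` elementary abelian of order `s²`, `E` a complement of `M_σ`.
* `M_σ` is nilpotent (S1417), so `Cfg.ideal`: `p` is ideal, `s ∉ σ(N)` (S1408), `M` has `p`-rank 1.
* `y ∈ E` of order `p` is f.p.f. on `M_σ` (`κ(M) = ∅`), normalizes `A` (S1418), and is not f.p.f.
  on `A` (Thompson: `A M_σ` would be nilpotent, against `C_{M_σ}(A) = 1`): `a₁ ∈ C_A(y)#`.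
* `y ∈ (N₂)_σ` for a conjugate `N₂` of `N` (S1425), `p ∈ β(N₂)`, so `C_G(y) ≤ N₂` (S1423);
  S1432 for `(N₂, y, a₁)`: `C_G(a₁) ≤ N₂` (`κ(N₂) = ∅`), so `A ≤ N₂`.
* some `c ∈ A#` has `C_{M_σ}(c) ≠ 1`: `M` is the only maximal subgroup over `C_G(c)` (S1418).
  If `y` centralized `A`, S1432 for `(N₂, y, c)` would give `N₂ = M`.  So `d = [y, a'] ≠ 1` for
  some `a' ∈ A`, and `d ∈ A ∩ (N₂)_σ`: `s ∈ σ(N)`, a contradiction.
-/

set_option autoImplicit false
set_option linter.unusedSectionVars false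
set_option linter.unusedVariables false
set_option linter.style.haveILetI false
set_option maxHeartbeats 800000

namespace Cfsg.Agent.Lib.Helper90.BG1436

open Subgroup Cfsg
open Cfsg.Agent.Lib.Helper33 (cj mem_cj conj_mem_cj cj_eq_self_of_mem)
open Cfsg.Agent.Lib.Helper76.BG152
open Cfsg.Agent.Lib.Helper76.BGSigU Cfsg.Agent.Lib.Helper76.BGCentNorm

universe u

variable {G : Type u} [Group G] [Finite G]

/-- `K` of prime order acting on `A W` (`A` an elementary abelian `t`-group, `W` a normal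
`t'`-subgroup) without fixed points on `A` and on `W`: `A` centralizes `W`. -/
theorem centralizes_of_fpf {A W K : Subgroup G} {t : ℕ} (ht : t.Prime)
    (hK : (Nat.card K).Prime) (hKA : K ≤ normalizer (A : Set G))
    (hKW : K ≤ normalizer (W : Set G)) (hAW : A ≤ normalizer (W : Set G)) (hdisj : A ⊓ W = ⊥)
    (hA : ∀ a ∈ A, a ^ t = 1) (htW : ¬ t ∣ Nat.card W)
    (hfA : ∀ a ∈ A, a ≠ 1 → ∃ k ∈ K, k * a ≠ a * k)
    (hfW : W ⊓ centralizer (K : Set G) = ⊥) : ∀ a ∈ A, ∀ w ∈ W, a * w = w * a := by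
  have hK1 : K ≠ ⊥ := by
    intro h
    rw [h, Subgroup.card_bot] at hK
    exact Nat.not_prime_one hK
  have hKN : K ≤ normalizer ((A ⊔ W : Subgroup G) : Set G) := h76_norm_sup hKA hKW
  have hcentK : ∀ e ∈ K, e ≠ 1 → ∀ z : G, e * z = z * e → ∀ k ∈ K, k * z = z * k := by
    intro e he he1 z hz k hk
    have hk' := Cfsg.Agent.Lib.Helper76.BG159.le_zpowers_of_card_prime hK he he1 hk
    obtain ⟨j, rfl⟩ := Subgroup.mem_zpowers_iff.1 hk'
    have h0 : Commute e z := hz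
    exact (h0.zpow_left j).eq
  have hfpf : ∀ e ∈ K, e ≠ 1 → ∀ u ∈ A ⊔ W, e * u = u * e → u = 1 := by
    intro e he he1 u hu heu
    obtain ⟨a, ha, s, hs, rfl⟩ :=
      Cfsg.Agent.Lib.Helper24.exists_mul_of_mem_sup_of_le_normalizer A _ hAW u hu
    have ha' : e * a * e⁻¹ ∈ A := h76_conj_mem hKA he ha
    have hs' : e * s * e⁻¹ ∈ W := h76_conj_mem hKW he hs
    have h1 : (e * a * e⁻¹) * (e * s * e⁻¹) = a * s := by
      calc (e * a * e⁻¹) * (e * s * e⁻¹) = e * (a * s) * e⁻¹ := by group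
        _ = (a * s) * e * e⁻¹ := by rw [heu]
        _ = a * s := by group
    have h2 : a⁻¹ * (e * a * e⁻¹) = s * (e * s * e⁻¹)⁻¹ := by
      have : e * a * e⁻¹ = a * s * (e * s * e⁻¹)⁻¹ := by rw [← h1]; group
      rw [this]; group
    have h3 : a⁻¹ * (e * a * e⁻¹) ∈ A ⊓ W := by
      refine Subgroup.mem_inf.2 ⟨A.mul_mem (A.inv_mem ha) ha', ?_⟩
      rw [h2]
      exact W.mul_mem hs (W.inv_mem hs')
    rw [hdisj, Subgroup.mem_bot] at h3
    have hea : e * a = a * e := by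
      have : e * a * e⁻¹ = a := by
        have := inv_mul_eq_one.1 h3
        exact this.symm
      calc e * a = (e * a * e⁻¹) * e := by group
        _ = a * e := by rw [this]
    have hes : e * s = s * e := by
      have h4 : s * (e * s * e⁻¹)⁻¹ = 1 := by rw [← h2]; exact h3
      have : e * s * e⁻¹ = s := by
        have := mul_inv_eq_one.1 h4
        exact this.symm
      calc e * s = (e * s * e⁻¹) * e := by group
        _ = s * e := by rw [this]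
    have ha1 : a = 1 := by
      by_contra hne
      obtain ⟨k, hk, hk'⟩ := hfA a ha hne
      exact hk' (hcentK e he he1 a hea k hk)
    have hs1 : s = 1 := by
      have : s ∈ W ⊓ centralizer (K : Set G) := by
        refine Subgroup.mem_inf.2 ⟨hs, ?_⟩
        rw [mem_centralizer_iff]
        intro k hk
        exact hcentK e he he1 s hes k hk
      rw [hfW, Subgroup.mem_bot] at this
      exact this
    rw [ha1, hs1, mul_one]
  have hnil : Group.IsNilpotent ↥(A ⊔ W) :=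
    Cfsg.Agent.Lib.Helper56.FrobApply.nilpotent_kernel (A ⊔ W) K hK1
      (fun e he u hu => h76_conj_mem hKN he hu) hfpf
  intro a ha s hs
  have haN : a ∈ A ⊔ W := (le_sup_left : A ≤ _) ha
  have hsN : s ∈ A ⊔ W := (le_sup_right : W ≤ _) hs
  have h1 : (⟨a, haN⟩ : ↥(A ⊔ W)) ^ t = 1 := Subtype.ext (by simpa using hA a ha)
  have h2 : (⟨s, hsN⟩ : ↥(A ⊔ W)) ^ Nat.card W = 1 := by
    apply Subtype.ext
    have h0 : (⟨s, hs⟩ : W) ^ Nat.card W = 1 := pow_card_eq_one'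
    have h00 := congrArg Subtype.val h0
    rw [Subgroup.coe_pow, Subgroup.coe_one] at h00
    rw [Subgroup.coe_pow]
    exact h00
  have h3 : Nat.Coprime t (Nat.card W) := (Nat.Prime.coprime_iff_not_dvd ht).2 htW
  have := Cfsg.Agent.Lib.Helper35.commute_of_coprime_of_isNilpotent ↥(A ⊔ W)
    ⟨a, haN⟩ ⟨s, hsN⟩ t _ h1 h2 h3
  exact congrArg Subtype.val this.eq

/-- an ideal prime of `σ(N)` lies in `α(N)` -/
theorem mem_alpha_of_ideal (hG : IsMinSimpleOddOrder G) {N : Subgroup G} (hN : IsCoatom N)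
    {p : ℕ} (hp : p ∈ sigma N) (hi : IsIdealPrime p G) : p ∈ alpha N := by
  have hpp : p.Prime := hp.1
  haveI : Fact p.Prime := ⟨hpp⟩
  refine ⟨hpp, ?_⟩
  have h2 := hi.2.1
  unfold PRankLE at h2
  push Not at h2
  obtain ⟨B, hBc, hBe, hBcard⟩ := h2
  have hBp : IsPGroup p B := by
    intro b
    exact ⟨1, by rw [pow_one]; exact Subtype.ext (by simpa using hBe b.1 b.2)⟩
  obtain ⟨n, hn⟩ := IsPGroup.iff_card.1 hBp
  have hn3 : 3 ≤ n := by
    by_contra h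
    have h1 : n ≤ 2 := by omega
    have h3 : p ^ n ≤ p ^ 2 := Nat.pow_le_pow_right hpp.pos h1
    omega
  have hB1 : B ≠ ⊥ := by
    intro h
    rw [h, Subgroup.card_bot] at hn
    have : 1 < p ^ n := Nat.one_lt_pow (by omega) hpp.one_lt
    omega
  obtain ⟨g, hg⟩ := Cfsg.Agent.S1425.result hG N hN B hB1 (by
    intro r hr hrd
    rw [hn] at hrd
    rw [(Nat.prime_dvd_prime_iff_eq hr hpp).1 (hr.dvd_of_dvd_pow hrd)]
    exact hp)
  have hσN := Cfsg.Agent.Lib.Helper47.BG11.sigmaHallIn_of_coatom hG hN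
  apply Cfsg.Agent.Lib.Helper23.not_pRankLE_two_of_elemAb (p := p)
    (A₀ := B.map (MulAut.conj g).toMonoidHom) (hg.trans hσN.1)
  · rintro _ ⟨a, ha, rfl⟩ _ ⟨b, hb, rfl⟩
    have h1 : a * b = b * a := by
      have := hBc.is_comm.comm (⟨a, ha⟩ : B) ⟨b, hb⟩
      exact congrArg Subtype.val this
    rw [← map_mul, ← map_mul, h1]
  · rintro _ ⟨a, ha, rfl⟩
    rw [← map_pow, hBe a ha, map_one]
  · rw [Subgroup.card_map_of_injective (MulEquiv.injective _), hn]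
    exact Nat.pow_le_pow_right hpp.pos hn3

variable {M N : Subgroup G} {x : G}

/-- **S1436(a), `τ₂`-part, case `κ(N) = ∅`.** -/
theorem tau2_empty_of_kappa_empty (hG : IsMinSimpleOddOrder G) (c : Cfg M x N)
    (hκN : kappa N = ∅) (hκM : kappa M = ∅) {p : ℕ} (hp : p ∈ sigma N)
    (hpM : p ∣ Nat.card M) : tau2 M = ∅ := by
  by_contra hne
  obtain ⟨s, hsτ⟩ := Set.nonempty_iff_ne_empty.mpr hne
  obtain ⟨hsp, hsσ, hs2, hs1⟩ := id hsτ
  haveI : Fact s.Prime := ⟨hsp⟩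
  have hpp : p.Prime := hp.1
  haveI : Fact p.Prime := ⟨hpp⟩
  have hσM := c.hσM hG
  have hσN := c.hσN hG
  have hM := c.hM
  -- `A ≤ M` elementary abelian of order `s²`
  obtain ⟨A, hAM, hAe, hAc⟩ := exists_elemAb_sq hs1
  have h17 := Cfsg.Agent.S1417.result hG M hM s hsτ A ⟨hAM, hAe, hAc⟩
  have hnilM : Group.IsNilpotent ↥(sigmaCore M) := h17.1
  have hCA : sigmaCore M ⊓ centralizer (A : Set G) = ⊥ := h17.2.2.2.1
  have hW1 : sigmaCore M ≠ ⊥ := Cfsg.Agent.Lib.Helper59.BG.sigmaCore_ne_bot hG hM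
  -- (i)
  have hp_ideal : IsIdealPrime p G := c.ideal hG hnilM hp hpM
  have hs_not_ideal : ¬ IsIdealPrime s G :=
    (Cfsg.Agent.S1408.result hG M hM s hsσ hs2 hs1).1
  have hsM : s ∣ Nat.card M := by
    have h1 : Nat.card A ∣ Nat.card M := Subgroup.card_dvd_of_le hAM
    rw [hAc] at h1
    exact (dvd_pow_self s (by norm_num)).trans h1
  have hsN : s ∉ sigma N := fun h => hs_not_ideal (c.ideal hG hnilM h hsM)
  have hpσM : p ∉ sigma M := fun h => c.hdisj p h hp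
  have h05 := Cfsg.Agent.S1405.result hG M hM
  have hp2 : PRankLE p 2 M := pRankLE_two_of_not_sigma hσM h05.1 h05.2.2.1 hpp hpσM
  have hp1 : PRankLE p 1 M := by
    by_contra h
    exact (Cfsg.Agent.S1408.result hG M hM p hpσM hp2 h).1 hp_ideal
  -- a complement `E ≥ A`
  have hsW : ¬ s ∣ Nat.card (sigmaCore M) := fun hd => hsσ (hσM.2.1 s hsp hd)
  have hpW : ¬ p ∣ Nat.card (sigmaCore M) := fun hd => hpσM (hσM.2.1 p hpp hd)
  have hcop : (Nat.card A).Coprime (Nat.card (sigmaCore M)) := by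
    rw [hAc]
    exact Nat.Coprime.pow_left 2 ((Nat.Prime.coprime_iff_not_dvd hsp).2 hsW)
  obtain ⟨E, hE, hAE⟩ := Cfsg.Agent.Lib.Helper63.BG13.exists_compl_ge hG hM.1 hσM hAM hcop
  obtain ⟨⟨hEA, hXA⟩, -, h18c⟩ :=
    Cfsg.Agent.S1418.result hG M hM E hE s hsτ A ⟨hAE, hAe, hAc⟩
  -- `y ∈ E` of order `p`
  have hpE : p ∣ Nat.card E := by
    have h1 := Cfsg.Agent.Lib.Helper23.card_isComplIn hE
    have h2 : p ∣ Nat.card E * Nat.card (sigmaCore M) := by rw [h1]; exact hpM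
    rcases (Nat.Prime.dvd_mul hpp).1 h2 with h3 | h3
    · exact h3
    · exact absurd h3 hpW
  obtain ⟨y', hy'⟩ := exists_prime_orderOf_dvd_card' p hpE
  set y : G := (y' : G) with hy_def
  have hyE : y ∈ E := y'.2
  have hoy : orderOf y = p := by rw [hy_def, Subgroup.orderOf_coe]; exact hy'
  have hy1 : y ≠ 1 := by
    intro h
    rw [h, orderOf_one] at hoy
    exact hpp.one_lt.ne hoy
  have hyM : y ∈ M := hE.1 hyE
  set Y : Subgroup G := zpowers y with hY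
  have hYc : Nat.card Y = p := by rw [hY, Nat.card_zpowers, hoy]
  have hYM : Y ≤ M := (zpowers_le).2 hyM
  have hYE : Y ≤ E := (zpowers_le).2 hyE
  have hY1 : Y ≠ ⊥ := by
    intro h
    rw [h, Subgroup.card_bot] at hYc
    exact hpp.one_lt.ne hYc
  -- `C_{M_σ}(y) = 1`
  have hCY : sigmaCore M ⊓ centralizer (Y : Set G) = ⊥ := by
    by_contra h
    have := Cfsg.Agent.Lib.Helper32.BG142.mem_kappa_of_rank_one hG hpσM hp1 hYM hYc h
    rw [hκM] at this
    exact this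
  -- `y` is not f.p.f. on `A`
  have hAW : A ≤ normalizer ((sigmaCore M : Subgroup G) : Set G) :=
    hAM.trans (le_normalizer_sigmaCore' M)
  have hdisjA : A ⊓ sigmaCore M = ⊥ := by
    rw [eq_bot_iff, ← hE.2.2.1]
    exact inf_le_inf_right _ hAE
  have hfix : ∃ a ∈ A, a ≠ 1 ∧ y * a = a * y := by
    by_contra hno
    push Not at hno
    have hcent := centralizes_of_fpf (A := A) (W := sigmaCore M) (K := Y) hsp
      (by rw [hYc]; exact hpp) (hYE.trans hEA) (hYM.trans (le_normalizer_sigmaCore' M)) hAW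
      hdisjA hAe.2 hsW
      (fun a ha ha1 => ⟨y, mem_zpowers y, hno a ha ha1⟩) hCY
    apply hW1
    rw [eq_bot_iff, ← hCA]
    intro w hw
    refine ⟨hw, ?_⟩
    show w ∈ centralizer (A : Set G)
    rw [mem_centralizer_iff]
    intro a ha
    exact hcent a ha w hw
  obtain ⟨a₁, ha₁A, ha₁1, hya₁⟩ := hfix
  -- `y ∈ (N₂)_σ` for a conjugate `N₂` of `N`
  obtain ⟨g, hg⟩ := Cfsg.Agent.S1425.result hG N c.hN Y hY1 (by
    intro r hr hrd
    rw [hYc] at hrd
    rw [(Nat.prime_dvd_prime_iff_eq hr hpp).1 hrd]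
    exact hp)
  set N₂ : Subgroup G := cj g⁻¹ N with hN₂
  have hN₂c : IsCoatom N₂ := Cfsg.Agent.Lib.Helper63.BG13.isCoatom_cj c.hN g⁻¹
  have hσeq : sigma N₂ = sigma N := Cfsg.Agent.Lib.Helper56.BG147.sigma_cj_eq g⁻¹ N
  have hκeq : kappa N₂ = ∅ := by
    rw [hN₂, Cfsg.Agent.Lib.Helper70.BG1379.kappa_cj_eq]; exact hκN
  have hσN₂ := Cfsg.Agent.Lib.Helper47.BG11.sigmaHallIn_of_coatom hG hN₂c
  have hyW₂ : y ∈ sigmaCore N₂ := by
    rw [hN₂, Cfsg.Agent.Lib.Helper56.BG147.sigmaCore_cj, mem_cj, inv_inv]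
    exact hg ⟨y, mem_zpowers y, rfl⟩
  have hpσ₂ : p ∈ sigma N₂ := by rw [hσeq]; exact hp
  have hpβ : p ∈ beta N₂ := ⟨mem_alpha_of_ideal hG hN₂c hpσ₂ hp_ideal, hp_ideal⟩
  obtain ⟨P₂⟩ : Nonempty (Sylow p ↥(sigmaCore N₂)) := Sylow.nonempty
  obtain ⟨⟨hCY₂, -⟩, -, -⟩ := Cfsg.Agent.S1423.result hG N₂ hN₂c p hpσ₂ Y
    ((zpowers_le).2 (hσN₂.1 hyW₂)) hYc P₂ (Or.inl hpβ)
  -- `a₁ ∈ N₂`
  have hcentY : ∀ z : G, y * z = z * y → z ∈ centralizer (Y : Set G) := by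
    intro z hz
    rw [mem_centralizer_iff]
    intro k hk
    obtain ⟨j, rfl⟩ := mem_zpowers_iff.1 hk
    exact ((show Commute y z from hz).zpow_left j).eq
  have ha₁N₂ : a₁ ∈ N₂ := hCY₂ (hcentY a₁ hya₁)
  have hoA : ∀ a ∈ A, a ≠ 1 → orderOf a = s := fun a ha ha1 =>
    orderOf_eq_prime (hAe.2 a ha) ha1
  have hσA : ∀ a ∈ A, a ≠ 1 → ∀ p' : ℕ, p'.Prime → p' ∣ orderOf a → p' ∉ sigma N₂ := by
    intro a ha ha1 p' hp' hd
    rw [hoA a ha ha1] at hd
    rw [(Nat.prime_dvd_prime_iff_eq hp' hsp).1 hd, hσeq]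
    exact hsN
  have h32 : ∀ a ∈ A, a ≠ 1 → a ∈ N₂ → y * a = a * y →
      (centralizer ({a} : Set G) ≤ N₂ ∧
        ∀ L : Subgroup G, IsCoatom L → centralizer ({a} : Set G) ≤ L → L = N₂) := by
    intro a ha ha1 haN hya
    have hmem : a ∈ N₂ ⊓ centralizer ({y} : Set G) := by
      refine ⟨haN, ?_⟩
      show a ∈ centralizer ({y} : Set G)
      rw [Cfsg.Agent.Lib.Helper10.BG144T.mem_centralizer_singleton]
      exact hya
    rcases Cfsg.Agent.S1432.result hG N₂ hN₂c y hyW₂ hy1 a hmem ha1 (hσA a ha ha1) with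
      ⟨h1, -⟩ | ⟨-, -, h3⟩
    · have := h1 s hsp (by rw [hoA a ha ha1])
      rw [hκeq] at this
      exact absurd this (Set.notMem_empty s)
    · exact h3
  have hAN₂ : A ≤ N₂ := by
    intro a ha
    apply (h32 a₁ ha₁A ha₁1 ha₁N₂ hya₁).1
    rw [Cfsg.Agent.Lib.Helper10.BG144T.mem_centralizer_singleton]
    exact elemAb_comm hAe a₁ ha₁A a ha
  -- coprime generation: `c₀ ∈ A#` with `C_{M_σ}(c₀) ≠ 1`
  have hzlt : zpowers a₁ < A := by
    refine lt_of_le_of_ne ((zpowers_le).2 ha₁A) ?_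
    intro h
    have h1 : Nat.card (zpowers a₁) = s := by rw [Nat.card_zpowers, hoA a₁ ha₁A ha₁1]
    rw [h, hAc] at h1
    have : s ^ 2 = s ^ 1 := by rw [pow_one]; exact h1
    have := Nat.pow_right_injective hsp.two_le this
    omega
  obtain ⟨a₀, ha₀A, ha₀z⟩ := SetLike.exists_of_lt hzlt
  obtain ⟨c₀, hc₀g, hc₀⟩ := Cfsg.Agent.Lib.Helper50.exists_mem_genSet_centralizer_ne_bot
    (p := s) (sigmaCore M) hsW hW1 a₀ a₁ (hAW ha₀A) (hAW ha₁A) (hAe.2 a₀ ha₀A)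
    (hAe.2 a₁ ha₁A) (elemAb_comm hAe a₀ ha₀A a₁ ha₁A)
  have hc₀A : c₀ ∈ A := by
    rcases hc₀g with rfl | ⟨n, rfl⟩
    · exact ha₁A
    · exact A.mul_mem ha₀A (A.pow_mem ha₁A n)
  have hc₀1 : c₀ ≠ 1 := by
    rcases hc₀g with rfl | ⟨n, rfl⟩
    · exact ha₁1
    · intro h
      apply ha₀z
      have : a₀ = (a₁ ^ n)⁻¹ := eq_inv_of_mul_eq_one_left h
      rw [this]
      exact (zpowers a₁).inv_mem ((zpowers a₁).pow_mem (mem_zpowers a₁) n)
  set X₁ : Subgroup G := zpowers c₀ with hX₁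
  have hX₁A : X₁ ≤ A := (zpowers_le).2 hc₀A
  have hX₁c : Nat.card X₁ = s := by rw [hX₁, Nat.card_zpowers, hoA c₀ hc₀A hc₀1]
  have hcentX : centralizer (X₁ : Set G) = centralizer ({c₀} : Set G) := by
    ext z
    constructor
    · intro hz
      rw [Cfsg.Agent.Lib.Helper10.BG144T.mem_centralizer_singleton]
      exact mem_centralizer_iff.mp hz c₀ (mem_zpowers c₀)
    · intro hz
      rw [Cfsg.Agent.Lib.Helper10.BG144T.mem_centralizer_singleton] at hz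
      rw [mem_centralizer_iff]
      intro k hk
      obtain ⟨j, rfl⟩ := mem_zpowers_iff.1 hk
      exact ((show Commute c₀ z from hz).zpow_left j).eq
  have hne₁ : sigmaCore M ⊓ centralizer (X₁ : Set G) ≠ ⊥ := by rw [hcentX]; exact hc₀
  obtain ⟨hCX₁M, hCX₁u⟩ := h18c X₁ hX₁A hX₁c hne₁
  have hc₀N₂ : c₀ ∈ N₂ := hAN₂ hc₀A
  by_cases hall : ∀ a' ∈ A, y * a' = a' * y
  · -- `y` centralizes `A`: `N₂ = M`
    obtain ⟨hC, hu⟩ := h32 c₀ hc₀A hc₀1 hc₀N₂ (hall c₀ hc₀A)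
    have hMN₂ : M = N₂ := hu M hM (by rw [← hcentX]; exact hCX₁M)
    apply hpσM
    rw [hMN₂]
    exact hpσ₂
  · -- a nontrivial commutator in `A ∩ (N₂)_σ`
    push Not at hall
    obtain ⟨a', ha'A, hya'⟩ := hall
    set d := y * a' * y⁻¹ * a'⁻¹ with hd
    have hd1 : d ≠ 1 := by
      intro h
      apply hya'
      have h0 : y * a' * y⁻¹ * a'⁻¹ = 1 := h
      calc y * a' = (y * a' * y⁻¹ * a'⁻¹) * a' * y := by group
        _ = a' * y := by rw [h0, one_mul]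
    have hdA : d ∈ A :=
      A.mul_mem (h76_conj_mem (hYE.trans hEA) (mem_zpowers y) ha'A) (A.inv_mem ha'A)
    have hdW : d ∈ sigmaCore N₂ := by
      have h1 : a' * y⁻¹ * a'⁻¹ ∈ sigmaCore N₂ :=
        h76_conj_mem (le_normalizer_sigmaCore' N₂) (hAN₂ ha'A) ((sigmaCore N₂).inv_mem hyW₂)
      have h2 : d = y * (a' * y⁻¹ * a'⁻¹) := by rw [hd]; group
      rw [h2]
      exact (sigmaCore N₂).mul_mem hyW₂ h1
    have hod : orderOf d = s := hoA d hdA hd1
    have hsd : s ∣ Nat.card (sigmaCore N₂) := by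
      rw [← hod]
      exact Subgroup.orderOf_dvd_natCard _ hdW
    apply hsN
    rw [← hσeq]
    exact hσN₂.2.1 s hsp hsd

end Cfsg.Agent.Lib.Helper90.BG1436
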