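import Cfsg.Agent.Lib.Helper90.BG147SGlue
import Cfsg.Agent.Lib.Helper47.BG147P
import Cfsg.Agent.Lib.Helper68.BG147E
import Cfsg.Agent.S1352
import Cfsg.Agent.S1353
import Cfsg.Agent.S1430
import Cfsg.Agent.S1433

/-!
# Part S of BG 14.7(b), final form: armed only on S1377 and the cyclicity of Hall `κ`-subgroups
-/

set_option autoImplicit false
set_option linter.unusedSectionVars false
set_option linter.unusedVariables false

universe u

namespace Cfsg.Agent.Lib.Helper90.BG147S

open Subgroup Cfsg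

variable {G : Type u} [Group G] [Finite G]

/-- Lemma P in the `P1` form, from helper47's `card_prime_of_U_ne_bot`, S1352, S1353, S1430 and
the cyclicity of Hall `κ`-subgroups (S1351, second half, as a hypothesis). -/
theorem stmtP1_of (hG : IsMinSimpleOddOrder G)
    (hKC : ∀ M : Subgroup G, IsCoatom M → ∀ K : Subgroup G, IsPiHallOf (kappa M) K M →
      IsCyclic K) : StmtP1 G := by
  intro M K hM hK hK1 hnp
  have hKc := hKC M hM K hK
  obtain ⟨⟨U, hKU⟩, _⟩ := Cfsg.Agent.S1352.result hG M hM K hKc hK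
  have hU : U = ⊥ := by
    by_contra hU1
    exact hnp (Cfsg.Agent.Lib.Helper47.BG147P.card_prime_of_U_ne_bot hG hM hKU hK1 hU1
      (Cfsg.Agent.S1353.result hG M hM K U hKU)
      (Cfsg.Agent.S1430.result hG M hM K hK hK1).1).1
  intro m hm
  obtain ⟨a, ha, b, hb, rfl⟩ := hKU.compl.2.2.2 m hm
  rw [hU, Subgroup.mem_bot] at ha
  subst ha
  rw [one_mul, sup_comm]
  exact hb

/-- the real S1430 in the `Stmt1430` shape -/
theorem stmt1430 (hG : IsMinSimpleOddOrder G) : Cfsg.Agent.Lib.Helper56.BG143.Stmt1430 G :=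
  fun M hM K hK hK1 => Cfsg.Agent.S1430.result hG M hM K hK hK1

/-- the real S1433 in helper22's `Stmt1433` shape -/
theorem stmt1433 (hG : IsMinSimpleOddOrder G) : Cfsg.Agent.Lib.Helper22.StarCount.Stmt1433 G :=
  fun M N hM hN x y hx hy hx1 hy1 hxy =>
    Cfsg.Agent.S1433.result hG M N hM hN x y hx hy hx1 hy1 hxy

/-- **Part S, final**: armed only on the statement of S1377 and on the cyclicity of Hall
`κ`-subgroups. -/
theorem partner_eq_final (hG : IsMinSimpleOddOrder G)
    (hKC : ∀ M : Subgroup G, IsCoatom M → ∀ K : Subgroup G, IsPiHallOf (kappa M) K M →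
      IsCyclic K)
    (h77 : Cfsg.Agent.Lib.Helper22.StarCount.Stmt1377 G) :
    Cfsg.Agent.Lib.Helper68.BG147.StmtPartnerEq G := by
  intro M K hM hK _ X X' L L' hXK hX hX'K hX' hL hNL hL' hNL'
  exact partner_eq hG (stmt1430 hG) (stmtPartner_of hG (stmt1430 hG)) (stmtP1_of hG hKC)
    (stmtStar_of hG h77 (stmt1433 hG)) hM hK hXK hX hX'K hX' hL hNL hL' hNL'

end Cfsg.Agent.Lib.Helper90.BG147S
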