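import Cfsg.Agent.Lib.Helper90.BG147S
import Cfsg.Agent.Lib.Helper22.StarCount
import Cfsg.Agent.Lib.Helper64.BG147Pair

/-!
# Glue for Part S of BG 14.7(b): the star count hypothesis from helper22's `star_count`,
the single-partner hypothesis from helper64's `partner`
-/

set_option autoImplicit false
set_option linter.unusedSectionVars false
set_option linter.unusedVariables false

universe u

namespace Cfsg.Agent.Lib.Helper90.BG147S

open Subgroup Cfsg

variable {G : Type u} [Group G] [Finite G]

/-- `StmtStar` from helper22's star count (armed on the statements of S1377 and S1433). -/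
theorem stmtStar_of (hG : IsMinSimpleOddOrder G)
    (h77 : Cfsg.Agent.Lib.Helper22.StarCount.Stmt1377 G)
    (h33 : Cfsg.Agent.Lib.Helper22.StarCount.Stmt1433 G) : StmtStar G := by
  intro ι _ i₀ i₁ h01 H Z hH hnc hZ hHH hVZ hπ hC
  exact Cfsg.Agent.Lib.Helper22.StarCount.star_count hG h77 h33 i₀ i₁ h01 H Z hH hnc hZ hHH hVZ hπ hC

/-- `StmtPartner` from helper64's single-partner analysis. -/
theorem stmtPartner_of (hG : IsMinSimpleOddOrder G)
    (h30 : Cfsg.Agent.Lib.Helper56.BG143.Stmt1430 G) : StmtPartner G := by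
  intro M K hM hK hK1 X hXK hX L hL hNL
  obtain ⟨h1, h2, h3, h4, h5, _, K1, hK1H, hKsK1, _, he1, he2, _, he4⟩ :=
    Cfsg.Agent.Lib.Helper64.BG147Pair.partner hG h30 hM hK hK1 hXK hX hL hNL
  exact ⟨h1, h2, h3, h4, h5, K1, hK1H, hKsK1, he1.symm, he2, he4⟩

end Cfsg.Agent.Lib.Helper90.BG147S
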