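import Cfsg.Agent.S1423
import Cfsg.Agent.S1427
import Cfsg.Agent.Lib.Helper90.BGPP

/-!
# (PP), unconditional form

helper10's Lemma R with the statements S1417, S1418, S1423, S1427 plugged in from main, and the
resulting unconditional form of `(PP)`.
-/

set_option autoImplicit false

namespace Cfsg.Agent.Lib.Helper90.BGPP

open Subgroup Cfsg

universe u

variable {G : Type u} [Group G]

/-- helper10's Lemma R, unconditional. -/
theorem lemmaR_main [Finite G] (hG : IsMinSimpleOddOrder G) {M E : Subgroup G} (hM : IsCoatom M)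
    (hE : IsComplIn E (sigmaCore M) M) {p : ℕ} [hpf : Fact p.Prime] (hp : p ∈ tau2 M)
    {A : Subgroup G} (hA : A ≤ E ∧ IsElementaryAbelian p A ∧ Nat.card A = p ^ 2) :
    LemmaR E A p :=
  lemmaR_of hG
    (fun M hM p _ hp X hXM hX P h => Cfsg.Agent.S1423.result hG M hM p hp X hXM hX P h)
    (fun M hM E hE p _ S hS1 hSc => Cfsg.Agent.S1427.result hG M hM E hE p S hS1 hSc)
    hM hE hp hA

/-- **(PP), unconditional**: `x ∈ E` of prime power order `r ^ k` normalizes a subgroup of order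
`p` of `A`, provided (for `r ∈ τ₁(M) ∪ τ₃(M)`) the elements of order `r` of `⟨x⟩` are regular on
`M_σ`. -/
theorem pp_main [Finite G] (hG : IsMinSimpleOddOrder G) {M E : Subgroup G}
    (hM : IsCoatom M) (hE : IsComplIn E (sigmaCore M) M) {p : ℕ} [hpf : Fact p.Prime]
    (hp : p ∈ tau2 M) {A : Subgroup G}
    (hA : A ≤ E ∧ IsElementaryAbelian p A ∧ Nat.card A = p ^ 2) {x : G}
    (hxE : x ∈ E) {r k : ℕ} (hr : r.Prime) (hxo : orderOf x = r ^ k)
    (hreg : r ∈ tau1 M ∪ tau3 M → ∀ y ∈ zpowers x, orderOf y = r →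
      sigmaCore M ⊓ centralizer ({y} : Set G) = ⊥) :
    ∃ X : Subgroup G, X ≤ A ∧ Nat.card X = p ∧ x ∈ normalizer (X : Set G) :=
  exists_point_normalized hG hM hE hp hA (lemmaR_main hG hM hE hp hA) hxE hr hxo hreg

end Cfsg.Agent.Lib.Helper90.BGPP
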