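import Cfsg.Agent.Lib.Helper40.C2gTorus

/-! # S2405, type `D₄` (helper90, on helper40's engine): `g₁ = h_4(k) x_1(1)`, `g₂ = x_10(1) · n` (`n` the Coxeter lift)

`K₀ = ⟨g₁, g₂⟩`.  `g₁^q = h_4(k)`, so `x_1(1) ∈ K₀`; `g₂ h_4(k) g₂⁻¹ = h_{w 4}(k) = h_0(k)` (as `⟨10, 0ᵛ⟩ = 0`) and `⟨1, 0ᵛ⟩ = 1`
fills `X_1`.  Conjugation by `g₂^{±1}` moves root subgroups commuting with `X_10` (rules `P0`, `P0i`), the
commutator formula gives new ones (rule `C`), one twisted conjugate gives `X_7` (rule `P0s`), and `[X_14, X_7] = X_10`.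
Then `n ∈ K₀` and helper40's certificate engine finishes. -/

set_option autoImplicit false
set_option maxRecDepth 100000

namespace Cfsg.Agent.Lib.Helper40.C2g

open Cfsg Cfsg.Lie Cfsg.Agent.Lib.Helper36

section main
variable (D : ChevalleyDatum) (hD : D ∈ [chevG2, chevB2, chevD4, chevF4, chevE6, chevE7, chevE8])
  (F : Type*) [Field F] (K0 : Subgroup (GL D.Idx F))

include hD in
theorem d4_nEta_sq (i : ℕ) (hi : i < D.rank) (r : ℕ) (hr : r < D.nroots) :
    ((nEta D i r : ℤ) : F) * ((nEta D i r : ℤ) : F) = 1 := by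
  obtain ⟨-, -, -, -, hs'⟩ := chkN2_spec D (chkN2_all D hD) i hi
  obtain ⟨-, -, h3, -, -, -, -⟩ := hs' r hr
  rcases h3 with h | h <;> rw [h] <;> simp

/-- the reverse direction of `xGL_reflList`: every `n x_r(t') n⁻¹` is an `x_{w r}(t)` -/
theorem d4_xGL_reflList' (L : List ℕ) (hL : ∀ i ∈ L, i < D.rank) (r : ℕ) (hr : r < D.nroots) (t' : F) :
    ∃ t : F, xGL D hD F (reflList D L r) t = nList D hD F L * xGL D hD F r t' * (nList D hD F L)⁻¹ := by
  induction L with
  | nil => exact ⟨t', by simp [reflList, nList]⟩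
  | cons i L ih =>
    have hi : i < D.rank := hL i (List.mem_cons_self)
    have hL' : ∀ j ∈ L, j < D.rank := fun j hj => hL j (List.mem_cons_of_mem _ hj)
    have hlt := reflList_lt D hD L hL' r hr
    obtain ⟨t₁, ht₁⟩ := ih hL'
    refine ⟨((nEta D i (reflList D L r) : ℤ) : F) * t₁, ?_⟩
    have h1 := xGL_reflect D hD F i (reflList D L r) hi hlt (((nEta D i (reflList D L r) : ℤ) : F) * t₁)
    rw [← mul_assoc, d4_nEta_sq D hD F i hi _ hlt, one_mul] at h1
    show xGL D hD F (D.reflectRoot i (reflList D L r)) _ = _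
    rw [h1, ht₁]
    simp only [nList, List.map_cons, List.prod_cons, mul_inv_rev]
    group

/-- the commutator formula in group form -/
theorem d4_commFormula (r s : ℕ) (hr : r < D.nroots) (hs : s < D.nroots) (hne1 : s ≠ r) (hne2 : s ≠ D.neg r)
    (t u : F) :
    xGL D hD F s u * xGL D hD F r t =
      xGL D hD F r t * xGL D hD F s u * wordGL D hD F (D.commWord F r s t u) := by
  have hcf := Cfsg.Agent.S1025.result (F := F) D hD r s hr hs hne1 hne2 t u
  apply Units.ext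
  simp only [Units.val_mul, xGL_coe, wordGL_coe]
  exact hcf

/-- root elements whose commutator formula is empty commute -/
theorem d4_comm (r s : ℕ) (hr : r < D.nroots) (hs : s < D.nroots) (hne1 : s ≠ r) (hne2 : s ≠ D.neg r)
    (h : D.commTerms r s = []) (t u : F) :
    xGL D hD F s u * xGL D hD F r t = xGL D hD F r t * xGL D hD F s u := by
  rw [d4_commFormula D hD F r s hr hs hne1 hne2 t u]
  have : D.commWord F r s t u = [] := by
    unfold ChevalleyDatum.commWord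
    rw [h]; rfl
  rw [this]
  simp [wordGL]

/-- rule `P0`: `g₂ = x_b(1) n ∈ K₀`, `X_r ≤ K₀`, `X_{w r}` commutes with `X_b`  ⇒  `X_{w r} ≤ K₀` -/
theorem d4_P0 (b : ℕ) (hb : b < D.nroots) (hg2 : xGL D hD F b 1 * coxN D hD F ∈ K0) (r : ℕ) (hr : r < D.nroots)
    (hP : PX D hD F K0 r) (hne1 : coxRoot D r ≠ b) (hne2 : coxRoot D r ≠ D.neg b)
    (hcomm : D.commTerms b (coxRoot D r) = []) : PX D hD F K0 (coxRoot D r) := by
  intro t
  obtain ⟨t', ht'⟩ := xGL_reflList D hD F (List.range D.rank) (fun _ hi => List.mem_range.1 hi) r hr t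
  have hx : xGL D hD F (coxRoot D r) t = coxN D hD F * xGL D hD F r t' * (coxN D hD F)⁻¹ := ht'
  have hc := d4_comm D hD F b (coxRoot D r) hb (coxRoot_lt D hD r hr) hne1 hne2 hcomm 1 t
  have : xGL D hD F (coxRoot D r) t =
      (xGL D hD F b 1 * coxN D hD F) * xGL D hD F r t' * (xGL D hD F b 1 * coxN D hD F)⁻¹ := by
    have e : (xGL D hD F b 1 * coxN D hD F) * xGL D hD F r t' * (xGL D hD F b 1 * coxN D hD F)⁻¹ =
        xGL D hD F b 1 * (coxN D hD F * xGL D hD F r t' * (coxN D hD F)⁻¹) * (xGL D hD F b 1)⁻¹ := by group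
    rw [e, ← hx, ← hc]
    group
  rw [this]
  exact mul_mem (mul_mem hg2 (hP t')) (inv_mem hg2)

/-- rule `P0i`: `g₂ = x_b(1) n ∈ K₀`, `X_{w r'} ≤ K₀` commuting with `X_b`  ⇒  `X_{r'} ≤ K₀` -/
theorem d4_P0i (b : ℕ) (hb : b < D.nroots) (hg2 : xGL D hD F b 1 * coxN D hD F ∈ K0) (r' : ℕ) (hr' : r' < D.nroots)
    (hP : PX D hD F K0 (coxRoot D r')) (hne1 : coxRoot D r' ≠ b) (hne2 : coxRoot D r' ≠ D.neg b)
    (hcomm : D.commTerms b (coxRoot D r') = []) : PX D hD F K0 r' := by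
  intro t'
  obtain ⟨t, ht⟩ := d4_xGL_reflList' D hD F (List.range D.rank) (fun _ hi => List.mem_range.1 hi) r' hr' t'
  have hx : xGL D hD F (coxRoot D r') t = coxN D hD F * xGL D hD F r' t' * (coxN D hD F)⁻¹ := ht
  have hc := d4_comm D hD F b (coxRoot D r') hb (coxRoot_lt D hD r' hr') hne1 hne2 hcomm 1 t
  have : xGL D hD F r' t' =
      (xGL D hD F b 1 * coxN D hD F)⁻¹ * xGL D hD F (coxRoot D r') t * (xGL D hD F b 1 * coxN D hD F) := by
    have e : (xGL D hD F b 1 * coxN D hD F)⁻¹ * xGL D hD F (coxRoot D r') t * (xGL D hD F b 1 * coxN D hD F) =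
        (coxN D hD F)⁻¹ * ((xGL D hD F b 1)⁻¹ * (xGL D hD F (coxRoot D r') t * xGL D hD F b 1)) * coxN D hD F := by
      group
    rw [e, hc, hx]
    group
  rw [this]
  exact mul_mem (mul_mem (inv_mem hg2) (hP t)) hg2

/-- rule `P0s`: `g₂ = x_b(1) n ∈ K₀`, `X_r, X_{w r} ≤ K₀`, `[X_{w r}, X_b] = X_g` (one term), `X_g` commutes with `X_b`
⇒ `X_g ≤ K₀` -/
theorem d4_P0s (b : ℕ) (hb : b < D.nroots) (hg2 : xGL D hD F b 1 * coxN D hD F ∈ K0) (r : ℕ) (hr : r < D.nroots)
    (hPr : PX D hD F K0 r) (hPx : PX D hD F K0 (coxRoot D r)) (g : ℕ) (c : ℤ) (hg : g < D.nroots)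
    (hne1 : b ≠ coxRoot D r) (hne2 : b ≠ D.neg (coxRoot D r))
    (hterms : D.commTerms (coxRoot D r) b = [(g, c, 1, 1)]) (hc : (c : F) ≠ 0)
    (hgne1 : g ≠ b) (hgne2 : g ≠ D.neg b) (hgb : D.commTerms b g = []) : PX D hD F K0 g := by
  have key : ∀ t : F, xGL D hD F g ((c : F) * (-t) ^ 1 * (1 : F) ^ 1) ∈ K0 := by
    intro t
    obtain ⟨t', ht'⟩ := xGL_reflList D hD F (List.range D.rank) (fun _ hi => List.mem_range.1 hi) r hr t
    have hx : xGL D hD F (coxRoot D r) t = coxN D hD F * xGL D hD F r t' * (coxN D hD F)⁻¹ := ht'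
    have hf := d4_commFormula D hD F (coxRoot D r) b (coxRoot_lt D hD r hr) hb hne1 hne2 t 1
    have hw : D.commWord F (coxRoot D r) b t 1 = [(g, (c : F) * (-t) ^ 1 * (1 : F) ^ 1)] := by
      unfold ChevalleyDatum.commWord
      rw [hterms]; rfl
    rw [hw] at hf
    have hw1 : wordGL D hD F [(g, (c : F) * (-t) ^ 1 * (1 : F) ^ 1)] =
        xGL D hD F g ((c : F) * (-t) ^ 1 * (1 : F) ^ 1) := by
      rw [wordGL_cons]; simp [wordGL]
    rw [hw1] at hf
    have hcg := d4_comm D hD F b g hb hg hgne1 hgne2 hgb 1 ((c : F) * (-t) ^ 1 * (1 : F) ^ 1)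
    -- the conjugate of `x_r(t')` by `g₂`
    have hconj : (xGL D hD F b 1 * coxN D hD F) * xGL D hD F r t' * (xGL D hD F b 1 * coxN D hD F)⁻¹ =
        xGL D hD F (coxRoot D r) t * xGL D hD F g ((c : F) * (-t) ^ 1 * (1 : F) ^ 1) := by
      have e : (xGL D hD F b 1 * coxN D hD F) * xGL D hD F r t' * (xGL D hD F b 1 * coxN D hD F)⁻¹ =
          xGL D hD F b 1 * (coxN D hD F * xGL D hD F r t' * (coxN D hD F)⁻¹) * (xGL D hD F b 1)⁻¹ := by group
      rw [e, ← hx, hf]
      have e2 : xGL D hD F (coxRoot D r) t * xGL D hD F b 1 * xGL D hD F g ((c : F) * (-t) ^ 1 * (1 : F) ^ 1) *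
          (xGL D hD F b 1)⁻¹ = xGL D hD F (coxRoot D r) t *
          ((xGL D hD F b 1 * xGL D hD F g ((c : F) * (-t) ^ 1 * (1 : F) ^ 1)) * (xGL D hD F b 1)⁻¹) := by group
      rw [e2, ← hcg]
      group
    have hmem : (xGL D hD F b 1 * coxN D hD F) * xGL D hD F r t' * (xGL D hD F b 1 * coxN D hD F)⁻¹ ∈ K0 :=
      mul_mem (mul_mem hg2 (hPr t')) (inv_mem hg2)
    rw [hconj] at hmem
    exact (Subgroup.mul_mem_cancel_left K0 (hPx t)).mp hmem
  intro v
  have := key (-(v / (c : F)))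
  have e : (c : F) * (- -(v / (c : F))) ^ 1 * (1 : F) ^ 1 = v := by
    rw [neg_neg, pow_one, one_pow, mul_one]
    field_simp
  rwa [e] at this

/-- `g₂ = x_b(1) n` conjugates `h_d(k)` to `h_{w d}(k)` when `⟨b, (w d)ᵛ⟩ = 0` -/
theorem d4_torus (b : ℕ) (hb : b < D.nroots) (hg2 : xGL D hD F b 1 * coxN D hD F ∈ K0) (d : ℕ) (hd : d < D.nroots)
    (k : F) (hk : k ≠ 0) (hgc : gc D (coxRoot D d) b = 0) (hh : hGL D hD F d k ∈ K0) :
    hGL D hD F (coxRoot D d) k ∈ K0 := by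
  have h1 : hGL D hD F (coxRoot D d) k = coxN D hD F * hGL D hD F d k * (coxN D hD F)⁻¹ :=
    hGL_reflList D hD F (List.range D.rank) (fun _ hi => List.mem_range.1 hi) d hd k hk
  have h2 := hGL_conj_xGL D hD F (coxRoot D d) b (coxRoot_lt D hD d hd) hb k hk 1
  rw [hgc, zpow_zero, one_mul] at h2
  have : hGL D hD F (coxRoot D d) k =
      (xGL D hD F b 1 * coxN D hD F) * hGL D hD F d k * (xGL D hD F b 1 * coxN D hD F)⁻¹ := by
    have e : (xGL D hD F b 1 * coxN D hD F) * hGL D hD F d k * (xGL D hD F b 1 * coxN D hD F)⁻¹ =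
        xGL D hD F b 1 * (coxN D hD F * hGL D hD F d k * (coxN D hD F)⁻¹) * (xGL D hD F b 1)⁻¹ := by group
    rw [e, ← h1]
    have h3 : hGL D hD F (coxRoot D d) k * xGL D hD F b 1 = xGL D hD F b 1 * hGL D hD F (coxRoot D d) k :=
      mul_inv_eq_iff_eq_mul.1 h2
    rw [← h3, mul_inv_cancel_right]
  rw [this]
  exact mul_mem (mul_mem hg2 hh) (inv_mem hg2)

end main

/-- the phase-2 certificate for `D₄` (python-generated) -/
def stepsD4 : List (ℕ × ℕ × ℕ × ℕ) :=
  [(0, 10, 0, 0), (0, 7, 0, 0), (0, 14, 0, 0), (0, 0, 0, 0), (1, 22, 10, 20), (1, 22, 5, 17), (1, 22, 14, 23),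
   (1, 11, 4, 3), (1, 11, 9, 8), (1, 21, 10, 19), (1, 21, 5, 16), (1, 21, 4, 13), (1, 10, 4, 2), (2, 0, 20, 0),
   (2, 1, 15, 0)]

theorem certD4 : certOK chevD4 [10, 7, 5, 14, 4, 0, 9, 18, 1] stepsD4 = true := by decide +kernel

theorem two_gen_D4 (F : Type*) [Field F] [Finite F] :
    ∃ x y : ↥(chevD4.group F), Subgroup.closure ({x, y} : Set ↥(chevD4.group F)) = ⊤ := by
  have hD : chevD4 ∈ [chevG2, chevB2, chevD4, chevF4, chevE6, chevE7, chevE8] := by simp
  have : Fintype F := Fintype.ofFinite F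
  obtain ⟨k, hk, hgen⟩ := exists_field_generator F
  set g1 : GL chevD4.Idx F := hGL chevD4 hD F 4 k * xGL chevD4 hD F 1 1 with hg1
  set g2 : GL chevD4.Idx F := xGL chevD4 hD F 10 1 * coxN chevD4 hD F with hg2
  set K0 : Subgroup (GL chevD4.Idx F) := Subgroup.closure {g1, g2} with hK0
  have hg1K : g1 ∈ K0 := Subgroup.subset_closure (by simp)
  have hg2K : g2 ∈ K0 := Subgroup.subset_closure (by simp)
  have hn : ∀ r : ℕ, r < 24 → r < chevD4.nroots := fun r hr => by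
    have : chevD4.nroots = 24 := by decide +kernel
    omega
  have hh : hGL chevD4 hD F 4 k ∈ K0 := by
    rw [← pow_card_hx chevD4 hD F 1 4 (hn 1 (by norm_num)) (hn 4 (by norm_num)) k hk (by decide +kernel)]
    exact pow_mem hg1K _
  have hx : xGL chevD4 hD F 1 1 ∈ K0 := by
    have : xGL chevD4 hD F 1 1 = (hGL chevD4 hD F 4 k)⁻¹ * g1 := by rw [hg1]; group
    rw [this]
    exact mul_mem (inv_mem hh) hg1K
  have hh' : hGL chevD4 hD F (coxRoot chevD4 4) k ∈ K0 :=
    d4_torus chevD4 hD F K0 10 (hn 10 (by norm_num)) hg2K 4 (hn 4 (by norm_num)) k hk (by decide +kernel) hh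
  have hP1 : PX chevD4 hD F K0 1 :=
    PX_fill chevD4 hD F K0 1 (coxRoot chevD4 4) (hn 1 (by norm_num)) (coxRoot_lt chevD4 hD 4 (hn 4 (by norm_num)))
      k hk hgen (by decide +kernel) hh' hx
  -- P0 : 1 ↦ 18
  have hP18 : PX chevD4 hD F K0 18 := by
    have := d4_P0 chevD4 hD F K0 10 (hn 10 (by norm_num)) hg2K 1 (hn 1 (by norm_num)) hP1
      (by decide +kernel) (by decide +kernel) (by decide +kernel)
    rwa [show coxRoot chevD4 1 = 18 from by decide +kernel] at this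
  -- P0i : 1 = w 9
  have hP9 : PX chevD4 hD F K0 9 := by
    apply d4_P0i chevD4 hD F K0 10 (hn 10 (by norm_num)) hg2K 9 (hn 9 (by norm_num)) _
      (by decide +kernel) (by decide +kernel) (by decide +kernel)
    rw [show coxRoot chevD4 9 = 1 from by decide +kernel]
    exact hP1
  -- C : [1, 9] = 0
  have hP0 : PX chevD4 hD F K0 0 :=
    PX_commMulti chevD4 hD F K0 1 9 (hn 1 (by norm_num)) (hn 9 (by norm_num)) (by decide) (by decide +kernel)
      hP1 hP9 [] [] 0 1 1 1 (by decide +kernel) (by simp) (by simp) (by simp) (Or.inl rfl)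
  -- P0i : 0 = w 4
  have hP4 : PX chevD4 hD F K0 4 := by
    apply d4_P0i chevD4 hD F K0 10 (hn 10 (by norm_num)) hg2K 4 (hn 4 (by norm_num)) _
      (by decide +kernel) (by decide +kernel) (by decide +kernel)
    rw [show coxRoot chevD4 4 = 0 from by decide +kernel]
    exact hP0
  -- P0 : 18 ↦ 14
  have hP14 : PX chevD4 hD F K0 14 := by
    have := d4_P0 chevD4 hD F K0 10 (hn 10 (by norm_num)) hg2K 18 (hn 18 (by norm_num)) hP18
      (by decide +kernel) (by decide +kernel) (by decide +kernel)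
    rwa [show coxRoot chevD4 18 = 14 from by decide +kernel] at this
  -- C : [14, 4] = 5
  have hP5 : PX chevD4 hD F K0 5 :=
    PX_commMulti chevD4 hD F K0 14 4 (hn 14 (by norm_num)) (hn 4 (by norm_num)) (by decide) (by decide +kernel)
      hP14 hP4 [] [] 5 (-1) 1 1 (by decide +kernel) (by simp) (by simp) (by simp) (Or.inl rfl)
  -- P0s : r = 5, w 5 = 9, [X_9, X_10] = X_7
  have hP7 : PX chevD4 hD F K0 7 := by
    have hP9' : PX chevD4 hD F K0 (coxRoot chevD4 5) := by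
      rw [show coxRoot chevD4 5 = 9 from by decide +kernel]
      exact hP9
    exact d4_P0s chevD4 hD F K0 10 (hn 10 (by norm_num)) hg2K 5 (hn 5 (by norm_num)) hP5 hP9' 7 1
      (hn 7 (by norm_num)) (by decide +kernel) (by decide +kernel) (by decide +kernel) (by simp)
      (by decide) (by decide +kernel) (by decide +kernel)
  -- C : [14, 7] = 10
  have hP10 : PX chevD4 hD F K0 10 :=
    PX_commMulti chevD4 hD F K0 14 7 (hn 14 (by norm_num)) (hn 7 (by norm_num)) (by decide) (by decide +kernel)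
      hP14 hP7 [] [] 10 1 1 1 (by decide +kernel) (by simp) (by simp) (by simp) (Or.inl rfl)
  -- now the Coxeter lift lies in `K0`
  have hcox : coxN chevD4 hD F ∈ K0 := by
    have : coxN chevD4 hD F = (xGL chevD4 hD F 10 1)⁻¹ * g2 := by rw [hg2]; group
    rw [this]
    exact mul_mem (inv_mem (hP10 1)) hg2K
  have hle : chevD4.group F ≤ K0 := by
    apply cert_sound chevD4 hD F K0 hcox [10, 7, 5, 14, 4, 0, 9, 18, 1] stepsD4 _ certD4
    intro r hr
    simp only [List.mem_cons, List.not_mem_nil, or_false] at hr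
    rcases hr with rfl | rfl | rfl | rfl | rfl | rfl | rfl | rfl | rfl
    · exact ⟨hn _ (by norm_num), hP10⟩
    · exact ⟨hn _ (by norm_num), hP7⟩
    · exact ⟨hn _ (by norm_num), hP5⟩
    · exact ⟨hn _ (by norm_num), hP14⟩
    · exact ⟨hn _ (by norm_num), hP4⟩
    · exact ⟨hn _ (by norm_num), hP0⟩
    · exact ⟨hn _ (by norm_num), hP9⟩
    · exact ⟨hn _ (by norm_num), hP18⟩
    · exact ⟨hn _ (by norm_num), hP1⟩
  exact two_gen_of_le chevD4 F g1 g2
    (mul_mem (hGL_mem_group chevD4 hD F 4 k) (xGL_mem_group chevD4 hD F 1 1))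
    (mul_mem (xGL_mem_group chevD4 hD F 10 1) (coxN_mem_group chevD4 hD F)) hle

end Cfsg.Agent.Lib.Helper40.C2g
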