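import Mathlib
import Cfsg.Agent.Lib.Helper2.HW2
import Cfsg.Agent.Lib.Helper53.Transfer

set_option autoImplicit false

/-!
A transfer lemma: if a Sylow `2`-subgroup `S` is self-normalizing, then a central involution of `S`
outside a subgroup `M` of index two in `S` is not in the kernel of the transfer into `S / M`.
-/

namespace Cfsg.Agent.Lib.Helper90

open MulAction Subgroup Cfsg.Agent.Lib.Helper2.HW

theorem mult_zmod_two_sq : ∀ a : Multiplicative (ZMod 2), a ^ 2 = 1 := by decide

theorem central_involution_transfer {G : Type*} [Group G] [Finite G] (S : Sylow 2 G)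
    (hN : normalizer ((S : Subgroup G) : Set G) ≤ (S : Subgroup G))
    (M : Subgroup G) (hM : M.relIndex (S : Subgroup G) = 2)
    (e : G) (heS : e ∈ (S : Subgroup G)) (he2 : e * e = 1)
    (hcent : ∀ s ∈ (S : Subgroup G), s * e = e * s) (heM : e ∉ M) :
    ∃ N : Subgroup G, N.Normal ∧ N.index = 2 ∧ e ∉ N := by
  classical
  have : Fact (Nat.Prime 2) := ⟨Nat.prime_two⟩
  obtain ⟨ϕ, hϕ⟩ := Cfsg.Agent.Lib.Helper53.exists_hom_of_relIndex_two (S : Subgroup G) M hM
  have hc : ϕ ⟨e, heS⟩ ≠ 1 := fun h => heM ((hϕ _).1 h)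
  have he1 : e ≠ 1 := by rintro rfl; exact heM M.one_mem
  have hord : orderOf e = 2 := orderOf_eq_prime (by rw [pow_two]; exact he2) he1
  have : Fintype (G ⧸ (S : Subgroup G)) := Fintype.ofFinite _
  -- Stage A
  have hA := transfer_eq_prod_fixed ϕ e (by
    intro n hn hdvd x hx
    rw [hord] at hdvd
    have hn2 : n = 2 := by
      have := Nat.le_of_dvd (by norm_num) hdvd
      omega
    subst hn2
    have : x⁻¹ * e ^ 2 * x = 1 := by rw [pow_two, he2]; group
    rw [this]; exact extH_one ϕ)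
  obtain ⟨f, hf⟩ : ∃ f : G ⧸ (S : Subgroup G) → Multiplicative (ZMod 2),
      f = fun y => extH ϕ (y.out⁻¹ * e * y.out) := ⟨_, rfl⟩
  have hA' : MonoidHom.transfer ϕ e =
      ∏ y ∈ (Finset.univ.filter (fun y : G ⧸ (S : Subgroup G) => e • y = y)), f y := by
    rw [hA, hf]
  -- invariance under the action of `S`
  have hfix_smul : ∀ (s : (S : Subgroup G)) (y : G ⧸ (S : Subgroup G)), e • y = y →
      e • (s • y) = s • y := by
    intro s y hy
    show e • ((s : G) • y) = (s : G) • y
    rw [smul_smul, ← hcent s s.2, ← smul_smul, hy]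
  have hf_smul : ∀ (s : (S : Subgroup G)) (y : G ⧸ (S : Subgroup G)), e • y = y →
      f (s • y) = f y := by
    intro s y hy
    have hy' := (smul_eq_iff_out e y).1 hy
    have e1 : s • y = (((s : G) * y.out : G) : G ⧸ (S : Subgroup G)) := by
      conv_lhs => rw [← QuotientGroup.out_eq' y]
      rfl
    have e2 : ((s : G) * y.out)⁻¹ * e * ((s : G) * y.out) = y.out⁻¹ * e * y.out := by
      have h1 : (s : G)⁻¹ * e * (s : G) = e := by
        rw [mul_assoc, ← hcent s s.2, ← mul_assoc, inv_mul_cancel, one_mul]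
      calc ((s : G) * y.out)⁻¹ * e * ((s : G) * y.out)
          = y.out⁻¹ * ((s : G)⁻¹ * e * (s : G)) * y.out := by group
        _ = y.out⁻¹ * e * y.out := by rw [h1]
    rw [hf]
    show extH ϕ ((s • y).out⁻¹ * e * (s • y).out) = extH ϕ (y.out⁻¹ * e * y.out)
    rw [e1, extH_conj_out ϕ e ((s : G) * y.out) (by rw [e2]; exact hy'), e2]
  -- the sub-action on the relevant fixed cosets
  obtain ⟨p, hmem_p⟩ : ∃ p : SubMulAction (S : Subgroup G) (G ⧸ (S : Subgroup G)),
      ∀ y, y ∈ p ↔ (e • y = y ∧ f y ≠ 1) :=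
    ⟨{ carrier := {y | e • y = y ∧ f y ≠ 1}
       smul_mem' := fun s y hy => ⟨hfix_smul s y hy.1, by rw [hf_smul s y hy.1]; exact hy.2⟩ },
      fun y => Iff.rfl⟩
  have hcount := (S.isPGroup').card_modEq_card_fixedPoints (↥p)
  -- the base coset
  have h1mem : (1 : G)⁻¹ * e * 1 ∈ (S : Subgroup G) := by simpa using heS
  have hy₀fix : e • ((1 : G) : G ⧸ (S : Subgroup G)) = ((1 : G) : G ⧸ (S : Subgroup G)) :=
    (smul_mk_eq_iff e 1).2 h1mem
  have hfy₀ : f ((1 : G) : G ⧸ (S : Subgroup G)) = ϕ ⟨e, heS⟩ := by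
    rw [hf]
    show extH ϕ (((1 : G) : G ⧸ (S : Subgroup G)).out⁻¹ * e *
      ((1 : G) : G ⧸ (S : Subgroup G)).out) = _
    rw [extH_conj_out ϕ e 1 h1mem]
    have : (1 : G)⁻¹ * e * 1 = e := by group
    rw [this, extH_of_mem ϕ heS]
  have hy₀p : ((1 : G) : G ⧸ (S : Subgroup G)) ∈ p :=
    (hmem_p _).2 ⟨hy₀fix, by rw [hfy₀]; exact hc⟩
  have hfixed_card : Nat.card (fixedPoints (S : Subgroup G) (↥p)) = 1 := by
    rw [Nat.card_eq_one_iff_unique]
    refine ⟨⟨?_⟩, ⟨⟨⟨((1 : G) : G ⧸ (S : Subgroup G)), hy₀p⟩, ?_⟩⟩⟩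
    · rintro ⟨⟨y, hy⟩, hyf⟩ ⟨⟨y', hy'⟩, hyf'⟩
      have key : ∀ (y : G ⧸ (S : Subgroup G)) (hy : y ∈ p),
          (⟨y, hy⟩ : ↥p) ∈ fixedPoints (S : Subgroup G) (↥p) →
          y = ((1 : G) : G ⧸ (S : Subgroup G)) := by
        intro y hy hyf
        have h2 : y ∈ fixedPoints (S : Subgroup G) (G ⧸ (S : Subgroup G)) := by
          intro s
          have := hyf s
          exact congrArg Subtype.val this
        induction y using QuotientGroup.induction_on with
        | H x =>
          have hx : x ∈ normalizer ((S : Subgroup G) : Set G) :=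
            Sylow.mem_fixedPoints_mul_left_cosets_iff_mem_normalizer.1 h2
          have hxS := hN hx
          rw [QuotientGroup.eq]
          simpa using hxS
      have a1 := key y hy hyf
      have a2 := key y' hy' hyf'
      subst a1; subst a2
      rfl
    · intro s
      apply Subtype.ext
      show (s : G) • ((1 : G) : G ⧸ (S : Subgroup G)) = ((1 : G) : G ⧸ (S : Subgroup G))
      rw [smul_mk_eq_iff]
      simpa using s.2
  rw [hfixed_card] at hcount
  -- evaluate the product
  have hprod : MonoidHom.transfer ϕ e = ϕ ⟨e, heS⟩ ^ Nat.card (↥p) := by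
    rw [hA', ← Finset.prod_filter_ne_one, Finset.filter_filter]
    have hconst : ∀ y ∈ Finset.univ.filter
        (fun y : G ⧸ (S : Subgroup G) => e • y = y ∧ f y ≠ 1), f y = ϕ ⟨e, heS⟩ := by
      intro y hy
      rw [Finset.mem_filter] at hy
      rcases Cfsg.Agent.Lib.Helper53.mult_zmod_two_dichotomy (f y) _ hc with h | h
      · exact absurd h hy.2.2
      · exact h
    rw [Finset.prod_congr rfl hconst, Finset.prod_const]
    congr 1
    rw [Nat.card_eq_fintype_card]
    symm
    apply Fintype.card_of_subtype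
    intro y
    rw [Finset.mem_filter, hmem_p]
    simp
  have key : MonoidHom.transfer ϕ e ≠ 1 := by
    rw [hprod]
    have hodd : Nat.card (↥p) % 2 = 1 := hcount
    have hsq := mult_zmod_two_sq
    have : ϕ ⟨e, heS⟩ ^ Nat.card (↥p) = ϕ ⟨e, heS⟩ := by
      conv_lhs => rw [← Nat.div_add_mod (Nat.card (↥p)) 2, hodd, pow_add, pow_mul, hsq, one_pow,
        one_mul, pow_one]
    rw [this]
    exact hc
  refine ⟨(MonoidHom.transfer ϕ).ker, inferInstance, ?_, fun hx => key (MonoidHom.mem_ker.1 hx)⟩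
  rw [Subgroup.index_ker]
  have hr : (MonoidHom.transfer ϕ).range = ⊤ := by
    rw [eq_top_iff]
    intro a _
    rcases Cfsg.Agent.Lib.Helper53.mult_zmod_two_dichotomy a (MonoidHom.transfer ϕ e) key with h | h
    · rw [h]; exact one_mem _
    · rw [h]; exact ⟨e, rfl⟩
  rw [hr]
  simp

end Cfsg.Agent.Lib.Helper90
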