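import Mathlib

/-!
# Twisted averages: invariant cyclic lifts for a cyclic coprime action

Pure group theory.  `P` is an abelian group on which an endomorphism `φ` acts (in the applications:
conjugation by an element `e` of order prime to `p`).  For `m : ℕ` the *twisted average*
`tw φ m n z = ∏_{i<n} (φ^i z)^(m^i)` satisfies `φ ((tw z)^m) = tw z` whenever `φ^n z = z` and
`z^(m^n) = z`; so `φ` normalizes the cyclic group generated by `tw z`.
-/

namespace Cfsg.Agent.Lib.Helper90.CycLift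

open Finset

/-- An element of `⟨x⟩`, `x ^ p = 1`, is a natural power of `x`. -/
theorem exists_nat_pow_of_mem_zpowers {G : Type*} [Group G] {p : ℕ} (hp : 0 < p) {x g : G} (hxp : x ^ p = 1)
    (hg : g ∈ Subgroup.zpowers x) : ∃ l : ℕ, g = x ^ l := by
  obtain ⟨j, rfl⟩ := Subgroup.mem_zpowers_iff.mp hg
  refine ⟨(j % (p : ℤ)).toNat, ?_⟩
  have hnn : 0 ≤ j % (p : ℤ) := Int.emod_nonneg _ (by exact_mod_cast hp.ne')
  rw [← zpow_natCast, Int.toNat_of_nonneg hnn]
  have h1 : j = j % (p : ℤ) + (p : ℤ) * (j / (p : ℤ)) := (Int.emod_add_mul_ediv j p).symm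
  conv_lhs => rw [h1]
  rw [zpow_add, zpow_mul, zpow_natCast, hxp, one_zpow, mul_one]

section Abstract

variable {P : Type*} [CommGroup P]

/-- The twisted average `∏_{i<n} (φ^i z)^(m^i)`. -/
def tw (φ : P →* P) (m n : ℕ) (z : P) : P := ∏ i ∈ range n, (φ^[i] z) ^ (m ^ i)

theorem tw_shift (φ : P →* P) (m n : ℕ) (z : P) (hφ : φ^[n] z = z) (hm : z ^ (m ^ n) = z) :
    φ ((tw φ m n z) ^ m) = tw φ m n z := by
  unfold tw
  rw [← Finset.prod_pow, map_prod]
  have h1 : ∀ i ∈ range n, φ (((φ^[i] z) ^ (m ^ i)) ^ m) = (φ^[i+1] z) ^ (m ^ (i+1)) := by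
    intro i _
    rw [← pow_mul, map_pow, Function.iterate_succ_apply', pow_succ]
  rw [Finset.prod_congr rfl h1]
  have h2 := Finset.prod_range_succ (fun i => (φ^[i] z) ^ (m ^ i)) n
  have h3 := Finset.prod_range_succ' (fun i => (φ^[i] z) ^ (m ^ i)) n
  simp only [Function.iterate_zero, id, pow_zero, pow_one] at h3
  rw [hφ, hm] at h2
  exact mul_right_cancel (h3.symm.trans h2)

theorem tw_pow (φ : P →* P) (m n : ℕ) (z : P) (j : ℕ) :
    tw φ m n (z ^ j) = (tw φ m n z) ^ j := by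
  unfold tw
  rw [← Finset.prod_pow]
  refine Finset.prod_congr rfl (fun i _ => ?_)
  rw [iterate_map_pow, ← pow_mul, ← pow_mul, mul_comm]

theorem iterate_of_pow (φ : P →* P) (x : P) (l : ℕ) (hx : φ x = x ^ l) (i : ℕ) :
    φ^[i] x = x ^ (l ^ i) := by
  induction i with
  | zero => simp
  | succ i ih =>
    rw [Function.iterate_succ_apply', ih, map_pow, hx, ← pow_mul, pow_succ, mul_comm]

/-- The twisted average commutes with equivariant homomorphisms. -/
theorem map_tw {Q : Type*} [CommGroup Q] (π : P →* Q) (φ : P →* P) (ψ : Q →* Q)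
    (h : ∀ a, π (φ a) = ψ (π a)) (m n : ℕ) (z : P) : π (tw φ m n z) = tw ψ m n (π z) := by
  unfold tw
  rw [map_prod]
  have key : ∀ i : ℕ, π (φ^[i] z) = ψ^[i] (π z) := by
    intro i
    induction i with
    | zero => simp
    | succ i ih => rw [Function.iterate_succ_apply', Function.iterate_succ_apply', h, ih]
  refine Finset.prod_congr rfl (fun i _ => ?_)
  rw [map_pow, key]

/-- On an eigenvector `x` of order `p` with eigenvalue `l`, `l * m ≡ 1`, the twisted average is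
the `n`-th power. -/
theorem tw_eigen {p : ℕ} (φ : P →* P) {x : P} (hox : orderOf x = p) {l m : ℕ}
    (hl : φ x = x ^ l) (hm1 : l * m ≡ 1 [MOD p]) (n : ℕ) : tw φ m n x = x ^ n := by
  unfold tw
  have : ∀ i ∈ range n, (φ^[i] x) ^ (m ^ i) = x := by
    intro i _
    rw [iterate_of_pow φ x l hl i, ← pow_mul, ← mul_pow]
    have h1 : (l * m) ^ i ≡ 1 [MOD orderOf x] := by
      rw [hox]; simpa using hm1.pow i
    have := pow_eq_pow_iff_modEq.mpr h1
    rw [pow_one] at this
    exact this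
  rw [Finset.prod_congr rfl this, Finset.prod_const, Finset.card_range]

/-- If `φ (y ^ m) = y` with `m` prime to the order of `y`, then `φ y` is a power of `y`. -/
theorem exists_pow_of_shift (φ : P →* P) {y : P} {m N : ℕ} (hshift : φ (y ^ m) = y)
    (hy : y ^ N = 1) (hm : m.Coprime N) (hN : 1 < N) : ∃ j : ℕ, φ y = y ^ j := by
  obtain ⟨m', -, hm'⟩ := Nat.exists_mul_mod_eq_one_of_coprime hm hN
  have hymm : y ^ (m * m') = y := by
    have h1 : m * m' ≡ 1 [MOD orderOf y] := by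
      have h2 : m * m' ≡ 1 [MOD N] := by
        unfold Nat.ModEq
        rw [hm', Nat.mod_eq_of_lt hN]
      exact h2.of_dvd (orderOf_dvd_of_pow_eq_one hy)
    have := pow_eq_pow_iff_modEq.mpr h1
    rw [pow_one] at this
    exact this
  refine ⟨m', ?_⟩
  calc φ y = φ (y ^ (m * m')) := by rw [hymm]
    _ = (φ (y ^ m)) ^ m' := by rw [pow_mul, map_pow]
    _ = y ^ m' := by rw [hshift]

/-- `l * m ≡ 1 [MOD p]` forces `m` prime to `p`. -/
theorem coprime_of_mul_modEq_one {p : ℕ} [hp : Fact p.Prime] {l m : ℕ} (hm1 : l * m ≡ 1 [MOD p]) :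
    Nat.Coprime m p := by
  have hp1 : 1 < p := hp.out.one_lt
  rw [Nat.coprime_comm, Nat.Prime.coprime_iff_not_dvd hp.out]
  intro hd
  have h0 : l * m ≡ 0 [MOD p] := (Nat.modEq_zero_iff_dvd.mpr (dvd_mul_of_dvd_right hd l))
  have h10 : 1 ≡ 0 [MOD p] := hm1.symm.trans h0
  have := (Nat.modEq_zero_iff_dvd.mp h10)
  exact absurd (Nat.le_of_dvd one_pos this) (by omega)

/-- `x ^ n ≠ 1` for `x` of order `p` and `n` prime to `p`. -/
theorem pow_ne_one_of_coprime {p : ℕ} [hp : Fact p.Prime] {x : P} (hox : orderOf x = p) {n : ℕ}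
    (hn : n.Coprime p) : x ^ n ≠ 1 := by
  have hp1 : 1 < p := hp.out.one_lt
  intro h
  have := orderOf_dvd_of_pow_eq_one h
  rw [hox] at this
  have h2 : p ∣ Nat.gcd n p := Nat.dvd_gcd this dvd_rfl
  rw [hn] at h2
  exact absurd (Nat.le_of_dvd one_pos h2) (by omega)

/-- Number theory: from `l ^ n ≡ 1 [MOD p]` get `m` with `l * m ≡ 1 [MOD p]` and
`m ^ n ≡ 1 [MOD p ^ (k + 1)]` (a Teichmüller-type lift of the inverse of `l`). -/
theorem exists_teich {p : ℕ} [hp : Fact p.Prime] {l n : ℕ} (hn : 0 < n)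
    (hl : l ^ n ≡ 1 [MOD p]) (k : ℕ) :
    ∃ m : ℕ, l * m ≡ 1 [MOD p] ∧ m ^ n ≡ 1 [MOD p ^ (k + 1)] := by
  refine ⟨(l ^ (n - 1)) ^ (p ^ k), ?_, ?_⟩
  · have h1 : (l ^ (n - 1)) ^ (p ^ k) ≡ l ^ (n - 1) [MOD p] := by
      rw [← ZMod.natCast_eq_natCast_iff]
      push_cast
      exact ZMod.pow_card_pow _
    calc l * (l ^ (n - 1)) ^ (p ^ k) ≡ l * l ^ (n - 1) [MOD p] := Nat.ModEq.mul_left _ h1
      _ = l ^ n := by rw [← pow_succ', Nat.sub_add_cancel hn]
      _ ≡ 1 [MOD p] := hl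
  · have h0 : (l ^ (n - 1)) ^ n ≡ 1 [MOD p] := by
      have : (l ^ (n - 1)) ^ n = (l ^ n) ^ (n - 1) := by rw [← pow_mul, ← pow_mul, mul_comm]
      rw [this]
      simpa using hl.pow (n - 1)
    have h2 : ((l ^ (n - 1)) ^ (p ^ k)) ^ n = ((l ^ (n - 1)) ^ n) ^ (p ^ k) := by
      rw [← pow_mul (l ^ (n - 1)), ← pow_mul (l ^ (n - 1)), mul_comm]
    rw [h2]
    have h3 : (p : ℤ) ∣ (((l ^ (n - 1)) ^ n : ℕ) : ℤ) - 1 := by
      have := Nat.modEq_iff_dvd.mp h0.symm
      simpa using this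
    have h4 := dvd_sub_pow_of_dvd_sub h3 k
    rw [one_pow] at h4
    refine (Nat.modEq_iff_dvd.mpr ?_).symm
    push_cast
    exact_mod_cast h4

/-- **Abstract lifting lemma.** `φ` an endomorphism of the abelian group `P` with `φ^n z = z`,
`n` prime to `p`; `x = z ^ p ^ k` has order `p` and `φ x = x ^ l`.  Then some `y` has
`φ y ∈ ⟨y⟩`, `y ^ p ^ (k+1) = 1` and `y ^ p ^ k = x ^ n ≠ 1`. -/
theorem exists_lift_abstract {p : ℕ} [hp : Fact p.Prime] (φ : P →* P) {n : ℕ} (hn : n.Coprime p)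
    {x z : P} (hφz : φ^[n] z = z) {k : ℕ} (hzx : z ^ p ^ k = x) (hx1 : x ≠ 1) (hxp : x ^ p = 1)
    {l : ℕ} (hl : φ x = x ^ l) :
    ∃ y : P, (∃ j : ℕ, φ y = y ^ j) ∧ y ^ p ^ (k + 1) = 1 ∧ y ^ p ^ k = x ^ n ∧ x ^ n ≠ 1 ∧
      ∃ m : ℕ, y = tw φ m n z := by
  have hp1 : 1 < p := hp.out.one_lt
  have hn0 : 0 < n := by
    rcases Nat.eq_zero_or_pos n with h | h
    · subst h; simp at hn; omega
    · exact h
  have hox : orderOf x = p := orderOf_eq_prime hxp hx1
  have hzp : z ^ p ^ (k + 1) = 1 := by rw [pow_succ, pow_mul, hzx, hxp]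
  -- `φ^n x = x`
  have hφx : φ^[n] x = x := by rw [← hzx, iterate_map_pow, hφz]
  have hln : l ^ n ≡ 1 [MOD p] := by
    have h := iterate_of_pow φ x l hl n
    rw [hφx] at h
    have h' : x ^ 1 = x ^ (l ^ n) := by rw [pow_one]; exact h
    have := pow_eq_pow_iff_modEq.mp h'
    rw [hox] at this
    exact this.symm
  obtain ⟨m, hm1, hm2⟩ := exists_teich hn0 hln k
  have hzm : z ^ (m ^ n) = z := by
    have h1 : m ^ n ≡ 1 [MOD orderOf z] :=
      hm2.of_dvd (orderOf_dvd_of_pow_eq_one hzp)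
    have := pow_eq_pow_iff_modEq.mpr h1
    rw [pow_one] at this
    exact this
  set y := tw φ m n z with hy
  have hshift : φ (y ^ m) = y := tw_shift φ m n z hφz hzm
  have hyp : y ^ p ^ (k + 1) = 1 := by
    rw [hy, ← tw_pow, hzp]
    unfold tw
    refine Finset.prod_eq_one (fun i _ => ?_)
    rw [iterate_map_one, one_pow]
  have hyx : y ^ p ^ k = x ^ n := by
    rw [hy, ← tw_pow, hzx]
    exact tw_eigen φ hox hl hm1 n
  have hxn : x ^ n ≠ 1 := pow_ne_one_of_coprime hox hn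
  have hmp : Nat.Coprime m (p ^ (k + 1)) := (coprime_of_mul_modEq_one hm1).pow_right _
  have hpk : 1 < p ^ (k + 1) := Nat.one_lt_pow (by omega) hp1
  exact ⟨y, exists_pow_of_shift φ hshift hyp hmp hpk, hyp, hyx, hxn, m, rfl⟩

/-- **Maschke in dimension two, cyclic coprime action (abstract form).**  `A` abelian of exponent
`p`, `X` a `φ`-invariant subgroup of index `p`, `φ^n = id` with `n` prime to `p`: some `y ∉ X`
spans a `φ`-invariant subgroup. -/
theorem exists_compl_abstract {A : Type*} [CommGroup A] {p : ℕ} [hp : Fact p.Prime] (φ : A →* A)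
    (X : Subgroup A) (hφX : ∀ x ∈ X, φ x ∈ X) (hAp : ∀ a : A, a ^ p = 1) (hidx : X.index = p)
    {n : ℕ} (hn : n.Coprime p) (hφn : ∀ a, φ^[n] a = a) :
    ∃ y : A, y ∉ X ∧ ∃ j : ℕ, φ y = y ^ j := by
  have hp1 : 1 < p := hp.out.one_lt
  have hn0 : 0 < n := by
    rcases Nat.eq_zero_or_pos n with h | h
    · subst h; simp at hn; omega
    · exact h
  let π : A →* A ⧸ X := QuotientGroup.mk' X
  let ψ : A ⧸ X →* A ⧸ X := QuotientGroup.map X X φ (fun x hx => hφX x hx)
  have hπφ : ∀ a, π (φ a) = ψ (π a) := fun a => rfl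
  have hQc : Nat.card (A ⧸ X) = p := by rw [← hidx]; exact (Subgroup.index_eq_card X).symm
  obtain ⟨a, ha⟩ : ∃ a : A, a ∉ X := by
    by_contra h
    push Not at h
    have : X = ⊤ := by
      ext a; simp [h a]
    rw [← Subgroup.index_eq_one] at this
    omega
  have hā1 : π a ≠ 1 := by
    intro h
    exact ha ((QuotientGroup.eq_one_iff a).mp h)
  have hāp : π a ^ p = 1 := by rw [← map_pow, hAp, map_one]
  have hoā : orderOf (π a) = p := orderOf_eq_prime hāp hā1
  have hmem : ψ (π a) ∈ Subgroup.zpowers (π a) := mem_zpowers_of_prime_card hQc hā1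
  obtain ⟨l, hl⟩ := exists_nat_pow_of_mem_zpowers hp.out.pos hāp hmem
  have key : ∀ i : ℕ, π (φ^[i] a) = ψ^[i] (π a) := by
    intro i
    induction i with
    | zero => simp
    | succ i ih => rw [Function.iterate_succ_apply', Function.iterate_succ_apply', hπφ, ih]
  have hψn : ψ^[n] (π a) = π a := by rw [← key, hφn]
  have hln : l ^ n ≡ 1 [MOD p] := by
    have h := iterate_of_pow ψ (π a) l hl n
    rw [hψn] at h
    have h' : π a ^ 1 = π a ^ (l ^ n) := by rw [pow_one]; exact h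
    have := pow_eq_pow_iff_modEq.mp h'
    rw [hoā] at this
    exact this.symm
  obtain ⟨m, hm1, hm2⟩ := exists_teich hn0 hln 0
  rw [zero_add, pow_one] at hm2
  have ham : a ^ (m ^ n) = a := by
    have h1 : m ^ n ≡ 1 [MOD orderOf a] :=
      hm2.of_dvd (orderOf_dvd_of_pow_eq_one (hAp a))
    have := pow_eq_pow_iff_modEq.mpr h1
    rw [pow_one] at this
    exact this
  set y := tw φ m n a with hy
  have hshift : φ (y ^ m) = y := tw_shift φ m n a (hφn a) ham
  have hπy : π y = π a ^ n := by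
    rw [hy, map_tw π φ ψ hπφ]
    exact tw_eigen ψ hoā hl hm1 n
  refine ⟨y, ?_, exists_pow_of_shift φ hshift (hAp y) (coprime_of_mul_modEq_one hm1) hp1⟩
  intro hyX
  have : π y = 1 := (QuotientGroup.eq_one_iff y).mpr hyX
  rw [hπy] at this
  exact pow_ne_one_of_coprime hoā hn this

end Abstract

section InGroup

variable {G : Type*} [Group G]

/-- Conjugation by `e` as an endomorphism of a subgroup which `e` normalizes. -/
def conjEnd (P : Subgroup G) (e : G) (he : e ∈ Subgroup.normalizer (P : Set G)) : P →* P where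
  toFun a := ⟨e * a * e⁻¹, (Subgroup.mem_normalizer_iff.mp he a).mp a.2⟩
  map_one' := by ext; simp
  map_mul' a b := by ext; simp [mul_assoc]

theorem conjEnd_apply (P : Subgroup G) (e : G) (he : e ∈ Subgroup.normalizer (P : Set G)) (a : P) :
    ((conjEnd P e he a : P) : G) = e * a * e⁻¹ := rfl

theorem conjEnd_iterate (P : Subgroup G) (e : G) (he : e ∈ Subgroup.normalizer (P : Set G))
    (i : ℕ) (a : P) : (((conjEnd P e he)^[i] a : P) : G) = e ^ i * a * (e ^ i)⁻¹ := by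
  induction i with
  | zero => simp
  | succ i ih =>
    rw [Function.iterate_succ_apply', conjEnd_apply, ih, pow_succ']
    group

/-- **Lifting lemma, cyclic coprime action.**  `P` an abelian subgroup normalized by `e`, `e ^ n`
centralizes `P` with `n` prime to `p`; `x = z ^ p ^ k` (`z ∈ P`) has order `p` and `e` normalizes
`⟨x⟩`.  Then `e` normalizes a cyclic subgroup `⟨y⟩ ≤ P` of order `p ^ (k+1)` whose subgroup of order
`p` is `⟨x⟩`. -/
theorem exists_invariant_cyclic_lift {p : ℕ} [hp : Fact p.Prime] {P : Subgroup G}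
    (hPab : ∀ a ∈ P, ∀ b ∈ P, a * b = b * a) {e : G} (heP : e ∈ Subgroup.normalizer (P : Set G))
    {n : ℕ} (hn : n.Coprime p) (hen : ∀ a ∈ P, e ^ n * a = a * e ^ n) {x z : G} (hz : z ∈ P)
    {k : ℕ} (hzx : z ^ p ^ k = x) (hx1 : x ≠ 1) (hxp : x ^ p = 1)
    (hex : e * x * e⁻¹ ∈ Subgroup.zpowers x) :
    ∃ y ∈ P, e * y * e⁻¹ ∈ Subgroup.zpowers y ∧ y ^ p ^ (k + 1) = 1 ∧ y ^ p ^ k ≠ 1 ∧
      y ^ p ^ k ∈ Subgroup.zpowers x := by
  let _ : CommGroup P :=
    { (inferInstance : Group P) with mul_comm := fun a b => Subtype.ext (hPab a a.2 b b.2) }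
  set φ := conjEnd P e heP with hφ
  have hxP : x ∈ P := hzx ▸ P.pow_mem hz _
  obtain ⟨l, hl⟩ := exists_nat_pow_of_mem_zpowers hp.out.pos hxp hex
  have h1 : φ^[n] (⟨z, hz⟩ : P) = ⟨z, hz⟩ := by
    apply Subtype.ext
    rw [conjEnd_iterate, hen z hz, mul_inv_cancel_right]
  have h2 : (⟨z, hz⟩ : P) ^ p ^ k = ⟨x, hxP⟩ := Subtype.ext (by simpa using hzx)
  have h3 : (⟨x, hxP⟩ : P) ≠ 1 := fun h => hx1 (by simpa using congrArg Subtype.val h)
  have h4 : (⟨x, hxP⟩ : P) ^ p = 1 := Subtype.ext (by simpa using hxp)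
  have h5 : φ ⟨x, hxP⟩ = (⟨x, hxP⟩ : P) ^ l := Subtype.ext (by simpa [hφ, conjEnd_apply] using hl)
  obtain ⟨y, ⟨j, hj⟩, hy1, hy2, hy3, -⟩ := exists_lift_abstract φ hn h1 h2 h3 h4 h5
  refine ⟨(y : G), y.2, ?_, ?_, ?_, ?_⟩
  · have := congrArg Subtype.val hj
    rw [conjEnd_apply] at this
    rw [this]
    simp
  · simpa using congrArg Subtype.val hy1
  · intro h
    apply hy3
    rw [← hy2]
    exact Subtype.ext (by simpa using h)
  · have := congrArg Subtype.val hy2
    simp only [Subgroup.coe_pow] at this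
    rw [this]
    exact Subgroup.npow_mem_zpowers x n

/-- If `e y e⁻¹ ∈ ⟨y⟩` and `y` has finite order then `e` normalizes `⟨y⟩`. -/
theorem mem_normalizer_zpowers {e y : G} {N : ℕ} (hN : 0 < N) (hy : y ^ N = 1)
    (h : e * y * e⁻¹ ∈ Subgroup.zpowers y) :
    e ∈ Subgroup.normalizer ((Subgroup.zpowers y : Subgroup G) : Set G) := by
  have hfin : Finite (Subgroup.zpowers y) := by
    have : IsOfFinOrder y := isOfFinOrder_iff_pow_eq_one.mpr ⟨N, hN, hy⟩
    exact (Nat.finite_of_card_ne_zero (by rw [Nat.card_zpowers]; exact this.orderOf_pos.ne'))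
  have hfin' : Finite ((Subgroup.zpowers y : Subgroup G) : Set G) := hfin
  apply Subgroup.mem_normalizer_fintype
  intro g hg
  obtain ⟨j, rfl⟩ := Subgroup.mem_zpowers_iff.mp hg
  have : e * y ^ j * e⁻¹ = (e * y * e⁻¹) ^ j := by
    simp [conj_zpow]
  rw [SetLike.mem_coe, this]
  exact Subgroup.zpow_mem _ h j

/-- **Lifting lemma, subgroup form.**  In the situation of `exists_invariant_cyclic_lift` there is
a cyclic subgroup `Y ≤ P` of order `p ^ (k+1)`, normalized by `e`, containing `x`. -/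
theorem exists_invariant_cyclic_subgroup {p : ℕ} [hp : Fact p.Prime] {P : Subgroup G}
    (hPab : ∀ a ∈ P, ∀ b ∈ P, a * b = b * a) {e : G} (heP : e ∈ Subgroup.normalizer (P : Set G))
    {n : ℕ} (hn : n.Coprime p) (hen : ∀ a ∈ P, e ^ n * a = a * e ^ n) {x z : G} (hz : z ∈ P)
    {k : ℕ} (hzx : z ^ p ^ k = x) (hx1 : x ≠ 1) (hxp : x ^ p = 1)
    (hex : e * x * e⁻¹ ∈ Subgroup.zpowers x) :
    ∃ Y : Subgroup G, Y ≤ P ∧ IsCyclic Y ∧ Nat.card Y = p ^ (k + 1) ∧
      e ∈ Subgroup.normalizer (Y : Set G) ∧ x ∈ Y := by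
  obtain ⟨y, hyP, hey, hy1, hy2, hy3⟩ :=
    exists_invariant_cyclic_lift hPab heP hn hen hz hzx hx1 hxp hex
  have hpk : 0 < p ^ (k + 1) := pow_pos hp.out.pos _
  refine ⟨Subgroup.zpowers y, (Subgroup.zpowers_le).mpr hyP, inferInstance, ?_,
    mem_normalizer_zpowers hpk hy1 hey, ?_⟩
  · rw [Nat.card_zpowers]
    exact orderOf_eq_prime_pow hy2 hy1
  · -- `x` is a power of `y ^ p ^ k`
    obtain ⟨j, hj⟩ := exists_nat_pow_of_mem_zpowers hp.out.pos hxp hy3
    have hox : orderOf x = p := orderOf_eq_prime hxp hx1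
    have hjp : Nat.Coprime j p := by
      rw [Nat.coprime_comm, Nat.Prime.coprime_iff_not_dvd hp.out]
      intro hd
      apply hy2
      rw [hj]
      obtain ⟨c, rfl⟩ := hd
      rw [pow_mul, hxp, one_pow]
    obtain ⟨j', -, hj'⟩ := Nat.exists_mul_mod_eq_one_of_coprime hjp hp.out.one_lt
    have hx : x = (y ^ p ^ k) ^ j' := by
      rw [hj, ← pow_mul]
      have h1 : j * j' ≡ 1 [MOD orderOf x] := by
        rw [hox]
        unfold Nat.ModEq
        rw [hj', Nat.mod_eq_of_lt hp.out.one_lt]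
      have := pow_eq_pow_iff_modEq.mpr h1
      rw [pow_one] at this
      exact this.symm
    rw [hx, ← pow_mul]
    exact Subgroup.npow_mem_zpowers y _

/-- **Maschke in dimension two, cyclic coprime action.**  `A` an abelian subgroup of exponent `p`
and order `p ^ 2`, `X ≤ A` of order `p`, both normalized by `e`, and `e ^ n` centralizes `A` with
`n` prime to `p`.  Then `e` normalizes a second subgroup `X₂ ≤ A` of order `p` with `X ⊓ X₂ = ⊥`. -/
theorem exists_invariant_point_compl [Finite G] {p : ℕ} [hp : Fact p.Prime] {A X : Subgroup G}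
    (hAab : ∀ a ∈ A, ∀ b ∈ A, a * b = b * a) (hAp : ∀ a ∈ A, a ^ p = 1)
    (hAc : Nat.card A = p ^ 2) (hXA : X ≤ A) (hXc : Nat.card X = p) {e : G}
    (heA : e ∈ Subgroup.normalizer (A : Set G)) (heX : e ∈ Subgroup.normalizer (X : Set G))
    {n : ℕ} (hn : n.Coprime p) (hen : ∀ a ∈ A, e ^ n * a = a * e ^ n) :
    ∃ X₂ : Subgroup G, X₂ ≤ A ∧ Nat.card X₂ = p ∧ X ⊓ X₂ = ⊥ ∧
      e ∈ Subgroup.normalizer (X₂ : Set G) := by
  let _ : CommGroup A :=
    { (inferInstance : Group A) with mul_comm := fun a b => Subtype.ext (hAab a a.2 b b.2) }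
  set φ := conjEnd A e heA with hφ
  have hφX : ∀ x ∈ X.subgroupOf A, φ x ∈ X.subgroupOf A := by
    intro x hx
    rw [Subgroup.mem_subgroupOf] at hx ⊢
    exact (Subgroup.mem_normalizer_iff.mp heX _).mp hx
  have hAp' : ∀ a : A, a ^ p = 1 := fun a => Subtype.ext (by simpa using hAp a a.2)
  have hidx : (X.subgroupOf A).index = p := by
    have h1 := Subgroup.card_mul_index (X.subgroupOf A)
    have h2 : Nat.card (X.subgroupOf A) = p := by
      rw [Nat.card_congr (Subgroup.subgroupOfEquivOfLe hXA).toEquiv, hXc]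
    rw [h2, hAc, pow_two] at h1
    exact Nat.eq_of_mul_eq_mul_left hp.out.pos h1
  have hφn : ∀ a : A, φ^[n] a = a := by
    intro a
    apply Subtype.ext
    rw [conjEnd_iterate, hen a a.2, mul_inv_cancel_right]
  obtain ⟨y, hyX, j, hj⟩ := exists_compl_abstract φ (X.subgroupOf A) hφX hAp' hidx hn hφn
  have hyp : (y : G) ^ p = 1 := hAp y y.2
  have hy1 : (y : G) ≠ 1 := by
    intro h
    apply hyX
    rw [Subgroup.mem_subgroupOf, h]
    exact X.one_mem
  have hoy : orderOf (y : G) = p := orderOf_eq_prime hyp hy1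
  have hey : e * (y : G) * e⁻¹ ∈ Subgroup.zpowers (y : G) := by
    have := congrArg Subtype.val hj
    rw [conjEnd_apply] at this
    rw [this]
    simp
  refine ⟨Subgroup.zpowers (y : G), (Subgroup.zpowers_le).mpr y.2, ?_, ?_,
    mem_normalizer_zpowers hp.out.pos hyp hey⟩
  · rw [Nat.card_zpowers, hoy]
  · -- `X ⊓ ⟨y⟩` is a proper subgroup of the group `⟨y⟩` of prime order
    by_contra hne
    have hcard : Nat.card (Subgroup.zpowers (y : G)) = p := by rw [Nat.card_zpowers, hoy]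
    have hle : X ⊓ Subgroup.zpowers (y : G) ≤ Subgroup.zpowers (y : G) := inf_le_right
    have hdvd : Nat.card ↥(X ⊓ Subgroup.zpowers (y : G)) ∣ p := by
      rw [← hcard]; exact Subgroup.card_dvd_of_le hle
    rcases (Nat.dvd_prime hp.out).mp hdvd with h1 | h1
    · exact hne (Subgroup.card_eq_one.mp h1)
    · have heq : X ⊓ Subgroup.zpowers (y : G) = Subgroup.zpowers (y : G) :=
        Subgroup.eq_of_le_of_card_ge hle (by rw [h1, hcard])
      apply hyX
      rw [Subgroup.mem_subgroupOf]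
      have : (y : G) ∈ X ⊓ Subgroup.zpowers (y : G) := by
        rw [heq]; exact Subgroup.mem_zpowers _
      exact this.1

end InGroup

end Cfsg.Agent.Lib.Helper90.CycLift
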