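import Mathlib
import Cfsg.Agent.Lib.Helper90.OddAut

set_option autoImplicit false

namespace Cfsg.Agent.Lib.Helper90

theorem zmod_add_self_eq_zero {N M : ℕ} (hN : N = 2 * M) (hM : 0 < M) (i : ZMod N)
    (hi : i + i = 0) : i = 0 ∨ i = (M : ZMod N) := by
  subst hN
  have : NeZero (2 * M) := ⟨by omega⟩
  have hlt : i.val < 2 * M := ZMod.val_lt i
  have hcast : ((i.val + i.val : ℕ) : ZMod (2 * M)) = 0 := by
    rw [Nat.cast_add, ZMod.natCast_zmod_val]; exact hi
  rw [ZMod.natCast_eq_zero_iff] at hcast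
  have h2 : M ∣ i.val := by
    have : 2 * M ∣ 2 * i.val := by rwa [two_mul i.val]
    exact (Nat.mul_dvd_mul_iff_left (by norm_num)).mp this
  obtain ⟨k, hk⟩ := h2
  have hk2 : k < 2 := by
    by_contra hk2
    have hk2' : 2 ≤ k := by omega
    have : M * 2 ≤ M * k := Nat.mul_le_mul_left M hk2'
    omega
  have hi' : i = ((i.val : ℕ) : ZMod (2 * M)) := (ZMod.natCast_zmod_val i).symm
  interval_cases k
  · left; rw [hi', hk]; simp
  · right; rw [hi', hk]; simp

theorem threeInv_homocyclic (m : ℕ) (hm : 1 ≤ m) :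
    ThreeInv (Multiplicative (ZMod (2 ^ m) × ZMod (2 ^ m)))
      (Multiplicative.ofAdd (((2 ^ (m - 1) : ℕ) : ZMod (2 ^ m)), (0 : ZMod (2 ^ m))))
      (Multiplicative.ofAdd ((0 : ZMod (2 ^ m)), ((2 ^ (m - 1) : ℕ) : ZMod (2 ^ m)))) := by
  have hN : 2 ^ m = 2 * 2 ^ (m - 1) := by
    obtain ⟨i, rfl⟩ : ∃ i, m = i + 1 := ⟨m - 1, by omega⟩
    rw [pow_succ, Nat.add_sub_cancel]; ring
  have hHne : ((2 ^ (m - 1) : ℕ) : ZMod (2 ^ m)) ≠ 0 := by
    rw [Ne, ZMod.natCast_eq_zero_iff]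
    intro hd
    have := Nat.le_of_dvd (by positivity) hd
    have : 0 < 2 ^ (m - 1) := by positivity
    omega
  have hHH : ((2 ^ (m - 1) : ℕ) : ZMod (2 ^ m)) + ((2 ^ (m - 1) : ℕ) : ZMod (2 ^ m)) = 0 := by
    rw [← Nat.cast_add, ZMod.natCast_eq_zero_iff]
    rw [hN]; exact ⟨1, by ring⟩
  refine ⟨mul_comm, ?_, ?_, ?_, ?_, ?_⟩
  · apply IsPGroup.of_card (n := 2 * m)
    rw [Nat.card_eq_fintype_card]
    simp only [Fintype.card_multiplicative, Fintype.card_prod, ZMod.card]
    ring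
  · rw [orderOf_two_iff']
    refine ⟨?_, ?_⟩
    · intro he
      have := congrArg (fun s => (Multiplicative.toAdd s).1) he
      exact hHne this
    · rw [← ofAdd_add, Prod.mk_add_mk, hHH, add_zero]; rfl
  · rw [orderOf_two_iff']
    refine ⟨?_, ?_⟩
    · intro he
      have := congrArg (fun s => (Multiplicative.toAdd s).2) he
      exact hHne this
    · rw [← ofAdd_add, Prod.mk_add_mk, hHH, add_zero]; rfl
  · intro he
    have := congrArg (fun s => (Multiplicative.toAdd s).1) he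
    exact hHne this
  · intro s hs
    obtain ⟨hs1, hs2⟩ := (orderOf_two_iff' s).mp hs
    obtain ⟨⟨a, b⟩, rfl⟩ : ∃ p, s = Multiplicative.ofAdd p := ⟨Multiplicative.toAdd s, rfl⟩
    rw [← ofAdd_add, Prod.mk_add_mk] at hs2
    have hs2' : (a + a, b + b) = (0 : ZMod (2 ^ m) × ZMod (2 ^ m)) := Multiplicative.ofAdd.injective hs2
    have ha : a + a = 0 := congrArg Prod.fst hs2'
    have hb : b + b = 0 := congrArg Prod.snd hs2'
    rcases zmod_add_self_eq_zero hN (by positivity) a ha with rfl | rfl <;>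
      rcases zmod_add_self_eq_zero hN (by positivity) b hb with rfl | rfl
    · exact absurd rfl hs1
    · right; left; rfl
    · left; rfl
    · right; right
      rw [← ofAdd_add, Prod.mk_add_mk, add_zero, zero_add]

end Cfsg.Agent.Lib.Helper90
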