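import Mathlib
import Cfsg.Agent.Lib.Helper90.Homocyclic

set_option autoImplicit false

namespace Cfsg.Agent.Lib.Helper90

open Subgroup

section
variable {G : Type*} [Group G] [Finite G] (P : Sylow 2 G)

theorem card_range_normalizerMonoidHom :
    Nat.card (P : Subgroup G).normalizerMonoidHom.range =
      (centralizer ((P : Subgroup G) : Set G)).relIndex (normalizer ((P : Subgroup G) : Set G)) := by
  rw [← Subgroup.index_ker, normalizerMonoidHom_ker]
  rfl

variable {P} {t u : (P : Subgroup G)} (h : ThreeInv (P : Subgroup G) t u)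
include h

theorem odd_relIndex_centralizer_normalizer :
    Odd ((centralizer ((P : Subgroup G) : Set G)).relIndex (normalizer ((P : Subgroup G) : Set G))) := by
  have : IsMulCommutative (P : Subgroup G) := ⟨⟨fun a b => h.comm a b⟩⟩
  rw [← Nat.not_even_iff_odd, even_iff_two_dvd]
  intro h2
  have h3 : (centralizer ((P : Subgroup G) : Set G)).relIndex (normalizer ((P : Subgroup G) : Set G)) ∣
      (P : Subgroup G).index :=
    (relIndex_dvd_of_le_left _ (P : Subgroup G).le_centralizer).trans
      (relIndex_dvd_index_of_le le_normalizer)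
  exact P.not_dvd_index (h2.trans h3)

theorem odd_card_range : Odd (Nat.card (P : Subgroup G).normalizerMonoidHom.range) := by
  rw [card_range_normalizerMonoidHom]
  exact odd_relIndex_centralizer_normalizer h

theorem relIndex_eq_one_or_three :
    (centralizer ((P : Subgroup G) : Set G)).relIndex (normalizer ((P : Subgroup G) : Set G)) = 1 ∨
    (centralizer ((P : Subgroup G) : Set G)).relIndex (normalizer ((P : Subgroup G) : Set G)) = 3 := by
  rw [← card_range_normalizerMonoidHom]
  exact h.card_odd_aut _ (odd_card_range h)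

theorem range_pow_card (φ : MulAut (P : Subgroup G))
    (hφ : φ ∈ (P : Subgroup G).normalizerMonoidHom.range) :
    φ ^ Nat.card (P : Subgroup G).normalizerMonoidHom.range = 1 := by
  have := pow_card_eq_one' (G := (P : Subgroup G).normalizerMonoidHom.range) (x := ⟨φ, hφ⟩)
  exact congrArg Subtype.val this

/-- An element of the normalizer centralizing a nonidentity element of `P` centralizes `P`. -/
theorem mem_centralizer_of_fix (g : G) (hg : g ∈ normalizer ((P : Subgroup G) : Set G)) (z : G)
    (hzP : z ∈ (P : Subgroup G)) (hz1 : z ≠ 1) (hgz : g * z = z * g) :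
    g ∈ centralizer ((P : Subgroup G) : Set G) := by
  set φ := (P : Subgroup G).normalizerMonoidHom ⟨g, hg⟩ with hφ
  have hφr : φ ∈ (P : Subgroup G).normalizerMonoidHom.range := ⟨_, rfl⟩
  have hfix : φ ⟨z, hzP⟩ = ⟨z, hzP⟩ := by
    apply Subtype.ext
    rw [hφ, normalizerMonoidHom_apply_apply_coe]
    rw [hgz, mul_inv_cancel_right]
  have h1 : φ = 1 := h.eq_one_of_fix φ _ (odd_card_range h) (range_pow_card h φ hφr) ⟨z, hzP⟩
    (fun he => hz1 (congrArg Subtype.val he)) hfix
  have h2 : (⟨g, hg⟩ : normalizer ((P : Subgroup G) : Set G)) ∈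
      (P : Subgroup G).normalizerMonoidHom.ker := h1
  rw [normalizerMonoidHom_ker, mem_subgroupOf] at h2
  exact h2

end

end Cfsg.Agent.Lib.Helper90
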