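import Mathlib
import Cfsg.Agent.Lib.Helper90.HomocyclicSylow
import Cfsg.Agent.Lib.Helper2.AlperinTame
import Cfsg.Agent.Lib.Helper10.Card

set_option autoImplicit false

namespace Cfsg.Agent.Lib.Helper90

open Subgroup Cfsg.Agent.Lib.Helper33

section
variable {G : Type*} [Group G]

theorem card_eq_relIndex_mul_card {H K : Subgroup G} (hHK : H ≤ K) :
    Nat.card K = H.relIndex K * Nat.card H := by
  have h1 := Subgroup.card_mul_index (H.subgroupOf K)
  have h2 : Nat.card (H.subgroupOf K) = Nat.card H :=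
    Nat.card_congr (Subgroup.subgroupOfEquivOfLe hHK).toEquiv
  rw [h2] at h1
  rw [← h1, mul_comm]
  rfl

/-- A finite group of order `2 * odd` has a normal subgroup of index two. -/
theorem exists_normal_half {K : Type*} [Group K] [Finite K] (h2 : 2 ∣ Nat.card K)
    (h4 : ¬ 4 ∣ Nat.card K) : ∃ L : Subgroup K, L.Normal ∧ 2 * Nat.card L = Nat.card K := by
  obtain ⟨P⟩ : Nonempty (Sylow 2 K) := inferInstance
  obtain ⟨j, hj⟩ := P.2.exists_card_eq
  have hidx := Subgroup.card_mul_index (P : Subgroup K)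
  have hnd := P.not_dvd_index
  have hP2 : Nat.card (P : Subgroup K) = 2 := by
    rcases j with _ | _ | j
    · exfalso
      rw [hj, pow_zero, one_mul] at hidx
      rw [hidx] at hnd
      exact hnd h2
    · simpa using hj
    · exfalso
      apply h4
      rw [← hidx, hj, pow_succ, pow_succ]
      exact ⟨2 ^ j * (P : Subgroup K).index, by ring⟩
  have hcyc : IsCyclic (P : Subgroup K) := isCyclic_of_prime_card hP2
  have hp : (Nat.card K).minFac = 2 := (Nat.minFac_eq_two_iff _).mpr h2
  have hcomp := IsCyclic.isComplement' hp hcyc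
  refine ⟨_, MonoidHom.normal_ker (MonoidHom.transferSylow P (hcyc.normalizer_le_centralizer hp)), ?_⟩
  have := hcomp.card_mul_card
  rw [hP2] at this
  omega

theorem card_range_normalizerMonoidHom' (U : Subgroup G) :
    Nat.card U.normalizerMonoidHom.range =
      (centralizer (U : Set G)).relIndex (normalizer (U : Set G)) := by
  rw [← Subgroup.index_ker, normalizerMonoidHom_ker]
  rfl

/-- `|N_G(U) : C_G(U)| ∈ {2, 6}` for a commutative subgroup `U` of index two in a Sylow 2-subgroup
with exactly three involutions. -/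
theorem relIndex_two_or_six [Finite G] (S : Sylow 2 G) (U : Subgroup G)
    (_hUS : U ≤ (S : Subgroup G)) {t u : U} (h3 : ThreeInv U t u)
    (hidx : Nat.card (S : Subgroup G) = 2 * Nat.card U) (s : G)
    (hsN : s ∈ normalizer (U : Set G)) (hsC : s ∉ centralizer (U : Set G))
    (hs2 : s * s ∈ centralizer (U : Set G)) :
    (centralizer (U : Set G)).relIndex (normalizer (U : Set G)) = 2 ∨
      (centralizer (U : Set G)).relIndex (normalizer (U : Set G)) = 6 := by
  rw [← card_range_normalizerMonoidHom']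
  obtain ⟨K, hK⟩ : ∃ K : Subgroup (MulAut U), K = U.normalizerMonoidHom.range := ⟨_, rfl⟩
  rw [← hK]
  have hcardK : Nat.card K = (centralizer (U : Set G)).relIndex (normalizer (U : Set G)) := by
    rw [hK]; exact card_range_normalizerMonoidHom' U
  -- 2 divides
  have h2 : 2 ∣ Nat.card K := by
    have hφK : U.normalizerMonoidHom ⟨s, hsN⟩ ∈ K := by rw [hK]; exact ⟨_, rfl⟩
    have hne : U.normalizerMonoidHom ⟨s, hsN⟩ ≠ 1 := by
      intro he
      have : (⟨s, hsN⟩ : normalizer (U : Set G)) ∈ U.normalizerMonoidHom.ker := he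
      rw [normalizerMonoidHom_ker, mem_subgroupOf] at this
      exact hsC this
    have hsq : (U.normalizerMonoidHom ⟨s, hsN⟩) ^ 2 = 1 := by
      rw [← map_pow]
      have : (⟨s, hsN⟩ : normalizer (U : Set G)) ^ 2 ∈ U.normalizerMonoidHom.ker := by
        rw [normalizerMonoidHom_ker, mem_subgroupOf, sq]
        exact hs2
      exact this
    have ho : orderOf (⟨_, hφK⟩ : K) = 2 := by
      rw [Subgroup.orderOf_mk]
      exact orderOf_eq_prime hsq hne
    rw [← ho]
    exact orderOf_dvd_natCard _
  -- 4 does not divide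
  have h4 : ¬ 4 ∣ Nat.card K := by
    intro h4
    have hUab : U ≤ centralizer (U : Set G) := by
      intro a ha
      rw [mem_centralizer_iff]
      intro b hb
      have := h3.comm ⟨b, hb⟩ ⟨a, ha⟩
      exact congrArg Subtype.val this
    have e1 := card_eq_relIndex_mul_card (centralizer_le_normalizer (s := (U : Set G)))
    have e2 : Nat.card U ∣ Nat.card (centralizer (U : Set G)) := Subgroup.card_dvd_of_le hUab
    have e3 : 4 * Nat.card U ∣ Nat.card (normalizer (U : Set G)) := by
      rw [e1, ← hcardK]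
      exact mul_dvd_mul h4 e2
    have e4 : 4 * Nat.card U ∣ Nat.card G := e3.trans (Subgroup.card_subgroup_dvd_card _)
    have e5 := Subgroup.card_mul_index (S : Subgroup G)
    rw [← e5, hidx] at e4
    have hU0 : 0 < Nat.card U := Nat.card_pos
    have : 2 ∣ (S : Subgroup G).index := by
      have : 2 * Nat.card U * 2 ∣ 2 * Nat.card U * (S : Subgroup G).index := by
        have e : 4 * Nat.card U = 2 * Nat.card U * 2 := by ring
        rwa [e] at e4
      exact (Nat.mul_dvd_mul_iff_left (by positivity)).mp this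
    exact S.not_dvd_index this
  have : Finite K := by rw [hK]; infer_instance
  obtain ⟨L, _, hL⟩ := exists_normal_half h2 h4
  have hLodd : Odd (Nat.card L) := by
    rw [← Nat.not_even_iff_odd, even_iff_two_dvd]
    intro hd
    apply h4
    rw [← hL]
    exact mul_dvd_mul_left 2 hd
  have hmap : Nat.card (L.map K.subtype) = Nat.card L :=
    (Nat.card_congr (L.equivMapOfInjective K.subtype K.subtype_injective).toEquiv).symm
  rcases h3.card_odd_aut (L.map K.subtype) (by rw [hmap]; exact hLodd) with h1 | h1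
  · left; rw [hmap] at h1; omega
  · right; rw [hmap] at h1; omega

/-- The 2-part of `|N_G(V) : V C_G(V)|` is two when `|N_S(V) : V| = 2`, `C_S(V) ≤ V` and `N_S(V)` is
a Sylow 2-subgroup of `N_G(V)`. -/
theorem exists_relIndex_eq_two_mul_odd [Finite G] (S V N C : Subgroup G) (hVS : V ≤ S)
    (hN : N = normalizer (V : Set G)) (hC : C = centralizer (V : Set G))
    (H1 : V.relIndex (S ⊓ N) = 2) (H2 : S ⊓ C ≤ V) (H3 : ¬ 2 ∣ (S ⊓ N).relIndex N) :
    ∃ r : ℕ, Odd r ∧ (V ⊔ C).relIndex N = 2 * r := by
  have hVN : V ≤ N := by rw [hN]; exact le_normalizer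
  have hCN : C ≤ N := by rw [hN, hC]; exact centralizer_le_normalizer _
  have hMN : V ⊔ C ≤ N := sup_le hVN hCN
  have hVT : V ≤ S ⊓ N := le_inf hVS hVN
  have hnorm : ((V ⊔ C).subgroupOf N).Normal := by
    rw [subgroupOf_sup hVN hCN]
    have n1 : (V.subgroupOf N).Normal := by rw [hN]; exact normal_in_normalizer
    have n2 : (C.subgroupOf N).Normal := by
      rw [hN, hC, ← normalizerMonoidHom_ker]; exact MonoidHom.normal_ker _
    exact sup_normal _ _
  have hinf : (V ⊔ C) ⊓ (S ⊓ N) = V := by
    apply le_antisymm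
    · rintro g ⟨hgM, hgS, -⟩
      have hCV : C ≤ normalizer (V : Set G) := by rw [← hN]; exact hCN
      have h1 := Cfsg.Agent.Lib.Helper10.mul_set_eq_sup_of_le_normalizer hCV
      have hgM' : g ∈ ((C ⊔ V : Subgroup G) : Set G) := by rw [sup_comm]; exact hgM
      rw [← h1] at hgM'
      obtain ⟨c, hc, v, hv, rfl⟩ := hgM'
      have hcS : c ∈ S := by
        have := S.mul_mem hgS (S.inv_mem (hVS hv))
        simpa using this
      exact V.mul_mem (H2 ⟨hcS, hc⟩) hv
    · exact le_inf le_sup_left hVT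
  have step1 : (V ⊔ C).relIndex (S ⊓ N) ∣ (V ⊔ C).relIndex N := by
    have := relIndex_dvd_index_of_normal ((V ⊔ C).subgroupOf N) ((S ⊓ N).subgroupOf N)
    rwa [relIndex_subgroupOf inf_le_right] at this
  have step2 : (V ⊔ C).relIndex (S ⊓ N) = 2 := by
    rw [← inf_relIndex_right, hinf, H1]
  have step3 : (V ⊔ C).relIndex N ∣ 2 * (S ⊓ N).relIndex N := by
    have e := relIndex_mul_relIndex V (S ⊓ N) N hVT inf_le_right
    rw [H1] at e
    rw [e]
    exact relIndex_dvd_of_le_left N le_sup_left
  rw [step2] at step1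
  obtain ⟨r, hr⟩ := step1
  refine ⟨r, ?_, hr⟩
  rw [← Nat.not_even_iff_odd, even_iff_two_dvd]
  intro h2r
  apply H3
  rw [hr] at step3
  exact h2r.trans ((Nat.mul_dvd_mul_iff_left (by norm_num)).mp step3)

/-- If no conjugate of `V` inside `S` has a larger `S`-normalizer, then `N_S(V)` is a Sylow
2-subgroup of `N_G(V)`. -/
theorem not_dvd_relIndex_of_fullyNormalized [Finite G] (S : Sylow 2 G) (V : Subgroup G)
    (hVS : V ≤ (S : Subgroup G))
    (hfull : ∀ g : G, cj g V ≤ (S : Subgroup G) →
      Nat.card ((S : Subgroup G) ⊓ normalizer ((cj g V : Subgroup G) : Set G) : Subgroup G) ≤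
        Nat.card ((S : Subgroup G) ⊓ normalizer (V : Set G) : Subgroup G)) :
    ¬ 2 ∣ ((S : Subgroup G) ⊓ normalizer (V : Set G)).relIndex (normalizer (V : Set G)) := by
  obtain ⟨S', hle, hS'⟩ := Cfsg.Agent.Lib.Helper2.exists_sylow_ge_fullyNormalizing (p := 2)
    (normalizer (V : Set G)) ((S : Subgroup G) ⊓ normalizer (V : Set G)) inf_le_right
    (S.2.to_le inf_le_left)
  obtain ⟨g, hg⟩ := sylow_exists_cj S' S
  have hVS' : V ≤ (S' : Subgroup G) := (le_inf hVS le_normalizer).trans hle
  have h1 : cj g V ≤ (S : Subgroup G) := by rw [← hg]; exact cj_mono hVS'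
  have h2 := hfull g h1
  have h3 : cj g ((S' : Subgroup G) ⊓ normalizer (V : Set G)) =
      (S : Subgroup G) ⊓ normalizer ((cj g V : Subgroup G) : Set G) := by
    rw [cj_inf, hg, normalizer_cj]
  rw [← h3, card_cj] at h2
  have h4 : (S : Subgroup G) ⊓ normalizer (V : Set G) ≤ (S' : Subgroup G) ⊓ normalizer (V : Set G) :=
    le_inf hle inf_le_right
  have h5 := Subgroup.eq_of_le_of_card_ge h4 h2
  rw [h5]
  exact hS'

end

end Cfsg.Agent.Lib.Helper90
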