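import Mathlib
import Cfsg.Agent.Lib.Helper2.AlperinTame
import Cfsg.Agent.Lib.Helper10.Card
import Cfsg.Agent.Lib.Helper90.LocalIdx

set_option autoImplicit false

namespace Cfsg.Agent.Lib.Helper90

open Subgroup Cfsg.Agent.Lib.Helper33 Cfsg.Agent.Lib.Helper2

variable {G : Type*} [Group G]

/-- Conjugation by `g` on `A` is realised, modulo the centralizer of `A`, by a chain of
conjugations inside normalizers of members of `𝓕`. -/
def CReach (𝓕 : Set (Subgroup G)) (A : Set G) (g : G) : Prop :=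
  ∃ g' : G, Reach 𝓕 A g' ∧ ∀ a ∈ A, g'⁻¹ * a * g' = g⁻¹ * a * g

theorem rc_congr {A : Set G} {g g' : G} (h : ∀ a ∈ A, g'⁻¹ * a * g' = g⁻¹ * a * g) :
    rc g' A = rc g A := by
  ext y
  constructor
  · rintro ⟨a, ha, rfl⟩
    exact ⟨a, ha, (h a ha).symm⟩
  · rintro ⟨a, ha, rfl⟩
    exact ⟨a, ha, h a ha⟩

namespace CReach

variable {𝓕 : Set (Subgroup G)} {A B : Set G} {g k : G}

theorem of_reach (h : Reach 𝓕 A g) : CReach 𝓕 A g := ⟨g, h, fun _ _ => rfl⟩

theorem mono (h : CReach 𝓕 A g) (hBA : B ⊆ A) : CReach 𝓕 B g := by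
  obtain ⟨g', hr, he⟩ := h
  exact ⟨g', hr.mono hBA, fun a ha => he a (hBA ha)⟩

theorem of_eq_action (h : CReach 𝓕 A k) (he : ∀ a ∈ A, k⁻¹ * a * k = g⁻¹ * a * g) :
    CReach 𝓕 A g := by
  obtain ⟨g', hr, he'⟩ := h
  exact ⟨g', hr, fun a ha => (he' a ha).trans (he a ha)⟩

theorem trans (h1 : CReach 𝓕 A g) (h2 : CReach 𝓕 (rc g A) k) : CReach 𝓕 A (g * k) := by
  obtain ⟨g', hr1, he1⟩ := h1
  obtain ⟨k', hr2, he2⟩ := h2
  refine ⟨g' * k', hr1.trans (by rw [rc_congr he1]; exact hr2), ?_⟩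
  intro a ha
  have h3 := he2 (g⁻¹ * a * g) ⟨a, ha, rfl⟩
  calc (g' * k')⁻¹ * a * (g' * k') = k'⁻¹ * (g'⁻¹ * a * g') * k' := by group
    _ = k'⁻¹ * (g⁻¹ * a * g) * k' := by rw [he1 a ha]
    _ = k⁻¹ * (g⁻¹ * a * g) * k := h3
    _ = (g * k)⁻¹ * a * (g * k) := by group

end CReach

section frattini

/-- A Sylow subgroup meets a normal subgroup in a Sylow subgroup. -/
theorem not_dvd_relIndex_inf_of_normal {N' : Type*} [Group N'] [Finite N'] {p : ℕ}
    (P' M' : Subgroup N') [M'.Normal] (hP : ¬ p ∣ P'.index) : ¬ p ∣ (P' ⊓ M').relIndex M' := by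
  have e1 : M'.relIndex (P' ⊔ M') = M'.relIndex P' := relIndex_sup_right P' M'
  have e2 : (P' ⊓ M').relIndex P' = M'.relIndex P' := inf_relIndex_left P' M'
  have e3 := card_eq_relIndex_mul_card (le_sup_right : M' ≤ P' ⊔ M')
  have e4 := card_eq_relIndex_mul_card (le_sup_left : P' ≤ P' ⊔ M')
  have e5 := card_eq_relIndex_mul_card (inf_le_left : P' ⊓ M' ≤ P')
  have e6 := card_eq_relIndex_mul_card (inf_le_right : P' ⊓ M' ≤ M')
  have e7 : P'.relIndex (P' ⊔ M') ∣ P'.index := relIndex_dvd_index_of_le le_sup_left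
  have hc : 0 < Nat.card (P' ⊓ M' : Subgroup N') := Nat.card_pos
  have hr : 0 < M'.relIndex P' := by
    rcases Nat.eq_zero_or_pos (M'.relIndex P') with h0 | h0
    · rw [← e2] at h0
      rw [h0, zero_mul] at e5
      have : 0 < Nat.card P' := Nat.card_pos
      omega
    · exact h0
  have key : P'.relIndex (P' ⊔ M') = (P' ⊓ M').relIndex M' := by
    rw [e1] at e3
    rw [e3, e5, e6, e2] at e4
    have h1 : M'.relIndex P' * ((P' ⊓ M').relIndex M' * Nat.card (P' ⊓ M' : Subgroup N')) =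
        M'.relIndex P' * (P'.relIndex (P' ⊔ M') * Nat.card (P' ⊓ M' : Subgroup N')) := by
      rw [e4]; ring
    have h2 := Nat.eq_of_mul_eq_mul_left hr h1
    exact (Nat.eq_of_mul_eq_mul_right hc h2).symm
  rw [← key]
  exact fun hd => hP (hd.trans e7)

theorem not_dvd_relIndex_inf_of_normal' [Finite G] {p : ℕ} (P N M : Subgroup G) (hMN : M ≤ N)
    (hn : (M.subgroupOf N).Normal) (hP : ¬ p ∣ P.relIndex N) : ¬ p ∣ (P ⊓ M).relIndex M := by
  have := not_dvd_relIndex_inf_of_normal (P.subgroupOf N) (M.subgroupOf N) hP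
  rw [← relIndex_subgroupOf hMN]
  have e : (P ⊓ M).subgroupOf N = P.subgroupOf N ⊓ M.subgroupOf N := by
    ext y; simp [mem_subgroupOf]
  rw [e]
  exact this

theorem sup_centralizer_le_normalizer (T : Subgroup G) :
    T ⊔ centralizer (T : Set G) ≤ normalizer (T : Set G) :=
  sup_le le_normalizer (centralizer_le_normalizer _)

theorem sup_centralizer_subgroupOf_normal (T : Subgroup G) :
    ((T ⊔ centralizer (T : Set G)).subgroupOf (normalizer (T : Set G))).Normal := by
  rw [subgroupOf_sup le_normalizer (centralizer_le_normalizer _)]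
  have n1 : (T.subgroupOf (normalizer (T : Set G))).Normal := normal_in_normalizer
  have n2 : ((centralizer (T : Set G)).subgroupOf (normalizer (T : Set G))).Normal := by
    rw [← normalizerMonoidHom_ker]; exact MonoidHom.normal_ker _
  exact sup_normal _ _

theorem mem_sup_centralizer {T : Subgroup G} {c : G} (hc : c ∈ T ⊔ centralizer (T : Set G)) :
    ∃ c₀ ∈ centralizer (T : Set G), ∃ t₀ ∈ T, c = c₀ * t₀ := by
  have h1 := Cfsg.Agent.Lib.Helper10.mul_set_eq_sup_of_le_normalizer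
    (centralizer_le_normalizer (T : Set G))
  have hc' : c ∈ ((centralizer (T : Set G) ⊔ T : Subgroup G) : Set G) := by
    rw [sup_comm]; exact hc
  rw [← h1] at hc'
  obtain ⟨c₀, hc₀, t₀, ht₀, rfl⟩ := hc'
  exact ⟨c₀, hc₀, t₀, ht₀, rfl⟩

theorem inf_sup_centralizer (S T : Subgroup G) (hTS : T ≤ S) :
    S ⊓ (T ⊔ centralizer (T : Set G)) = T ⊔ (S ⊓ centralizer (T : Set G)) := by
  apply le_antisymm
  · rintro g ⟨hgS, hgM⟩
    obtain ⟨c₀, hc₀, t₀, ht₀, rfl⟩ := mem_sup_centralizer hgM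
    have hc₀S : c₀ ∈ S := by
      have := S.mul_mem hgS (S.inv_mem (hTS ht₀))
      simpa using this
    exact mul_mem (mem_sup_right ⟨hc₀S, hc₀⟩) (mem_sup_left ht₀)
  · exact sup_le (le_inf hTS le_sup_left) (le_inf inf_le_left (inf_le_right.trans le_sup_right))

/-- The Frattini argument inside `N_G(T)`. -/
theorem frattini_factor [Finite G] {p : ℕ} [Fact p.Prime] (S : Sylow p G) (T : Subgroup G)
    (hTS : T ≤ (S : Subgroup G))
    (hfull : ¬ p ∣ ((S : Subgroup G) ⊓ normalizer (T : Set G)).relIndex (normalizer (T : Set G)))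
    (x : G) (hx : x ∈ normalizer (T : Set G)) :
    ∃ m c : G, m ∈ normalizer (T : Set G) ∧
      m ∈ normalizer ((T ⊔ ((S : Subgroup G) ⊓ centralizer (T : Set G)) : Subgroup G) : Set G) ∧
      c ∈ T ⊔ centralizer (T : Set G) ∧ x = m * c := by
  obtain ⟨M, hM⟩ : ∃ M : Subgroup G, M = T ⊔ centralizer (T : Set G) := ⟨_, rfl⟩
  obtain ⟨R, hR⟩ : ∃ R : Subgroup G, R = T ⊔ ((S : Subgroup G) ⊓ centralizer (T : Set G)) :=
    ⟨_, rfl⟩
  have hMN : M ≤ normalizer (T : Set G) := by rw [hM]; exact sup_centralizer_le_normalizer T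
  have hMn : (M.subgroupOf (normalizer (T : Set G))).Normal := by
    rw [hM]; exact sup_centralizer_subgroupOf_normal T
  have hSM : (S : Subgroup G) ⊓ M = R := by rw [hM, hR]; exact inf_sup_centralizer _ _ hTS
  have hsyl : ¬ p ∣ ((S : Subgroup G) ⊓ M).relIndex M := by
    have := not_dvd_relIndex_inf_of_normal' ((S : Subgroup G) ⊓ normalizer (T : Set G)) _ M hMN hMn hfull
    rwa [inf_assoc, inf_eq_right.mpr hMN] at this
  -- `x⁻¹` normalizes `M`
  have hxM : cj x⁻¹ M = M := by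
    rw [hM, cj_sup, ← centralizer_cj, cj_eq_self_iff.mpr (inv_mem hx)]
  have hRM : R ≤ M := by rw [← hSM]; exact inf_le_right
  have hH : cj x⁻¹ R ≤ M := by rw [← hxM]; exact cj_mono hRM
  have hRp : IsPGroup p R := by rw [← hSM]; exact S.2.to_le inf_le_left
  obtain ⟨c, hcM, hc⟩ := sylow_sub (K := M) (P := (S : Subgroup G) ⊓ M) inf_le_right
    (S.2.to_le inf_le_left) hsyl hH (isPGroup_cj hRp)
  rw [hSM, ← cj_mul] at hc
  have heq : cj (c * x⁻¹) R = R := Subgroup.eq_of_le_of_card_ge hc (by rw [card_cj])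
  have hn : c * x⁻¹ ∈ normalizer (R : Set G) := cj_eq_self_iff.mp heq
  refine ⟨x * c⁻¹, c, ?_, ?_, ?_, by group⟩
  · exact mul_mem hx (inv_mem (hMN hcM))
  · rw [← hR]
    have := inv_mem hn
    simpa using this
  · rw [← hM]; exact hcM

end frattini

section alperin

/-- One step: conjugation by an element of the normalizer of a fully normalized subgroup. -/
theorem creach_step [Finite G] {p : ℕ} [Fact p.Prime] (S : Sylow p G) (𝓕 : Set (Subgroup G))
    (hS𝓕 : (S : Subgroup G) ∈ 𝓕)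
    (hE : ∀ T : Subgroup G, T ≤ (S : Subgroup G) → T ≠ (S : Subgroup G) →
      (S : Subgroup G) ⊓ centralizer (T : Set G) ≤ T →
      ¬ p ∣ ((S : Subgroup G) ⊓ normalizer (T : Set G)).relIndex (normalizer (T : Set G)) →
      ∀ x ∈ normalizer (T : Set G), CReach 𝓕 (T : Set G) x)
    (T : Subgroup G) (hTS : T ≤ (S : Subgroup G))
    (hfull : ¬ p ∣ ((S : Subgroup G) ⊓ normalizer (T : Set G)).relIndex (normalizer (T : Set G)))
    (IH : ∀ (R : Subgroup G) (m : G), R ≤ (S : Subgroup G) → Nat.card T < Nat.card R →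
      m ∈ normalizer (R : Set G) → CReach 𝓕 (R : Set G) m)
    (x : G) (hx : x ∈ normalizer (T : Set G)) : CReach 𝓕 (T : Set G) x := by
  by_cases hTeq : T = (S : Subgroup G)
  · exact CReach.of_reach (Reach.single (hTeq ▸ hS𝓕) hx (le_refl _))
  by_cases hcen : (S : Subgroup G) ⊓ centralizer (T : Set G) ≤ T
  · exact hE T hTS hTeq hcen hfull x hx
  -- the Frattini argument
  obtain ⟨m, c, hmT, hmR, hcM, rfl⟩ := frattini_factor S T hTS hfull x hx
  obtain ⟨R, hR⟩ : ∃ R : Subgroup G, R = T ⊔ ((S : Subgroup G) ⊓ centralizer (T : Set G)) :=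
    ⟨_, rfl⟩
  rw [← hR] at hmR
  have hTR : T ≤ R := by rw [hR]; exact le_sup_left
  have hRS : R ≤ (S : Subgroup G) := by rw [hR]; exact sup_le hTS inf_le_left
  have hlt : Nat.card T < Nat.card R := by
    apply card_lt_of_lt'
    refine lt_of_le_of_ne hTR ?_
    intro he
    apply hcen
    have h0 : (S : Subgroup G) ⊓ centralizer (T : Set G) ≤ R := by rw [hR]; exact le_sup_right
    exact h0.trans he.ge
  have h1 : CReach 𝓕 (T : Set G) m := (IH R m hRS hlt hmR).mono hTR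
  have hrc : rc m (T : Set G) = (T : Set G) := by
    rw [rc_coe, cj_eq_self_iff.mpr (inv_mem hmT)]
  obtain ⟨c₀, hc₀, t₀, ht₀, rfl⟩ := mem_sup_centralizer hcM
  have h2 : CReach 𝓕 (rc m (T : Set G)) (c₀ * t₀) := by
    rw [hrc]
    refine ⟨t₀, Reach.single hS𝓕 (le_normalizer (hTS ht₀)) hTS, ?_⟩
    intro a ha
    have hca : c₀⁻¹ * a * c₀ = a := by
      have := (mem_centralizer_iff.mp hc₀) a ha
      calc c₀⁻¹ * a * c₀ = c₀⁻¹ * (a * c₀) := by group
        _ = c₀⁻¹ * (c₀ * a) := by rw [this]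
        _ = a := by group
    calc t₀⁻¹ * a * t₀ = t₀⁻¹ * (c₀⁻¹ * a * c₀) * t₀ := by rw [hca]
      _ = (c₀ * t₀)⁻¹ * a * (c₀ * t₀) := by group
  exact h1.trans h2

/-- **Alperin–Goldschmidt**, essential form: fusion in `S` is generated, modulo centralizers, by
`N_G(S)` and the normalizers of fully normalized centric subgroups. -/
theorem creach_of_essential [Finite G] {p : ℕ} [Fact p.Prime] (S : Sylow p G)
    (𝓕 : Set (Subgroup G)) (hS𝓕 : (S : Subgroup G) ∈ 𝓕)
    (hE : ∀ T : Subgroup G, T ≤ (S : Subgroup G) → T ≠ (S : Subgroup G) →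
      (S : Subgroup G) ⊓ centralizer (T : Set G) ≤ T →
      ¬ p ∣ ((S : Subgroup G) ⊓ normalizer (T : Set G)).relIndex (normalizer (T : Set G)) →
      ∀ x ∈ normalizer (T : Set G), CReach 𝓕 (T : Set G) x)
    (A : Set G) (g : G) (hA : A ⊆ (S : Subgroup G)) (hAg : rc g A ⊆ (S : Subgroup G)) :
    CReach 𝓕 A g := by
  obtain ⟨n, hn⟩ : ∃ n, Nat.card (S : Subgroup G) - Nat.card (closure A) = n := ⟨_, rfl⟩
  induction n using Nat.strong_induction_on generalizing A g with
  | _ n ih =>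
  have hcl : closure A ≤ (S : Subgroup G) := (closure_le _).mpr hA
  have IH : ∀ (R : Subgroup G) (m : G), R ≤ (S : Subgroup G) →
      Nat.card (closure A) < Nat.card R → m ∈ normalizer (R : Set G) →
      CReach 𝓕 (R : Set G) m := by
    intro R m hRS hlt hm
    have hle : Nat.card R ≤ Nat.card (S : Subgroup G) := Subgroup.card_le_of_le hRS
    refine ih (Nat.card (S : Subgroup G) - Nat.card R) ?_ (R : Set G) m hRS ?_ ?_
    · have : Nat.card (closure A) ≤ Nat.card (S : Subgroup G) := Subgroup.card_le_of_le hcl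
      omega
    · rw [rc_coe, cj_eq_self_iff.mpr (inv_mem hm)]; exact hRS
    · rw [closure_eq]
  have key : ∀ (A' : Set G) (g' : G), Reach (tameFamily S) A' g' →
      Nat.card (closure A') = Nat.card (closure A) → A' ⊆ (S : Subgroup G) → CReach 𝓕 A' g' := by
    intro A' g' hr
    induction hr with
    | nil A' => intro _ _; exact CReach.of_reach (Reach.nil _)
    | cons A' T x g'' hT hx hA'T _ ih' =>
      intro hcard hA'S
      obtain ⟨Q, rfl, htame⟩ := hT
      have hTS : (S : Subgroup G) ⊓ (Q : Subgroup G) ≤ (S : Subgroup G) := inf_le_left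
      have hclT : closure A' ≤ (S : Subgroup G) ⊓ (Q : Subgroup G) := (closure_le _).mpr hA'T
      have hstep : CReach 𝓕 (((S : Subgroup G) ⊓ (Q : Subgroup G) : Subgroup G) : Set G) x := by
        apply creach_step S 𝓕 hS𝓕 hE _ hTS htame.1 _ x hx
        intro R m hRS hlt hm
        apply IH R m hRS _ hm
        have := Subgroup.card_le_of_le hclT
        omega
      have h1 : CReach 𝓕 A' x := hstep.mono hA'T
      have h2 : CReach 𝓕 (rc x A') g'' := by
        apply ih'
        · rw [closure_rc, card_cj, hcard]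
        · exact (rc_subset_of_mem_normalizer hx hA'T).trans hTS
      exact h1.trans h2
  exact key A g (reach_tame S A g hA hAg) rfl hA

end alperin

section factor

/-- If `N_S(T)` is Sylow in `N_G(T)` and `|N_G(T) : C_G(T)|` is a power of `p`, then
`N_G(T) = C_G(T) N_S(T)`. -/
theorem normalizer_factor' [Finite G] {p : ℕ} [hp : Fact p.Prime] (S : Sylow p G) (T : Subgroup G)
    (hfull : ¬ p ∣ ((S : Subgroup G) ⊓ normalizer (T : Set G)).relIndex (normalizer (T : Set G)))
    (k : ℕ) (hk : (centralizer (T : Set G)).relIndex (normalizer (T : Set G)) = p ^ k)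
    (x : G) (hx : x ∈ normalizer (T : Set G)) :
    ∃ c ∈ centralizer (T : Set G), ∃ s ∈ (S : Subgroup G), x = c * s := by
  obtain ⟨N, hN⟩ : ∃ N : Subgroup G, N = normalizer (T : Set G) := ⟨_, rfl⟩
  obtain ⟨C', hC'⟩ : ∃ C' : Subgroup N, C' = (centralizer (T : Set G)).subgroupOf N := ⟨_, rfl⟩
  obtain ⟨S', hS'⟩ : ∃ S' : Subgroup N, S' = ((S : Subgroup G) ⊓ N).subgroupOf N := ⟨_, rfl⟩
  have hCn : C'.Normal := by
    rw [hC', hN, ← normalizerMonoidHom_ker]; exact MonoidHom.normal_ker _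
  rw [← hN] at hfull hk hx
  have h1 : (C' ⊔ S').index ∣ p ^ k := by
    rw [← hk]
    have : C'.index = (centralizer (T : Set G)).relIndex N := by rw [hC']; rfl
    rw [← this]
    exact Subgroup.index_dvd_of_le le_sup_left
  have h2 : (C' ⊔ S').index ∣ ((S : Subgroup G) ⊓ N).relIndex N := by
    have : S'.index = ((S : Subgroup G) ⊓ N).relIndex N := by rw [hS']; rfl
    rw [← this]
    exact Subgroup.index_dvd_of_le le_sup_right
  have hcop : Nat.Coprime (p ^ k) (((S : Subgroup G) ⊓ N).relIndex N) :=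
    Nat.Coprime.pow_left k ((Nat.Prime.coprime_iff_not_dvd hp.out).mpr hfull)
  have h3 : (C' ⊔ S').index = 1 := Nat.eq_one_of_dvd_coprimes hcop h1 h2
  have h4 : C' ⊔ S' = ⊤ := Subgroup.index_eq_one.mp h3
  have hx' : (⟨x, hx⟩ : N) ∈ ((C' ⊔ S' : Subgroup N) : Set N) := by
    rw [h4]; trivial
  rw [Subgroup.normal_mul] at hx'
  obtain ⟨c, hc, s, hs, hcs⟩ := hx'
  rw [hC'] at hc
  rw [hS'] at hs
  refine ⟨c, Subgroup.mem_subgroupOf.mp hc, s, (Subgroup.mem_subgroupOf.mp hs).1, ?_⟩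
  have := congrArg Subtype.val hcs
  simpa using this.symm

/-- Conjugation by `c * s` with `c` centralizing `T` and `s ∈ S` is reached through `S`. -/
theorem creach_of_factor {p : ℕ} (S : Sylow p G) (𝓕 : Set (Subgroup G))
    (hS𝓕 : (S : Subgroup G) ∈ 𝓕) (T : Subgroup G) (hTS : T ≤ (S : Subgroup G)) (c s : G)
    (hc : c ∈ centralizer (T : Set G)) (hs : s ∈ (S : Subgroup G)) :
    CReach 𝓕 (T : Set G) (c * s) := by
  refine ⟨s, Reach.single hS𝓕 (le_normalizer hs) hTS, ?_⟩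
  intro a ha
  have hca : c⁻¹ * a * c = a := by
    have := (mem_centralizer_iff.mp hc) a ha
    calc c⁻¹ * a * c = c⁻¹ * (a * c) := by group
      _ = c⁻¹ * (c * a) := by rw [this]
      _ = a := by group
  calc s⁻¹ * a * s = s⁻¹ * (c⁻¹ * a * c) * s := by rw [hca]
    _ = (c * s)⁻¹ * a * (c * s) := by group

end factor

end Cfsg.Agent.Lib.Helper90
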