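import Mathlib

/-!
# Equality of exponents from prime-power-order elements

Pure group theory: a subgroup `H₀ ≤ H` has the same exponent as `H` as soon as the order of every
element of prime power order of `H` divides the order of some element of `H₀`.
-/

namespace Cfsg.Agent.Lib.Helper90.ExpEq

variable {G : Type*} [Group G]

/-- `H₀ ≤ H` gives `exp H₀ ∣ exp H`. -/
theorem exponent_dvd_of_le {H₀ H : Subgroup G} (h : H₀ ≤ H) :
    Monoid.exponent H₀ ∣ Monoid.exponent H :=
  Monoid.exponent_dvd_of_monoidHom (Subgroup.inclusion h) (Subgroup.inclusion_injective h)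

/-- If every prime power dividing the order of an element of `H` divides the order of some element
of `H₀`, then `exp H ∣ exp H₀`. -/
theorem exponent_dvd_of_prime_pow [Finite G] {H₀ H : Subgroup G}
    (hq : ∀ (q k : ℕ), q.Prime → ∀ g ∈ H, orderOf g = q ^ k → ∃ g' ∈ H₀, q ^ k ∣ orderOf g') :
    Monoid.exponent H ∣ Monoid.exponent H₀ := by
  apply Monoid.exponent_dvd_of_forall_pow_eq_one
  intro g
  apply Subtype.ext
  rw [Subgroup.coe_pow, Subgroup.coe_one]
  apply orderOf_dvd_iff_pow_eq_one.mp
  rw [Nat.dvd_iff_prime_pow_dvd_dvd]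
  intro q k hqp hdvd
  have hne : orderOf (g : G) ≠ 0 := (orderOf_pos (g : G)).ne'
  have hord := orderOf_pow_orderOf_div hne hdvd
  obtain ⟨g', hg', hd⟩ := hq q k hqp _ (H.pow_mem g.2 _) hord
  have h1 : orderOf (⟨g', hg'⟩ : H₀) ∣ Monoid.exponent H₀ := Monoid.order_dvd_exponent _
  rw [← Subgroup.orderOf_coe] at h1
  exact hd.trans h1

/-- **Same exponent.**  `H₀ ≤ H`, and every element of prime power order `q ^ k` of `H` is matched
by an element of `H₀` whose order is divisible by `q ^ k`. -/
theorem exponent_eq_of_prime_pow [Finite G] {H₀ H : Subgroup G} (h : H₀ ≤ H)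
    (hq : ∀ (q k : ℕ), q.Prime → ∀ g ∈ H, orderOf g = q ^ k → ∃ g' ∈ H₀, q ^ k ∣ orderOf g') :
    Monoid.exponent H₀ = Monoid.exponent H :=
  Nat.dvd_antisymm (exponent_dvd_of_le h) (exponent_dvd_of_prime_pow hq)

/-- Variant: it suffices that for each prime `q` some Sylow `q`-subgroup of `H` be matched, i.e.
`H₀` contains an element whose order is divisible by the order of any given `q`-element of `H`;
here phrased with subgroups: for each prime `q` there is a subgroup `T ≤ H₀` such that every
`q`-element of `H` has order dividing `exp T`. -/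
theorem exponent_eq_of_subgroups [Finite G] {H₀ H : Subgroup G} (h : H₀ ≤ H)
    (hq : ∀ (q k : ℕ), q.Prime → ∀ g ∈ H, orderOf g = q ^ k →
      ∃ T : Subgroup G, T ≤ H₀ ∧ q ^ k ∣ Monoid.exponent T) :
    Monoid.exponent H₀ = Monoid.exponent H := by
  refine Nat.dvd_antisymm (exponent_dvd_of_le h) ?_
  apply Monoid.exponent_dvd_of_forall_pow_eq_one
  intro g
  apply Subtype.ext
  rw [Subgroup.coe_pow, Subgroup.coe_one]
  apply orderOf_dvd_iff_pow_eq_one.mp
  rw [Nat.dvd_iff_prime_pow_dvd_dvd]
  intro q k hqp hdvd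
  have hne : orderOf (g : G) ≠ 0 := (orderOf_pos (g : G)).ne'
  have hord := orderOf_pow_orderOf_div hne hdvd
  obtain ⟨T, hT, hd⟩ := hq q k hqp _ (H.pow_mem g.2 _) hord
  exact hd.trans (exponent_dvd_of_le hT)

end Cfsg.Agent.Lib.Helper90.ExpEq
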