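import Mathlib

set_option autoImplicit false

namespace Cfsg.Agent.Lib.Helper90

open Subgroup

variable {G : Type*} [Group G]

/-- A subgroup `U₁` of a Sylow subgroup `P` containing the focal subgroup is the intersection with
`P` of a normal subgroup `K` of `G` with `|G : K| = |P : U₁|`. -/
theorem exists_normal_of_focal_le [Finite G] {p : ℕ} [Fact p.Prime] (P : Sylow p G)
    (U₁ : Subgroup ↥(P : Subgroup G)) (hle : (P : Subgroup G).focalSubgroupOf ≤ U₁) :
    ∃ K : Subgroup G, K.Normal ∧ K.index = U₁.index ∧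
      U₁.map (P : Subgroup G).subtype ≤ K ∧
      ∀ x : ↥(P : Subgroup G), (x : G) ∈ K → x ^ (P : Subgroup G).index ∈ U₁ := by
  obtain ⟨Ū, hŪ⟩ : ∃ Ū : Subgroup (↥(P : Subgroup G) ⧸ (P : Subgroup G).focalSubgroupOf),
    Ū = U₁.map (QuotientGroup.mk' (P : Subgroup G).focalSubgroupOf) := ⟨_, rfl⟩
  have hn : Ū.Normal := inferInstance
  refine ⟨Ū.comap (P : Subgroup G).transferFocal, hn.comap _, ?_, ?_, ?_⟩
  · rw [index_comap_of_surjective _ (transferFocal_surjective P), hŪ, index_map,
      QuotientGroup.ker_mk', sup_eq_left.mpr hle,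
      MonoidHom.range_eq_top.mpr (QuotientGroup.mk'_surjective _), index_top, mul_one]
  · rintro _ ⟨u, hu, rfl⟩
    rw [mem_comap]
    show (P : Subgroup G).transferFocal ((u : ↥(P : Subgroup G)) : G) ∈ Ū
    rw [transferFocal_eq_pow, hŪ]
    exact pow_mem (mem_map_of_mem _ hu) _
  · intro x hx
    rw [mem_comap, transferFocal_eq_pow, hŪ] at hx
    obtain ⟨v, hv, hvx⟩ := hx
    have h1 : (QuotientGroup.mk' (P : Subgroup G).focalSubgroupOf) (x ^ (P : Subgroup G).index) =
        (QuotientGroup.mk' (P : Subgroup G).focalSubgroupOf) v := by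
      rw [hvx]; rfl
    have h2 : v⁻¹ * x ^ (P : Subgroup G).index ∈ (P : Subgroup G).focalSubgroupOf :=
      QuotientGroup.eq.mp h1.symm
    have := U₁.mul_mem hv (hle h2)
    simpa using this

end Cfsg.Agent.Lib.Helper90
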