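import Mathlib
import Cfsg.Agent.Lib.Helper90.Essential
import Cfsg.Agent.Lib.Helper90.FocalIndex

set_option autoImplicit false

namespace Cfsg.Agent.Lib.Helper90

open Subgroup Cfsg.Agent.Lib.Helper33 Cfsg.Agent.Lib.Helper2
open scoped commutatorElement

variable {G : Type*} [Group G]

theorem conj_eq_of_mem_centralizer {X : Subgroup G} {c a : G} (hc : c ∈ centralizer (X : Set G))
    (ha : a ∈ X) : c⁻¹ * a * c = a := by
  have := (mem_centralizer_iff.mp hc) a ha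
  calc c⁻¹ * a * c = c⁻¹ * (a * c) := by group
    _ = c⁻¹ * (c * a) := by rw [this]
    _ = a := by group

/-- Along a chain of conjugations, `a⁻¹ a^g` stays in `D` if it does at every step. -/
theorem reach_mul_mem {p : ℕ} (S : Sylow p G) (𝓔 : Set (Subgroup G)) (D : Subgroup G)
    (h𝓔 : ∀ T ∈ 𝓔, T ≤ (S : Subgroup G))
    (hNS : ∀ x ∈ normalizer ((S : Subgroup G) : Set G),
      ∃ c ∈ centralizer ((S : Subgroup G) : Set G), ∃ s ∈ (S : Subgroup G), x = c * s)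
    (hS : ∀ a ∈ (S : Subgroup G), ∀ s ∈ (S : Subgroup G), a⁻¹ * (s⁻¹ * a * s) ∈ D)
    (hE : ∀ T ∈ 𝓔, ∀ x ∈ normalizer (T : Set G), ∀ a ∈ T, a⁻¹ * (x⁻¹ * a * x) ∈ D)
    {A : Set G} {g : G} (hr : Reach ({(S : Subgroup G)} ∪ 𝓔) A g) (hA : A ⊆ (S : Subgroup G)) :
    ∀ a ∈ A, a⁻¹ * (g⁻¹ * a * g) ∈ D := by
  induction hr with
  | nil A => intro a _; simp
  | cons A T x g hT hx hAT _ ih =>
    intro a ha
    have hTS : T ≤ (S : Subgroup G) := by
      rcases hT with hT | hT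
      · have hT' : T = (S : Subgroup G) := hT
        rw [hT']
      · exact h𝓔 T hT
    have hsub : rc x A ⊆ (S : Subgroup G) := (rc_subset_of_mem_normalizer hx hAT).trans hTS
    have hstep : a⁻¹ * (x⁻¹ * a * x) ∈ D := by
      rcases hT with hT | hT
      · have hT' : T = (S : Subgroup G) := hT
        rw [hT'] at hx
        obtain ⟨c, hc, s, hs, rfl⟩ := hNS x hx
        have hca := conj_eq_of_mem_centralizer hc (hA ha)
        have e : (c * s)⁻¹ * a * (c * s) = s⁻¹ * a * s := by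
          calc (c * s)⁻¹ * a * (c * s) = s⁻¹ * (c⁻¹ * a * c) * s := by group
            _ = s⁻¹ * a * s := by rw [hca]
        rw [e]
        exact hS a (hA ha) s hs
      · exact hE T hT x hx a (hAT ha)
    have h2 := ih hsub (x⁻¹ * a * x) (conj_mem_rc ha)
    have e : a⁻¹ * ((x * g)⁻¹ * a * (x * g)) =
        (a⁻¹ * (x⁻¹ * a * x)) * ((x⁻¹ * a * x)⁻¹ * (g⁻¹ * (x⁻¹ * a * x) * g)) := by group
    rw [e]
    exact mul_mem hstep h2

/-- The focal subgroup lies in `D` if every generating conjugation moves elements within cosets of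
`D`. -/
theorem focalSubgroup_le_of_steps {p : ℕ} (S : Sylow p G) (𝓔 : Set (Subgroup G)) (D : Subgroup G)
    (h𝓔 : ∀ T ∈ 𝓔, T ≤ (S : Subgroup G))
    (hNS : ∀ x ∈ normalizer ((S : Subgroup G) : Set G),
      ∃ c ∈ centralizer ((S : Subgroup G) : Set G), ∃ s ∈ (S : Subgroup G), x = c * s)
    (hS : ∀ a ∈ (S : Subgroup G), ∀ s ∈ (S : Subgroup G), a⁻¹ * (s⁻¹ * a * s) ∈ D)
    (hE : ∀ T ∈ 𝓔, ∀ x ∈ normalizer (T : Set G), ∀ a ∈ T, a⁻¹ * (x⁻¹ * a * x) ∈ D)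
    (hreach : ∀ (A : Set G) (g : G), A ⊆ (S : Subgroup G) → rc g A ⊆ (S : Subgroup G) →
      CReach ({(S : Subgroup G)} ∪ 𝓔) A g) :
    (S : Subgroup G).focalSubgroup ≤ D := by
  rw [focalSubgroup_def, closure_le]
  rintro g₀ ⟨hg₀S, a, haS, u, rfl⟩
  have hA : ({a⁻¹} : Set G) ⊆ (S : Subgroup G) := by
    rintro _ rfl; exact inv_mem haS
  have hAg : rc u⁻¹ ({a⁻¹} : Set G) ⊆ (S : Subgroup G) := by
    rintro _ ⟨_, rfl, rfl⟩
    show u⁻¹⁻¹ * a⁻¹ * u⁻¹ ∈ (S : Subgroup G)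
    have e : u⁻¹⁻¹ * a⁻¹ * u⁻¹ = a⁻¹ * ⁅a, u⁆ := by
      rw [commutatorElement_def]; group
    rw [e]
    exact mul_mem (inv_mem haS) hg₀S
  obtain ⟨g', hr, he⟩ := hreach _ u⁻¹ hA hAg
  have h1 := reach_mul_mem S 𝓔 D h𝓔 hNS hS hE hr hA a⁻¹ rfl
  rw [he a⁻¹ rfl] at h1
  have e : ⁅a, u⁆ = a⁻¹⁻¹ * (u⁻¹⁻¹ * a⁻¹ * u⁻¹) := by
    rw [commutatorElement_def]; group
  rw [SetLike.mem_coe, e]
  exact h1

end Cfsg.Agent.Lib.Helper90
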