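import Mathlib

set_option autoImplicit false

namespace Cfsg.Agent.Lib.Helper90

variable {G : Type*} [Group G]

/-- Two involutions `s`, `t` whose product has odd order are conjugate by a power of the product. -/
theorem dihedral_conj (s t : G) (hs : s * s = 1) (ht : t * t = 1) (n : ℕ)
    (hn : (s * t) ^ (2 * n + 1) = 1) : s = ((s * t) ^ n)⁻¹ * t * (s * t) ^ n := by
  have hsinv : s⁻¹ = s := inv_eq_of_mul_eq_one_right hs
  have htinv : t⁻¹ = t := inv_eq_of_mul_eq_one_right ht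
  set r := s * t with hr
  have hrinv : s * r * s⁻¹ = r⁻¹ := by
    rw [hr, hsinv, mul_inv_rev, hsinv, htinv]
    calc s * (s * t) * s = (s * s) * t * s := by group
      _ = t * s := by rw [hs, one_mul]
  have hpow : ∀ m : ℕ, (r ^ m)⁻¹ * s = s * r ^ m := by
    intro m
    have h1 : s * r ^ m * s⁻¹ = (r ^ m)⁻¹ := by
      rw [← conj_pow, hrinv, inv_pow]
    calc (r ^ m)⁻¹ * s = s * r ^ m * s⁻¹ * s := by rw [h1]
      _ = s * r ^ m := by group
  have htr : t = s * r := by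
    rw [hr, ← mul_assoc, hs, one_mul]
  symm
  calc (r ^ n)⁻¹ * t * r ^ n = (r ^ n)⁻¹ * s * r * r ^ n := by rw [htr]; group
    _ = s * r ^ n * r * r ^ n := by rw [hpow]
    _ = s * r ^ (2 * n + 1) := by
      rw [mul_assoc, mul_assoc, ← pow_succ', ← pow_add]
      congr 2
      omega
    _ = s := by rw [hn, mul_one]

theorem odd_orderOf_of_mem [Finite G] (K : Subgroup G) (hodd : Odd (Nat.card K)) (k : G) (hk : k ∈ K) :
    Odd (orderOf k) := by
  have h1 : orderOf (⟨k, hk⟩ : K) ∣ Nat.card K := orderOf_dvd_natCard _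
  have h2 : orderOf (⟨k, hk⟩ : K) = orderOf k := Subgroup.orderOf_mk k hk
  rw [← h2]
  exact Odd.of_dvd_nat hodd h1

/-- For an element `k` of odd order there is `n` with `k ^ (2 n + 1) = 1`. -/
theorem exists_pow_odd_eq_one [Finite G] (K : Subgroup G) (hodd : Odd (Nat.card K)) (k : G) (hk : k ∈ K) :
    ∃ n : ℕ, k ^ (2 * n + 1) = 1 := by
  obtain ⟨n, hn⟩ := odd_orderOf_of_mem K hodd k hk
  exact ⟨n, by rw [← hn]; exact pow_orderOf_eq_one k⟩

theorem conj_mem_of_mem_normalizer (K : Subgroup G) {a k : G} (ha : a ∈ Subgroup.normalizer (K : Set G))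
    (hk : k ∈ K) : a * k * a⁻¹ ∈ K :=
  (Subgroup.mem_normalizer_iff.mp ha k).mp hk

theorem conj_mem_of_mem_normalizer' (K : Subgroup G) {a k : G} (ha : a ∈ Subgroup.normalizer (K : Set G))
    (hk : k ∈ K) : a⁻¹ * k * a ∈ K := by
  have := conj_mem_of_mem_normalizer K (Subgroup.inv_mem _ ha) hk
  simpa using this

theorem commute_pow_inv_of_commute {x a : G} (h : x * a = a * x) (n : ℕ) :
    (x ^ n)⁻¹ * a = a * (x ^ n)⁻¹ := by
  have h1 : Commute x a := h
  exact ((h1.pow_left n).inv_left).eq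

/-- A four-group `{1, a, b, ab}` normalizing a subgroup `K` of odd order:
every element of `K` is a product of elements of `C_K(a)`, `C_K(ab)`, `C_K(b)`. -/
theorem four_group_factor [Finite G] (K : Subgroup G) (hodd : Odd (Nat.card K)) (a b : G)
    (ha : a * a = 1) (hb : b * b = 1) (hab : a * b = b * a)
    (haK : a ∈ Subgroup.normalizer (K : Set G)) (hbK : b ∈ Subgroup.normalizer (K : Set G))
    (k : G) (hk : k ∈ K) :
    ∃ x y z : G, x ∈ K ∧ x * a = a * x ∧ y ∈ K ∧ y * (a * b) = (a * b) * y ∧ z ∈ K ∧ z * b = b * z ∧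
      k = x * y * z := by
  have hainv : a⁻¹ = a := inv_eq_of_mul_eq_one_right ha
  have hbinv : b⁻¹ = b := inv_eq_of_mul_eq_one_right hb
  obtain ⟨c, hc⟩ : ∃ v, v = a * b := ⟨_, rfl⟩
  have hc2 : c * c = 1 := by
    calc c * c = a * (b * a) * b := by rw [hc]; group
      _ = a * (a * b) * b := by rw [hab]
      _ = (a * a) * (b * b) := by group
      _ = 1 := by rw [ha, hb, one_mul]
  have hcinv : c⁻¹ = c := inv_eq_of_mul_eq_one_right hc2
  have hcK : c ∈ Subgroup.normalizer (K : Set G) := by rw [hc]; exact Subgroup.mul_mem _ haK hbK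
  have hac : a * c = c * a := by
    calc a * c = a * (a * b) := by rw [hc]
      _ = a * (b * a) := by rw [hab]
      _ = c * a := by rw [hc]; group
  have hbc : b * c = c * b := by
    calc b * c = (b * a) * b := by rw [hc]; group
      _ = (a * b) * b := by rw [hab]
      _ = c * b := by rw [hc]
  obtain ⟨t, ht⟩ : ∃ v, v = k * b * k⁻¹ := ⟨_, rfl⟩
  have ht2 : t * t = 1 := by
    calc t * t = k * (b * b) * k⁻¹ := by rw [ht]; group
      _ = 1 := by rw [hb]; group
  have htinv : t⁻¹ = t := inv_eq_of_mul_eq_one_right ht2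
  have hk0 : k * b * k⁻¹ * b⁻¹ ∈ K := by
    have h1 : b * k⁻¹ * b⁻¹ ∈ K := conj_mem_of_mem_normalizer K hbK (K.inv_mem hk)
    have h2 := K.mul_mem hk h1
    have e : k * (b * k⁻¹ * b⁻¹) = k * b * k⁻¹ * b⁻¹ := by group
    rwa [e] at h2
  obtain ⟨r1, hr1⟩ : ∃ v, v = a * t := ⟨_, rfl⟩
  have hk1 : r1 * c⁻¹ ∈ K := by
    have h1 := conj_mem_of_mem_normalizer K haK hk0
    have e : a * (k * b * k⁻¹ * b⁻¹) * a⁻¹ = r1 * c⁻¹ := by rw [hr1, ht, hc]; group
    rwa [e] at h1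
  have hr1sq : r1 * r1 ∈ K := by
    have h1 := conj_mem_of_mem_normalizer K hcK hk1
    have h2 := K.mul_mem hk1 h1
    have e : r1 * c⁻¹ * (c * (r1 * c⁻¹) * c⁻¹) = r1 * r1 * (c * c)⁻¹ := by group
    rw [e, hc2, inv_one, mul_one] at h2
    exact h2
  obtain ⟨j, hj⟩ := exists_pow_odd_eq_one K hodd (r1 * r1) hr1sq
  obtain ⟨w, hw⟩ : ∃ v, v = r1 ^ (2 * j + 1) := ⟨_, rfl⟩
  have hw2 : w * w = 1 := by
    rw [hw, ← (Commute.refl r1).mul_pow]; exact hj
  have hwinv : w⁻¹ = w := inv_eq_of_mul_eq_one_right hw2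
  have hwexp : w = (r1 * r1) ^ j * r1 := by
    rw [hw, pow_succ, pow_mul, pow_two]
  have hwc : w * c⁻¹ ∈ K := by
    have h1 := K.mul_mem (K.pow_mem hr1sq j) hk1
    have e : (r1 * r1) ^ j * (r1 * c⁻¹) = w * c⁻¹ := by rw [hwexp]; group
    rwa [e] at h1
  have hr1a : a * r1 * a⁻¹ = r1⁻¹ := by
    rw [hr1, mul_inv_rev, htinv, hainv]
    calc a * (a * t) * a = (a * a) * t * a := by group
      _ = t * a := by rw [ha, one_mul]
  have hr1t : t * r1 * t⁻¹ = r1⁻¹ := by
    rw [hr1, mul_inv_rev, htinv, hainv]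
    calc t * (a * t) * t = t * a * (t * t) := by group
      _ = t * a := by rw [ht2, mul_one]
  have hwa : a * w = w * a := by
    have h1 : a * w * a⁻¹ = w := by
      rw [hw, ← conj_pow, hr1a, inv_pow, ← hw, hwinv]
    calc a * w = a * w * a⁻¹ * a := by group
      _ = w * a := by rw [h1]
  have hwt : t * w = w * t := by
    have h1 : t * w * t⁻¹ = w := by
      rw [hw, ← conj_pow, hr1t, inv_pow, ← hw, hwinv]
    calc t * w = t * w * t⁻¹ * t := by group
      _ = w * t := by rw [h1]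
  -- Step 2
  have hr2K : w * c ∈ K := by rw [← hcinv]; exact hwc
  have hr2a : (w * c) * a = a * (w * c) := by
    calc (w * c) * a = w * (c * a) := by group
      _ = w * (a * c) := by rw [hac]
      _ = (w * a) * c := by group
      _ = (a * w) * c := by rw [hwa]
      _ = a * (w * c) := by group
  obtain ⟨n, hn⟩ := exists_pow_odd_eq_one K hodd (w * c) hr2K
  have hwx := dihedral_conj w c hw2 hc2 n hn
  obtain ⟨x, hx⟩ : ∃ v, v = ((w * c) ^ n)⁻¹ := ⟨_, rfl⟩
  have hxK : x ∈ K := by rw [hx]; exact K.inv_mem (K.pow_mem hr2K n)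
  have hxa : x * a = a * x := by rw [hx]; exact commute_pow_inv_of_commute hr2a n
  have hxinv : x⁻¹ = (w * c) ^ n := by rw [hx, inv_inv]
  have hwx' : w = x * c * x⁻¹ := by rw [hxinv, hx]; exact hwx
  -- Step 3
  obtain ⟨b', hb'⟩ : ∃ v, v = x * b * x⁻¹ := ⟨_, rfl⟩
  have hb'2 : b' * b' = 1 := by
    calc b' * b' = x * (b * b) * x⁻¹ := by rw [hb']; group
      _ = 1 := by rw [hb]; group
  have hr3K : t * b' ∈ K := by
    have h1 : b * (k⁻¹ * x) * b⁻¹ ∈ K :=
      conj_mem_of_mem_normalizer K hbK (K.mul_mem (K.inv_mem hk) hxK)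
    have h2 := K.mul_mem (K.mul_mem hk h1) (K.inv_mem hxK)
    have e : k * (b * (k⁻¹ * x) * b⁻¹) * x⁻¹ = t * b' * (x * (b * b)⁻¹ * x⁻¹) := by
      rw [ht, hb']; group
    rw [e, hb, inv_one, mul_one, mul_inv_cancel, mul_one] at h2
    exact h2
  have hb'w : b' * w = w * b' := by
    rw [hwx', hb']
    calc x * b * x⁻¹ * (x * c * x⁻¹) = x * (b * c) * x⁻¹ := by group
      _ = x * (c * b) * x⁻¹ := by rw [hbc]
      _ = x * c * x⁻¹ * (x * b * x⁻¹) := by group
  have hr3w : (t * b') * w = w * (t * b') := by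
    calc (t * b') * w = t * (b' * w) := by group
      _ = t * (w * b') := by rw [hb'w]
      _ = (t * w) * b' := by group
      _ = (w * t) * b' := by rw [hwt]
      _ = w * (t * b') := by group
  obtain ⟨n3, hn3⟩ := exists_pow_odd_eq_one K hodd (t * b') hr3K
  have hty := dihedral_conj t b' ht2 hb'2 n3 hn3
  obtain ⟨y', hy'⟩ : ∃ v, v = ((t * b') ^ n3)⁻¹ := ⟨_, rfl⟩
  have hy'K : y' ∈ K := by rw [hy']; exact K.inv_mem (K.pow_mem hr3K n3)
  have hy'w : y' * w = w * y' := by rw [hy']; exact commute_pow_inv_of_commute hr3w n3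
  have hy'inv : y'⁻¹ = (t * b') ^ n3 := by rw [hy', inv_inv]
  have hty' : t = y' * b' * y'⁻¹ := by rw [hy'inv, hy']; exact hty
  obtain ⟨y, hy⟩ : ∃ v, v = x⁻¹ * y' * x := ⟨_, rfl⟩
  have hyK : y ∈ K := by rw [hy]; exact K.mul_mem (K.mul_mem (K.inv_mem hxK) hy'K) hxK
  have hyc : y * c = c * y := by
    have e1 : c = x⁻¹ * w * x := by rw [hwx']; group
    calc y * c = x⁻¹ * y' * x * (x⁻¹ * w * x) := by rw [hy, ← e1]
      _ = x⁻¹ * (y' * w) * x := by group
      _ = x⁻¹ * (w * y') * x := by rw [hy'w]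
      _ = (x⁻¹ * w * x) * (x⁻¹ * y' * x) := by group
      _ = c * y := by rw [← e1, ← hy]
  -- Step 4
  refine ⟨x, y, (x * y)⁻¹ * k, hxK, hxa, hyK, hc ▸ hyc, ?_, ?_, ?_⟩
  · exact K.mul_mem (K.inv_mem (K.mul_mem hxK hyK)) hk
  · have e1 : k * b * k⁻¹ = (x * y) * b * (x * y)⁻¹ := by
      calc k * b * k⁻¹ = t := by rw [ht]
        _ = y' * b' * y'⁻¹ := hty'
        _ = (x * y) * b * (x * y)⁻¹ := by rw [hb', hy]; group
    calc (x * y)⁻¹ * k * b = (x * y)⁻¹ * (k * b * k⁻¹) * k := by group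
      _ = (x * y)⁻¹ * ((x * y) * b * (x * y)⁻¹) * k := by rw [e1]
      _ = b * ((x * y)⁻¹ * k) := by group
  · group

end Cfsg.Agent.Lib.Helper90
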