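import Mathlib
import Cfsg.Agent.S0051
import Cfsg.Agent.Lib.Helper24.Lifting
import Cfsg.Agent.Lib.Helper33.SylowSub
import Cfsg.Agent.Lib.Helper90.ExpEq

/-!
# A complement of a normal subgroup of order `p` with the same exponent (Gaschütz)

Pure group theory.  `V` a finite group, `A₀` a normal subgroup of order `p`, contained in an abelian
Sylow `p`-subgroup `P ≠ A₀` of `V`, such that no non-identity element of `A₀` is a `p`-th power in
`P`.  Then `A₀` has a complement `V₀` in `V` (Gaschütz), and `V₀` has the same exponent as `V`.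
-/

set_option autoImplicit false
set_option linter.unusedSectionVars false
set_option linter.unusedVariables false

namespace Cfsg.Agent.Lib.Helper90.GaschutzAvoid

open Subgroup
open scoped commutatorElement

variable {G : Type*} [Group G]

/-- Step 1: in the abelian group `P`, a subgroup `A₀` meeting the `p`-th powers trivially has a
complement. -/
theorem exists_compl_in_abelian [Finite G] {p : ℕ} [Fact p.Prime] (A0 P : Subgroup G)
    (hPab : ∀ a ∈ P, ∀ b ∈ P, a * b = b * a) (hA0P : A0 ≤ P)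
    (hpow : ∀ y ∈ P, y ^ p ∈ A0 → y ^ p = 1) :
    ∃ W : Subgroup G, W ≤ P ∧ W ⊓ A0 = ⊥ ∧ A0 ⊔ W = P := by
  obtain ⟨M, hM⟩ : ∃ M : Subgroup G, M = Cfsg.Agent.Lib.Helper24.Lifting.powImage P hPab p :=
    ⟨_, rfl⟩
  have hMP : M ≤ P := hM ▸ Cfsg.Agent.Lib.Helper24.Lifting.powImage_le P hPab p
  have hPM : P ≤ normalizer (M : Set G) :=
    hM ▸ Cfsg.Agent.Lib.Helper24.Lifting.le_normalizer_powImage hPab p le_normalizer
  have hcomm : ⁅P, P⁆ ≤ M := by
    rw [Subgroup.commutator_le]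
    intro a ha b hb
    have : ⁅a, b⁆ = 1 := commutatorElement_eq_one_iff_commute.mpr (hPab a ha b hb)
    rw [this]; exact M.one_mem
  have hpowM : ∀ x ∈ P, x ^ p ∈ M := by
    intro x hx
    rw [hM]
    exact ⟨x, hx, rfl⟩
  have hcop : (Nat.card (⊥ : Subgroup G)).Coprime p := by
    rw [Subgroup.card_bot]; exact Nat.coprime_one_left p
  obtain ⟨X, hMX, hXP, -, hinf, hsup⟩ :=
    Cfsg.Agent.Lib.Helper24.Lifting.exists_invariant_complement_section' p (⊥ : Subgroup G) P M
      (A0 ⊔ M) le_sup_right (sup_le hA0P hMP) bot_le bot_le bot_le hPM hcomm hpowM hcop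
  refine ⟨X, hXP, ?_, ?_⟩
  · rw [eq_bot_iff]
    intro z hz
    have hzM : z ∈ M := by
      rw [← hinf]
      exact Subgroup.mem_inf.mpr ⟨(le_sup_left : A0 ≤ A0 ⊔ M) hz.2, hz.1⟩
    rw [hM] at hzM
    obtain ⟨y, hy, rfl⟩ := hzM
    rw [Subgroup.mem_bot]
    exact hpow y hy hz.2
  · rw [← hsup]
    apply le_antisymm
    · exact sup_le (le_sup_of_le_left le_sup_left) le_sup_right
    · exact sup_le (sup_le le_sup_left (hMX.trans le_sup_right)) le_sup_right

/-- An element `y` *avoids* `A₀` when `⟨y⟩ ∩ A₀ = 1`. -/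
def Avoid (A0 : Subgroup G) (y : G) : Prop := ∀ m : ℕ, y ^ m ∈ A0 → y ^ m = 1

/-- an element of order prime to `p` avoids a subgroup of order `p` -/
theorem avoid_of_coprime [Finite G] {p : ℕ} [hp : Fact p.Prime] {A0 : Subgroup G}
    (hA0c : Nat.card A0 = p) {y : G} (hy : (orderOf y).Coprime p) : Avoid A0 y := by
  intro m hm
  have h1 : (y ^ m) ^ p = 1 := by
    have := pow_card_eq_one' (G := A0) (x := ⟨y ^ m, hm⟩)
    rw [hA0c] at this
    simpa using congrArg Subtype.val this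
  have h2 : (y ^ m) ^ orderOf y = 1 := by
    rw [← pow_mul, mul_comm, pow_mul, pow_orderOf_eq_one, one_pow]
  have h3 : orderOf (y ^ m) ∣ Nat.gcd (orderOf y) p :=
    Nat.dvd_gcd (orderOf_dvd_of_pow_eq_one h2) (orderOf_dvd_of_pow_eq_one h1)
  rw [hy, Nat.dvd_one, orderOf_eq_one_iff] at h3
  exact h3

/-- an element of `P` of order `p ^ j`, `j ≥ 2`, avoids `A₀` -/
theorem avoid_of_sq [Finite G] {p : ℕ} [hp : Fact p.Prime] {A0 P : Subgroup G}
    (hA0c : Nat.card A0 = p) (hpow : ∀ y ∈ P, y ^ p ∈ A0 → y ^ p = 1) {y : G} (hyP : y ∈ P)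
    {j : ℕ} (hj : 2 ≤ j) (hy : orderOf y = p ^ j) : Avoid A0 y := by
  intro m hm
  by_contra hne
  -- `z = y ^ m` has order `p`
  have hzp : (y ^ m) ^ p = 1 := by
    have := pow_card_eq_one' (G := A0) (x := ⟨y ^ m, hm⟩)
    rw [hA0c] at this
    simpa using congrArg Subtype.val this
  have hoz : orderOf (y ^ m) = p := orderOf_eq_prime hzp hne
  have h1 := orderOf_pow (n := m) y
  rw [hoz, hy] at h1
  -- `gcd (p^j) m = p^(j-1)`
  have hg : Nat.gcd (p ^ j) m ∣ p ^ j := Nat.gcd_dvd_left _ _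
  obtain ⟨i, hi, hgi⟩ := (Nat.dvd_prime_pow hp.out).mp hg
  rw [hgi] at h1
  have hpos : 0 < p := hp.out.pos
  have h2 : p ^ j / p ^ i = p ^ (j - i) := Nat.pow_div hi hpos
  rw [h2] at h1
  have h3 : j - i = 1 := by
    have : p ^ 1 = p ^ (j - i) := by rw [pow_one]; exact h1
    exact (Nat.pow_right_injective hp.out.two_le this).symm
  have hi1 : 1 ≤ i := by omega
  have hpm : p ∣ m := by
    have : p ^ i ∣ m := hgi ▸ Nat.gcd_dvd_right _ _
    exact (dvd_pow_self p (by omega)).trans this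
  obtain ⟨m', rfl⟩ := hpm
  apply hne
  have := hpow (y ^ m') (P.pow_mem hyP _) (by rw [← pow_mul, mul_comm]; exact hm)
  rw [← pow_mul, mul_comm] at this
  exact this

/-- an element of order `p` outside `A₀` avoids `A₀` -/
theorem avoid_of_not_mem [Finite G] {p : ℕ} [hp : Fact p.Prime] {A0 : Subgroup G}
    (hA0c : Nat.card A0 = p) {y : G} (hy : orderOf y = p) (hyA : y ∉ A0) : Avoid A0 y := by
  intro m hm
  by_contra hne
  apply hyA
  -- `y` is a power of `y ^ m`
  have hcop : Nat.Coprime m p := by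
    rw [Nat.coprime_comm, Nat.Prime.coprime_iff_not_dvd hp.out]
    intro hd
    apply hne
    obtain ⟨c, rfl⟩ := hd
    rw [pow_mul, ← hy, pow_orderOf_eq_one, one_pow]
  obtain ⟨m', -, hm'⟩ := Nat.exists_mul_mod_eq_one_of_coprime hcop hp.out.one_lt
  have hx : y = (y ^ m) ^ m' := by
    rw [← pow_mul]
    have h1 : m * m' ≡ 1 [MOD orderOf y] := by
      rw [hy]
      unfold Nat.ModEq
      rw [hm', Nat.mod_eq_of_lt hp.out.one_lt]
    have := pow_eq_pow_iff_modEq.mpr h1
    rw [pow_one] at this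
    exact this.symm
  rw [hx]
  exact A0.pow_mem hm _

/-- **Gaschütz step**: a complement of `A₀` in `V` with the same exponent as `V`. -/
theorem exists_complement_avoiding [Finite G] {p : ℕ} [hp : Fact p.Prime] (V A0 P : Subgroup G)
    (hA0V : A0 ≤ V) (hVA0 : V ≤ normalizer (A0 : Set G)) (hA0c : Nat.card A0 = p)
    (hPV : P ≤ V) (hPp : IsPGroup p P) (hPi : ¬ p ∣ P.relIndex V)
    (hPab : ∀ a ∈ P, ∀ b ∈ P, a * b = b * a) (hA0P : A0 ≤ P) (hne : A0 ≠ P)
    (hpow : ∀ y ∈ P, y ^ p ∈ A0 → y ^ p = 1) :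
    ∃ V0 : Subgroup G, V0 ≤ V ∧ V0 ⊓ A0 = ⊥ ∧ V0 ⊔ A0 = V ∧
      Monoid.exponent V0 = Monoid.exponent V := by
  obtain ⟨W, hWP, hWA, hAW⟩ := exists_compl_in_abelian A0 P hPab hA0P hpow
  -- Gaschütz inside `↥V`
  have hKn : (A0.subgroupOf V).Normal :=
    (Subgroup.normal_subgroupOf_iff_le_normalizer hA0V).mpr hVA0
  have hKc : IsMulCommutative (A0.subgroupOf V) :=
    ⟨⟨fun a b => Subtype.ext (Subtype.ext
      (hPab _ (hA0P (Subgroup.mem_subgroupOf.mp a.2)) _ (hA0P (Subgroup.mem_subgroupOf.mp b.2))))⟩⟩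
  have hKU : A0.subgroupOf V ≤ P.subgroupOf V := fun x hx =>
    Subgroup.mem_subgroupOf.mpr (hA0P (Subgroup.mem_subgroupOf.mp hx))
  have hKcard : Nat.card (A0.subgroupOf V) = p := by
    rw [Nat.card_congr (Subgroup.subgroupOfEquivOfLe hA0V).toEquiv, hA0c]
  have hcop : (Nat.card (A0.subgroupOf V)).Coprime (P.subgroupOf V).index := by
    rw [hKcard]
    exact (Nat.Prime.coprime_iff_not_dvd hp.out).mpr hPi
  have hAU : W.subgroupOf V ≤ P.subgroupOf V := fun x hx =>
    Subgroup.mem_subgroupOf.mpr (hWP (Subgroup.mem_subgroupOf.mp hx))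
  have hAK : W.subgroupOf V ⊓ A0.subgroupOf V = ⊥ := by
    rw [eq_bot_iff]
    intro x hx
    have : (x : G) ∈ W ⊓ A0 :=
      Subgroup.mem_inf.mpr ⟨Subgroup.mem_subgroupOf.mp hx.1, Subgroup.mem_subgroupOf.mp hx.2⟩
    rw [hWA, Subgroup.mem_bot] at this
    rw [Subgroup.mem_bot]
    exact Subtype.ext this
  have hKA : A0.subgroupOf V ⊔ W.subgroupOf V = P.subgroupOf V := by
    rw [← Subgroup.subgroupOf_sup hA0V (hWP.trans hPV), hAW]
  obtain ⟨H, hH⟩ := Cfsg.Agent.S0051.result (A0.subgroupOf V) (P.subgroupOf V) hKU hcop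
    (W.subgroupOf V) hAU hAK hKA
  have hmapK : (A0.subgroupOf V).map V.subtype = A0 := by
    rw [Subgroup.subgroupOf_map_subtype, inf_of_le_left hA0V]
  refine ⟨H.map V.subtype, Subgroup.map_subtype_le H, ?_, ?_, ?_⟩
  · rw [eq_bot_iff]
    intro z hz
    obtain ⟨h, hh, rfl⟩ := Subgroup.mem_map.mp hz.1
    have hhK : h ∈ A0.subgroupOf V := Subgroup.mem_subgroupOf.mpr hz.2
    have := hH.disjoint.le_bot (Subgroup.mem_inf.mpr ⟨hhK, hh⟩)
    rw [Subgroup.mem_bot] at this ⊢
    rw [this]; rfl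
  · have h1 := hH.sup_eq_top
    have h2 := congrArg (Subgroup.map V.subtype) h1
    rw [Subgroup.map_sup, hmapK, ← MonoidHom.range_eq_map, Subgroup.range_subtype] at h2
    rw [sup_comm]; exact h2
  · -- the exponent
    apply Cfsg.Agent.Lib.Helper90.ExpEq.exponent_eq_of_prime_pow (Subgroup.map_subtype_le H)
    -- transfer of orders for elements avoiding `A₀`
    have key : ∀ y ∈ V, Avoid A0 y → ∃ g' ∈ H.map V.subtype, orderOf y ∣ orderOf g' := by
      intro y hyV hav
      obtain ⟨⟨k, h⟩, hkh, -⟩ := (Subgroup.isComplement'_def.mp hH).existsUnique ⟨y, hyV⟩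
      simp only at hkh
      refine ⟨(h : V), Subgroup.mem_map.mpr ⟨h, h.2, rfl⟩, ?_⟩
      -- in the quotient by `K`, `y` and `h` have the same image
      have hπ : (QuotientGroup.mk' (A0.subgroupOf V)) (⟨y, hyV⟩ : V) =
          (QuotientGroup.mk' (A0.subgroupOf V)) (h : V) := by
        rw [← hkh, map_mul]
        have : (QuotientGroup.mk' (A0.subgroupOf V)) (k : V) = 1 :=
          (QuotientGroup.eq_one_iff _).mpr k.2
        rw [this, one_mul]
      apply orderOf_dvd_of_pow_eq_one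
      set m := orderOf ((h : V) : G) with hm
      have hhm : ((h : V)) ^ m = 1 := by
        apply Subtype.ext
        rw [Subgroup.coe_pow, hm, pow_orderOf_eq_one]; rfl
      have h3 : (QuotientGroup.mk' (A0.subgroupOf V)) ((⟨y, hyV⟩ : V) ^ m) = 1 := by
        rw [map_pow, hπ, ← map_pow, hhm, map_one]
      have h4 : (⟨y, hyV⟩ : V) ^ m ∈ A0.subgroupOf V := (QuotientGroup.eq_one_iff _).mp h3
      have h5 : y ^ m ∈ A0 := by
        have := Subgroup.mem_subgroupOf.mp h4
        simpa using this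
      exact hav m h5
    intro q k hq g hgV hgo
    by_cases hqp : q = p
    · subst hqp
      rcases Nat.eq_zero_or_pos k with hk0 | hkpos
      · subst hk0
        exact ⟨1, Subgroup.one_mem _, by simp⟩
      -- conjugate `g` into `P`
      have hgp : IsPGroup q (zpowers g) := by
        rw [IsPGroup.iff_card, Nat.card_zpowers]; exact ⟨k, hgo⟩
      obtain ⟨c, hcV, hcP⟩ := Cfsg.Agent.Lib.Helper33.sylow_sub hPV hPp hPi
        ((zpowers_le).mpr hgV) hgp
      set g1 := c * g * c⁻¹ with hg1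
      have hg1P : g1 ∈ P := hcP (Cfsg.Agent.Lib.Helper33.conj_mem_cj (mem_zpowers g))
      have hg1o : orderOf g1 = q ^ k := by
        rw [hg1, ← hgo]
        exact (MulAut.conj c).orderOf_eq g
      have hg1V : g1 ∈ V := hPV hg1P
      by_cases hk2 : 2 ≤ k
      · obtain ⟨g', hg', hd⟩ := key g1 hg1V (avoid_of_sq hA0c hpow hg1P hk2 hg1o)
        exact ⟨g', hg', hg1o ▸ hd⟩
      · have hk1 : k = 1 := by omega
        subst hk1
        rw [pow_one] at hg1o ⊢
        by_cases hgA : g1 ∈ A0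
        · -- pick `y ∈ P \\ A₀`
          obtain ⟨y, hyP, hyA⟩ : ∃ y ∈ P, y ∉ A0 := by
            by_contra hcon
            push Not at hcon
            exact hne (le_antisymm hA0P hcon)
          have hy1 : y ≠ 1 := fun h => hyA (h ▸ A0.one_mem)
          obtain ⟨j, hj⟩ := (IsPGroup.iff_orderOf.mp hPp) ⟨y, hyP⟩
          rw [Subgroup.orderOf_mk] at hj
          have hj0 : j ≠ 0 := by
            intro h
            rw [h, pow_zero, orderOf_eq_one_iff] at hj
            exact hy1 hj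
          have hav : Avoid A0 y := by
            by_cases hj2 : 2 ≤ j
            · exact avoid_of_sq hA0c hpow hyP hj2 hj
            · have : j = 1 := by omega
              subst this
              rw [pow_one] at hj
              exact avoid_of_not_mem hA0c hj hyA
          obtain ⟨g', hg', hd⟩ := key y (hPV hyP) hav
          refine ⟨g', hg', ?_⟩
          rw [hj] at hd
          exact (dvd_pow_self q hj0).trans hd
        · obtain ⟨g', hg', hd⟩ := key g1 hg1V (avoid_of_not_mem hA0c hg1o hgA)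
          exact ⟨g', hg', hg1o ▸ hd⟩
    · have hcop' : (orderOf g).Coprime p := by
        rw [hgo]
        exact Nat.Coprime.pow_left _ ((Nat.coprime_primes hq hp.out).mpr hqp)
      obtain ⟨g', hg', hd⟩ := key g hgV (avoid_of_coprime hA0c hcop')
      exact ⟨g', hg', hgo ▸ hd⟩

end Cfsg.Agent.Lib.Helper90.GaschutzAvoid
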