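import Mathlib

set_option autoImplicit false

namespace Cfsg.Agent.Lib.Helper90

variable {G : Type*} [Group G]

theorem ncard_four {α : Type*} (a b c d : α) (hab : a ≠ b) (hac : a ≠ c) (had : a ≠ d)
    (hbc : b ≠ c) (hbd : b ≠ d) (hcd : c ≠ d) : ({a, b, c, d} : Set α).ncard = 4 := by
  rw [Set.ncard_insert_of_notMem, Set.ncard_insert_of_notMem, Set.ncard_pair hcd]
  · simp only [Set.mem_insert_iff, Set.mem_singleton_iff, not_or]
    exact ⟨hbc, hbd⟩
  · simp only [Set.mem_insert_iff, Set.mem_singleton_iff, not_or]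
    exact ⟨hab, hac, had⟩

theorem isKleinFour_of (T : Subgroup G) (hc : Nat.card T = 4) (hsq : ∀ t ∈ T, t * t = 1) :
    IsKleinFour T := by
  refine ⟨hc, ?_⟩
  have h1 : Monoid.exponent T ∣ 2 := by
    rw [Monoid.exponent_dvd_iff_forall_pow_eq_one]
    rintro ⟨t, ht⟩
    apply Subtype.ext
    simp only [Subgroup.coe_one, sq]
    exact hsq t ht
  rcases (Nat.dvd_prime Nat.prime_two).mp h1 with h2 | h2
  · exfalso
    rw [Monoid.exp_eq_one_iff] at h2
    have : Nat.card T ≤ 1 := Finite.card_le_one_iff_subsingleton.mpr h2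
    omega
  · exact h2

theorem kleinFour_sq (T : Subgroup G) (hT : IsKleinFour T) (t : G) (ht : t ∈ T) : t * t = 1 := by
  have := Monoid.pow_exponent_eq_one (⟨t, ht⟩ : T)
  rw [hT.exponent_two] at this
  have := congrArg Subtype.val this
  simpa [sq] using this

theorem kleinFour_comm (T : Subgroup G) (hT : IsKleinFour T) (a c : G) (ha : a ∈ T) (hc : c ∈ T) :
    a * c = c * a := by
  have h1 := kleinFour_sq T hT a ha
  have h2 := kleinFour_sq T hT c hc
  have h3 := kleinFour_sq T hT (a * c) (T.mul_mem ha hc)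
  symm
  calc c * a = (a * a) * (c * a) * (c * c) := by rw [h1, h2, one_mul, mul_one]
    _ = a * ((a * c) * (a * c)) * c := by group
    _ = a * c := by rw [h3, mul_one]

end Cfsg.Agent.Lib.Helper90
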