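import Mathlib
import Cfsg.Prelude.Def_MonsterType
import Cfsg.Agent.Lib.Helper90.Basic

set_option autoImplicit false

namespace Cfsg.Agent.Lib.Helper90

open Cfsg

variable {G : Type*} [Group G]

/-- The centre of an extraspecial 2-subgroup, as a subgroup of `G`, is `{1, z}` for an involution `z`. -/
theorem exists_center_generator (Q : Subgroup G) (hL1 : Cfsg.IsExtraspecial 2 ↥Q) :
    ∃ z ∈ (Subgroup.center ↥Q).map Q.subtype, z ≠ 1 ∧
      ∀ x ∈ (Subgroup.center ↥Q).map Q.subtype, x = 1 ∨ x = z := by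
  have h2 : Nat.card (Subgroup.center ↥Q) = 2 := hL1.2
  obtain ⟨y, hy1, hy2⟩ := (Nat.card_eq_two_iff' (1 : Subgroup.center ↥Q)).mp h2
  refine ⟨((y : Q) : G), ⟨(y : Q), y.2, rfl⟩, ?_, ?_⟩
  · intro h
    apply hy1
    ext
    simpa using h
  · rintro x ⟨q, hq, rfl⟩
    by_cases h : (⟨q, hq⟩ : Subgroup.center ↥Q) = 1
    · left
      have : q = 1 := by simpa using congrArg Subtype.val h
      simp [this]
    · right
      have := hy2 ⟨q, hq⟩ h
      have h3 : q = (y : Q) := by simpa using congrArg Subtype.val this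
      simp [h3]

/-- If `Q` is an extraspecial 2-subgroup with `C_G(Q) = Z(Q)`, normal in `C_G(Z(Q))`, and `P` is a finite
2-subgroup containing `Q`, then `N_G(P) ≤ N_G(Q)`. -/
theorem normalizer_le_normalizer_of_le [Finite G] (Q : Subgroup G) (hL1 : Cfsg.IsExtraspecial 2 ↥Q)
    (hL2 : Subgroup.centralizer (Q : Set G) = ((Subgroup.center ↥Q).map Q.subtype))
    (hL3 : Subgroup.centralizer (((Subgroup.center ↥Q).map Q.subtype) : Set G) ≤ Subgroup.normalizer (Q : Set G))
    (P : Subgroup G) (hP : IsPGroup 2 P) (hQP : Q ≤ P) :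
    Subgroup.normalizer (P : Set G) ≤ Subgroup.normalizer (Q : Set G) := by
  have : Fact (Nat.Prime 2) := ⟨Nat.prime_two⟩
  obtain ⟨z, hzZ, hz1, hzall⟩ := exists_center_generator Q hL1
  have hzQ : z ∈ Q := by
    obtain ⟨y, _, rfl⟩ := hzZ
    exact y.2
  -- z is central in P
  have hzP : ∀ x ∈ P, x * z = z * x := by
    have : Nontrivial P := ⟨⟨⟨z, hQP hzQ⟩, 1, fun h => hz1 (by simpa using congrArg Subtype.val h)⟩⟩
    have : Nontrivial (Subgroup.center P) := hP.center_nontrivial
    obtain ⟨c, hc⟩ := exists_ne (1 : Subgroup.center P)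
    have hc1 : ((c : P) : G) ≠ 1 := by
      intro h
      apply hc
      ext
      simpa using h
    have hcc : ∀ x ∈ P, x * ((c : P) : G) = ((c : P) : G) * x := by
      intro x hx
      have := (Subgroup.mem_center_iff.mp c.2) ⟨x, hx⟩
      simpa using congrArg Subtype.val this
    have hcZ : ((c : P) : G) ∈ (Subgroup.center ↥Q).map Q.subtype := by
      rw [← hL2, Subgroup.mem_centralizer_iff]
      intro q hq
      exact hcc q (hQP hq)
    rcases hzall _ hcZ with h | h
    · exact absurd h hc1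
    · rw [← h]; exact hcc
  intro n hn
  apply hL3
  rw [Subgroup.mem_centralizer_iff]
  intro x hx
  have hnz : n * z * n⁻¹ = z := by
    have h1 : n * z * n⁻¹ ∈ P := (Subgroup.mem_normalizer_iff.mp hn z).mp (hQP hzQ)
    have h2 : n * z * n⁻¹ ∈ (Subgroup.center ↥Q).map Q.subtype := by
      rw [← hL2, Subgroup.mem_centralizer_iff]
      intro q hq
      have hq' : n⁻¹ * q * n ∈ P := by
        have := (Subgroup.mem_normalizer_iff.mp (Subgroup.inv_mem _ hn) q).mp (hQP hq)
        simpa using this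
      have := hzP _ hq'
      calc q * (n * z * n⁻¹) = n * ((n⁻¹ * q * n) * z) * n⁻¹ := by group
        _ = n * (z * (n⁻¹ * q * n)) * n⁻¹ := by rw [this]
        _ = n * z * n⁻¹ * q := by group
    rcases hzall _ h2 with h | h
    · exfalso
      apply hz1
      have : z = n⁻¹ * (n * z * n⁻¹) * n := by group
      rw [this, h]; group
    · exact h
  rcases hzall x hx with h | h
  · rw [h]; simp
  · rw [h]
    calc z * n = (n * z * n⁻¹) * n := by rw [hnz]
      _ = n * z := by group

end Cfsg.Agent.Lib.Helper90
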