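import Mathlib
import Cfsg.Prelude.Def_MonsterType
import Cfsg.Agent.Lib.Helper29.ExtraTwo
import Cfsg.Agent.Lib.Helper53.CenterMeet
import Cfsg.Agent.Lib.Helper21.Components
import Cfsg.Agent.Lib.Helper22.FStar
import Cfsg.Agent.Lib.Helper90.Basic
import Cfsg.Agent.Lib.Helper87.PCore

set_option autoImplicit false

/-!
Basic elementwise facts about a large extraspecial `2`-subgroup `Q` with centre `⟨z⟩`.
-/

namespace Cfsg.Agent.Lib.Helper90.LS

open Subgroup Cfsg
open scoped commutatorElement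

variable {G : Type*} [Group G]

/-- elementwise description of a large extraspecial subgroup with centre generated by `z` -/
structure LQ (Q : Subgroup G) (z : G) : Prop where
  ne : z ≠ 1
  sq : z * z = 1
  mem : z ∈ Q
  comm : ∀ a ∈ Q, ∀ b ∈ Q, a * b * a⁻¹ * b⁻¹ = 1 ∨ a * b * a⁻¹ * b⁻¹ = z
  sqr : ∀ a ∈ Q, a * a = 1 ∨ a * a = z
  cent : ∀ a : G, (∀ b ∈ Q, a * b = b * a) → a = 1 ∨ a = z
  norm : ∀ h : G, h * z = z * h → ∀ q ∈ Q, h * q * h⁻¹ ∈ Q
  odd : ∀ K : Subgroup G, Odd (Nat.card K) → Q ≤ normalizer (K : Set G) → K = ⊥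
  two : IsPGroup 2 Q

theorem LQ.of_hyp {Q : Subgroup G} (hQ : Cfsg.IsLargeExtraspecial Q) {z : G}
    (hz : (Subgroup.center ↥Q).map Q.subtype = Subgroup.zpowers z) : LQ Q z := by
  obtain ⟨hE, hC, hN, hO⟩ := hQ
  obtain ⟨⟨hp, _, hcomm⟩, hc⟩ := hE
  obtain ⟨z', hz'⟩ := Cfsg.Agent.Lib.Helper29.IsE2.exists_of_card hc hcomm.le
  have hzmem : z ∈ (center ↥Q).map Q.subtype := by rw [hz]; exact mem_zpowers z
  obtain ⟨c, hcc, hcz⟩ := hzmem
  have hz1 : z ≠ 1 := by
    intro h
    have h2 : ((z' : Q) : G) ∈ (center ↥Q).map Q.subtype := ⟨z', hz'.mem, rfl⟩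
    rw [hz, h, zpowers_one_eq_bot, mem_bot] at h2
    exact hz'.ne (Subtype.ext h2)
  have hcz' : c = z' := by
    rcases hz'.all c hcc with h | h
    · exfalso; apply hz1; rw [← hcz, h]; rfl
    · exact h
  have hzc : z = ((z' : Q) : G) := by rw [← hcz, hcz']; rfl
  refine ⟨hz1, ?_, ?_, ?_, ?_, ?_, ?_, hO, hp⟩
  · rw [hzc]
    exact congrArg Subtype.val hz'.sq
  · rw [hzc]; exact z'.2
  · intro a ha b hb
    rw [hzc]
    rcases hz'.cm_cases ⟨a, ha⟩ ⟨b, hb⟩ with h | h
    · left; exact congrArg Subtype.val h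
    · right; exact congrArg Subtype.val h
  · intro a ha
    rw [hzc]
    rcases hz'.sq_cases ⟨a, ha⟩ with h | h
    · left; exact congrArg Subtype.val h
    · right; exact congrArg Subtype.val h
  · intro a ha
    have haC : a ∈ centralizer (Q : Set G) := by
      rw [mem_centralizer_iff]
      intro b hb
      exact (ha b hb).symm
    rw [hC] at haC
    obtain ⟨w, hw, rfl⟩ := haC
    rw [hzc]
    rcases hz'.all w hw with h | h
    · left; rw [h]; rfl
    · right; rw [h]; rfl
  · intro h hh q hq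
    have hhC : h ∈ centralizer (((center ↥Q).map Q.subtype : Subgroup G) : Set G) := by
      rw [hz, mem_centralizer_iff]
      intro x hx
      obtain ⟨k, rfl⟩ := mem_zpowers_iff.mp hx
      have : Commute z h := hh.symm
      exact (this.zpow_left k).eq
    exact (mem_normalizer_iff.mp (hN hhC) q).mp hq

variable {Q : Subgroup G} {z : G}

theorem LQ.inv_eq (h : LQ Q z) : z⁻¹ = z := inv_eq_of_mul_eq_one_right h.sq

theorem LQ.zcomm (h : LQ Q z) {q : G} (hq : q ∈ Q) : q * z = z * q := by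
  rcases h.comm q hq z h.mem with e | e
  · calc q * z = (q * z * q⁻¹ * z⁻¹) * (z * q) := by group
      _ = z * q := by rw [e, one_mul]
  · exfalso
    apply h.ne
    have : q * z * q⁻¹ = z * z := by
      calc q * z * q⁻¹ = (q * z * q⁻¹ * z⁻¹) * z := by group
        _ = z * z := by rw [e]
    rw [h.sq] at this
    calc z = q⁻¹ * (q * z * q⁻¹) * q := by group
      _ = 1 := by rw [this]; group

theorem LQ.orderOf_eq (h : LQ Q z) : _root_.orderOf z = 2 := by
  have : Fact (Nat.Prime 2) := ⟨Nat.prime_two⟩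
  apply orderOf_eq_prime
  · rw [pow_two, h.sq]
  · exact h.ne

section finite

variable [Finite G]

/-- a Sylow `2`-subgroup containing `Q` centralizes `z` -/
theorem LQ.exists_sylow (h : LQ Q z) :
    ∃ T : Sylow 2 G, Q ≤ (T : Subgroup G) ∧ ∀ t ∈ (T : Subgroup G), t * z = z * t := by
  have : Fact (Nat.Prime 2) := ⟨Nat.prime_two⟩
  obtain ⟨T, hQT⟩ := h.two.exists_le_sylow
  refine ⟨T, hQT, ?_⟩
  have hzT : z ∈ (T : Subgroup G) := hQT h.mem
  have : Nontrivial ↥(T : Subgroup G) :=
    ⟨⟨⟨z, hzT⟩, 1, fun e => h.ne (congrArg Subtype.val e)⟩⟩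
  have hcnt : Nontrivial (Subgroup.center ↥(T : Subgroup G)) := T.isPGroup'.center_nontrivial
  obtain ⟨c, hc⟩ := exists_ne (1 : Subgroup.center ↥(T : Subgroup G))
  have hc1 : ((c : ↥(T : Subgroup G)) : G) ≠ 1 := fun e => hc (Subtype.ext (Subtype.ext e))
  have hcc : ∀ t ∈ (T : Subgroup G),
      t * ((c : ↥(T : Subgroup G)) : G) = ((c : ↥(T : Subgroup G)) : G) * t := by
    intro t ht
    exact congrArg Subtype.val (Subgroup.mem_center_iff.mp c.2 ⟨t, ht⟩)
  have hcz : ((c : ↥(T : Subgroup G)) : G) = z := by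
    rcases h.cent _ (fun b hb => (hcc b (hQT hb)).symm) with e | e
    · exact absurd e hc1
    · exact e
  rw [hcz] at hcc
  exact hcc

/-- `z` lies in every normal subgroup of even order -/
theorem LQ.mem_of_even_normal (h : LQ Q z) (N : Subgroup G) [hN : N.Normal]
    (h2 : 2 ∣ Nat.card N) : z ∈ N := by
  have : Fact (Nat.Prime 2) := ⟨Nat.prime_two⟩
  obtain ⟨T, hQT, hTz⟩ := h.exists_sylow
  -- an involution of `N` conjugate into `T`
  obtain ⟨x, hx⟩ := exists_prime_orderOf_dvd_card' (G := N) 2 h2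
  have hx1 : (x : G) ≠ 1 := by
    intro e
    have : x = 1 := Subtype.ext e
    rw [this, orderOf_one] at hx
    omega
  have hxp : IsPGroup 2 (zpowers (x : G)) := by
    apply IsPGroup.of_card (n := 1)
    rw [Nat.card_zpowers, Subgroup.orderOf_coe, hx, pow_one]
  obtain ⟨T', hT'⟩ := hxp.exists_le_sylow
  obtain ⟨g, hg⟩ := MulAction.exists_smul_eq G T' T
  have hgx : g * (x : G) * g⁻¹ ∈ (T : Subgroup G) := by
    rw [← hg, Sylow.coe_subgroup_smul, Subgroup.mem_pointwise_smul_iff_inv_smul_mem]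
    simp only [MulAut.smul_def, MulAut.conj_inv_apply]
    have : g⁻¹ * (g * (x : G) * g⁻¹) * g = x := by group
    rw [this]
    exact hT' (mem_zpowers _)
  have hgxN : g * (x : G) * g⁻¹ ∈ N := hN.conj_mem _ x.2 g
  have hgx1 : g * (x : G) * g⁻¹ ≠ 1 := by
    intro e
    apply hx1
    calc (x : G) = g⁻¹ * (g * x * g⁻¹) * g := by group
      _ = 1 := by rw [e]; group
  -- the normal subgroup `N ∩ T` of `T`
  have hne : (N.subgroupOf (T : Subgroup G)) ≠ ⊥ := by
    intro e
    have : (⟨g * (x : G) * g⁻¹, hgx⟩ : ↥(T : Subgroup G)) ∈ N.subgroupOf (T : Subgroup G) := by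
      rw [mem_subgroupOf]; exact hgxN
    rw [e, mem_bot] at this
    exact hgx1 (congrArg Subtype.val this)
  obtain ⟨b, hbN, hb1, hbc⟩ :=
    Cfsg.Agent.Lib.Helper53.normal_meets_center T.isPGroup' (N.subgroupOf (T : Subgroup G)) hne
  have hbz : (b : G) = z := by
    have hcomm : ∀ q ∈ Q, (b : G) * q = q * (b : G) := by
      intro q hq
      have := Subgroup.mem_center_iff.mp hbc ⟨q, hQT hq⟩
      exact (congrArg Subtype.val this).symm
    rcases h.cent _ hcomm with e | e
    · exact absurd (Subtype.ext e) hb1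
    · exact e
  rw [← hbz]
  exact mem_subgroupOf.mp hbN

/-- no component lies in the centralizer of `z` -/
theorem LQ.not_component_le (h : LQ Q z) {L : Subgroup G} (hL : Cfsg.IsComponent L)
    (hLz : ∀ x ∈ L, x * z = z * x) : False := by
  have hnorm : L ≤ normalizer (Q : Set G) := by
    intro x hx
    rw [mem_normalizer_iff]
    intro q
    constructor
    · exact h.norm x (hLz x hx) q
    · intro hq
      have hx' : x⁻¹ * z = z * x⁻¹ := by
        have := hLz x hx
        calc x⁻¹ * z = x⁻¹ * (z * x) * x⁻¹ := by group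
          _ = x⁻¹ * (x * z) * x⁻¹ := by rw [this]
          _ = z * x⁻¹ := by group
      have := h.norm x⁻¹ hx' _ hq
      have e : x⁻¹ * (x * q * x⁻¹) * x⁻¹⁻¹ = q := by group
      rwa [e] at this
  have hsolv : Group.IsSolvable ↥Q := by
    have : Fact (Nat.Prime 2) := ⟨Nat.prime_two⟩
    have : Group.IsNilpotent ↥Q := h.two.isNilpotent
    infer_instance
  have hcomm := Cfsg.Agent.Lib.Helper21.component_commutes_solvable hL hsolv hnorm
  have hLQ : ∀ x ∈ L, ∀ q ∈ Q, x * q = q * x := by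
    intro x hx q hq
    have h1 : ⁅x, q⁆ ∈ ⁅L, Q⁆ := Subgroup.commutator_mem_commutator hx hq
    rw [hcomm, mem_bot] at h1
    exact commutatorElement_eq_one_iff_mul_comm.mp h1
  have hLle : L ≤ zpowers z := by
    intro x hx
    rcases h.cent x (hLQ x hx) with e | e
    · rw [e]; exact one_mem _
    · rw [e]; exact mem_zpowers z
  have hsolvL : Group.IsSolvable ↥L := by
    have : IsMulCommutative ↥(zpowers z) := inferInstance
    have hinj : Function.Injective (Subgroup.inclusion hLle) := Subgroup.inclusion_injective hLle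
    have : Group.IsSolvable ↥(zpowers z) := by
      let _ : CommGroup ↥(zpowers z) := { (inferInstance : Group ↥(zpowers z)) with
        mul_comm := fun a b => mul_comm' a b }
      infer_instance
    exact Group.isSolvable_of_isSolvable_injective hinj
  exact Cfsg.Agent.Lib.Helper21.quasisimple_not_solvable hL.2 hsolvL

/-- odd cores vanish -/
theorem LQ.pCore_odd_eq_bot (h : LQ Q z) (q : ℕ) (hq : q.Prime) (hq2 : q ≠ 2) :
    Cfsg.pCore q G = ⊥ := by
  have : Fact q.Prime := ⟨hq⟩
  apply h.odd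
  · have hp : IsPGroup q ↥(Cfsg.pCore q G) := Cfsg.Agent.Lib.Helper90.pCore_isPGroup
    obtain ⟨n, hn⟩ := IsPGroup.iff_card.mp hp
    rw [hn]
    exact Odd.pow (hq.odd_of_ne_two hq2)
  · have hn : (Cfsg.pCore q G).Normal := Cfsg.Agent.Lib.Helper87.pCore_normal q G
    rw [normalizer_eq_top_iff.mpr hn]
    exact le_top

end finite

end Cfsg.Agent.Lib.Helper90.LS
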