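import Mathlib
import Cfsg.Agent.Lib.Helper90.LargeStructA
import Cfsg.Agent.Lib.Helper22.CharP
import Cfsg.Agent.Lib.Helper22.Fitting

set_option autoImplicit false

/-!
Large extraspecial subgroups: the case `O_2(G) ≠ 1`, and the reduction to `F*(G) = E(G)` otherwise.
-/

namespace Cfsg.Agent.Lib.Helper90.LS

open Subgroup Cfsg

variable {G : Type*} [Group G] {Q : Subgroup G} {z : G}

theorem exists_component_of_layer_ne_bot (hE : Cfsg.layer G ≠ ⊥) :
    ∃ L : Subgroup G, Cfsg.IsComponent L := by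
  by_contra hno
  push Not at hno
  apply hE
  unfold Cfsg.layer
  have : {K : Subgroup G | Cfsg.IsComponent K} = ∅ := by
    ext K
    simp only [Set.mem_ofPred_eq, Set.mem_empty_iff_false, iff_false]
    exact hno K
  rw [this, sSup_empty]

variable [Finite G]

theorem LQ.caseA (h : LQ Q z) (hR : Cfsg.pCore 2 G ≠ ⊥) :
    IsMulCommutative ↥(normalClosure ({z} : Set G)) ∧
      Cfsg.generalizedFittingSubgroup G = Cfsg.pCore 2 G := by
  have : Fact (Nat.Prime 2) := ⟨Nat.prime_two⟩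
  have hRn : (Cfsg.pCore 2 G).Normal := Cfsg.Agent.Lib.Helper87.pCore_normal 2 G
  have hRp : IsPGroup 2 ↥(Cfsg.pCore 2 G) := Cfsg.Agent.Lib.Helper90.pCore_isPGroup
  -- the centre of `O_2(G)` inside `G`
  have hCn : (Cfsg.pCore 2 G ⊓ centralizer (Cfsg.pCore 2 G : Set G)).Normal := inferInstance
  have hC2 : 2 ∣ Nat.card ↥(Cfsg.pCore 2 G ⊓ centralizer (Cfsg.pCore 2 G : Set G)) := by
    have hnt : Nontrivial ↥(Cfsg.pCore 2 G) := (Subgroup.nontrivial_iff_ne_bot _).2 hR
    have hcnt : Nontrivial (Subgroup.center ↥(Cfsg.pCore 2 G)) := hRp.center_nontrivial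
    obtain ⟨c, hc⟩ := exists_ne (1 : Subgroup.center ↥(Cfsg.pCore 2 G))
    have hcC : ((c : ↥(Cfsg.pCore 2 G)) : G) ∈
        Cfsg.pCore 2 G ⊓ centralizer (Cfsg.pCore 2 G : Set G) := by
      refine mem_inf.mpr ⟨(c : ↥(Cfsg.pCore 2 G)).2, ?_⟩
      rw [mem_centralizer_iff]
      intro r hr
      have := Subgroup.mem_center_iff.mp c.2 ⟨r, hr⟩
      exact congrArg Subtype.val this
    have hCp : IsPGroup 2 ↥(Cfsg.pCore 2 G ⊓ centralizer (Cfsg.pCore 2 G : Set G)) :=
      hRp.to_le inf_le_left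
    have hCnt : Nontrivial ↥(Cfsg.pCore 2 G ⊓ centralizer (Cfsg.pCore 2 G : Set G)) :=
      ⟨⟨⟨_, hcC⟩, 1, fun e => hc (Subtype.ext (Subtype.ext (by
        have := congrArg Subtype.val e
        exact this)))⟩⟩
    obtain ⟨n, hn0, hn⟩ := hCp.nontrivial_iff_card.mp hCnt
    rw [hn]
    exact dvd_pow_self 2 (by omega)
  have hzC := h.mem_of_even_normal _ hC2
  have hMle : normalClosure ({z} : Set G) ≤
      Cfsg.pCore 2 G ⊓ centralizer (Cfsg.pCore 2 G : Set G) := by
    apply normalClosure_le_normal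
    intro x hx
    rw [Set.mem_singleton_iff] at hx
    rw [hx]
    exact hzC
  refine ⟨?_, ?_⟩
  · constructor
    constructor
    rintro ⟨a, ha⟩ ⟨b, hb⟩
    apply Subtype.ext
    have ha' := hMle ha
    have hb' := hMle hb
    have := mem_centralizer_iff.mp hb'.2 a ha'.1
    exact this
  · apply Cfsg.Agent.Lib.Helper22.generalizedFitting_eq_pCore_of 2
    · by_contra hE
      obtain ⟨L, hL⟩ := exists_component_of_layer_ne_bot hE
      have hLc := Cfsg.Agent.Lib.Helper22.component_le_centralizer_fitting hL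
      have hzF : z ∈ Cfsg.fittingSubgroup G :=
        Cfsg.Agent.Lib.Helper22.pCore_le_fitting 2 hzC.1
      apply h.not_component_le hL
      intro x hx
      have := mem_centralizer_iff.mp (hLc hx) z hzF
      exact this.symm
    · intro q hq hq2
      exact h.pCore_odd_eq_bot q hq hq2

/-- if `O_2(G) = 1` then `F(G) = 1` -/
theorem LQ.fitting_eq_bot (h : LQ Q z) (hR : Cfsg.pCore 2 G = ⊥) : Cfsg.fittingSubgroup G = ⊥ := by
  rw [Cfsg.Agent.Lib.Helper22.fittingSubgroup_eq_iSup_pCore, eq_bot_iff]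
  apply iSup_le
  intro q
  by_cases hq2 : (q : ℕ) = 2
  · rw [hq2, hR]
  · rw [h.pCore_odd_eq_bot q q.2 hq2]

end Cfsg.Agent.Lib.Helper90.LS
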