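import Mathlib
import Cfsg.Agent.Lib.Helper90.LargeStructB
import Cfsg.Agent.Lib.Helper21.Layer

set_option autoImplicit false

/-!
Components of a group with trivial Fitting subgroup, and the decomposition lemma for a large
extraspecial subgroup.
-/

namespace Cfsg.Agent.Lib.Helper90.LS

open Subgroup Cfsg
open scoped commutatorElement

variable {G : Type*} [Group G] {Q : Subgroup G} {z : G}

theorem comm_of_components {L K : Subgroup G} (hL : Cfsg.IsComponent L) (hK : Cfsg.IsComponent K)
    (hne : L ≠ K) {x y : G} (hx : x ∈ L) (hy : y ∈ K) : x * y = y * x := by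
  have h1 := Cfsg.Agent.Lib.Helper22.components_commute hL hK hne
  have h2 : ⁅x, y⁆ ∈ ⁅L, K⁆ := Subgroup.commutator_mem_commutator hx hy
  rw [h1, mem_bot] at h2
  exact commutatorElement_eq_one_iff_mul_comm.mp h2

theorem layer_normalizes_component {L : Subgroup G} (hL : Cfsg.IsComponent L) :
    Cfsg.layer G ≤ normalizer (L : Set G) := by
  unfold Cfsg.layer
  apply sSup_le
  intro K hK
  by_cases hKL : K = L
  · rw [hKL]; exact le_normalizer
  · have h1 := Cfsg.Agent.Lib.Helper22.components_commute hK hL hKL
    rw [commutator_eq_bot_iff_le_centralizer] at h1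
    exact h1.trans (centralizer_le_normalizer _)

theorem conj_mem_component {L : Subgroup G} (hL : Cfsg.IsComponent L) {x y : G}
    (hx : x ∈ Cfsg.layer G) (hy : y ∈ L) : x * y * x⁻¹ ∈ L :=
  (mem_normalizer_iff.mp (layer_normalizes_component hL hx) y).mp hy

/-- an element of the layer commuting with all components is trivial when `F(G) = 1` -/
theorem eq_one_of_commutes (hF : Cfsg.fittingSubgroup G = ⊥) {x : G} (hx : x ∈ Cfsg.layer G)
    (h : ∀ K : Subgroup G, Cfsg.IsComponent K → ∀ y ∈ K, x * y = y * x) : x = 1 := by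
  have h1 : Cfsg.layer G ≤ centralizer ({x} : Set G) := by
    unfold Cfsg.layer
    apply sSup_le
    intro K hK y hy
    rw [mem_centralizer_singleton_iff]
    exact (h K hK y hy).symm
  have h2 : x ∈ (center ↥(Cfsg.layer G)).map (Cfsg.layer G).subtype := by
    rw [Cfsg.Agent.Lib.Helper21.mem_map_center_iff]
    refine ⟨hx, fun k hk => ?_⟩
    exact mem_centralizer_singleton_iff.mp (h1 hk)
  have h3 := Cfsg.Agent.Lib.Helper22.center_layer_le_fitting G h2
  rw [hF, mem_bot] at h3
  exact h3

theorem comp_disjoint (hF : Cfsg.fittingSubgroup G = ⊥) {L K : Subgroup G}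
    (hL : Cfsg.IsComponent L) (hK : Cfsg.IsComponent K) (hne : L ≠ K) {x : G} (hxL : x ∈ L)
    (hxK : x ∈ K) : x = 1 := by
  apply eq_one_of_commutes hF (Cfsg.Agent.Lib.Helper22.component_le_layer hL hxL)
  intro J hJ y hy
  by_cases hJL : L = J
  · subst hJL
    exact comm_of_components hK hL hne.symm hxK hy
  · exact comm_of_components hL hJ hJL hxL hy

/-- the decomposition of the layer along a set of components -/
theorem decomp (hF : Cfsg.fittingSubgroup G = ⊥) (S : Set (Subgroup G))
    (hS : ∀ K ∈ S, Cfsg.IsComponent K) :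
    (∀ x ∈ sSup S, x ∈ Cfsg.layer G ⊓ centralizer ((sSup S : Subgroup G) : Set G) → x = 1) ∧
    Cfsg.layer G ≤ sSup S ⊔ (Cfsg.layer G ⊓ centralizer ((sSup S : Subgroup G) : Set G)) ∧
    (∀ K : Subgroup G, Cfsg.IsComponent K → K ∉ S →
      K ≤ Cfsg.layer G ⊓ centralizer ((sSup S : Subgroup G) : Set G)) := by
  have hi : ∀ K : Subgroup G, Cfsg.IsComponent K → K ∉ S →
      K ≤ Cfsg.layer G ⊓ centralizer ((sSup S : Subgroup G) : Set G) := by
    intro K hK hKS
    apply le_inf (Cfsg.Agent.Lib.Helper22.component_le_layer hK)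
    rw [le_centralizer_iff]
    apply sSup_le
    intro J hJ y hy
    rw [mem_centralizer_iff]
    intro k hk
    have hne : K ≠ J := fun e => hKS (e ▸ hJ)
    exact comm_of_components hK (hS J hJ) hne hk hy
  refine ⟨?_, ?_, hi⟩
  · intro x hxX hxY
    apply eq_one_of_commutes hF hxY.1
    intro K hK y hy
    by_cases hKS : K ∈ S
    · have : y ∈ sSup S := (le_sSup hKS) hy
      exact (mem_centralizer_iff.mp hxY.2 y this).symm
    · have := (hi K hK hKS hy).2
      exact mem_centralizer_iff.mp this x hxX
  · unfold Cfsg.layer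
    apply sSup_le
    intro K hK
    by_cases hKS : K ∈ S
    · exact (le_sSup hKS).trans le_sup_left
    · exact (hi K hK hKS).trans le_sup_right

/-- a component of a group with `F(G) = 1` is a nonabelian simple group -/
theorem component_simple (hF : Cfsg.fittingSubgroup G = ⊥) {L : Subgroup G}
    (hL : Cfsg.IsComponent L) : IsSimpleGroup ↥L ∧ ¬ IsMulCommutative ↥L := by
  have hc : Subgroup.center ↥L = ⊥ := by
    rw [eq_bot_iff]
    intro c hc
    rw [mem_bot]
    apply Subtype.ext
    apply eq_one_of_commutes hF (Cfsg.Agent.Lib.Helper22.component_le_layer hL c.2)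
    intro K hK y hy
    by_cases hKL : L = K
    · subst hKL
      have := Subgroup.mem_center_iff.mp hc ⟨y, hy⟩
      exact (congrArg Subtype.val this).symm
    · exact comm_of_components hL hK hKL c.2 hy
  constructor
  · have hs : IsSimpleGroup (↥L ⧸ Subgroup.center ↥L) := hL.2.2
    have hnt : Nontrivial ↥L := Cfsg.Agent.Lib.Helper21.quasisimple_nontrivial hL.2
    have e : (↥L ⧸ Subgroup.center ↥L) ≃* ↥L :=
      (QuotientGroup.quotientMulEquivOfEq hc).trans QuotientGroup.quotientBot
    exact e.symm.isSimpleGroup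
  · intro hcomm
    apply Cfsg.Agent.Lib.Helper21.quasisimple_not_solvable hL.2
    let _ : CommGroup ↥L := { (inferInstance : Group ↥L) with
      mul_comm := fun a b => mul_comm' a b }
    infer_instance

end Cfsg.Agent.Lib.Helper90.LS
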