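import Mathlib
import Cfsg.Agent.Lib.Helper90.LargeStructC

set_option autoImplicit false

/-!
The decomposition lemma: a `Q`-invariant product of components is the whole layer.
-/

namespace Cfsg.Agent.Lib.Helper90.LS

open Subgroup Cfsg
open scoped commutatorElement

variable {G : Type*} [Group G] [Finite G] {Q : Subgroup G} {z : G}

theorem LQ.mem_layer (h : LQ Q z) {L : Subgroup G} (hL : Cfsg.IsComponent L) :
    z ∈ Cfsg.layer G := by
  have hn : (Cfsg.layer G).Normal := Cfsg.Agent.Lib.Helper22.layer_normal G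
  by_cases h2 : 2 ∣ Nat.card ↥(Cfsg.layer G)
  · exact h.mem_of_even_normal _ h2
  · exfalso
    have hodd : Odd (Nat.card ↥(Cfsg.layer G)) := Nat.odd_iff.mpr (Nat.two_dvd_ne_zero.mp h2)
    have hb := h.odd _ hodd (by rw [normalizer_eq_top_iff.mpr hn]; exact le_top)
    have hle := Cfsg.Agent.Lib.Helper22.component_le_layer hL
    rw [hb, le_bot_iff] at hle
    exact Cfsg.Agent.Lib.Helper22.component_ne_bot hL hle

/-- the splitting of `z` along a set of components -/
theorem LQ.split (h : LQ Q z) (hF : Cfsg.fittingSubgroup G = ⊥) (S : Set (Subgroup G))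
    (hS : ∀ K ∈ S, Cfsg.IsComponent K) (hne : S.Nonempty) :
    ∃ a ∈ sSup S, ∃ c ∈ Cfsg.layer G ⊓ centralizer ((sSup S : Subgroup G) : Set G),
      z = a * c ∧ a ≠ 1 ∧ a * a = 1 ∧ a * z = z * a := by
  obtain ⟨hd1, hd2, hd3⟩ := decomp hF S hS
  obtain ⟨L, hLS⟩ := hne
  have hzE := h.mem_layer (hS L hLS)
  have hcomm : ∀ a ∈ sSup S, ∀ b ∈ Cfsg.layer G ⊓ centralizer ((sSup S : Subgroup G) : Set G),
      a * b = b * a := by
    intro a ha b hb
    exact mem_centralizer_iff.mp hb.2 a ha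
  obtain ⟨a, ha, c, hc, hzac⟩ :=
    Cfsg.Agent.Lib.Helper22.exists_mul_of_mem_sup_of_commute hcomm (hd2 hzE)
  have hac := hcomm a ha c hc
  refine ⟨a, ha, c, hc, hzac, ?_, ?_, ?_⟩
  · intro ha1
    rw [ha1, one_mul] at hzac
    apply h.not_component_le (hS L hLS)
    intro x hx
    rw [hzac]
    exact mem_centralizer_iff.mp hc.2 x ((le_sSup hLS) hx)
  · have h1 : a * a * (c * c) = 1 := by
      calc a * a * (c * c) = a * (a * c) * c := by group
        _ = a * (c * a) * c := by rw [hac]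
        _ = (a * c) * (a * c) := by group
        _ = 1 := by rw [← hzac, h.sq]
    have h2 : a * a = (c * c)⁻¹ := eq_inv_of_mul_eq_one_left h1
    apply hd1 (a * a) (mul_mem ha ha)
    rw [h2]
    exact inv_mem (mul_mem hc hc)
  · rw [hzac]
    calc a * (a * c) = a * (c * a) := by rw [hac]
      _ = a * c * a := by group

/-- **Decomposition lemma**: a `Q`-invariant join of components contains every component. -/
theorem LQ.lemmaD (h : LQ Q z) (hF : Cfsg.fittingSubgroup G = ⊥) (S : Set (Subgroup G))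
    (hS : ∀ K ∈ S, Cfsg.IsComponent K) (hne : S.Nonempty)
    (hQS : ∀ q ∈ Q, ∀ x ∈ sSup S, q * x * q⁻¹ ∈ sSup S) :
    ∀ K : Subgroup G, Cfsg.IsComponent K → K ∈ S := by
  obtain ⟨hd1, hd2, hd3⟩ := decomp hF S hS
  obtain ⟨a, ha, c, hc, hzac, ha1, -, -⟩ := h.split hF S hS hne
  obtain ⟨L, hLS⟩ := hne
  have hn : (Cfsg.layer G).Normal := Cfsg.Agent.Lib.Helper22.layer_normal G
  -- `Y` is `Q`-invariant
  have hQY : ∀ q ∈ Q, ∀ y ∈ Cfsg.layer G ⊓ centralizer ((sSup S : Subgroup G) : Set G),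
      q * y * q⁻¹ ∈ Cfsg.layer G ⊓ centralizer ((sSup S : Subgroup G) : Set G) := by
    intro q hq y hy
    refine mem_inf.mpr ⟨hn.conj_mem y hy.1 q, ?_⟩
    rw [mem_centralizer_iff]
    intro x hx
    have hx' : q⁻¹ * x * q ∈ sSup S := by
      have := hQS q⁻¹ (inv_mem hq) x hx
      rwa [inv_inv] at this
    have := mem_centralizer_iff.mp hy.2 _ hx'
    calc x * (q * y * q⁻¹) = q * ((q⁻¹ * x * q) * y) * q⁻¹ := by group
      _ = q * (y * (q⁻¹ * x * q)) * q⁻¹ := by rw [this]
      _ = q * y * q⁻¹ * x := by group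
  -- `a` is centralized by `Q`
  have haQ : ∀ q ∈ Q, a * q = q * a := by
    intro q hq
    have hz' : q * z * q⁻¹ = z := by
      rw [h.zcomm hq]; group
    have h1 : (q * a * q⁻¹) * (q * c * q⁻¹) = a * c := by
      calc (q * a * q⁻¹) * (q * c * q⁻¹) = q * (a * c) * q⁻¹ := by group
        _ = a * c := by rw [← hzac, hz']
    have h2 : a⁻¹ * (q * a * q⁻¹) = c * (q * c * q⁻¹)⁻¹ := by
      calc a⁻¹ * (q * a * q⁻¹) = a⁻¹ * ((q * a * q⁻¹) * (q * c * q⁻¹)) * (q * c * q⁻¹)⁻¹ := by
            group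
        _ = c * (q * c * q⁻¹)⁻¹ := by rw [h1]; group
    have h3 : a⁻¹ * (q * a * q⁻¹) = 1 := by
      apply hd1 _ (mul_mem (inv_mem ha) (hQS q hq a ha))
      rw [h2]
      exact mul_mem hc (inv_mem (hQY q hq c hc))
    have h4 : q * a * q⁻¹ = a := by
      calc q * a * q⁻¹ = a * (a⁻¹ * (q * a * q⁻¹)) := by group
        _ = a := by rw [h3, mul_one]
    calc a * q = (q * a * q⁻¹) * q := by rw [h4]
      _ = q * a := by group
  have haz : a = z := by
    rcases h.cent a haQ with e | e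
    · exact absurd e ha1
    · exact e
  intro K hK
  by_contra hKS
  apply h.not_component_le hK
  intro x hx
  have := (hd3 K hK hKS hx).2
  rw [← haz]
  exact (mem_centralizer_iff.mp this a ha).symm

/-- if `Q` normalizes a component then it is the whole layer -/
theorem LQ.layer_eq_of_normalizes (h : LQ Q z) (hF : Cfsg.fittingSubgroup G = ⊥)
    {L : Subgroup G} (hL : Cfsg.IsComponent L) (hQL : ∀ q ∈ Q, ∀ x ∈ L, q * x * q⁻¹ ∈ L) :
    Cfsg.layer G = L := by
  have key := h.lemmaD hF {L} (by intro K hK; rw [Set.mem_singleton_iff] at hK; rw [hK]; exact hL)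
    ⟨L, rfl⟩ (by rw [sSup_singleton]; exact hQL)
  apply le_antisymm
  · unfold Cfsg.layer
    apply sSup_le
    intro K hK
    have := key K hK
    rw [Set.mem_singleton_iff] at this
    rw [this]
  · exact Cfsg.Agent.Lib.Helper22.component_le_layer hL

/-- if `Q` normalizes the join of two components then it is the whole layer -/
theorem LQ.layer_eq_of_normalizes_pair (h : LQ Q z) (hF : Cfsg.fittingSubgroup G = ⊥)
    {L L' : Subgroup G} (hL : Cfsg.IsComponent L) (hL' : Cfsg.IsComponent L')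
    (hQL : ∀ q ∈ Q, ∀ x ∈ L ⊔ L', q * x * q⁻¹ ∈ L ⊔ L') :
    Cfsg.layer G = L ⊔ L' := by
  have key := h.lemmaD hF {L, L'} (by
      intro K hK
      rcases hK with hK | hK
      · rw [hK]; exact hL
      · rw [Set.mem_singleton_iff] at hK; rw [hK]; exact hL')
    ⟨L, Set.mem_insert _ _⟩ (by rw [sSup_pair]; exact hQL)
  apply le_antisymm
  · unfold Cfsg.layer
    apply sSup_le
    intro K hK
    rcases key K hK with e | e
    · rw [e]; exact le_sup_left
    · rw [Set.mem_singleton_iff] at e; rw [e]; exact le_sup_right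
  · exact sup_le (Cfsg.Agent.Lib.Helper22.component_le_layer hL)
      (Cfsg.Agent.Lib.Helper22.component_le_layer hL')

end Cfsg.Agent.Lib.Helper90.LS
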