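import Mathlib
import Cfsg.Agent.Lib.Helper90.LargeStructD
import Cfsg.Agent.Lib.Helper32.PPrimeP
import Cfsg.Agent.Lib.Helper33.Pair
import Cfsg.Agent.Lib.Helper6.SzSub3

set_option autoImplicit false

/-!
Large extraspecial subgroups: analysis of a component moved by `Q`.
-/

namespace Cfsg.Agent.Lib.Helper90.LS

open Subgroup Cfsg
open scoped commutatorElement

variable {G : Type*} [Group G] {Q : Subgroup G} {z : G}

/-- a nontrivial element of a component which is a product of elements of three other components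
cannot exist -/
theorem eq_of_three (hF : Cfsg.fittingSubgroup G = ⊥) {A L L' B : Subgroup G}
    (hA : Cfsg.IsComponent A) (hL : Cfsg.IsComponent L) (hL' : Cfsg.IsComponent L')
    (hB : Cfsg.IsComponent B) {g x w b : G} (hgA : g ∈ A) (hg1 : g ≠ 1) (hx : x ∈ L)
    (hw : w ∈ L') (hb : b ∈ B) (hAB : A ≠ B) (hg : g = x * w * b) : A = L ∨ A = L' := by
  by_contra hcon
  push Not at hcon
  obtain ⟨hAL, hAL'⟩ := hcon
  apply hg1
  apply eq_one_of_commutes hF (Cfsg.Agent.Lib.Helper22.component_le_layer hA hgA)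
  intro J hJ y hy
  by_cases hJA : A = J
  · subst hJA
    have h1 := comm_of_components hL hA (Ne.symm hAL) hx hy
    have h2 := comm_of_components hL' hA (Ne.symm hAL') hw hy
    have h3 := comm_of_components hB hA (Ne.symm hAB) hb hy
    rw [hg]
    calc x * w * b * y = x * w * (y * b) := by rw [mul_assoc, h3]
      _ = x * (w * y) * b := by group
      _ = x * (y * w) * b := by rw [h2]
      _ = (x * y) * w * b := by group
      _ = y * (x * w * b) := by rw [h1]; group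
  · exact comm_of_components hA hJ hJA hgA hy

/-- an element fixing a product `x w` with nontrivial components in `L`, `L'` normalizes `L ⊔ L'` -/
theorem normalizes_pair_of_fix (hF : Cfsg.fittingSubgroup G = ⊥) {L L' : Subgroup G}
    (hL : Cfsg.IsComponent L) (hL' : Cfsg.IsComponent L') (hne : L ≠ L') {x w q : G}
    (hx : x ∈ L) (hw : w ∈ L') (hx1 : x ≠ 1) (hw1 : w ≠ 1)
    (hq : q * (x * w) * q⁻¹ = x * w) : ∀ t ∈ L ⊔ L', q * t * q⁻¹ ∈ L ⊔ L' := by
  have hA := Cfsg.Agent.Lib.Helper22.isComponent_map_equiv (MulAut.conj q) hL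
  have hB := Cfsg.Agent.Lib.Helper22.isComponent_map_equiv (MulAut.conj q) hL'
  have hAB : L.map (MulAut.conj q).toMonoidHom ≠ L'.map (MulAut.conj q).toMonoidHom := by
    intro e
    exact hne (Subgroup.map_injective (MulAut.conj q).injective e)
  have hgA : q * x * q⁻¹ ∈ L.map (MulAut.conj q).toMonoidHom := ⟨x, hx, rfl⟩
  have hgB : q * w * q⁻¹ ∈ L'.map (MulAut.conj q).toMonoidHom := ⟨w, hw, rfl⟩
  have hg1 : q * x * q⁻¹ ≠ 1 := by
    intro e
    apply hx1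
    calc x = q⁻¹ * (q * x * q⁻¹) * q := by group
      _ = 1 := by rw [e]; group
  have hg1' : q * w * q⁻¹ ≠ 1 := by
    intro e
    apply hw1
    calc w = q⁻¹ * (q * w * q⁻¹) * q := by group
      _ = 1 := by rw [e]; group
  have e1 : q * x * q⁻¹ = x * w * (q * w * q⁻¹)⁻¹ := by
    rw [← hq]; group
  have hxw : x * w = w * x := comm_of_components hL hL' hne hx hw
  have hxw' : x * w * x⁻¹ = w := by rw [hxw]; group
  have e2 : q * w * q⁻¹ = w * x * (q * x * q⁻¹)⁻¹ := by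
    calc q * w * q⁻¹ = q * (x * w * x⁻¹) * q⁻¹ := by rw [hxw']
      _ = (q * (x * w) * q⁻¹) * (q * x * q⁻¹)⁻¹ := by group
      _ = x * w * (q * x * q⁻¹)⁻¹ := by rw [hq]
      _ = w * x * (q * x * q⁻¹)⁻¹ := by rw [hxw]
  have hA' := eq_of_three hF hA hL hL' hB hgA hg1 hx hw (inv_mem hgB) hAB e1
  have hB' := eq_of_three hF hB hL' hL hA hgB hg1' hw hx (inv_mem hgA) (Ne.symm hAB) e2
  have hsup : L.map (MulAut.conj q).toMonoidHom ⊔ L'.map (MulAut.conj q).toMonoidHom = L ⊔ L' := by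
    rcases hA' with a1 | a1 <;> rcases hB' with b1 | b1
    · rw [a1, b1]
    · exact absurd (a1.trans b1.symm) hAB
    · exact absurd (a1.trans b1.symm) hAB
    · rw [a1, b1, sup_comm]
  intro t ht
  rw [← hsup, ← Subgroup.map_sup]
  exact ⟨t, ht, rfl⟩

/-- the commutator-type element `y (u y⁻¹ u⁻¹)` lies in `Q` -/
theorem LQ.cmem (h : LQ Q z) {u y : G} (hu : u ∈ Q) (hy : y * z = z * y) :
    y * (u * y⁻¹ * u⁻¹) ∈ Q := by
  have h1 := h.norm y hy u hu
  have h2 := Q.mul_mem h1 (Q.inv_mem hu)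
  have e : y * u * y⁻¹ * u⁻¹ = y * (u * y⁻¹ * u⁻¹) := by group
  rwa [e] at h2

/-- every `q ∈ Q` commutes with one of `c₁`, `c₂`, `c₁ c₂` -/
theorem LQ.cover (h : LQ Q z) {c₁ c₂ q : G} (h1 : c₁ ∈ Q) (h2 : c₂ ∈ Q) (hq : q ∈ Q) :
    q * c₁ * q⁻¹ = c₁ ∨ q * c₂ * q⁻¹ = c₂ ∨ q * (c₁ * c₂) * q⁻¹ = c₁ * c₂ := by
  rcases h.comm q hq c₁ h1 with e1 | e1
  · left
    calc q * c₁ * q⁻¹ = (q * c₁ * q⁻¹ * c₁⁻¹) * c₁ := by group
      _ = c₁ := by rw [e1, one_mul]
  rcases h.comm q hq c₂ h2 with e2 | e2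
  · right; left
    calc q * c₂ * q⁻¹ = (q * c₂ * q⁻¹ * c₂⁻¹) * c₂ := by group
      _ = c₂ := by rw [e2, one_mul]
  right; right
  have hz1 : c₁ * z = z * c₁ := h.zcomm h1
  calc q * (c₁ * c₂) * q⁻¹ = (q * c₁ * q⁻¹ * c₁⁻¹) * c₁ * ((q * c₂ * q⁻¹ * c₂⁻¹) * c₂) := by group
    _ = z * c₁ * (z * c₂) := by rw [e1, e2]
    _ = z * (c₁ * z) * c₂ := by group
    _ = z * (z * c₁) * c₂ := by rw [hz1]
    _ = (z * z) * c₁ * c₂ := by group
    _ = c₁ * c₂ := by rw [h.sq, one_mul]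

/-- elements of `L` commuting with `z` are `2`-elements, when `Q` moves `L` -/
theorem LQ.pow_two_of_mem (h : LQ Q z) (hF : Cfsg.fittingSubgroup G = ⊥) {L : Subgroup G}
    (hL : Cfsg.IsComponent L) {u : G} (hu : u ∈ Q)
    (hne : L ≠ L.map (MulAut.conj u).toMonoidHom) {y : G} (hyL : y ∈ L) (hyz : y * z = z * y) :
    ∃ k : ℕ, y ^ 2 ^ k = 1 := by
  have hL' := Cfsg.Agent.Lib.Helper22.isComponent_map_equiv (MulAut.conj u) hL
  have hc := h.cmem hu hyz
  obtain ⟨k, hk⟩ := h.two ⟨_, hc⟩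
  have hk' : (y * (u * y⁻¹ * u⁻¹)) ^ 2 ^ k = 1 := by
    have := congrArg Subtype.val hk
    simpa using this
  have hw : u * y⁻¹ * u⁻¹ ∈ L.map (MulAut.conj u).toMonoidHom := ⟨y⁻¹, inv_mem hyL, rfl⟩
  have hcomm : Commute y (u * y⁻¹ * u⁻¹) := comm_of_components hL hL' hne hyL hw
  rw [hcomm.mul_pow] at hk'
  have e : y ^ 2 ^ k = ((u * y⁻¹ * u⁻¹) ^ 2 ^ k)⁻¹ := eq_inv_of_mul_eq_one_left hk'
  refine ⟨k, ?_⟩
  apply comp_disjoint hF hL hL' hne (pow_mem hyL _)
  rw [e]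
  exact inv_mem (pow_mem hw _)

variable [Finite G]

/-- `C_L(z)` has odd index in `L` -/
theorem LQ.not_dvd_relIndex (h : LQ Q z) {L : Subgroup G} (hL : Cfsg.IsComponent L) :
    ¬ 2 ∣ (L ⊓ centralizer ({z} : Set G)).relIndex L := by
  have : Fact (Nat.Prime 2) := ⟨Nat.prime_two⟩
  obtain ⟨T, hQT, hTz⟩ := h.exists_sylow
  have hn : (Cfsg.layer G).Normal := Cfsg.Agent.Lib.Helper22.layer_normal G
  have hRi := Cfsg.Agent.Lib.Helper32.not_dvd_relIndex_inf_normal T (Cfsg.layer G)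
  have h1 := Cfsg.Agent.Lib.Helper33.sylow_inf_normal (N := Cfsg.layer G)
    (R := (T : Subgroup G) ⊓ Cfsg.layer G) (C := L) inf_le_right (T.2.to_le inf_le_left) hRi
    (Cfsg.Agent.Lib.Helper22.component_le_layer hL) (layer_normalizes_component hL)
  intro h2
  apply h1
  have hle : ((T : Subgroup G) ⊓ Cfsg.layer G) ⊓ L ≤ L ⊓ centralizer ({z} : Set G) := by
    intro x hx
    refine mem_inf.mpr ⟨hx.2, ?_⟩
    rw [mem_centralizer_singleton_iff]
    exact hTz x hx.1.1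
  exact dvd_trans h2 (Subgroup.relIndex_dvd_of_le_left L hle)

end Cfsg.Agent.Lib.Helper90.LS
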