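import Mathlib
import Cfsg.Agent.Lib.Helper90.LargeStructE

set_option autoImplicit false

/-!
Large extraspecial subgroups: a component moved by `Q` and its image generate the layer.
-/

namespace Cfsg.Agent.Lib.Helper90.LS

open Subgroup Cfsg
open scoped commutatorElement

variable {G : Type*} [Group G] [Finite G] {Q : Subgroup G} {z : G}

/-- if `C_L(z) = {1, a}` then `L` cannot be a nonabelian simple group -/
theorem LQ.false_of_small (h : LQ Q z) (hF : Cfsg.fittingSubgroup G = ⊥) {L : Subgroup G}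
    (hL : Cfsg.IsComponent L) {a : G} (ha : a ∈ L) (ha1 : a ≠ 1) (haa : a * a = 1)
    (hK : ∀ y ∈ L, y * z = z * y → y = 1 ∨ y = a) : False := by
  have : Fact (Nat.Prime 2) := ⟨Nat.prime_two⟩
  obtain ⟨hsimple, hncomm⟩ := component_simple hF hL
  have hsq : ∀ y ∈ L, y * z = z * y → y * y = 1 := by
    intro y hy hyz
    rcases hK y hy hyz with e | e
    · rw [e, one_mul]
    · rw [e, haa]
  have hKp : IsPGroup 2 ↥((L ⊓ centralizer ({z} : Set G)).subgroupOf L) := by
    intro g
    refine ⟨1, ?_⟩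
    have hg : ((g : ↥L) : G) ∈ L ⊓ centralizer ({z} : Set G) := mem_subgroupOf.mp g.2
    have := hsq _ hg.1 (mem_centralizer_singleton_iff.mp hg.2)
    apply Subtype.ext
    apply Subtype.ext
    rw [pow_one, pow_two]
    exact this
  have hidx : ¬ 2 ∣ ((L ⊓ centralizer ({z} : Set G)).subgroupOf L).index := h.not_dvd_relIndex hL
  have hcyc : IsCyclic ↥(hKp.toSylow hidx) := by
    rw [isCyclic_iff_exists_zpowers_eq_top]
    by_cases haK : a * z = z * a
    · refine ⟨⟨⟨a, ha⟩, (IsPGroup.mem_toSylow hKp hidx).mpr (mem_subgroupOf.mpr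
        (mem_inf.mpr ⟨ha, mem_centralizer_singleton_iff.mpr haK⟩))⟩, eq_top_iff.mpr fun x _ => ?_⟩
      have hx := (IsPGroup.mem_toSylow hKp hidx).mp x.2
      have hx' : ((x : ↥L) : G) ∈ L ⊓ centralizer ({z} : Set G) := mem_subgroupOf.mp hx
      rcases hK _ hx'.1 (mem_centralizer_singleton_iff.mp hx'.2) with e | e
      · have : x = 1 := Subtype.ext (Subtype.ext e)
        rw [this]; exact one_mem _
      · have : x = ⟨⟨a, ha⟩, (IsPGroup.mem_toSylow hKp hidx).mpr (mem_subgroupOf.mpr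
          (mem_inf.mpr ⟨ha, mem_centralizer_singleton_iff.mpr haK⟩))⟩ :=
          Subtype.ext (Subtype.ext e)
        rw [this]; exact mem_zpowers _
    · refine ⟨1, eq_top_iff.mpr fun x _ => ?_⟩
      have hx := (IsPGroup.mem_toSylow hKp hidx).mp x.2
      have hx' : ((x : ↥L) : G) ∈ L ⊓ centralizer ({z} : Set G) := mem_subgroupOf.mp hx
      rcases hK _ hx'.1 (mem_centralizer_singleton_iff.mp hx'.2) with e | e
      · have : x = 1 := Subtype.ext (Subtype.ext e)
        rw [this]; exact one_mem _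
      · exfalso
        apply haK
        rw [← e]
        exact mem_centralizer_singleton_iff.mp hx'.2
  have h2L : 2 ∣ Nat.card ↥L := by
    have ho : _root_.orderOf (⟨a, ha⟩ : ↥L) = 2 := by
      apply orderOf_eq_prime
      · apply Subtype.ext
        rw [pow_two]
        exact haa
      · intro e
        exact ha1 (congrArg Subtype.val e)
    rw [← ho]
    exact orderOf_dvd_natCard _
  obtain ⟨N, hNn, hNodd, hNcard⟩ :=
    Cfsg.Agent.Lib.Helper6.Sz.exists_normal_two_complement (hKp.toSylow hidx) hcyc h2L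
  rcases hNn.eq_bot_or_eq_top with e | e
  · rw [e, Subgroup.card_bot, one_mul] at hNcard
    have htop : ((hKp.toSylow hidx : Sylow 2 ↥L) : Subgroup ↥L) = ⊤ :=
      (Subgroup.card_eq_iff_eq_top _).mp hNcard
    apply hncomm
    constructor
    constructor
    intro x y
    have hx : x ∈ ((hKp.toSylow hidx : Sylow 2 ↥L) : Subgroup ↥L) := by rw [htop]; exact mem_top x
    have hy : y ∈ ((hKp.toSylow hidx : Sylow 2 ↥L) : Subgroup ↥L) := by rw [htop]; exact mem_top y
    have hx' : ((x : ↥L) : G) ∈ L ⊓ centralizer ({z} : Set G) :=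
      mem_subgroupOf.mp ((IsPGroup.mem_toSylow hKp hidx).mp hx)
    have hy' : ((y : ↥L) : G) ∈ L ⊓ centralizer ({z} : Set G) :=
      mem_subgroupOf.mp ((IsPGroup.mem_toSylow hKp hidx).mp hy)
    apply Subtype.ext
    show (x : G) * (y : G) = (y : G) * (x : G)
    rcases hK _ hx'.1 (mem_centralizer_singleton_iff.mp hx'.2) with e1 | e1 <;>
      rcases hK _ hy'.1 (mem_centralizer_singleton_iff.mp hy'.2) with e2 | e2 <;>
      rw [e1, e2]
    · rw [one_mul, mul_one]
    · rw [one_mul, mul_one]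
  · apply hNodd
    rw [e, Subgroup.card_top]
    exact h2L

/-- **Main step**: if `u ∈ Q` moves the component `L`, then `E(G) = L (u L u⁻¹)`. -/
theorem LQ.pair_main (h : LQ Q z) (hF : Cfsg.fittingSubgroup G = ⊥) {L : Subgroup G}
    (hL : Cfsg.IsComponent L) {u : G} (hu : u ∈ Q)
    (hne : L ≠ L.map (MulAut.conj u).toMonoidHom) {a : G} (ha : a ∈ L) (ha1 : a ≠ 1)
    (haa : a * a = 1) (haz : a * z = z * a) :
    Cfsg.layer G = L ⊔ L.map (MulAut.conj u).toMonoidHom ∧
      ∃ y ∈ L, y * z = z * y ∧ y ≠ 1 ∧ y ≠ a := by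
  have hL' := Cfsg.Agent.Lib.Helper22.isComponent_map_equiv (MulAut.conj u) hL
  have hai : a⁻¹ = a := inv_eq_of_mul_eq_one_right haa
  by_cases hex : ∃ y ∈ L, y * z = z * y ∧ y ≠ 1 ∧ y ≠ a
  · obtain ⟨y, hyL, hyz, hy1, hya⟩ := hex
    refine ⟨?_, y, hyL, hyz, hy1, hya⟩
    apply h.layer_eq_of_normalizes_pair hF hL hL'
    intro q hq t ht
    have hc1 := h.cmem hu haz
    have hc2 := h.cmem hu hyz
    have hw1 : u * a⁻¹ * u⁻¹ ∈ L.map (MulAut.conj u).toMonoidHom := ⟨a⁻¹, inv_mem ha, rfl⟩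
    have hw2 : u * y⁻¹ * u⁻¹ ∈ L.map (MulAut.conj u).toMonoidHom := ⟨y⁻¹, inv_mem hyL, rfl⟩
    have hne_of : ∀ v : G, v ≠ 1 → u * v⁻¹ * u⁻¹ ≠ 1 := by
      intro v hv e
      apply hv
      have : v⁻¹ = 1 := by
        calc v⁻¹ = u⁻¹ * (u * v⁻¹ * u⁻¹) * u := by group
          _ = 1 := by rw [e]; group
      exact inv_eq_one.mp this
    rcases h.cover hc1 hc2 hq with e | e | e
    · exact normalizes_pair_of_fix hF hL hL' hne ha hw1 ha1 (hne_of a ha1) e t ht
    · exact normalizes_pair_of_fix hF hL hL' hne hyL hw2 hy1 (hne_of y hy1) e t ht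
    · have hcomm : (u * a⁻¹ * u⁻¹) * y = y * (u * a⁻¹ * u⁻¹) :=
        (comm_of_components hL hL' hne hyL hw1).symm
      have hprod : a * (u * a⁻¹ * u⁻¹) * (y * (u * y⁻¹ * u⁻¹)) =
          (a * y) * (u * (y * a)⁻¹ * u⁻¹) := by
        calc a * (u * a⁻¹ * u⁻¹) * (y * (u * y⁻¹ * u⁻¹))
            = a * ((u * a⁻¹ * u⁻¹) * y) * (u * y⁻¹ * u⁻¹) := by group
          _ = a * (y * (u * a⁻¹ * u⁻¹)) * (u * y⁻¹ * u⁻¹) := by rw [hcomm]
          _ = (a * y) * (u * (y * a)⁻¹ * u⁻¹) := by group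
      rw [hprod] at e
      have hay : a * y ≠ 1 := by
        intro e'
        apply hya
        calc y = a⁻¹ * (a * y) := by group
          _ = a := by rw [e', mul_one, hai]
      have hya' : y * a ≠ 1 := by
        intro e'
        apply hya
        calc y = (y * a) * a⁻¹ := by group
          _ = a := by rw [e', one_mul, hai]
      exact normalizes_pair_of_fix hF hL hL' hne (mul_mem ha hyL)
        ⟨(y * a)⁻¹, inv_mem (mul_mem hyL ha), rfl⟩ hay (hne_of _ hya') e t ht
  · exfalso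
    push Not at hex
    apply h.false_of_small hF hL ha ha1 haa
    intro y hy hyz
    by_cases hy1 : y = 1
    · exact Or.inl hy1
    · exact Or.inr (hex y hy hyz hy1)

end Cfsg.Agent.Lib.Helper90.LS
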