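import Mathlib
import Cfsg.Agent.Lib.Helper90.LargeStructF
import Cfsg.Agent.Lib.Helper47.Frattini

set_option autoImplicit false

/-!
Large extraspecial subgroups: the data of the case `E(G) = L × L^u`.
-/

namespace Cfsg.Agent.Lib.Helper90.LS

open Subgroup Cfsg
open scoped commutatorElement

variable {G : Type*} [Group G] [Finite G] {Q : Subgroup G} {z : G}

/-- the normal closure of `z` is the layer, when `F(G) = 1` and there is a component -/
theorem LQ.normalClosure_eq_layer (h : LQ Q z) {L : Subgroup G} (hL : Cfsg.IsComponent L) :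
    normalClosure ({z} : Set G) = Cfsg.layer G := by
  have hn : (Cfsg.layer G).Normal := Cfsg.Agent.Lib.Helper22.layer_normal G
  apply le_antisymm
  · apply normalClosure_le_normal
    intro x hx
    rw [Set.mem_singleton_iff] at hx
    rw [hx]
    exact h.mem_layer hL
  · unfold Cfsg.layer
    apply sSup_le
    intro K hK
    rcases Cfsg.Agent.Lib.Helper21.component_le_or_commutes_normal hK
      (normalClosure_normal (s := ({z} : Set G))) with h1 | h1
    · exact h1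
    · exfalso
      apply h.not_component_le hK
      intro x hx
      have hz : z ∈ normalClosure ({z} : Set G) := subset_normalClosure (Set.mem_singleton z)
      have h2 : ⁅z, x⁆ ∈ ⁅normalClosure ({z} : Set G), K⁆ :=
        Subgroup.commutator_mem_commutator hz hx
      rw [h1, mem_bot] at h2
      exact (commutatorElement_eq_one_iff_mul_comm.mp h2).symm

section pair

variable {L : Subgroup G} {u a c : G}

/-- the second factor of `z` is the conjugate of the first -/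
theorem LQ.c_eq (h : LQ Q z) (hF : Cfsg.fittingSubgroup G = ⊥) (hL : Cfsg.IsComponent L)
    (hu : u ∈ Q) (hne : L ≠ L.map (MulAut.conj u).toMonoidHom) (ha : a ∈ L)
    (hc : c ∈ Cfsg.layer G ⊓ centralizer (L : Set G)) (hz : z = a * c)
    (hlayer : Cfsg.layer G = L ⊔ L.map (MulAut.conj u).toMonoidHom) :
    c = u * a * u⁻¹ := by
  have hL' := Cfsg.Agent.Lib.Helper22.isComponent_map_equiv (MulAut.conj u) hL
  have hcomm : ∀ x ∈ L, ∀ w ∈ L.map (MulAut.conj u).toMonoidHom, x * w = w * x :=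
    fun x hx w hw => comm_of_components hL hL' hne hx hw
  have hcl : c ∈ L ⊔ L.map (MulAut.conj u).toMonoidHom := hlayer ▸ hc.1
  obtain ⟨x, hx, w, hw, hcxw⟩ := Cfsg.Agent.Lib.Helper22.exists_mul_of_mem_sup_of_commute hcomm hcl
  have hx1 : x = 1 := by
    apply eq_one_of_commutes hF (Cfsg.Agent.Lib.Helper22.component_le_layer hL hx)
    intro J hJ y hy
    by_cases hJL : L = J
    · subst hJL
      have e : x = c * w⁻¹ := by rw [hcxw]; group
      have h1 : c * y = y * c := (mem_centralizer_iff.mp hc.2 y hy).symm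
      have h2 : w⁻¹ * y = y * w⁻¹ := (hcomm y hy w⁻¹ (inv_mem hw)).symm
      rw [e]
      calc c * w⁻¹ * y = c * (w⁻¹ * y) := by group
        _ = c * (y * w⁻¹) := by rw [h2]
        _ = (c * y) * w⁻¹ := by group
        _ = y * (c * w⁻¹) := by rw [h1]; group
    · exact comm_of_components hL hJ hJL hx hy
  have hcw : c ∈ L.map (MulAut.conj u).toMonoidHom := by
    rw [hcxw, hx1, one_mul]; exact hw
  obtain ⟨l, hl, hlc⟩ := hcw
  have hlc' : u * l * u⁻¹ = c := hlc
  have huu : u * u ∈ Cfsg.layer G := by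
    rcases h.sqr u hu with e | e
    · rw [e]; exact one_mem _
    · rw [e]; exact h.mem_layer hL
  have hg1 : u * c * u⁻¹ ∈ L := by
    have := conj_mem_component hL huu hl
    have e : u * c * u⁻¹ = u * u * l * (u * u)⁻¹ := by rw [← hlc']; group
    rw [e]; exact this
  have hg2 : u * a * u⁻¹ ∈ L.map (MulAut.conj u).toMonoidHom := ⟨a, ha, rfl⟩
  have hzu : u * z * u⁻¹ = z := by rw [h.zcomm hu]; group
  have h1 : (u * c * u⁻¹) * (u * a * u⁻¹) = a * c := by
    rw [hcomm _ hg1 _ hg2]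
    calc (u * a * u⁻¹) * (u * c * u⁻¹) = u * (a * c) * u⁻¹ := by group
      _ = a * c := by rw [← hz, hzu]
  have h2 : a⁻¹ * (u * c * u⁻¹) = c * (u * a * u⁻¹)⁻¹ := by
    calc a⁻¹ * (u * c * u⁻¹) = a⁻¹ * ((u * c * u⁻¹) * (u * a * u⁻¹)) * (u * a * u⁻¹)⁻¹ := by group
      _ = c * (u * a * u⁻¹)⁻¹ := by rw [h1]; group
  have hcw' : c ∈ L.map (MulAut.conj u).toMonoidHom := ⟨l, hl, hlc⟩
  have h3 : c * (u * a * u⁻¹)⁻¹ = 1 := by
    apply comp_disjoint hF hL hL' hne
    · rw [← h2]; exact mul_mem (inv_mem ha) hg1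
    · exact mul_mem hcw' (inv_mem hg2)
  calc c = (c * (u * a * u⁻¹)⁻¹) * (u * a * u⁻¹) := by group
    _ = u * a * u⁻¹ := by rw [h3, one_mul]

/-- for `y ∈ L`, commuting with `z` and with its `L`-factor are the same -/
theorem comm_iff_of_pair (hL : Cfsg.IsComponent L)
    (hne : L ≠ L.map (MulAut.conj u).toMonoidHom) (ha : a ∈ L)
    {y : G} (hy : y ∈ L) :
    y * (a * (u * a * u⁻¹)) = (a * (u * a * u⁻¹)) * y ↔ y * a = a * y := by
  have hL' := Cfsg.Agent.Lib.Helper22.isComponent_map_equiv (MulAut.conj u) hL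
  have hg2 : u * a * u⁻¹ ∈ L.map (MulAut.conj u).toMonoidHom := ⟨a, ha, rfl⟩
  have hyc : y * (u * a * u⁻¹) = (u * a * u⁻¹) * y := comm_of_components hL hL' hne hy hg2
  constructor
  · intro e
    have : y * a * (u * a * u⁻¹) = a * y * (u * a * u⁻¹) := by
      calc y * a * (u * a * u⁻¹) = y * (a * (u * a * u⁻¹)) := by group
        _ = a * (u * a * u⁻¹) * y := e
        _ = a * ((u * a * u⁻¹) * y) := by group
        _ = a * (y * (u * a * u⁻¹)) := by rw [hyc]
        _ = a * y * (u * a * u⁻¹) := by group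
    exact mul_right_cancel this
  · intro e
    calc y * (a * (u * a * u⁻¹)) = (y * a) * (u * a * u⁻¹) := by group
      _ = (a * y) * (u * a * u⁻¹) := by rw [e]
      _ = a * (y * (u * a * u⁻¹)) := by group
      _ = a * ((u * a * u⁻¹) * y) := by rw [hyc]
      _ = a * (u * a * u⁻¹) * y := by group

/-- squares in `C_L(z)` lie in `{1, a}` -/
theorem LQ.sq_cases_of_pair (h : LQ Q z) (hF : Cfsg.fittingSubgroup G = ⊥)
    (hL : Cfsg.IsComponent L) (hu : u ∈ Q) (hne : L ≠ L.map (MulAut.conj u).toMonoidHom)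
    (ha : a ∈ L) (hz : z = a * (u * a * u⁻¹)) {y : G} (hy : y ∈ L) (hyz : y * z = z * y) :
    y * y = 1 ∨ y * y = a := by
  have hL' := Cfsg.Agent.Lib.Helper22.isComponent_map_equiv (MulAut.conj u) hL
  have hc := h.cmem hu hyz
  have hw : u * y⁻¹ * u⁻¹ ∈ L.map (MulAut.conj u).toMonoidHom := ⟨y⁻¹, inv_mem hy, rfl⟩
  have hg2 : u * a * u⁻¹ ∈ L.map (MulAut.conj u).toMonoidHom := ⟨a, ha, rfl⟩
  have hcomm : y * (u * y⁻¹ * u⁻¹) = (u * y⁻¹ * u⁻¹) * y := comm_of_components hL hL' hne hy hw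
  have hsq : (y * (u * y⁻¹ * u⁻¹)) * (y * (u * y⁻¹ * u⁻¹)) =
      (y * y) * ((u * y⁻¹ * u⁻¹) * (u * y⁻¹ * u⁻¹)) := by
    calc (y * (u * y⁻¹ * u⁻¹)) * (y * (u * y⁻¹ * u⁻¹))
        = y * ((u * y⁻¹ * u⁻¹) * y) * (u * y⁻¹ * u⁻¹) := by group
      _ = y * (y * (u * y⁻¹ * u⁻¹)) * (u * y⁻¹ * u⁻¹) := by rw [hcomm]
      _ = (y * y) * ((u * y⁻¹ * u⁻¹) * (u * y⁻¹ * u⁻¹)) := by group
  rcases h.sqr _ hc with e | e
  · left
    rw [hsq] at e
    apply comp_disjoint hF hL hL' hne (mul_mem hy hy)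
    rw [eq_inv_of_mul_eq_one_left e]
    exact inv_mem (mul_mem hw hw)
  · right
    rw [hsq, hz] at e
    have h1 : a⁻¹ * (y * y) = (u * a * u⁻¹) * ((u * y⁻¹ * u⁻¹) * (u * y⁻¹ * u⁻¹))⁻¹ := by
      calc a⁻¹ * (y * y)
          = a⁻¹ * ((y * y) * ((u * y⁻¹ * u⁻¹) * (u * y⁻¹ * u⁻¹))) *
            ((u * y⁻¹ * u⁻¹) * (u * y⁻¹ * u⁻¹))⁻¹ := by group
        _ = (u * a * u⁻¹) * ((u * y⁻¹ * u⁻¹) * (u * y⁻¹ * u⁻¹))⁻¹ := by rw [e]; group
    have h2 : a⁻¹ * (y * y) = 1 := by
      apply comp_disjoint hF hL hL' hne (mul_mem (inv_mem ha) (mul_mem hy hy))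
      rw [h1]
      exact mul_mem hg2 (inv_mem (mul_mem hw hw))
    calc y * y = a * (a⁻¹ * (y * y)) := by group
      _ = a := by rw [h2, mul_one]

end pair

end Cfsg.Agent.Lib.Helper90.LS
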