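import Mathlib
import Cfsg.Agent.Lib.Helper90.LargeStructG

set_option autoImplicit false
set_option linter.unusedSectionVars false

/-!
Large extraspecial subgroups: Sylow data of the case `E(G) = L × L^u` and `Q ≠ O_2(C(z))`.
-/

namespace Cfsg.Agent.Lib.Helper90.LS

open Subgroup Cfsg
open scoped commutatorElement

variable {G : Type*} [Group G] [Finite G] {Q : Subgroup G} {z : G} {L : Subgroup G} {u a : G}

theorem map_conj_inv_map_conj (L : Subgroup G) (u : G) :
    (L.map (MulAut.conj u).toMonoidHom).map (MulAut.conj u⁻¹).toMonoidHom = L := by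
  rw [Subgroup.map_map]
  have : (MulAut.conj u⁻¹).toMonoidHom.comp (MulAut.conj u).toMonoidHom = MonoidHom.id G := by
    ext x
    simp only [MonoidHom.coe_comp, MulEquiv.coe_toMonoidHom, Function.comp_apply,
      MulAut.conj_apply, MonoidHom.id_apply]
    group
  rw [this, Subgroup.map_id]

theorem LQ.sylow_data (h : LQ Q z) (hF : Cfsg.fittingSubgroup G = ⊥)
    (hL : Cfsg.IsComponent L) (hu : u ∈ Q) (hne : L ≠ L.map (MulAut.conj u).toMonoidHom)
    (ha : a ∈ L) (hz : z = a * (u * a * u⁻¹)) :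
    ∃ R : Sylow 2 ↥L, (R : Subgroup ↥L) = (centralizer ({a} : Set G)).subgroupOf L ∧
      (frattini ↥(R : Subgroup ↥L)).map ((L.subtype).comp (R : Subgroup ↥L).subtype) ≤
        zpowers a := by
  have : Fact (Nat.Prime 2) := ⟨Nat.prime_two⟩
  have hiff : ∀ y ∈ L, y * z = z * y ↔ y * a = a * y := by
    intro y hy
    rw [hz]
    exact comm_iff_of_pair hL hne ha hy
  have hEq : (centralizer ({a} : Set G)).subgroupOf L =
      (L ⊓ centralizer ({z} : Set G)).subgroupOf L := by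
    ext y
    rw [mem_subgroupOf, mem_subgroupOf, mem_inf, mem_centralizer_singleton_iff,
      mem_centralizer_singleton_iff]
    constructor
    · intro e
      exact ⟨y.2, (hiff _ y.2).mpr e⟩
    · intro e
      exact (hiff _ y.2).mp e.2
  have hKp : IsPGroup 2 ↥((centralizer ({a} : Set G)).subgroupOf L) := by
    intro g
    have hg : ((g : ↥L) : G) ∈ centralizer ({a} : Set G) := mem_subgroupOf.mp g.2
    have hgz : ((g : ↥L) : G) * z = z * ((g : ↥L) : G) :=
      (hiff _ (g : ↥L).2).mpr (mem_centralizer_singleton_iff.mp hg)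
    obtain ⟨k, hk⟩ := h.pow_two_of_mem hF hL hu hne (g : ↥L).2 hgz
    refine ⟨k, ?_⟩
    apply Subtype.ext
    apply Subtype.ext
    simpa using hk
  have hidx : ¬ 2 ∣ ((centralizer ({a} : Set G)).subgroupOf L).index := by
    rw [hEq]
    exact h.not_dvd_relIndex hL
  refine ⟨hKp.toSylow hidx, IsPGroup.toSylow_coe hKp hidx, ?_⟩
  rw [Subgroup.map_le_iff_le_comap]
  have hsq : ∀ x : ↥((hKp.toSylow hidx : Sylow 2 ↥L) : Subgroup ↥L),
      (((x : ↥L) : G)) * (((x : ↥L) : G)) ∈ zpowers a := by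
    intro x
    have hx : (x : ↥L) ∈ (centralizer ({a} : Set G)).subgroupOf L :=
      (IsPGroup.mem_toSylow hKp hidx).mp x.2
    have hxa := mem_centralizer_singleton_iff.mp (mem_subgroupOf.mp hx)
    have hxz := (hiff _ (x : ↥L).2).mpr hxa
    rcases h.sq_cases_of_pair hF hL hu hne ha hz (x : ↥L).2 hxz with e | e
    · rw [e]; exact one_mem _
    · rw [e]; exact mem_zpowers a
  apply Cfsg.Agent.Lib.Helper47.frattini_le_of_elementary_abelian_quotient 2
  · intro x y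
    rw [mem_comap]
    have e : ((L.subtype).comp ((hKp.toSylow hidx : Sylow 2 ↥L) : Subgroup ↥L).subtype) ⁅x, y⁆ =
        ((((x : ↥L) : G)) * (((x : ↥L) : G))) *
          (((((x⁻¹ * y : ↥((hKp.toSylow hidx : Sylow 2 ↥L) : Subgroup ↥L)) : ↥L) : G)) *
            ((((x⁻¹ * y : ↥((hKp.toSylow hidx : Sylow 2 ↥L) : Subgroup ↥L)) : ↥L) : G))) *
          (((((y⁻¹ : ↥((hKp.toSylow hidx : Sylow 2 ↥L) : Subgroup ↥L)) : ↥L) : G)) *
            ((((y⁻¹ : ↥((hKp.toSylow hidx : Sylow 2 ↥L) : Subgroup ↥L)) : ↥L) : G))) := by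
      simp only [commutatorElement_def, MonoidHom.coe_comp, Subgroup.coe_subtype,
        Function.comp_apply, Subgroup.coe_mul, Subgroup.coe_inv]
      group
    rw [e]
    exact mul_mem (mul_mem (hsq x) (hsq (x⁻¹ * y))) (hsq y⁻¹)
  · intro x
    rw [mem_comap]
    have e : ((L.subtype).comp ((hKp.toSylow hidx : Sylow 2 ↥L) : Subgroup ↥L).subtype) (x ^ 2) =
        (((x : ↥L) : G)) * (((x : ↥L) : G)) := by
      simp only [MonoidHom.coe_comp, Subgroup.coe_subtype, Function.comp_apply, pow_two,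
        Subgroup.coe_mul]
    rw [e]
    exact hsq x

/-- elements of the layer commuting with `z` are `2`-elements -/
theorem LQ.pow_two_of_mem_layer (h : LQ Q z) (hF : Cfsg.fittingSubgroup G = ⊥)
    (hL : Cfsg.IsComponent L) (hu : u ∈ Q) (hne : L ≠ L.map (MulAut.conj u).toMonoidHom)
    (hlayer : Cfsg.layer G = L ⊔ L.map (MulAut.conj u).toMonoidHom) {g : G}
    (hg : g ∈ Cfsg.layer G) (hgz : g * z = z * g) : ∃ k : ℕ, g ^ 2 ^ k = 1 := by
  have hL' := Cfsg.Agent.Lib.Helper22.isComponent_map_equiv (MulAut.conj u) hL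
  have hcomm : ∀ x ∈ L, ∀ w ∈ L.map (MulAut.conj u).toMonoidHom, x * w = w * x :=
    fun x hx w hw => comm_of_components hL hL' hne hx hw
  have hgl : g ∈ L ⊔ L.map (MulAut.conj u).toMonoidHom := hlayer ▸ hg
  obtain ⟨x, hx, w, hw, hgxw⟩ := Cfsg.Agent.Lib.Helper22.exists_mul_of_mem_sup_of_commute hcomm hgl
  have hzE := h.mem_layer hL
  have hzx : z * x * z⁻¹ ∈ L := conj_mem_component hL hzE hx
  have hzw : z * w * z⁻¹ ∈ L.map (MulAut.conj u).toMonoidHom := conj_mem_component hL' hzE hw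
  have hzg : z * g * z⁻¹ = g := by rw [← hgz]; group
  have h1 : (z * x * z⁻¹) * (z * w * z⁻¹) = x * w := by
    calc (z * x * z⁻¹) * (z * w * z⁻¹) = z * (x * w) * z⁻¹ := by group
      _ = x * w := by rw [← hgxw, hzg]
  have h2 : x⁻¹ * (z * x * z⁻¹) = w * (z * w * z⁻¹)⁻¹ := by
    calc x⁻¹ * (z * x * z⁻¹) = x⁻¹ * ((z * x * z⁻¹) * (z * w * z⁻¹)) * (z * w * z⁻¹)⁻¹ := by group
      _ = w * (z * w * z⁻¹)⁻¹ := by rw [h1]; group
  have h3 : x⁻¹ * (z * x * z⁻¹) = 1 := by
    apply comp_disjoint hF hL hL' hne (mul_mem (inv_mem hx) hzx)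
    rw [h2]
    exact mul_mem hw (inv_mem hzw)
  have hxz : x * z = z * x := by
    calc x * z = x * (x⁻¹ * (z * x * z⁻¹)) * z := by rw [h3, mul_one]
      _ = z * x := by group
  have hwz : w * z = z * w := by
    have e : w = x⁻¹ * g := by rw [hgxw]; group
    rw [e]
    calc x⁻¹ * g * z = x⁻¹ * (g * z) := by group
      _ = x⁻¹ * (z * g) := by rw [hgz]
      _ = x⁻¹ * (x * z) * x⁻¹ * g := by rw [hxz]; group
      _ = z * (x⁻¹ * g) := by group
  obtain ⟨k, hk⟩ := h.pow_two_of_mem hF hL hu hne hx hxz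
  have hne' : L.map (MulAut.conj u).toMonoidHom ≠
      (L.map (MulAut.conj u).toMonoidHom).map (MulAut.conj u⁻¹).toMonoidHom := by
    rw [map_conj_inv_map_conj]
    exact hne.symm
  obtain ⟨m, hm⟩ := h.pow_two_of_mem hF hL' (inv_mem hu) hne' hw hwz
  refine ⟨k + m, ?_⟩
  have hc : Commute x w := hcomm x hx w hw
  rw [hgxw, hc.mul_pow, pow_add, pow_mul, hk, one_pow, one_mul, mul_comm, pow_mul, hm, one_pow]

theorem LQ.Q_ne (h : LQ Q z) (hF : Cfsg.fittingSubgroup G = ⊥)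
    (hL : Cfsg.IsComponent L) (hu : u ∈ Q) (hne : L ≠ L.map (MulAut.conj u).toMonoidHom)
    (ha : a ∈ L) (haa : a * a = 1) (hz : z = a * (u * a * u⁻¹))
    (hlayer : Cfsg.layer G = L ⊔ L.map (MulAut.conj u).toMonoidHom) {y : G} (hyL : y ∈ L)
    (hyz : y * z = z * y) (hy1 : y ≠ 1) (hya : y ≠ a) :
    Q ≠ (Cfsg.pCore 2 ↥(centralizer ({z} : Set G))).map (centralizer ({z} : Set G)).subtype := by
  have : Fact (Nat.Prime 2) := ⟨Nat.prime_two⟩
  have hL' := Cfsg.Agent.Lib.Helper22.isComponent_map_equiv (MulAut.conj u) hL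
  intro hQeq
  have hn : (Cfsg.layer G).Normal := Cfsg.Agent.Lib.Helper22.layer_normal G
  have hNn : ((Cfsg.layer G).subgroupOf (centralizer ({z} : Set G))).Normal := hn.subgroupOf _
  have hNp : IsPGroup 2 ↥((Cfsg.layer G).subgroupOf (centralizer ({z} : Set G))) := by
    intro g
    have hg : ((g : ↥(centralizer ({z} : Set G))) : G) ∈ Cfsg.layer G := mem_subgroupOf.mp g.2
    have hgz := mem_centralizer_singleton_iff.mp (g : ↥(centralizer ({z} : Set G))).2
    obtain ⟨k, hk⟩ := h.pow_two_of_mem_layer hF hL hu hne hlayer hg hgz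
    refine ⟨k, ?_⟩
    apply Subtype.ext
    apply Subtype.ext
    simpa using hk
  have hle := Cfsg.Agent.Lib.Helper87.le_pCore hNn hNp
  have hyQ : y ∈ Q := by
    rw [hQeq]
    refine ⟨⟨y, mem_centralizer_singleton_iff.mpr hyz⟩, hle ?_, rfl⟩
    rw [mem_subgroupOf]
    exact Cfsg.Agent.Lib.Helper22.component_le_layer hL hyL
  have hw : u * y * u⁻¹ ∈ L.map (MulAut.conj u).toMonoidHom := ⟨y, hyL, rfl⟩
  have hg2 : u * a * u⁻¹ ∈ L.map (MulAut.conj u).toMonoidHom := ⟨a, ha, rfl⟩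
  rcases h.comm u hu y hyQ with e | e
  · apply hy1
    have e' : u * y * u⁻¹ = y := by
      calc u * y * u⁻¹ = (u * y * u⁻¹ * y⁻¹) * y := by group
        _ = y := by rw [e, one_mul]
    apply comp_disjoint hF hL hL' hne hyL
    rw [← e']; exact hw
  · apply hya
    have hc : (u * y * u⁻¹) * y⁻¹ = y⁻¹ * (u * y * u⁻¹) :=
      (comm_of_components hL hL' hne (inv_mem hyL) hw).symm
    rw [hc, hz] at e
    have h1 : a⁻¹ * y⁻¹ = (u * a * u⁻¹) * (u * y * u⁻¹)⁻¹ := by
      calc a⁻¹ * y⁻¹ = a⁻¹ * (y⁻¹ * (u * y * u⁻¹)) * (u * y * u⁻¹)⁻¹ := by group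
        _ = (u * a * u⁻¹) * (u * y * u⁻¹)⁻¹ := by rw [e]; group
    have h2 : a⁻¹ * y⁻¹ = 1 := by
      apply comp_disjoint hF hL hL' hne (mul_mem (inv_mem ha) (inv_mem hyL))
      rw [h1]
      exact mul_mem hg2 (inv_mem hw)
    have hai : a⁻¹ = a := inv_eq_of_mul_eq_one_right haa
    calc y = (a⁻¹ * y⁻¹)⁻¹ * a⁻¹ := by group
      _ = a := by rw [h2, inv_one, one_mul, hai]

end Cfsg.Agent.Lib.Helper90.LS
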