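import Mathlib
import Cfsg.Agent.Lib.Helper71.LbA1Defs

/-! # Lb hive (S1301), leaf LB-A1 (helper71), sub-leaf A1-SET `lba1_setup` (helper90) -/

set_option autoImplicit false

namespace Cfsg.Agent.Lib.Helper22.Lb

open Subgroup
open scoped Pointwise

section lba1

variable {H : Type*} [Group H] [Finite H]

/-- SUB-LEAF A1-SET: the concrete hypotheses of LB-A1 give the abstract bundle, with `P = R ⊔ zpowers u`. -/
theorem lba1_setup (K : Subgroup H) [K.Normal] (u : H) (hu : orderOf u = 2)
    (hKu : K ⊔ zpowers u = ⊤) (R : Subgroup H) (hRK : R ≤ K)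
    (hRsyl : ∃ S : Sylow 2 ↥K, (S : Subgroup ↥K).map K.subtype = R)
    (huR : u ∈ centralizer (R : Set H)) : lba1_Hyp K (R ⊔ zpowers u) R u := by
  have : Fact (Nat.Prime 2) := ⟨Nat.prime_two⟩
  obtain ⟨S, hS⟩ := hRsyl
  -- `R` is a 2-group
  have hR2 : IsPGroup 2 R := by
    rw [← hS]
    exact S.2.map _
  -- `zpowers u` is a 2-group
  have hu2 : IsPGroup 2 (zpowers u) := by
    apply IsPGroup.of_card (n := 1)
    rw [Nat.card_zpowers, hu, pow_one]
  -- `R` is a maximal 2-subgroup of `K`
  have hRmax : ∀ Q : Subgroup H, IsPGroup 2 Q → Q ≤ K → R ≤ Q → Q ≤ R := by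
    intro Q hQ hQK hRQ
    have hQ' : IsPGroup 2 (Q.subgroupOf K) := hQ.comap_subtype
    have hle : (S : Subgroup ↥K) ≤ Q.subgroupOf K := by
      intro x hx
      rw [Subgroup.mem_subgroupOf]
      apply hRQ
      rw [← hS]
      exact ⟨x, hx, rfl⟩
    have heq := S.is_maximal' hQ' hle
    intro x hx
    rw [← hS]
    refine ⟨⟨x, hQK hx⟩, ?_, rfl⟩
    rw [← heq]
    show (⟨x, hQK hx⟩ : ↥K) ∈ Q.subgroupOf K
    rw [Subgroup.mem_subgroupOf]
    exact hx
  -- `u` commutes with `R ⊔ zpowers u`
  have hcen : ∀ x ∈ R ⊔ zpowers u, x * u = u * x := by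
    have hle : R ⊔ zpowers u ≤ centralizer ({u} : Set H) := by
      apply sup_le
      · intro r hr
        rw [Subgroup.mem_centralizer_iff]
        intro h hh
        rw [Set.mem_singleton_iff] at hh
        subst hh
        exact ((Subgroup.mem_centralizer_iff.1 huR) r hr).symm
      · rw [Subgroup.zpowers_le]
        rw [Subgroup.mem_centralizer_iff]
        intro h hh
        rw [Set.mem_singleton_iff] at hh
        subst hh
        rfl
    intro x hx
    have := (Subgroup.mem_centralizer_iff.1 (hle hx)) u (Set.mem_singleton u)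
    exact this.symm
  -- `R ⊔ zpowers u` is a 2-group
  have hP2 : IsPGroup 2 (R ⊔ zpowers u : Subgroup H) := by
    apply IsPGroup.to_sup_of_normal_left' hR2 hu2
    rw [Subgroup.zpowers_le, Subgroup.mem_normalizer_iff]
    intro r
    have hc := Subgroup.mem_centralizer_iff.1 huR
    constructor
    · intro hr
      have : u * r * u⁻¹ = r := by
        rw [← hc r hr, mul_inv_cancel_right]
      rw [this]; exact hr
    · intro hr
      have h1 := hc _ hr
      -- `u * r * u⁻¹ ∈ R` commutes with `u`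
      have : r = u * r * u⁻¹ := by
        have h2 : u * r * u⁻¹ * u = u * (u * r * u⁻¹) := h1
        rw [inv_mul_cancel_right] at h2
        have h3 : r = u * r * u⁻¹ := by
          have := mul_left_cancel h2
          exact this
        exact h3
      rw [this]; exact hr
  -- decomposition
  have hdec : ∀ g : H, ∃ k ∈ K, ∃ j : ℕ, g = u ^ j * k := by
    intro g
    have hg : g ∈ ((zpowers u ⊔ K : Subgroup H) : Set H) := by
      rw [sup_comm, hKu]; exact Subgroup.mem_top g
    rw [Subgroup.mul_normal] at hg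
    obtain ⟨z, hz, k, hk, rfl⟩ := Set.mem_mul.1 hg
    have hfin : IsOfFinOrder u := isOfFinOrder_of_finite u
    have hz' : z ∈ Submonoid.powers u := (hfin.mem_powers_iff_mem_zpowers).2 hz
    obtain ⟨j, rfl⟩ := (Submonoid.mem_powers_iff z u).1 hz'
    exact ⟨k, hk, j, rfl⟩
  have huP : u ∈ R ⊔ zpowers u := Subgroup.mem_sup_right (Subgroup.mem_zpowers u)
  refine ⟨huP, hP2, ?_, ?_, hcen, hdec, hRmax⟩
  · -- maximality of `P`
    intro Q hQ hPQ x hx
    obtain ⟨k, hk, j, rfl⟩ := hdec x
    have huQ : u ∈ Q := hPQ huP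
    have hkQ : k ∈ Q := by
      have : k = (u ^ j)⁻¹ * (u ^ j * k) := by group
      rw [this]
      exact Q.mul_mem (Q.inv_mem (Q.pow_mem huQ j)) hx
    have hkR : k ∈ R := by
      apply hRmax (Q ⊓ K) (hQ.to_le inf_le_left) inf_le_right
      · exact le_inf (le_sup_left.trans hPQ) hRK
      · exact ⟨hkQ, hk⟩
    exact Subgroup.mul_mem _ (Subgroup.pow_mem _ huP j) (Subgroup.mem_sup_left hkR)
  · -- `P ⊓ K = R`
    apply le_antisymm
    · exact hRmax _ (hP2.to_le inf_le_left) inf_le_right (le_inf le_sup_left hRK)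
    · exact le_inf le_sup_left hRK

end lba1

end Cfsg.Agent.Lib.Helper22.Lb
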