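import Mathlib
import Cfsg.Statements.S1305
import Cfsg.Agent.Lib.Helper22.FStar
import Cfsg.Agent.Lib.Helper91.Components

/-! # Mc hive (S1305, helper22): auxiliary lemmas for leaf MC7 (second hand, helper90). -/

set_option autoImplicit false
open Cfsg Subgroup

namespace Cfsg.Agent.Lib.Helper22.Mc

universe u

/-- (ii) two elementwise commuting subgroups with trivial intersection: the product of the orders is at
most the order of the join. -/
theorem mc7x_card {G : Type u} [Group G] [Finite G] (P Q : Subgroup G)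
    (hdisj : P ⊓ Q = ⊥) : Nat.card P * Nat.card Q ≤ Nat.card ↥(P ⊔ Q) := by
  classical
  rw [← Nat.card_prod]
  apply Nat.card_le_card_of_injective
    (fun pq : ↥P × ↥Q => (⟨(pq.1 : G) * (pq.2 : G),
      Subgroup.mul_mem _ (le_sup_left (a := P) (b := Q) pq.1.2) (le_sup_right (a := P) (b := Q) pq.2.2)⟩ : ↥(P ⊔ Q)))
  rintro ⟨p, q⟩ ⟨p', q'⟩ h
  have h' : (p : G) * q = p' * q' := congrArg Subtype.val h
  have h1 : (p' : G)⁻¹ * p = q' * (q : G)⁻¹ := by
    have : (p : G) = p' * q' * (q : G)⁻¹ := by rw [← h']; group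
    rw [this]; group
  have hmem : (p' : G)⁻¹ * p ∈ P ⊓ Q := by
    refine ⟨P.mul_mem (P.inv_mem p'.2) p.2, ?_⟩
    rw [h1]; exact Q.mul_mem q'.2 (Q.inv_mem q.2)
  rw [hdisj, Subgroup.mem_bot] at hmem
  have hp : (p : G) = p' := by
    have := congrArg (fun z => (p' : G) * z) hmem
    simpa using this
  have hq : (q : G) = q' := by
    rw [hp] at h'
    exact mul_left_cancel h'
  exact Prod.ext (Subtype.ext hp) (Subtype.ext hq)

/-- (ii') the join of two elementwise commuting elementary abelian subgroups is elementary abelian. -/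
theorem mc7x_sup_elab {G : Type u} [Group G] (p : ℕ) (P Q : Subgroup G)
    (hP : IsElementaryAbelian p P) (hQ : IsElementaryAbelian p Q)
    (hc : ∀ x ∈ P, ∀ y ∈ Q, x * y = y * x) : IsElementaryAbelian p (P ⊔ Q) := by
  have hPc : ∀ x ∈ P, ∀ y ∈ P, x * y = y * x := fun x hx y hy =>
    congrArg Subtype.val (hP.1.is_comm.comm ⟨x, hx⟩ ⟨y, hy⟩)
  have hQc : ∀ x ∈ Q, ∀ y ∈ Q, x * y = y * x := fun x hx y hy =>
    congrArg Subtype.val (hQ.1.is_comm.comm ⟨x, hx⟩ ⟨y, hy⟩)
  have hdecomp : ∀ z ∈ P ⊔ Q, ∃ x ∈ P, ∃ y ∈ Q, z = x * y := fun z hz =>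
    Cfsg.Agent.Lib.Helper91.exists_mul_of_mem_sup_of_commute hc hz
  refine ⟨⟨⟨?_⟩⟩, ?_⟩
  · rintro ⟨z, hz⟩ ⟨w, hw⟩
    obtain ⟨x, hx, y, hy, rfl⟩ := hdecomp z hz
    obtain ⟨x', hx', y', hy', rfl⟩ := hdecomp w hw
    apply Subtype.ext
    show x * y * (x' * y') = x' * y' * (x * y)
    calc x * y * (x' * y') = x * (y * x') * y' := by group
      _ = x * (x' * y) * y' := by rw [hc x' hx' y hy]
      _ = (x * x') * (y * y') := by group
      _ = (x' * x) * (y' * y) := by rw [hPc x hx x' hx', hQc y hy y' hy']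
      _ = x' * (x * y') * y := by group
      _ = x' * (y' * x) * y := by rw [hc x hx y' hy']
      _ = x' * y' * (x * y) := by group
  · intro z hz
    obtain ⟨x, hx, y, hy, rfl⟩ := hdecomp z hz
    have hcomm : Commute x y := hc x hx y hy
    rw [hcomm.mul_pow, hP.2 x hx, hQ.2 y hy, one_mul]

/-- a subgroup `B` of order `2 ^ k`, maximal among the elementary abelian 2-subgroups of `H`, bounds the
2-rank of `H`. -/
theorem mc7x_prank_of_max {G : Type u} [Group G] (H B : Subgroup G) (k : ℕ)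
    (hk : Nat.card ↥B = 2 ^ k)
    (hBmax : ∀ B' : Subgroup G, B' ≤ H → IsElementaryAbelian 2 B' → Nat.card ↥B' ≤ Nat.card ↥B) :
    PRankLE 2 k ↥H := by
  intro A hAc hAe
  have hle : A.map H.subtype ≤ H := Subgroup.map_subtype_le A
  have hel : IsElementaryAbelian 2 (A.map H.subtype) := by
    refine ⟨⟨⟨?_⟩⟩, ?_⟩
    · rintro ⟨x, hx⟩ ⟨y, hy⟩
      obtain ⟨x', hx', rfl⟩ := Subgroup.mem_map.mp hx
      obtain ⟨y', hy', rfl⟩ := Subgroup.mem_map.mp hy
      apply Subtype.ext
      have := hAc.is_comm.comm ⟨x', hx'⟩ ⟨y', hy'⟩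
      have h2 : x' * y' = y' * x' := congrArg Subtype.val this
      show H.subtype x' * H.subtype y' = H.subtype y' * H.subtype x'
      rw [← map_mul, ← map_mul, h2]
    · intro x hx
      obtain ⟨x', hx', rfl⟩ := Subgroup.mem_map.mp hx
      rw [← map_pow, hAe x' hx', map_one]
  have hcard : Nat.card ↥(A.map H.subtype) = Nat.card ↥A :=
    Nat.card_congr (A.equivMapOfInjective H.subtype (Subgroup.subtype_injective H)).symm.toEquiv
  rw [← hcard, ← hk]
  exact hBmax _ hle hel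

/-- an elementary abelian 2-subgroup of `H` has order at most `2 ^ k` when `PRankLE 2 k H`. -/
theorem mc7x_card_le_of_prank {G : Type u} [Group G] (H E : Subgroup G) (hE : E ≤ H)
    (hEel : IsElementaryAbelian 2 E) (k : ℕ) (h : PRankLE 2 k ↥H) : Nat.card ↥E ≤ 2 ^ k := by
  have hE' : Nat.card ↥(E.subgroupOf H) ≤ 2 ^ k := by
    apply h (E.subgroupOf H)
    · refine ⟨⟨?_⟩⟩
      rintro ⟨x, hx⟩ ⟨y, hy⟩
      have := hEel.1.is_comm.comm ⟨(x : G), Subgroup.mem_subgroupOf.mp hx⟩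
        ⟨(y : G), Subgroup.mem_subgroupOf.mp hy⟩
      have h2 : (x : G) * (y : G) = (y : G) * (x : G) := congrArg Subtype.val this
      apply Subtype.ext
      apply Subtype.ext
      exact h2
    · intro x hx
      apply Subtype.ext
      have := hEel.2 (x : G) (Subgroup.mem_subgroupOf.mp hx)
      simpa using this
  have hcard2 : Nat.card ↥(E.subgroupOf H) = Nat.card ↥E :=
    Nat.card_congr (Subgroup.subgroupOfEquivOfLe hE).toEquiv
  rw [← hcard2]
  exact hE'

/-- (iii) the rank transfer count: an elementary abelian 2-subgroup `E` of `C b ⊓ C J` is no larger than a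
maximal elementary abelian 2-subgroup `B` of `C a ⊓ C K`. -/
theorem mc7x_rank {G : Type u} [Group G] [Finite G] (a b : G) (K J : Subgroup G)
    (B : Subgroup G)
    (hBel : IsElementaryAbelian 2 B)
    (hBmax : ∀ B' : Subgroup G, B' ≤ centralizer ({a} : Set G) ⊓ centralizer (K : Set G) →
      IsElementaryAbelian 2 B' → Nat.card ↥B' ≤ Nat.card ↥B)
    (htransfer : ∀ k : ℕ,
      PRankLE 2 k ↥(centralizer ({a} : Set G) ⊓ centralizer (K : Set G)) →
      PRankLE 2 k ↥(centralizer ({b} : Set G) ⊓ centralizer (J : Set G)))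
    (E : Subgroup G) (hE : E ≤ centralizer ({b} : Set G) ⊓ centralizer (J : Set G))
    (hEel : IsElementaryAbelian 2 E) : Nat.card ↥E ≤ Nat.card ↥B := by
  classical
  have hB2 : IsPGroup 2 ↥B := by
    intro x
    refine ⟨1, ?_⟩
    have := hBel.2 x.1 x.2
    apply Subtype.ext
    simpa using this
  haveI : Fact (Nat.Prime 2) := ⟨Nat.prime_two⟩
  obtain ⟨k, hk⟩ := hB2.exists_card_eq
  rw [hk]
  exact mc7x_card_le_of_prank _ E hE hEel k
    (htransfer k (mc7x_prank_of_max _ B k hk hBmax))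

/-- the image of an elementary abelian subgroup under a homomorphism is elementary abelian. -/
theorem mc7x_elab_map {G H : Type u} [Group G] [Group H] (p : ℕ) (f : G →* H) (A : Subgroup G)
    (hA : IsElementaryAbelian p A) : IsElementaryAbelian p (A.map f) := by
  refine ⟨⟨⟨?_⟩⟩, ?_⟩
  · rintro ⟨x, hx⟩ ⟨y, hy⟩
    obtain ⟨x', hx', rfl⟩ := Subgroup.mem_map.mp hx
    obtain ⟨y', hy', rfl⟩ := Subgroup.mem_map.mp hy
    apply Subtype.ext
    have := hA.1.is_comm.comm ⟨x', hx'⟩ ⟨y', hy'⟩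
    have h2 : x' * y' = y' * x' := congrArg Subtype.val this
    show f x' * f y' = f y' * f x'
    rw [← map_mul, ← map_mul, h2]
  · intro x hx
    obtain ⟨x', hx', rfl⟩ := Subgroup.mem_map.mp hx
    rw [← map_pow, hA.2 x' hx', map_one]

/-- the preimage of an elementary abelian subgroup under an injective homomorphism is elementary
abelian. -/
theorem mc7x_elab_comap {G H : Type u} [Group G] [Group H] (p : ℕ) (f : G →* H)
    (hf : Function.Injective f) (A : Subgroup H)
    (hA : IsElementaryAbelian p A) : IsElementaryAbelian p (A.comap f) := by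
  refine ⟨⟨⟨?_⟩⟩, ?_⟩
  · rintro ⟨x, hx⟩ ⟨y, hy⟩
    apply Subtype.ext
    apply hf
    have := hA.1.is_comm.comm ⟨f x, hx⟩ ⟨f y, hy⟩
    have h2 : f x * f y = f y * f x := congrArg Subtype.val this
    show f (x * y) = f (y * x)
    rw [map_mul, map_mul, h2]
  · intro x hx
    apply hf
    rw [map_pow, map_one]
    exact hA.2 (f x) hx

/-- (i) transfer of an elementary abelian subgroup `A` of the diagonal `K = {x x^a}` to `J^a`. -/
theorem mc7x_Aprime {G : Type u} [Group G] [Finite G] (a : G) (K J : Subgroup G)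
    (hcomm : ∀ x ∈ J, ∀ y ∈ J.map (MulAut.conj a).toMonoidHom, x * y = y * x)
    (hdiag : ∀ k, k ∈ K ↔ ∃ x ∈ J, k = x * (a * x * a⁻¹))
    (hinj : ∀ x ∈ J, ∀ y ∈ J, x * (a * x * a⁻¹) = y * (a * y * a⁻¹) → x = y)
    (A : Subgroup G) (hAK : A ≤ K) (hA : IsElementaryAbelian 2 A) :
    ∃ A' : Subgroup G, A' ≤ J.map (MulAut.conj a).toMonoidHom ∧ IsElementaryAbelian 2 A' ∧
      Nat.card ↥A' = Nat.card ↥A := by
  classical
  have hmemJa : ∀ x ∈ J, a * x * a⁻¹ ∈ J.map (MulAut.conj a).toMonoidHom := fun x hx =>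
    Subgroup.mem_map.mpr ⟨x, hx, by simp [MulAut.conj_apply]⟩
  -- the diagonal homomorphism
  let φ : ↥J →* G := MonoidHom.mk' (fun x : ↥J => (x : G) * (a * (x : G) * a⁻¹)) (by
    intro x y
    have h := hcomm (y : G) y.2 (a * (x : G) * a⁻¹) (hmemJa _ x.2)
    show ((x * y : ↥J) : G) * (a * ((x * y : ↥J) : G) * a⁻¹) =
      (x : G) * (a * (x : G) * a⁻¹) * ((y : G) * (a * (y : G) * a⁻¹))
    rw [Subgroup.coe_mul]
    calc (x : G) * (y : G) * (a * ((x : G) * (y : G)) * a⁻¹)
        = (x : G) * ((y : G) * (a * (x : G) * a⁻¹)) * (a * (y : G) * a⁻¹) := by group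
      _ = (x : G) * ((a * (x : G) * a⁻¹) * (y : G)) * (a * (y : G) * a⁻¹) := by rw [h]
      _ = (x : G) * (a * (x : G) * a⁻¹) * ((y : G) * (a * (y : G) * a⁻¹)) := by group)
  have hφ : ∀ x : ↥J, φ x = (x : G) * (a * (x : G) * a⁻¹) := fun x => rfl
  have hφinj : Function.Injective φ := by
    intro x y hxy
    rw [hφ, hφ] at hxy
    exact Subtype.ext (hinj _ x.2 _ y.2 hxy)
  have hArange : A ≤ φ.range := by
    intro k hk
    obtain ⟨x, hx, rfl⟩ := (hdiag k).mp (hAK hk)
    exact ⟨⟨x, hx⟩, rfl⟩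
  let ψ : ↥J →* G := ((MulAut.conj a).toMonoidHom).comp J.subtype
  have hψinj : Function.Injective ψ := by
    intro x y hxy
    apply Subtype.ext
    have : a * (x : G) * a⁻¹ = a * (y : G) * a⁻¹ := by simpa [ψ, MulAut.conj_apply] using hxy
    exact mul_left_cancel (mul_right_cancel this)
  refine ⟨(A.comap φ).map ψ, ?_, mc7x_elab_map 2 ψ _ (mc7x_elab_comap 2 φ hφinj A hA), ?_⟩
  · rintro z hz
    obtain ⟨x, _, rfl⟩ := Subgroup.mem_map.mp hz
    exact Subgroup.mem_map.mpr ⟨(x : G), x.2, rfl⟩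
  · have h1 : Nat.card ↥((A.comap φ).map ψ) = Nat.card ↥(A.comap φ) :=
      Nat.card_congr ((A.comap φ).equivMapOfInjective ψ hψinj).symm.toEquiv
    have h2 : Nat.card ↥((A.comap φ).map φ) = Nat.card ↥(A.comap φ) :=
      Nat.card_congr ((A.comap φ).equivMapOfInjective φ hφinj).symm.toEquiv
    have h3 : (A.comap φ).map φ = A := by
      rw [Subgroup.map_comap_eq]
      exact inf_eq_right.mpr hArange
    rw [h1, ← h2, h3]

end Cfsg.Agent.Lib.Helper22.Mc
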