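import Mathlib
import Cfsg.Statements.S1305
import Cfsg.Agent.S1301
import Cfsg.Agent.Lib.Helper22.FStar
import Cfsg.Agent.Lib.Helper91.Components

/-! # Mc hive (S1305, helper22): leaf MCS, core.
`mcs_core` is the skeleton statement `mcs` with the five leaves it uses (MC2, MC9, MC4a, MC4b, MC5)
taken as hypotheses, stated verbatim as in `tools/helper22/McSkel.lean.txt`. -/

set_option autoImplicit false
open Cfsg Subgroup

namespace Cfsg.Agent.Lib.Helper22.Mc

universe u

/-- conjugation by an element of a subgroup commutes with the inclusion. -/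
theorem mcs_map_conj_subtype {G : Type u} [Group G] (H : Subgroup G) (a' : ↥H) (J' : Subgroup ↥H) :
    (J'.map (MulAut.conj a').toMonoidHom).map H.subtype =
      (J'.map H.subtype).map (MulAut.conj (a' : G)).toMonoidHom := by
  rw [Subgroup.map_map, Subgroup.map_map]
  congr 1

/-- MCS with its leaf inputs as hypotheses. -/
theorem mcs_core
    (h2 : ∀ {G : Type u} [Group G] [Finite G] (_ : oddCore G = ⊥) (_ : HasBProperty G) (a b : G)
      (_ : orderOf a = 2) (_ : orderOf b = 2) (_ : a * b = b * a) (K : Subgroup G)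
      (_ : K ≤ centralizer ({a} : Set G)) (_ : K ≤ centralizer ({b} : Set G))
      (_ : IsComponent (K.subgroupOf (centralizer ({a} : Set G)))) (_ : Even (Nat.card K)),
      K.subgroupOf (centralizer ({b} : Set G)) ≤ layer ↥(centralizer ({b} : Set G)))
    (h9 : ∀ {G : Type u} [Group G] (a b : G) (hamem : a ∈ centralizer ({b} : Set G)) (K : Subgroup G)
      (_ : K ≤ centralizer ({a} : Set G)) (_ : K ≤ centralizer ({b} : Set G))
      (_ : IsComponent (K.subgroupOf (centralizer ({a} : Set G)))),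
      IsComponent ((K.subgroupOf (centralizer ({b} : Set G))).subgroupOf
        (centralizer ({(⟨a, hamem⟩ : ↥(centralizer ({b} : Set G)))} :
          Set ↥(centralizer ({b} : Set G))))))
    (h4a : ∀ {X : Type u} [Group X] [Finite X] (K : Subgroup X) (_ : K ≤ layer X)
      (_ : ∃ k₁ ∈ K, ∃ k₂ ∈ K, k₁ * k₂ ≠ k₂ * k₁),
      ∃ J : Subgroup X, IsComponent J ∧ ¬ (∀ k ∈ K, ∀ x ∈ J, k * x = x * k))
    (h4b : ∀ {X : Type u} [Group X] [Finite X] (a : X) (_ : a ^ 2 = 1) (K : Subgroup X)
      (_ : K ≤ centralizer ({a} : Set X)) (_ : K ≤ layer X)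
      (_ : IsComponent (K.subgroupOf (centralizer ({a} : Set X))))
      (J : Subgroup X) (_ : IsComponent J) (_ : ¬ (∀ k ∈ K, ∀ x ∈ J, k * x = x * k)),
      K ≤ J ⊔ J.map (MulAut.conj a).toMonoidHom)
    (h5 : ∀ {X : Type u} [Group X] [Finite X] (a : X) (_ : a ^ 2 = 1) (K J : Subgroup X)
      (_ : IsComponent J) (_ : J.map (MulAut.conj a).toMonoidHom ≠ J)
      (_ : K ≤ centralizer ({a} : Set X))
      (_ : IsComponent (K.subgroupOf (centralizer ({a} : Set X))))
      (_ : K ≤ J ⊔ J.map (MulAut.conj a).toMonoidHom),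
      ∀ k, k ∈ K ↔ ∃ x ∈ J, k = x * (a * x * a⁻¹))
    {G : Type u} [Group G] [Finite G] (hO : oddCore G = ⊥) (hB : HasBProperty G) (a b : G)
    (ha : orderOf a = 2) (hb : orderOf b = 2) (hab : a * b = b * a) (K : Subgroup G)
    (hKa : K ≤ centralizer ({a} : Set G)) (hKb : K ≤ centralizer ({b} : Set G))
    (hK : IsComponent (K.subgroupOf (centralizer ({a} : Set G)))) (heven : Even (Nat.card K)) :
    ∃ J : Subgroup G, J ≤ centralizer ({b} : Set G) ∧
      IsComponent (J.subgroupOf (centralizer ({b} : Set G))) ∧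
      ((J.map (MulAut.conj a).toMonoidHom = J ∧ K ≤ J) ∨
       (J.map (MulAut.conj a).toMonoidHom ≠ J ∧ ∀ k, k ∈ K ↔ ∃ x ∈ J, k = x * (a * x * a⁻¹))) := by
  classical
  have hamem : a ∈ centralizer ({b} : Set G) := by
    rw [Subgroup.mem_centralizer_iff]
    intro h hh
    rw [Set.mem_singleton_iff] at hh
    subst hh
    exact hab.symm
  set Cb : Subgroup G := centralizer ({b} : Set G) with hCb
  set a' : ↥Cb := ⟨a, hamem⟩ with ha'def
  set K' : Subgroup ↥Cb := K.subgroupOf Cb with hK'def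
  have ha2 : a ^ 2 = 1 := by rw [← ha]; exact pow_orderOf_eq_one a
  have ha'2 : a' ^ 2 = 1 := Subtype.ext (by simpa using ha2)
  have hKL : K' ≤ layer ↥Cb := h2 hO hB a b ha hb hab K hKa hKb hK heven
  have hK9 : IsComponent (K'.subgroupOf (centralizer ({a'} : Set ↥Cb))) :=
    h9 a b hamem K hKa hKb hK
  -- K' ≤ C(a')
  have hKa' : K' ≤ centralizer ({a'} : Set ↥Cb) := by
    intro k hk
    rw [Subgroup.mem_centralizer_iff]
    intro h hh
    rw [Set.mem_singleton_iff] at hh
    subst hh
    have hkK : (k : G) ∈ K := Subgroup.mem_subgroupOf.mp hk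
    have := hKa hkK
    rw [Subgroup.mem_centralizer_iff] at this
    exact Subtype.ext (this a (Set.mem_singleton a))
  -- K' is not abelian
  have hKna : ∃ k₁ ∈ K', ∃ k₂ ∈ K', k₁ * k₂ ≠ k₂ * k₁ := by
    by_contra hcon
    push_neg at hcon
    have hcommK : ∀ x ∈ K, ∀ y ∈ K, x * y = y * x := by
      intro x hx y hy
      have := hcon ⟨x, hKb hx⟩ (Subgroup.mem_subgroupOf.mpr hx) ⟨y, hKb hy⟩
        (Subgroup.mem_subgroupOf.mpr hy)
      exact congrArg Subtype.val this
    have hq : IsQuasisimple ↥(K.subgroupOf (centralizer ({a} : Set G))) := hK.2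
    apply Cfsg.Agent.Lib.Helper91.not_isSolvable_of_isQuasisimple hq
    haveI : IsMulCommutative ↥(K.subgroupOf (centralizer ({a} : Set G))) :=
      ⟨⟨fun u v => Subtype.ext (Subtype.ext (hcommK _ (Subgroup.mem_subgroupOf.mp u.2) _
        (Subgroup.mem_subgroupOf.mp v.2)))⟩⟩
    exact isSolvable_of_comm (fun u v => mul_comm' u v)
  obtain ⟨J', hJ', hKJ'⟩ := h4a K' hKL hKna
  have hKN : K' ≤ J' ⊔ J'.map (MulAut.conj a').toMonoidHom :=
    h4b a' ha'2 K' hKa' hKL hK9 J' hJ' hKJ'
  refine ⟨J'.map Cb.subtype, Subgroup.map_subtype_le J', ?_, ?_⟩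
  · have : (J'.map Cb.subtype).subgroupOf Cb = J' :=
      Subgroup.comap_map_eq_self_of_injective (Subgroup.subtype_injective Cb) J'
    rw [this]; exact hJ'
  · have hconj : (J'.map (MulAut.conj a').toMonoidHom).map Cb.subtype =
        (J'.map Cb.subtype).map (MulAut.conj a).toMonoidHom := mcs_map_conj_subtype Cb a' J'
    by_cases hinv : J'.map (MulAut.conj a').toMonoidHom = J'
    · left
      refine ⟨by rw [← hconj, hinv], ?_⟩
      intro k hk
      have hk' : (⟨k, hKb hk⟩ : ↥Cb) ∈ K' := Subgroup.mem_subgroupOf.mpr hk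
      have := hKN hk'
      rw [hinv, sup_idem] at this
      exact Subgroup.mem_map.mpr ⟨⟨k, hKb hk⟩, this, rfl⟩
    · right
      refine ⟨?_, ?_⟩
      · intro hcon
        apply hinv
        apply Subgroup.map_injective (Subgroup.subtype_injective Cb)
        rw [hconj, hcon]
      · have h5' := h5 a' ha'2 K' J' hJ' hinv hKa' hK9 hKN
        intro k
        constructor
        · intro hk
          have hk' : (⟨k, hKb hk⟩ : ↥Cb) ∈ K' := Subgroup.mem_subgroupOf.mpr hk
          obtain ⟨x', hx', hkx⟩ := (h5' _).mp hk'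
          refine ⟨(x' : G), Subgroup.mem_map.mpr ⟨x', hx', rfl⟩, ?_⟩
          have := congrArg Subtype.val hkx
          simpa using this
        · rintro ⟨x, hx, rfl⟩
          obtain ⟨x', hx', rfl⟩ := Subgroup.mem_map.mp hx
          have hmem : x' * (a' * x' * a'⁻¹) ∈ K' := (h5' _).mpr ⟨x', hx', rfl⟩
          have := Subgroup.mem_subgroupOf.mp hmem
          simpa using this

end Cfsg.Agent.Lib.Helper22.Mc
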