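import Mathlib
import Cfsg.Statements.S1305
import Cfsg.Agent.S1301
import Cfsg.Agent.Lib.Helper22.FStar
import Cfsg.Agent.Lib.Helper91.Components
import Cfsg.Agent.Lib.Helper90.McSCore
import Cfsg.Agent.Lib.Helper70.Mc2
import Cfsg.Agent.Lib.Helper25.Mc9
import Cfsg.Agent.Lib.Helper25.Mc4a
import Cfsg.Agent.Lib.Helper99.McMC4bFin
import Cfsg.Agent.Lib.Helper70.Mc5

/-! # Mc hive (S1305, helper22): leaf MCS = `mcs_core` applied to the landed leaves
MC2 (helper70), MC9 (helper25), MC4a (helper25), MC4b (helper99), MC5 (helper70). -/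

set_option autoImplicit false
open Cfsg Subgroup

namespace Cfsg.Agent.Lib.Helper22.Mc

universe u

/-- MCS. Structure statement at the level of `G`. -/
theorem mcs {G : Type u} [Group G] [Finite G] (hO : oddCore G = ⊥) (hB : HasBProperty G) (a b : G)
    (ha : orderOf a = 2) (hb : orderOf b = 2) (hab : a * b = b * a) (K : Subgroup G)
    (hKa : K ≤ centralizer ({a} : Set G)) (hKb : K ≤ centralizer ({b} : Set G))
    (hK : IsComponent (K.subgroupOf (centralizer ({a} : Set G)))) (heven : Even (Nat.card K)) :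
    ∃ J : Subgroup G, J ≤ centralizer ({b} : Set G) ∧
      IsComponent (J.subgroupOf (centralizer ({b} : Set G))) ∧
      ((J.map (MulAut.conj a).toMonoidHom = J ∧ K ≤ J) ∨
       (J.map (MulAut.conj a).toMonoidHom ≠ J ∧ ∀ k, k ∈ K ↔ ∃ x ∈ J, k = x * (a * x * a⁻¹))) :=
  mcs_core (@mc2) (@mc9) (@mc4a) (@Cfsg.Agent.Lib.Helper99.McMC4bFin.mc4b) (@mc5)
    hO hB a b ha hb hab K hKa hKb hK heven

end Cfsg.Agent.Lib.Helper22.Mc
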