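import Cfsg.Agent.Lib.Helper73.MiKSDefs

/-!
# KS-DIM (MI-KS sub-hive of helper73, Mi hive S2140 of helper81)

Two vectors do not span `F^n`, `n ≥ 3`.
-/

set_option autoImplicit false

namespace Cfsg.Agent.Lib.Helper81.Mi

open Matrix

variable {F : Type*} [Field F] {n : ℕ}

/-- KS-DIM -/
theorem ks_exists_outside (hn : 3 ≤ n) (v u : Fin n → F) :
    ∃ x : Fin n → F, ∀ a b : F, x ≠ a • v + b • u := by
  classical
  let W : Submodule F (Fin n → F) := Submodule.span F {v, u}
  have hW : Module.finrank F W ≤ 2 := by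
    have h1 := finrank_span_finset_le_card (R := F) ({v, u} : Finset (Fin n → F))
    have h2 : (({v, u} : Finset (Fin n → F)) : Set (Fin n → F)) = {v, u} := by
      rw [Finset.coe_insert, Finset.coe_singleton]
    rw [h2] at h1
    exact h1.trans Finset.card_le_two
  have hne : W ≠ ⊤ := by
    intro h
    have h1 : Module.finrank F W = n := by
      rw [h, finrank_top, Module.finrank_fin_fun]
    omega
  obtain ⟨x, hx⟩ : ∃ x, x ∉ W := by
    by_contra hcon
    push_neg at hcon
    exact hne (Submodule.eq_top_iff'.mpr hcon)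
  refine ⟨x, ?_⟩
  intro a b hab
  apply hx
  rw [Submodule.mem_span_pair]
  exact ⟨a, b, hab.symm⟩

end Cfsg.Agent.Lib.Helper81.Mi
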