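import Cfsg.Agent.Lib.Helper73.MiKSDefs

/-!
# KS-SEP3 (MI-KS sub-hive of helper73, Mi hive S2140 of helper81)

Separation of a vector from three vectors by a covector.
-/

set_option autoImplicit false

namespace Cfsg.Agent.Lib.Helper81.Mi

open Matrix

variable {F : Type*} [Field F] {n : ℕ}

/-- KS-SEP3 -/
theorem ks_sep3 (v u w x : Fin n → F) (hx : ∀ a b c : F, x ≠ a • v + b • u + c • w) :
    ∃ φ : Fin n → F, φ ⬝ᵥ v = 0 ∧ φ ⬝ᵥ u = 0 ∧ φ ⬝ᵥ w = 0 ∧ φ ⬝ᵥ x = 1 := by
  classical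
  let W : Submodule F (Fin n → F) := Submodule.span F {v, u, w}
  have hxW : x ∉ W := by
    intro h
    obtain ⟨a, b, c, habc⟩ := Submodule.mem_span_triple.mp h
    exact hx a b c habc.symm
  obtain ⟨f, hfx, hfW⟩ := Submodule.exists_dual_map_eq_bot_of_notMem hxW inferInstance
  have hf0 : ∀ y ∈ W, f y = 0 := by
    intro y hy
    have h1 : f y ∈ W.map f := Submodule.mem_map_of_mem hy
    rw [hfW] at h1
    exact (Submodule.mem_bot F).mp h1
  let φ0 : Fin n → F := fun i => f (fun j => if i = j then 1 else 0)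
  have hrep : ∀ y : Fin n → F, f y = φ0 ⬝ᵥ y := by
    intro y
    rw [LinearMap.pi_apply_eq_sum_univ f y]
    unfold dotProduct
    apply Finset.sum_congr rfl
    intro i _
    rw [smul_eq_mul, mul_comm]
  have hv : v ∈ W := Submodule.subset_span (by simp)
  have hu : u ∈ W := Submodule.subset_span (by simp)
  have hw : w ∈ W := Submodule.subset_span (by simp)
  refine ⟨(f x)⁻¹ • φ0, ?_, ?_, ?_, ?_⟩
  · rw [smul_dotProduct, ← hrep, hf0 v hv, smul_zero]
  · rw [smul_dotProduct, ← hrep, hf0 u hu, smul_zero]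
  · rw [smul_dotProduct, ← hrep, hf0 w hw, smul_zero]
  · rw [smul_dotProduct, ← hrep, smul_eq_mul, inv_mul_cancel₀ hfx]

end Cfsg.Agent.Lib.Helper81.Mi
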