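import Mathlib
import Cfsg.Agent.Lib.Helper6.Nc.Defs

/-! # Nc hive (S3894, owner helper6), leaf NC-G3B: the regular unipotent `u0g` fixes the row line `e_last`
and no other row line of its `GL`-orbit. -/

set_option autoImplicit false

namespace Cfsg.Agent.Lib.Helper6.Nc

open Matrix

variable {F : Type*} [Field F]

/-- the superdiagonal part of `u0M` -/
def ncg3b_N (n : ℕ) (F : Type*) [Field F] : Matrix (Fin n) (Fin n) F :=
  fun i j => if (j : ℕ) = (i : ℕ) + 1 then 1 else 0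

theorem ncg3b_u0M_eq (n : ℕ) : u0M n F = 1 + ncg3b_N n F := by
  ext i j
  simp only [u0M, ncg3b_N, Matrix.add_apply, Matrix.one_apply]
  by_cases hji : j = i
  · subst hji
    simp
  · have h1 : i ≠ j := fun h => hji h.symm
    simp [hji, h1]

/-- `(ψ N)_0 = 0` -/
theorem ncg3b_vecMul_N_zero (n : ℕ) (ψ : Fin (n + 1) → F) :
    (ψ ᵥ* ncg3b_N (n + 1) F) 0 = 0 := by
  simp only [Matrix.vecMul, dotProduct, ncg3b_N]
  refine Finset.sum_eq_zero fun i _ => ?_
  have : ((0 : Fin (n + 1)) : ℕ) ≠ (i : ℕ) + 1 := by simp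
  simp

/-- `(ψ N)_{i+1} = ψ_i` -/
theorem ncg3b_vecMul_N_succ (n : ℕ) (ψ : Fin n → F) (i : ℕ) (hi : i + 1 < n) :
    (ψ ᵥ* ncg3b_N n F) ⟨i + 1, hi⟩ = ψ ⟨i, Nat.lt_of_succ_lt hi⟩ := by
  simp only [Matrix.vecMul, dotProduct, ncg3b_N]
  rw [Finset.sum_eq_single (⟨i, Nat.lt_of_succ_lt hi⟩ : Fin n)]
  · simp
  · intro b _ hb
    have : ¬ (i + 1 = (b : ℕ) + 1) := by
      intro h
      apply hb
      apply Fin.ext
      simp only
      omega
    rw [if_neg this, mul_zero]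
  · intro h
    exact absurd (Finset.mem_univ _) h

/-- NC-G3B (a). -/
theorem u0g_mem_rowStab (k : ℕ) :
    u0g (k + 2) F ∈ rowStab (Pi.single (Fin.last (k + 1)) (1 : F)) := by
  rw [mem_rowStab]
  refine ⟨1, ?_⟩
  rw [Units.val_one, one_smul, coe_u0g, Matrix.single_one_vecMul]
  ext j
  simp only [Matrix.row, u0M, Pi.single_apply]
  by_cases hj : j = Fin.last (k + 1)
  · simp [hj]
  · have h2 : ¬ ((j : ℕ) = ((Fin.last (k + 1) : Fin (k + 2)) : ℕ) + 1) := by
      have := j.isLt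
      simp only [Fin.val_last]
      omega
    rw [if_neg hj, if_neg h2, if_neg hj]

/-- NC-G3B (b).  Row version: `ψ = e_last g⁻¹ ≠ 0` satisfies `ψ (1+N) = c ψ`, `(ψ N)_j = ψ_{j-1}`;
look at the FIRST nonzero coordinate. -/
theorem u0g_unique_row (k : ℕ) (g : GL (Fin (k + 2)) F)
    (h : g⁻¹ * u0g (k + 2) F * g ∈ rowStab (Pi.single (Fin.last (k + 1)) (1 : F))) :
    g ∈ rowStab (Pi.single (Fin.last (k + 1)) (1 : F)) := by
  obtain ⟨c, hc⟩ := mem_rowStab.mp h
  set e : Fin (k + 2) → F := Pi.single (Fin.last (k + 1)) (1 : F) with he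
  set ψ : Fin (k + 2) → F := e ᵥ* ((g⁻¹ : GL (Fin (k + 2)) F) : Matrix (Fin (k + 2)) (Fin (k + 2)) F)
    with hψ
  -- `ψ g = e`
  have hψg : ψ ᵥ* (g : Matrix (Fin (k + 2)) (Fin (k + 2)) F) = e := by
    rw [hψ, Matrix.vecMul_vecMul, ← Units.val_mul, inv_mul_cancel, Units.val_one, Matrix.vecMul_one]
  have hψ0 : ψ ≠ 0 := by
    intro h0
    rw [h0, Matrix.zero_vecMul] at hψg
    have := congrFun hψg (Fin.last (k + 1))
    simp [he] at this
  -- `ψ u = c ψ`
  have h1 : ψ ᵥ* u0M (k + 2) F = (c : F) • ψ := by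
    have h2 := congrArg
      (fun w => w ᵥ* ((g⁻¹ : GL (Fin (k + 2)) F) : Matrix (Fin (k + 2)) (Fin (k + 2)) F)) hc
    beta_reduce at h2
    rw [Matrix.vecMul_vecMul, ← Units.val_mul, Matrix.smul_vecMul] at h2
    have h3 : g⁻¹ * u0g (k + 2) F * g * g⁻¹ = g⁻¹ * u0g (k + 2) F := by group
    rw [h3, Units.val_mul, ← Matrix.vecMul_vecMul, coe_u0g] at h2
    exact h2
  -- `ψ N = (c - 1) ψ`
  have h2 : ψ ᵥ* ncg3b_N (k + 2) F = ((c : F) - 1) • ψ := by
    rw [ncg3b_u0M_eq, Matrix.vecMul_add, Matrix.vecMul_one] at h1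
    rw [sub_smul, one_smul, ← h1]
    abel
  have hA : ((c : F) - 1) * ψ 0 = 0 := by
    have := congrFun h2 0
    rw [ncg3b_vecMul_N_zero] at this
    simpa using this.symm
  have hB : ∀ (i : ℕ) (hi : i + 1 < k + 2),
      ((c : F) - 1) * ψ ⟨i + 1, hi⟩ = ψ ⟨i, Nat.lt_of_succ_lt hi⟩ := by
    intro i hi
    have := congrFun h2 ⟨i + 1, hi⟩
    rw [ncg3b_vecMul_N_succ] at this
    simpa using this.symm
  by_cases hc1 : (c : F) = 1
  · -- `ψ_i = 0` for `i < last`
    have hz : ∀ (i : ℕ) (hi : i + 1 < k + 2), ψ ⟨i, Nat.lt_of_succ_lt hi⟩ = 0 := by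
      intro i hi
      rw [← hB i hi, hc1, sub_self, zero_mul]
    have hψe : ψ = ψ (Fin.last (k + 1)) • e := by
      ext j
      by_cases hj : j = Fin.last (k + 1)
      · subst hj
        simp [he]
      · have hj2 : (j : ℕ) + 1 < k + 2 := by
          have h4 := j.isLt
          have h5 : (j : ℕ) ≠ k + 1 := fun h6 => hj (Fin.ext (by simpa using h6))
          omega
        have h6 := hz (j : ℕ) hj2
        have h7 : (⟨(j : ℕ), Nat.lt_of_succ_lt hj2⟩ : Fin (k + 2)) = j := Fin.ext rfl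
        rw [h7] at h6
        simp [he, hj, h6]
    have hd : ψ (Fin.last (k + 1)) ≠ 0 := by
      intro h0
      apply hψ0
      rw [hψe, h0, zero_smul]
    have hginv : g⁻¹ ∈ rowStab e := by
      rw [mem_rowStab]
      exact ⟨Units.mk0 _ hd, by rw [Units.val_mk0]; exact hψe⟩
    have := (rowStab e).inv_mem hginv
    rwa [inv_inv] at this
  · -- `ψ = 0`, impossible
    exfalso
    have hc2 : (c : F) - 1 ≠ 0 := sub_ne_zero.mpr hc1
    have hz : ∀ (i : ℕ) (hi : i < k + 2), ψ ⟨i, hi⟩ = 0 := by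
      intro i
      induction i with
      | zero =>
        intro hi
        have h4 : (⟨0, hi⟩ : Fin (k + 2)) = 0 := Fin.ext rfl
        rw [h4]
        exact (mul_eq_zero.mp hA).resolve_left hc2
      | succ i ih =>
        intro hi
        have h4 := hB i hi
        rw [ih (Nat.lt_of_succ_lt hi)] at h4
        exact (mul_eq_zero.mp h4).resolve_left hc2
    apply hψ0
    ext j
    have := hz (j : ℕ) j.isLt
    simpa using this

end Cfsg.Agent.Lib.Helper6.Nc
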