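import Mathlib
import Cfsg.Agent.Lib.Helper90.PsuDefs

set_option autoImplicit false

/-! # Psu hive (S2412): the three proved `WittCfg.vec` lemmas of the skeleton -/

namespace Cfsg.Agent.Lib.Helper90.Psu

open Matrix Cfsg.Agent.Lib.Helper99 Cfsg.Agent.Lib.Helper13

variable {F : Type*} [Field F] [Fintype F] {q n : ℕ}

theorem WittCfg.vec_single_left {m : ℕ} (C : WittCfg q n m F) (i : Fin m) (c : F) :
    C.vec (Pi.single i c) 0 = c • C.e i := by
  classical
  simp [WittCfg.vec, Pi.single_apply, ite_smul]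

theorem WittCfg.vec_single_right {m : ℕ} (C : WittCfg q n m F) (i : Fin m) (c : F) :
    C.vec 0 (Pi.single i c) = c • C.f i := by
  classical
  simp [WittCfg.vec, Pi.single_apply, ite_smul]

theorem WittCfg.vec_zero {m : ℕ} (C : WittCfg q n m F) : C.vec (0 : Fin m → F) 0 = 0 := by
  simp [WittCfg.vec]

end Cfsg.Agent.Lib.Helper90.Psu
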