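import Mathlib
import Cfsg.Agent.Lib.Helper90.PsuDefs
import Cfsg.Agent.Lib.Helper90.PsuVec
import Cfsg.Agent.Lib.Helper42.PsuTS
import Cfsg.Agent.Lib.Helper23.PsuWITT
import Cfsg.Agent.Lib.Helper27.PsuB

/-! Psu hive (S2412): case I assembly, part 1 (`caseI_V0`). -/

namespace Cfsg.Agent.Lib.Helper90.Psu

open Matrix Cfsg.Agent.Lib.Helper99 Cfsg.Agent.Lib.Helper13

variable {F : Type*} [Field F] [Fintype F] {q n : ℕ}

local notation "hh" => Cfsg.hermForm n F q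

theorem caseI_V0 (hF : Fintype.card F = q ^ 2) {m : ℕ} (hm : 2 ≤ m) (C : WittCfg q n m F)
    {H : Subgroup (GL (Fin n) F)} (x z : GL (Fin n) F) (hxH : x ∈ H) (hxU : x ∈ Cfsg.GU n F q)
    (hzH : z ∈ H) (hzU : z ∈ Cfsg.GU n F q)
    (hz1 : hh (C.e ⟨1, by omega⟩) ((z : Matrix (Fin n) (Fin n) F) *ᵥ C.e ⟨1, by omega⟩) ≠ 0)
    (hz1s : C.f ⟨1, by omega⟩ ∈ Submodule.span F
        ({C.e ⟨1, by omega⟩, (z : Matrix (Fin n) (Fin n) F) *ᵥ C.e ⟨1, by omega⟩} :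
          Set (Fin n → F)))
    (hxE : ∀ a a' : Fin m → F, a ≠ 0 → a' ≠ 0 → ∃ (j : ℕ) (c : F), c ≠ 0 ∧
        ((x ^ j : GL (Fin n) F) : Matrix (Fin n) (Fin n) F) *ᵥ C.vec a 0 = c • C.vec a' 0)
    (hxE' : ∀ b b' : Fin m → F, b ≠ 0 → b' ≠ 0 → ∃ (j : ℕ) (c : F), c ≠ 0 ∧
        ((x ^ j : GL (Fin n) F) : Matrix (Fin n) (Fin n) F) *ᵥ C.vec 0 b = c • C.vec 0 b')
    (he0 : C.e ⟨0, by omega⟩ ∈ Tset q H) :
    (∀ a : Fin m → F, C.vec a 0 ∈ Tset q H) ∧ (∀ b : Fin m → F, C.vec 0 b ∈ Tset q H) ∧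
      ∀ v : Fin n → F, SuppLt (2 * m) v → hh v v = 0 → v ∈ Tset q H := by
  classical
  have hpowU : ∀ j : ℕ, x ^ j ∈ Cfsg.GU n F q := fun j => Subgroup.pow_mem _ hxU j
  have hpowH : ∀ j : ℕ, x ^ j ∈ H := fun j => Subgroup.pow_mem _ hxH j
  have hs0 : ∀ (i : Fin m), (Pi.single i (1 : F) : Fin m → F) ≠ 0 := by
    intro i h
    have := congrFun h i
    simp at this
  -- E
  have hE : ∀ a : Fin m → F, C.vec a 0 ∈ Tset q H := by
    intro a
    by_cases ha : a = 0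
    · subst ha; rw [C.vec_zero]; exact zero_mem_Tset H
    · obtain ⟨j, c, hc, hj⟩ := hxE (Pi.single ⟨0, by omega⟩ 1) a (hs0 _) ha
      have h1 : c • C.vec a 0 ∈ Tset q H := by
        rw [← hj]
        refine act_mem_Tset hF (hpowH j) (hpowU j) ?_
        rw [C.vec_single_left, one_smul]; exact he0
      have h2 := smul_mem_Tset hF h1 c⁻¹
      rwa [smul_smul, inv_mul_cancel₀ hc, one_smul] at h2
  have he1 : C.e ⟨1, by omega⟩ ∈ Tset q H := by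
    have := hE (Pi.single ⟨1, by omega⟩ 1)
    rwa [C.vec_single_left, one_smul] at this
  have hze1 := act_mem_Tset hF hzH hzU he1
  have hf1 : C.f ⟨1, by omega⟩ ∈ Tset q H := lemmaA hF he1 hze1 hz1 hz1s (C.hff _ _)
  have hE' : ∀ b : Fin m → F, C.vec 0 b ∈ Tset q H := by
    intro b
    by_cases hb : b = 0
    · subst hb; rw [C.vec_zero]; exact zero_mem_Tset H
    · obtain ⟨j, c, hc, hj⟩ := hxE' (Pi.single ⟨1, by omega⟩ 1) b (hs0 _) hb
      have h1 : c • C.vec 0 b ∈ Tset q H := by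
        rw [← hj]
        refine act_mem_Tset hF (hpowH j) (hpowU j) ?_
        rw [C.vec_single_right, one_smul]; exact hf1
      have h2 := smul_mem_Tset hF h1 c⁻¹
      rwa [smul_smul, inv_mul_cancel₀ hc, one_smul] at h2
  refine ⟨hE, hE', ?_⟩
  intro v hv hvv
  obtain ⟨a, b, rfl⟩ := C.exists_vec hF v hv
  exact lemmaB hF C hE hE' a b hvv

end Cfsg.Agent.Lib.Helper90.Psu
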