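import Mathlib
import Cfsg.Agent.Lib.Helper90.PsuDefs
import Cfsg.Agent.Lib.Helper90.PsuVec
import Cfsg.Agent.Lib.Helper90.PsuV0
import Cfsg.Agent.Lib.Helper42.PsuTS
import Cfsg.Agent.Lib.Helper23.PsuWITT
import Cfsg.Agent.Lib.Helper27.PsuB
import Cfsg.Agent.Lib.Helper27.PsuSPLIT
import Cfsg.Agent.Lib.Helper13.PsuC
import Cfsg.Agent.Lib.Helper80.PsuX
import Cfsg.Agent.Lib.Helper95.PsuZ

/-! Psu hive (S2412): case I assembly, part 2 (`caseI`, `n ≥ 5`). -/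

namespace Cfsg.Agent.Lib.Helper90.Psu

open Matrix Cfsg.Agent.Lib.Helper99 Cfsg.Agent.Lib.Helper13

variable {F : Type*} [Field F] [Fintype F] {q n : ℕ}

local notation "hh" => Cfsg.hermForm n F q

theorem caseI (hF : Fintype.card F = q ^ 2) (hn : 5 ≤ n) :
    ∃ x y : GL (Fin n) F, x ∈ suGL (F := F) n q ∧ y ∈ suGL (F := F) n q ∧
      utvGroup n q F ≤ Subgroup.closure ({x, y} : Set (GL (Fin n) F)) := by
  classical
  obtain ⟨m, k, hk, hnm, hm2⟩ : ∃ m k : ℕ, (k = 1 ∨ k = 2) ∧ n = 2 * m + k ∧ 2 ≤ m := by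
    rcases Nat.even_or_odd' n with ⟨c, hc | hc⟩
    · exact ⟨c - 1, 2, Or.inr rfl, by omega, by omega⟩
    · exact ⟨c, 1, Or.inl rfl, by omega, by omega⟩
  obtain ⟨C⟩ := exists_wittCfg (q := q) (n := n) (F := F) hF m (by omega)
  obtain ⟨x, hxS, hxE, hxE', hxR⟩ := exists_x hF (by omega) C k hk hnm
  have hlt : 2 * m < n := by omega
  obtain ⟨z, hzS, hzq, hze0, hz1, hz1s, hzs, hzn⟩ := exists_z hF hm2 C hlt
  obtain ⟨c0, hc00, hc0⟩ := exists_trace_zero hF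
  have hee0 := C.hee ⟨0, by omega⟩ ⟨0, by omega⟩
  have htS : utv q (C.e ⟨0, by omega⟩) c0 ∈ suGL (F := F) n q := utv_mem_suGL hF _ hee0 c0 hc0
  refine ⟨x, utv q (C.e ⟨0, by omega⟩) c0 * z, hxS, Subgroup.mul_mem _ htS hzS, ?_⟩
  set H := Subgroup.closure ({x, utv q (C.e ⟨0, by omega⟩) c0 * z} : Set (GL (Fin n) F)) with hH
  have hxH : x ∈ H := Subgroup.subset_closure (by simp)
  have hyH : utv q (C.e ⟨0, by omega⟩) c0 * z ∈ H := Subgroup.subset_closure (by simp)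
  obtain ⟨htH, hzH⟩ := utv_and_z_mem hF _ hee0 c0 hc0 z hzS.1 hzq hze0 H hyH
  have hs0 : ∀ (i : Fin m) (l : F), l ≠ 0 → (Pi.single i l : Fin m → F) ≠ 0 := by
    intro i l hl h
    have := congrFun h i
    simp at this
    exact hl this
  have he0 : C.e ⟨0, by omega⟩ ∈ Tset q H := by
    refine e0_mem_Tset hF _ hee0 c0 hc0 hc00 htH ?_
    intro l hl
    obtain ⟨j, hj⟩ := hxE (Pi.single ⟨0, by omega⟩ 1) (Pi.single ⟨0, by omega⟩ l)
      (hs0 _ 1 one_ne_zero) (hs0 _ l hl)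
    refine ⟨x ^ j, Subgroup.pow_mem _ hxH j, Subgroup.pow_mem _ hxS.1 j, ?_⟩
    rw [C.vec_single_left, C.vec_single_left, one_smul] at hj
    exact hj
  obtain ⟨hE, hE', hV0⟩ := caseI_V0 hF hm2 C x z hxH hxS.1 hzH hzS.1 hz1 hz1s
    (fun a a' ha ha' => by
      obtain ⟨j, hj⟩ := hxE a a' ha ha'
      exact ⟨j, 1, one_ne_zero, by rw [one_smul]; exact hj⟩)
    (fun b b' hb hb' => by
      obtain ⟨j, hj⟩ := hxE' b b' hb hb'
      exact ⟨j, 1, one_ne_zero, by rw [one_smul]; exact hj⟩) he0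
  have hf0 : C.f ⟨0, by omega⟩ ∈ Tset q H := by
    have := hE' (Pi.single ⟨0, by omega⟩ 1)
    rwa [C.vec_single_right, one_smul] at this
  have hw := act_mem_Tset hF hzH hzS.1 hf0
  have hV1 := lemmaC hF (2 * m) (by omega) hlt hV0 _ hw hzs hzn
  apply utvGroup_le_of_Tset
  intro v hvv
  rcases hk with rfl | rfl
  · exact hV1 v (fun j hj => absurd j.2 (by omega)) hvv
  · obtain ⟨γ, hγ, hrow⟩ := hxR rfl
    have h1 : 2 * m + 1 < n := by omega
    have hw' := act_mem_Tset hF hxH hxS.1 hw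
    have hV2 := lemmaC hF (2 * m + 1) (by omega) h1 hV1 _ hw'
      (fun j hj => absurd j.2 (by omega)) (by rw [hrow _ h1 hlt]; exact mul_ne_zero hγ hzn)
    exact hV2 v (fun j hj => absurd j.2 (by omega)) hvv

end Cfsg.Agent.Lib.Helper90.Psu
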