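import Mathlib
import Cfsg.Agent.Lib.Helper90.PsuDefs
import Cfsg.Agent.Lib.Helper90.PsuCaseI
import Cfsg.Agent.Lib.Helper2.PsuSASM
import Cfsg.Agent.Lib.Helper96.Psu42

/-! Psu hive (S2412): `main_GL` - two generators of `SU_n(q)` inside `GL_n(q²)`. -/

namespace Cfsg.Agent.Lib.Helper90.Psu

open Matrix Cfsg.Agent.Lib.Helper99 Cfsg.Agent.Lib.Helper13

variable {F : Type*} [Field F] [Fintype F] {q n : ℕ}

local notation "hh" => Cfsg.hermForm n F q

theorem main_GL (hF : Fintype.card F = q ^ 2) (hn : 3 ≤ n) (h32 : ¬ (n = 3 ∧ q = 2)) :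
    ∃ x y : GL (Fin n) F, x ∈ suGL (F := F) n q ∧ y ∈ suGL (F := F) n q ∧
      utvGroup n q F ≤ Subgroup.closure ({x, y} : Set (GL (Fin n) F)) := by
  have hq2 := q_ge_two hF
  rcases (by omega : n = 3 ∨ n = 4 ∨ 5 ≤ n) with h | h | h
  · exact caseS hF (by omega) (Or.inl h)
  · by_cases hq : q = 2
    · subst h; subst hq; exact small42 hF
    · exact caseS hF (by omega) (Or.inr h)
  · exact caseI hF h

end Cfsg.Agent.Lib.Helper90.Psu
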