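import Cfsg.Agent.Lib.Helper50.MCL

/-!
# S3008 leaf A (hive of helper50)

`Q` centrally large ⟹ `C(Z(J)) ≤ Q ⊔ J` (`J` the abelian-version Thompson subgroup).
-/

set_option autoImplicit false

namespace Cfsg.Agent.Lib.Helper90.S3008A

open Subgroup Cfsg.Agent.Lib.Helper50
open scoped Pointwise

variable {G : Type*} [Group G] [Finite G]

/-- LEAF A. -/
theorem partA (Q : Subgroup G) (hQ : Cfsg.IsCentrallyLarge Q) :
    centralizer ((Cfsg.thompsonSubgroupA G ⊓ centralizer (Cfsg.thompsonSubgroupA G : Set G) :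
      Subgroup G) : Set G) ≤ Q ⊔ Cfsg.thompsonSubgroupA G := by
  let 𝒯 : Set (Subgroup G) :=
    {T | Cfsg.IsCentrallyLarge T ∧ Q ≤ T ∧ T ≤ Q ⊔ Cfsg.thompsonSubgroupA G}
  have h𝒯fin : 𝒯.Finite := Set.toFinite 𝒯
  have h𝒯ne : 𝒯.Nonempty := ⟨Q, hQ, le_rfl, le_sup_left⟩
  obtain ⟨T₀, hT₀, hmax⟩ := Set.exists_max_image 𝒯 (fun T => Nat.card T) h𝒯fin h𝒯ne
  obtain ⟨hT₀cl, hQT₀, hT₀le⟩ := hT₀
  have hall : ∀ A ∈ Cfsg.maxAbelianSubgroups G, A ≤ T₀ := by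
    intro A hA
    have hcl : Cfsg.IsCentrallyLarge (T₀ ⊔ A) := (cl_sup_maxAbelian hT₀cl hA).2.1
    have hAJ : A ≤ Cfsg.thompsonSubgroupA G := le_sSup hA
    have hmem : T₀ ⊔ A ∈ 𝒯 :=
      ⟨hcl, hQT₀.trans le_sup_left, sup_le hT₀le (hAJ.trans le_sup_right)⟩
    have hcard : Nat.card (T₀ ⊔ A : Subgroup G) ≤ Nat.card T₀ := hmax _ hmem
    have heq : T₀ = T₀ ⊔ A := Subgroup.eq_of_le_of_card_ge le_sup_left hcard
    rw [heq]
    exact le_sup_right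
  exact (centralizer_zOf_thompsonA_le hT₀cl hall).trans hT₀le

end Cfsg.Agent.Lib.Helper90.S3008A
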