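import Cfsg.Agent.Lib.Helper50.MCL

/-!
# S3008 leaf C (hive of helper50)

`J = ⊤` and `|A|^2 = |G| |Z(G)|` for all abelian subgroups `A` of largest order ⟹ every minimal centrally large
subgroup is abelian.
-/

set_option autoImplicit false

namespace Cfsg.Agent.Lib.Helper90.S3008C

open Subgroup Cfsg.Agent.Lib.Helper50
open scoped Pointwise

variable {G : Type*} [Group G] [Finite G]

/-- `Q` centrally large ⟹ `Q ⊔ J` centrally large. -/
theorem cl_sup_thompsonA (Q : Subgroup G) (hQ : Cfsg.IsCentrallyLarge Q) :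
    Cfsg.IsCentrallyLarge (Q ⊔ Cfsg.thompsonSubgroupA G) := by
  let 𝒯 : Set (Subgroup G) :=
    {T | Cfsg.IsCentrallyLarge T ∧ Q ≤ T ∧ T ≤ Q ⊔ Cfsg.thompsonSubgroupA G}
  have h𝒯fin : 𝒯.Finite := Set.toFinite 𝒯
  have h𝒯ne : 𝒯.Nonempty := ⟨Q, hQ, le_rfl, le_sup_left⟩
  obtain ⟨T₀, hT₀, hmax⟩ := Set.exists_max_image 𝒯 (fun T => Nat.card T) h𝒯fin h𝒯ne
  obtain ⟨hT₀cl, hQT₀, hT₀le⟩ := hT₀
  have hall : ∀ A ∈ Cfsg.maxAbelianSubgroups G, A ≤ T₀ := by
    intro A hA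
    have hcl : Cfsg.IsCentrallyLarge (T₀ ⊔ A) := (cl_sup_maxAbelian hT₀cl hA).2.1
    have hAJ : A ≤ Cfsg.thompsonSubgroupA G := le_sSup hA
    have hmem : T₀ ⊔ A ∈ 𝒯 :=
      ⟨hcl, hQT₀.trans le_sup_left, sup_le hT₀le (hAJ.trans le_sup_right)⟩
    have hcard : Nat.card (T₀ ⊔ A : Subgroup G) ≤ Nat.card T₀ := hmax _ hmem
    have heq : T₀ = T₀ ⊔ A := Subgroup.eq_of_le_of_card_ge le_sup_left hcard
    rw [heq]
    exact le_sup_right
  have hJ : Cfsg.thompsonSubgroupA G ≤ T₀ := sSup_le hall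
  have : T₀ = Q ⊔ Cfsg.thompsonSubgroupA G := le_antisymm hT₀le (sup_le hQT₀ hJ)
  rw [← this]
  exact hT₀cl

/-- LEAF C. -/
theorem partC (hJ : Cfsg.thompsonSubgroupA G = ⊤)
    (h : ∀ A ∈ Cfsg.maxAbelianSubgroups G,
      Nat.card ↥A ^ 2 = Nat.card G * Nat.card ↥(Subgroup.center G))
    (Q : Subgroup G) (hQ : Cfsg.IsMinimalCentrallyLarge Q) : IsMulCommutative ↥Q := by
  -- `⊤` is centrally large
  obtain ⟨Q0, hQ0⟩ := exists_cl (G := G)
  have htop : Cfsg.IsCentrallyLarge (⊤ : Subgroup G) := by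
    have := cl_sup_thompsonA Q0 hQ0
    rwa [hJ, sup_top_eq] at this
  -- `M = |G| |Z(G)|`
  have hM : Nat.card G * Nat.card ↥(Subgroup.center G) = Cfsg.maxCentralProduct G := by
    have h1 := htop
    unfold Cfsg.IsCentrallyLarge at h1
    rw [card_center_eq, Subgroup.card_top] at h1
    have h2 : zOf (⊤ : Subgroup G) = Subgroup.center G := by
      unfold zOf
      rw [top_inf_eq, Subgroup.coe_top, Subgroup.centralizer_univ]
    rw [h2] at h1
    exact h1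
  -- an abelian subgroup of largest order is centrally large
  obtain ⟨A, hA⟩ := exists_maxAbelian (G := G)
  have hAcl : Cfsg.IsCentrallyLarge A := by
    unfold Cfsg.IsCentrallyLarge
    rw [card_center_eq, zOf_eq_self_of_comm hA.1, ← hM, ← h A hA, sq]
  obtain ⟨R, hR, hRA⟩ := exists_mcl_le hAcl
  have hRab : IsMulCommutative ↥R := isMulCommutative_of_le hRA hA.1
  exact ((mcl_iff_maxAbelian_of_comm hR hRab Q).mp hQ).1

end Cfsg.Agent.Lib.Helper90.S3008C
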