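import Cfsg.Agent.Lib.Helper50.MCL

/-!
# S3008 leaf D (hive of helper50)

All minimal centrally large subgroups abelian ⟹ `C(Z(J)) = J`.
-/

set_option autoImplicit false

namespace Cfsg.Agent.Lib.Helper90.S3008D

open Subgroup Cfsg.Agent.Lib.Helper50
open scoped Pointwise

variable {G : Type*} [Group G] [Finite G]

/-- LEAF D. -/
theorem partD (h : ∀ Q : Subgroup G, Cfsg.IsMinimalCentrallyLarge Q → IsMulCommutative ↥Q) :
    centralizer ((Cfsg.thompsonSubgroupA G ⊓ centralizer (Cfsg.thompsonSubgroupA G : Set G) :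
      Subgroup G) : Set G) = Cfsg.thompsonSubgroupA G := by
  obtain ⟨Q, hQ⟩ := exists_mcl (G := G)
  have hab : IsMulCommutative ↥Q := h Q hQ
  have hset : {R : Subgroup G | Cfsg.IsMinimalCentrallyLarge R} = Cfsg.maxAbelianSubgroups G := by
    ext X
    exact mcl_iff_maxAbelian_of_comm hQ hab X
  have hJ : Cfsg.thompsonSubgroupA G = Cfsg.minimalCentrallyLargeJoin G := by
    unfold Cfsg.thompsonSubgroupA Cfsg.minimalCentrallyLargeJoin
    rw [hset]
  have hcl : Cfsg.IsCentrallyLarge (Cfsg.thompsonSubgroupA G) := by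
    rw [hJ]
    exact cl_minimalCentrallyLargeJoin
  apply le_antisymm
  · exact centralizer_zOf_thompsonA_le hcl (fun A hA => le_sSup hA)
  · rw [le_centralizer_iff]
    exact inf_le_right

end Cfsg.Agent.Lib.Helper90.S3008D
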