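import Cfsg.Agent.Lib.Helper66.S3Defs
import Cfsg.Agent.Lib.Helper66.S3.D9
import Cfsg.Agent.Lib.Helper32.S3C1Bbase
import Cfsg.Agent.Lib.Helper32.S3C1BG6
import Cfsg.Agent.Lib.Helper90.S3C1BG6a
import Cfsg.Agent.Lib.Helper90.S3C1BG6s
import Cfsg.Agent.Lib.Helper90.S3C1BG6f

/-! # S3 hive (S4305, helper66), sub-split C1B of helper32, G6: glue of helper32's covering core with the
card bounds (helper90).  `hone` (= G5 `c1b_sig_one_point cfg hfpf`) is a hypothesis. -/

set_option autoImplicit false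

namespace Cfsg.Agent.Lib.Helper66.S3

universe u

section c1bx

variable {H V : Type u} [Group H] [CommGroup V] [MulDistribMulAction A3 H]
  [MulDistribMulAction A3 V] [MulDistribMulAction H V] {p r : ℕ} {F : Subgroup H}

/-- G6 with `hone` (the conclusion of G5) in place of `hfpf`. -/
theorem c1bx_exists_invol (cfg : Config H V p r F)
    (hone : ∀ (C : Subgroup H), comp (V := V) F C ≠ ⊥ → mapA sig C = C → ∀ h : H,
      mapA sig (mapH h C) = mapH h C → mapH h C = C)
    (C : Subgroup H) (hC : comp (V := V) F C ≠ ⊥) (hCtop : ∃ h : H, mapH h C ≠ C) :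
    ∃ t : A3, t ≠ 1 ∧ t * t = 1 ∧ ∀ h : H, mapA t (mapH h C) = mapH h C := by
  haveI := cfg.hyp.finH
  apply c1b_exists_invol_core (c1bx_r_ge_five cfg) C
  · intro h
    obtain ⟨a, ha1, ha, -⟩ := comp_stab cfg (mapH h C) (c1bx_Om_mapH cfg C hC h)
    exact ⟨a, ha1, ha⟩
  · exact c1bx_sig_set cfg hone C hC hCtop
  · intro a
    obtain ⟨M, hFM, htop, hcard⟩ := c1bx_fixset cfg C hC a
    by_cases hM : M = ⊤
    · left; exact htop hM
    · right
      have hidx := c1bx_index cfg M hFM hM
      calc Set.ncard {h : H | mapA a (mapH h C) = mapH h C} * r ≤ Nat.card ↥M * r :=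
            Nat.mul_le_mul_right r hcard
        _ = r * Nat.card ↥M := mul_comm _ _
        _ ≤ Nat.card H := hidx

end c1bx

end Cfsg.Agent.Lib.Helper66.S3
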