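import Mathlib

set_option autoImplicit false

/-!
Rank-one unipotent matrices over `ZMod 2` and index bookkeeping for `Fin (n + 2)`,
used for the centralizer of a transvection in `SL_{n+2}(2)`.
-/

namespace Cfsg.Agent.Lib.Helper90.SLT

open Matrix

section rankone

variable {m : Type*} [Fintype m] [DecidableEq m]

/-- the rank-one update `1 + u ⊗ ψ` -/
def T (u ψ : m → ZMod 2) : Matrix m m (ZMod 2) := 1 + vecMulVec u ψ

theorem T_apply (u ψ : m → ZMod 2) (i j : m) :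
    T u ψ i j = (1 : Matrix m m (ZMod 2)) i j + u i * ψ j := by
  simp [T, vecMulVec_apply]

theorem det_T (u ψ : m → ZMod 2) : (T u ψ).det = 1 + ψ ⬝ᵥ u := by
  unfold T
  rw [vecMulVec_eq Unit, det_one_add_replicateCol_mul_replicateRow]

/-- `1 + u ⊗ ψ` as an element of the special linear group when `ψ u = 0` -/
def Tsl (u ψ : m → ZMod 2) (h : ψ ⬝ᵥ u = 0) : Matrix.SpecialLinearGroup m (ZMod 2) :=
  ⟨T u ψ, by rw [det_T, h, add_zero]⟩

@[simp] theorem Tsl_coe (u ψ : m → ZMod 2) (h : ψ ⬝ᵥ u = 0) :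
    (Tsl u ψ h : Matrix m m (ZMod 2)) = T u ψ := rfl

theorem mul_T (M : Matrix m m (ZMod 2)) (u ψ : m → ZMod 2) :
    M * T u ψ = M + vecMulVec (M *ᵥ u) ψ := by
  unfold T
  rw [mul_add, mul_one, mul_vecMulVec]

theorem T_mul (M : Matrix m m (ZMod 2)) (u ψ : m → ZMod 2) :
    T u ψ * M = M + vecMulVec u (ψ ᵥ* M) := by
  unfold T
  rw [add_mul, one_mul, vecMulVec_mul]

end rankone

section fin

variable {n : ℕ}

theorem sum3 {M : Type*} [AddCommMonoid M] (f : Fin (n + 2) → M) :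
    ∑ k, f k = f 0 + (f 1 + ∑ k : Fin n, f k.succ.succ) := by
  rw [Fin.sum_univ_succ, Fin.sum_univ_succ]
  rfl

theorem cases3 {P : Fin (n + 2) → Prop} (h0 : P 0) (h1 : P 1)
    (hs : ∀ k : Fin n, P k.succ.succ) : ∀ i, P i := by
  intro i
  refine Fin.cases h0 (fun i' => ?_) i
  refine Fin.cases ?_ (fun k => hs k) i'
  exact h1

theorem fin3 (i : Fin (n + 2)) : i = 0 ∨ i = 1 ∨ ∃ k : Fin n, i = k.succ.succ :=
  cases3 (P := fun i => i = 0 ∨ i = 1 ∨ ∃ k : Fin n, i = k.succ.succ) (Or.inl rfl)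
    (Or.inr (Or.inl rfl)) (fun k => Or.inr (Or.inr ⟨k, rfl⟩)) i

theorem ss_ne_zero (k : Fin n) : (k.succ.succ : Fin (n + 2)) ≠ 0 := Fin.succ_ne_zero _

theorem ss_ne_one (k : Fin n) : (k.succ.succ : Fin (n + 2)) ≠ 1 := by
  intro h
  have h1 : (1 : Fin (n + 2)) = (0 : Fin (n + 1)).succ := rfl
  rw [h1] at h
  exact Fin.succ_ne_zero k (Fin.succ_injective _ h)

theorem zero_ne_one' : (0 : Fin (n + 2)) ≠ 1 := by
  intro h
  have := congrArg Fin.val h
  simp at this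

theorem ss_inj {a b : Fin n} (h : (a.succ.succ : Fin (n + 2)) = b.succ.succ) : a = b :=
  Fin.succ_injective _ (Fin.succ_injective _ h)

end fin

end Cfsg.Agent.Lib.Helper90.SLT
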