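import Mathlib
import Cfsg.Agent.Lib.Helper90.SLTransvA

set_option autoImplicit false
set_option linter.unusedSimpArgs false
set_option linter.unnecessarySeqFocus false

/-!
The "parabolic" matrices `mk a b c A` of `SL_{n+2}(2)` with first column `e₀` and second row `e₁ᵀ`:
multiplication law and determinant.
-/

namespace Cfsg.Agent.Lib.Helper90.SLT

open Matrix

variable {n : ℕ}

/-- the matrix with rows `(1, a, b)`, `(0, 1, 0)`, `(0, c, A)` -/
def mk (a : ZMod 2) (b c : Fin n → ZMod 2) (A : Matrix (Fin n) (Fin n) (ZMod 2)) :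
    Matrix (Fin (n + 2)) (Fin (n + 2)) (ZMod 2) :=
  Matrix.of fun i j =>
    Fin.cases (Fin.cases (1 : ZMod 2) (fun j' => Fin.cases a b j') j)
      (fun i' => Fin.cases (Fin.cases (0 : ZMod 2) (fun j' => Fin.cases (1 : ZMod 2) (fun _ => 0) j') j)
         (fun i'' => Fin.cases (0 : ZMod 2) (fun j' => Fin.cases (c i'') (fun j'' => A i'' j'') j') j) i') i

variable (a : ZMod 2) (b c : Fin n → ZMod 2) (A : Matrix (Fin n) (Fin n) (ZMod 2))

@[simp] theorem mk_00 : mk a b c A 0 0 = 1 := rfl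
@[simp] theorem mk_01 : mk a b c A 0 1 = a := rfl
@[simp] theorem mk_0s (j : Fin n) : mk a b c A 0 j.succ.succ = b j := rfl
@[simp] theorem mk_10 : mk a b c A 1 0 = 0 := rfl
@[simp] theorem mk_11 : mk a b c A 1 1 = 1 := rfl
@[simp] theorem mk_1s (j : Fin n) : mk a b c A 1 j.succ.succ = 0 := rfl
@[simp] theorem mk_s0 (i : Fin n) : mk a b c A i.succ.succ 0 = 0 := rfl
@[simp] theorem mk_s1 (i : Fin n) : mk a b c A i.succ.succ 1 = c i := rfl
@[simp] theorem mk_ss (i j : Fin n) : mk a b c A i.succ.succ j.succ.succ = A i j := rfl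

theorem mk_mul (a' : ZMod 2) (b' c' : Fin n → ZMod 2) (A' : Matrix (Fin n) (Fin n) (ZMod 2)) :
    mk a b c A * mk a' b' c' A' =
      mk (a + a' + b ⬝ᵥ c') (b' + b ᵥ* A') (c + A *ᵥ c') (A * A') := by
  ext i j
  rw [Matrix.mul_apply, sum3]
  obtain rfl | rfl | ⟨i, rfl⟩ := fin3 i <;> obtain rfl | rfl | ⟨j, rfl⟩ := fin3 j <;>
    simp [dotProduct, Matrix.vecMul, Matrix.mulVec, Matrix.mul_apply] <;> ring

theorem mk_s0' (i : Fin (n + 1)) : mk a b c A i.succ 0 = 0 := by
  refine Fin.cases ?_ (fun k => ?_) i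
  · rfl
  · rfl

theorem det_mk : (mk a b c A).det = A.det := by
  rw [Matrix.det_succ_column_zero, Fin.sum_univ_succ]
  simp only [mk_s0', mul_zero, zero_mul, Finset.sum_const_zero, add_zero, Fin.val_zero, pow_zero,
    one_mul, mk_00, Fin.succAbove_zero]
  rw [Matrix.det_succ_row_zero, Fin.sum_univ_succ]
  have h1 : ∀ j : Fin n, ((mk a b c A).submatrix Fin.succ Fin.succ) 0 j.succ = 0 := by
    intro j; rfl
  have h0 : ((mk a b c A).submatrix Fin.succ Fin.succ) 0 0 = 1 := rfl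
  simp only [h1, h0, mul_zero, zero_mul, Finset.sum_const_zero, add_zero, Fin.val_zero, pow_zero,
    one_mul, Fin.succAbove_zero]
  congr 1

theorem mk_one : mk (0 : ZMod 2) (0 : Fin n → ZMod 2) 0 1 = 1 := by
  ext i j
  obtain rfl | rfl | ⟨i, rfl⟩ := fin3 i <;> obtain rfl | rfl | ⟨j, rfl⟩ := fin3 j <;>
    simp [Matrix.one_apply, ss_ne_zero, ss_ne_one, zero_ne_one', (ss_ne_zero _).symm,
      (ss_ne_one _).symm, zero_ne_one'.symm, Fin.succ_inj]

/-- the four components of a matrix -/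
def pa (M : Matrix (Fin (n + 2)) (Fin (n + 2)) (ZMod 2)) : ZMod 2 := M 0 1
def pb (M : Matrix (Fin (n + 2)) (Fin (n + 2)) (ZMod 2)) : Fin n → ZMod 2 :=
  fun j => M 0 j.succ.succ
def pc (M : Matrix (Fin (n + 2)) (Fin (n + 2)) (ZMod 2)) : Fin n → ZMod 2 :=
  fun i => M i.succ.succ 1
def pA (M : Matrix (Fin (n + 2)) (Fin (n + 2)) (ZMod 2)) : Matrix (Fin n) (Fin n) (ZMod 2) :=
  Matrix.of fun i j => M i.succ.succ j.succ.succ

@[simp] theorem pa_mk : pa (mk a b c A) = a := rfl
@[simp] theorem pb_mk : pb (mk a b c A) = b := rfl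
@[simp] theorem pc_mk : pc (mk a b c A) = c := rfl
@[simp] theorem pA_mk : pA (mk a b c A) = A := rfl

theorem mk_inj {a a' : ZMod 2} {b b' c c' : Fin n → ZMod 2}
    {A A' : Matrix (Fin n) (Fin n) (ZMod 2)} (h : mk a b c A = mk a' b' c' A') :
    a = a' ∧ b = b' ∧ c = c' ∧ A = A' := by
  refine ⟨?_, ?_, ?_, ?_⟩
  · simpa using congrArg pa h
  · simpa using congrArg pb h
  · simpa using congrArg pc h
  · simpa using congrArg pA h

theorem eq_mk_of (M : Matrix (Fin (n + 2)) (Fin (n + 2)) (ZMod 2))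
    (h0 : ∀ i, M i 0 = (1 : Matrix (Fin (n + 2)) (Fin (n + 2)) (ZMod 2)) i 0)
    (h1 : ∀ j, M 1 j = (1 : Matrix (Fin (n + 2)) (Fin (n + 2)) (ZMod 2)) 1 j) :
    M = mk (pa M) (pb M) (pc M) (pA M) := by
  ext i j
  obtain rfl | rfl | ⟨i, rfl⟩ := fin3 i <;> obtain rfl | rfl | ⟨j, rfl⟩ := fin3 j <;>
    simp [h0, h1, pa, pb, pc, pA, Matrix.one_apply, ss_ne_zero, ss_ne_one, zero_ne_one',
      (ss_ne_zero _).symm, (ss_ne_one _).symm, zero_ne_one'.symm]

theorem transvection_eq_mk :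
    (Matrix.transvection (0 : Fin (n + 2)) 1 (1 : ZMod 2)) = mk 1 0 0 1 := by
  ext i j
  obtain rfl | rfl | ⟨i, rfl⟩ := fin3 i <;> obtain rfl | rfl | ⟨j, rfl⟩ := fin3 j <;>
    simp [Matrix.transvection, Matrix.one_apply, Matrix.single_apply, ss_ne_zero, ss_ne_one,
      zero_ne_one', (ss_ne_zero _).symm, (ss_ne_one _).symm, zero_ne_one'.symm, Fin.succ_inj]

/-- a determinant-one matrix commuting with the transvection has the parabolic shape -/
theorem shape_of_comm (M : Matrix (Fin (n + 2)) (Fin (n + 2)) (ZMod 2)) (hdet : M.det = 1)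
    (hM : M * Matrix.transvection 0 1 1 = Matrix.transvection 0 1 1 * M) :
    (∀ i, M i 0 = (1 : Matrix (Fin (n + 2)) (Fin (n + 2)) (ZMod 2)) i 0) ∧
      ∀ j, M 1 j = (1 : Matrix (Fin (n + 2)) (Fin (n + 2)) (ZMod 2)) 1 j := by
  have hE : M * Matrix.single 0 1 (1 : ZMod 2) = Matrix.single 0 1 (1 : ZMod 2) * M := by
    unfold Matrix.transvection at hM
    rw [mul_add, add_mul, mul_one, one_mul] at hM
    exact add_left_cancel hM
  have e1 : ∀ i, i ≠ 0 → M i 0 = 0 := by
    intro i hi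
    have := congrFun (congrFun hE i) 1
    rw [Matrix.mul_single_apply_same, Matrix.single_mul_apply_of_ne _ _ _ _ _ hi] at this
    simpa using this
  have e2 : ∀ j, j ≠ 1 → M 1 j = 0 := by
    intro j hj
    have := congrFun (congrFun hE 0) j
    rw [Matrix.single_mul_apply_same, Matrix.mul_single_apply_of_ne _ _ _ _ _ hj] at this
    simpa using this.symm
  have e3 : M 0 0 = M 1 1 := by
    have := congrFun (congrFun hE 0) 1
    rw [Matrix.single_mul_apply_same, Matrix.mul_single_apply_same] at this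
    simpa using this
  have e4 : M 0 0 = 1 := by
    rcases (show ∀ x : ZMod 2, x = 0 ∨ x = 1 by decide) (M 0 0) with h | h
    · exfalso
      have hz : M.det = 0 := by
        apply Matrix.det_eq_zero_of_column_eq_zero 0
        intro i
        by_cases hi : i = 0
        · rw [hi]; exact h
        · exact e1 i hi
      rw [hz] at hdet
      exact zero_ne_one hdet
    · exact h
  constructor
  · intro i
    by_cases hi : i = 0
    · rw [hi, e4, Matrix.one_apply_eq]
    · rw [e1 i hi, Matrix.one_apply_ne hi]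
  · intro j
    by_cases hj : j = 1
    · rw [hj, ← e3, e4, Matrix.one_apply_eq]
    · rw [e2 j hj, Matrix.one_apply_ne (Ne.symm hj)]

end Cfsg.Agent.Lib.Helper90.SLT
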