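import Mathlib
import Cfsg.Agent.Lib.Helper90.SLTransvA

set_option autoImplicit false

/-!
A normal `2`-subgroup of `SL_n(2)` is trivial for `n ≥ 2`.
-/

namespace Cfsg.Agent.Lib.Helper90.SLT

open Matrix

section

variable {m : Type*} [Fintype m] [DecidableEq m]

theorem T_mulVec (u ψ v : m → ZMod 2) : T u ψ *ᵥ v = v + (ψ ⬝ᵥ v) • u := by
  unfold T
  rw [add_mulVec, one_mulVec, vecMulVec_mulVec]
  ext i
  simp [mul_comm]

theorem zmod2_cases (x : ZMod 2) : x = 0 ∨ x = 1 := by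
  revert x; decide

theorem normal_two_subgroup_eq_bot {n : ℕ} (hn : 2 ≤ n)
    (N : Subgroup (Matrix.SpecialLinearGroup (Fin n) (ZMod 2))) (hN : N.Normal) (h2 : IsPGroup 2 N) :
    N = ⊥ := by
  classical
  have : Fact (Nat.Prime 2) := ⟨Nat.prime_two⟩
  -- the fixed vectors
  let F : Set (Fin n → ZMod 2) := {v | ∀ y ∈ N, (y : Matrix (Fin n) (Fin n) (ZMod 2)) *ᵥ v = v}
  have hFadd : ∀ v w, v ∈ F → w ∈ F → v + w ∈ F := by
    intro v w hv hw y hy
    rw [mulVec_add, hv y hy, hw y hy]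
  have hFg : ∀ (g : Matrix.SpecialLinearGroup (Fin n) (ZMod 2)) v, v ∈ F →
      (g : Matrix (Fin n) (Fin n) (ZMod 2)) *ᵥ v ∈ F := by
    intro g v hv y hy
    have h1 : g⁻¹ * y * g ∈ N := by
      have := hN.conj_mem y hy g⁻¹
      rwa [inv_inv] at this
    have h2 := hv _ h1
    have h3 : y * g = g * (g⁻¹ * y * g) := by group
    calc (y : Matrix (Fin n) (Fin n) (ZMod 2)) *ᵥ ((g : Matrix (Fin n) (Fin n) (ZMod 2)) *ᵥ v)
        = ((y * g : Matrix.SpecialLinearGroup (Fin n) (ZMod 2)) : Matrix (Fin n) (Fin n) (ZMod 2)) *ᵥ v := by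
          rw [Matrix.SpecialLinearGroup.coe_mul, mulVec_mulVec]
      _ = ((g * (g⁻¹ * y * g) : Matrix.SpecialLinearGroup (Fin n) (ZMod 2)) :
            Matrix (Fin n) (Fin n) (ZMod 2)) *ᵥ v := by rw [← h3]
      _ = (g : Matrix (Fin n) (Fin n) (ZMod 2)) *ᵥ
            (((g⁻¹ * y * g : Matrix.SpecialLinearGroup (Fin n) (ZMod 2)) :
              Matrix (Fin n) (Fin n) (ZMod 2)) *ᵥ v) := by
          rw [Matrix.SpecialLinearGroup.coe_mul, mulVec_mulVec]
      _ = (g : Matrix (Fin n) (Fin n) (ZMod 2)) *ᵥ v := by rw [h2]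
  -- a nonzero fixed vector
  have hex : ∃ v ∈ F, v ≠ 0 := by
    let _ : MulAction N (Fin n → ZMod 2) :=
      { smul := fun y v => (y.1 : Matrix (Fin n) (Fin n) (ZMod 2)) *ᵥ v
        one_smul := fun v => by
          show ((1 : N).1 : Matrix (Fin n) (Fin n) (ZMod 2)) *ᵥ v = v
          simp
        mul_smul := fun x y v => by
          show ((x * y).1 : Matrix (Fin n) (Fin n) (ZMod 2)) *ᵥ v =
            (x.1 : Matrix (Fin n) (Fin n) (ZMod 2)) *ᵥ ((y.1 : Matrix (Fin n) (Fin n) (ZMod 2)) *ᵥ v)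
          simp [mulVec_mulVec] }
    have hdvd : 2 ∣ Nat.card (Fin n → ZMod 2) := by
      rw [Nat.card_eq_fintype_card, Fintype.card_fun, ZMod.card, Fintype.card_fin]
      exact dvd_pow_self 2 (by omega)
    have h0 : (0 : Fin n → ZMod 2) ∈ MulAction.fixedPoints N (Fin n → ZMod 2) := by
      intro y
      show (y.1 : Matrix (Fin n) (Fin n) (ZMod 2)) *ᵥ 0 = 0
      simp
    obtain ⟨b, hb, hb0⟩ := h2.exists_fixed_point_of_prime_dvd_card_of_fixed_point _ hdvd h0
    refine ⟨b, ?_, fun h => hb0 h.symm⟩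
    intro y hy
    exact hb ⟨y, hy⟩
  obtain ⟨v, hvF, hv0⟩ := hex
  obtain ⟨j, hj⟩ : ∃ j, v j = 1 := by
    by_contra hcon
    push Not at hcon
    apply hv0
    ext i
    rcases zmod2_cases (v i) with h | h
    · exact h
    · exact absurd h (hcon i)
  have hstep : ∀ (w : Fin n → ZMod 2) (j k : Fin n), w ∈ F → w j = 1 → k ≠ j →
      (Pi.single k 1 : Fin n → ZMod 2) ∈ F := by
    intro w j k hw hwj hkj
    have hdot : (Pi.single j 1 : Fin n → ZMod 2) ⬝ᵥ (Pi.single k 1 : Fin n → ZMod 2) = 0 := by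
      rw [single_dotProduct, one_mul, Pi.single_apply, if_neg hkj.symm]
    have h1 := hFg (Tsl (Pi.single k 1) (Pi.single j 1) hdot) w hw
    rw [Tsl_coe, T_mulVec, single_dotProduct, one_mul, hwj, one_smul] at h1
    have h2 := hFadd _ _ h1 hw
    have h3 : w + Pi.single k 1 + w = (Pi.single k 1 : Fin n → ZMod 2) := by
      ext i
      simp only [Pi.add_apply]
      linear_combination (w i) * (CharTwo.two_eq_zero (R := ZMod 2))
    rwa [h3] at h2
  have hall : ∀ i : Fin n, (Pi.single i 1 : Fin n → ZMod 2) ∈ F := by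
    obtain ⟨k, hk⟩ : ∃ k : Fin n, k ≠ j := by
      by_cases h : j = ⟨0, by omega⟩
      · exact ⟨⟨1, by omega⟩, by rw [h]; intro h'; simpa using congrArg Fin.val h'⟩
      · exact ⟨⟨0, by omega⟩, fun h' => h h'.symm⟩
    have hk' := hstep v j k hvF hj hk
    have hj' := hstep (Pi.single k 1) k j hk' (by simp) hk.symm
    intro i
    by_cases h : i = j
    · rw [h]; exact hj'
    · exact hstep v j i hvF hj h
  rw [eq_bot_iff]
  intro x hx
  rw [Subgroup.mem_bot]
  apply Matrix.SpecialLinearGroup.ext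
  intro i k
  have := congrFun (hall k x hx) i
  rw [mulVec_single_one] at this
  rw [Matrix.SpecialLinearGroup.coe_one, Matrix.one_apply]
  rw [Matrix.col_apply] at this
  rw [this, Pi.single_apply]

end

end Cfsg.Agent.Lib.Helper90.SLT
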