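import Mathlib
import Cfsg.Agent.Lib.Helper90.SLTransvB

set_option autoImplicit false

/-!
The centralizer of the transvection in `SL_{n+2}(2)`: elements `mkSL a b c A`, the projection to
`SL_n(2)`, its kernel `Q0` (a Heisenberg group) and the complement `K0`.
-/

namespace Cfsg.Agent.Lib.Helper90.SLT

open Matrix

variable {n : ℕ}

/-- the ambient group -/
abbrev GG (n : ℕ) := Matrix.SpecialLinearGroup (Fin (n + 2)) (ZMod 2)
/-- the Levi factor -/
abbrev SLn (n : ℕ) := Matrix.SpecialLinearGroup (Fin n) (ZMod 2)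

/-- parabolic element of `SL_{n+2}(2)` -/
def mkSL (a : ZMod 2) (b c : Fin n → ZMod 2) (A : SLn n) : GG n :=
  ⟨mk a b c A.1, by rw [det_mk]; exact A.2⟩

@[simp] theorem mkSL_coe (a : ZMod 2) (b c : Fin n → ZMod 2) (A : SLn n) :
    ((mkSL a b c A : GG n) : Matrix (Fin (n + 2)) (Fin (n + 2)) (ZMod 2)) = mk a b c A.1 := rfl

theorem mkSL_mul (a a' : ZMod 2) (b b' c c' : Fin n → ZMod 2) (A A' : SLn n) :
    mkSL a b c A * mkSL a' b' c' A' =
      mkSL (a + a' + b ⬝ᵥ c') (b' + b ᵥ* A'.1) (c + A.1 *ᵥ c') (A * A') := by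
  apply Subtype.ext
  rw [Matrix.SpecialLinearGroup.coe_mul, mkSL_coe, mkSL_coe, mkSL_coe, mk_mul,
    Matrix.SpecialLinearGroup.coe_mul]

theorem mkSL_inj {a a' : ZMod 2} {b b' c c' : Fin n → ZMod 2} {A A' : SLn n}
    (h : mkSL a b c A = mkSL a' b' c' A') : a = a' ∧ b = b' ∧ c = c' ∧ A = A' := by
  have h' := congrArg Subtype.val h
  obtain ⟨h1, h2, h3, h4⟩ := mk_inj h'
  exact ⟨h1, h2, h3, Subtype.ext h4⟩

theorem mkSL_one : mkSL (0 : ZMod 2) (0 : Fin n → ZMod 2) 0 1 = 1 := by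
  apply Subtype.ext
  rw [mkSL_coe, Matrix.SpecialLinearGroup.coe_one, Matrix.SpecialLinearGroup.coe_one, mk_one]

/-- the transvection `1 + E₀₁` -/
def zt : GG n := mkSL 1 0 0 1

theorem zt_coe : ((zt : GG n) : Matrix (Fin (n + 2)) (Fin (n + 2)) (ZMod 2)) =
    Matrix.transvection 0 1 1 := by
  rw [transvection_eq_mk]; rfl

theorem mem_cent_iff (g : GG n) :
    g ∈ Subgroup.centralizer ({zt} : Set (GG n)) ↔ ∃ a b c A, g = mkSL a b c A := by
  rw [Subgroup.mem_centralizer_iff]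
  constructor
  · intro h
    have h1 : g * zt = zt * g := (h zt rfl).symm
    have h2 := congrArg Subtype.val h1
    rw [Matrix.SpecialLinearGroup.coe_mul, Matrix.SpecialLinearGroup.coe_mul, zt_coe] at h2
    obtain ⟨h0, h1'⟩ := shape_of_comm g.1 g.2 h2
    have h3 := eq_mk_of g.1 h0 h1'
    have hdet : (pA g.1).det = 1 := by
      have := g.2
      rw [h3, det_mk] at this
      exact this
    exact ⟨pa g.1, pb g.1, pc g.1, ⟨pA g.1, hdet⟩, Subtype.ext h3⟩
  · rintro ⟨a, b, c, A, rfl⟩ x hx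
    rw [Set.mem_singleton_iff] at hx
    subst hx
    unfold zt
    rw [mkSL_mul, mkSL_mul]
    congr 1
    · simp [add_comm]
    · simp
    · simp
    · simp

theorem det_pA_of_mem {g : GG n} (hg : g ∈ Subgroup.centralizer ({zt} : Set (GG n))) :
    (pA (g : Matrix (Fin (n + 2)) (Fin (n + 2)) (ZMod 2))).det = 1 := by
  obtain ⟨a, b, c, A, rfl⟩ := (mem_cent_iff g).1 hg
  rw [mkSL_coe, pA_mk]
  exact A.2

/-- the projection of the centralizer onto `SL_n(2)` -/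
noncomputable def piHom : ↥(Subgroup.centralizer ({zt} : Set (GG n))) →* SLn n where
  toFun g := ⟨pA ((g : GG n) : Matrix (Fin (n + 2)) (Fin (n + 2)) (ZMod 2)), det_pA_of_mem g.2⟩
  map_one' := by
    apply Subtype.ext
    show pA (((1 : GG n)) : Matrix (Fin (n + 2)) (Fin (n + 2)) (ZMod 2)) =
      ((1 : SLn n) : Matrix (Fin n) (Fin n) (ZMod 2))
    rw [Matrix.SpecialLinearGroup.coe_one, Matrix.SpecialLinearGroup.coe_one, ← mk_one, pA_mk]
  map_mul' := by
    intro g h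
    obtain ⟨a, b, c, A, hg⟩ := (mem_cent_iff g.1).1 g.2
    obtain ⟨a', b', c', A', hh⟩ := (mem_cent_iff h.1).1 h.2
    apply Subtype.ext
    show pA (((g : GG n) * (h : GG n) : GG n) : Matrix (Fin (n + 2)) (Fin (n + 2)) (ZMod 2)) =
      pA ((g : GG n) : Matrix (Fin (n + 2)) (Fin (n + 2)) (ZMod 2)) *
        pA ((h : GG n) : Matrix (Fin (n + 2)) (Fin (n + 2)) (ZMod 2))
    rw [hg, hh, mkSL_mul, mkSL_coe, mkSL_coe, mkSL_coe, pA_mk, pA_mk, pA_mk,
      Matrix.SpecialLinearGroup.coe_mul]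

theorem piHom_coe (g : ↥(Subgroup.centralizer ({zt} : Set (GG n)))) :
    ((piHom g : SLn n) : Matrix (Fin n) (Fin n) (ZMod 2)) =
      pA ((g : GG n) : Matrix (Fin (n + 2)) (Fin (n + 2)) (ZMod 2)) := rfl

theorem mkSL_mem (a : ZMod 2) (b c : Fin n → ZMod 2) (A : SLn n) :
    mkSL a b c A ∈ Subgroup.centralizer ({zt} : Set (GG n)) :=
  (mem_cent_iff _).2 ⟨a, b, c, A, rfl⟩

theorem piHom_mk (a : ZMod 2) (b c : Fin n → ZMod 2) (A : SLn n) :
    piHom ⟨mkSL a b c A, mkSL_mem a b c A⟩ = A := by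
  apply Subtype.ext
  rw [piHom_coe, mkSL_coe, pA_mk]

theorem piHom_surjective : Function.Surjective (piHom (n := n)) :=
  fun A => ⟨⟨mkSL 0 0 0 A, mkSL_mem 0 0 0 A⟩, piHom_mk 0 0 0 A⟩

/-- the Heisenberg elements -/
def q (a : ZMod 2) (b c : Fin n → ZMod 2) : GG n := mkSL a b c 1

theorem q_mul (a a' : ZMod 2) (b b' c c' : Fin n → ZMod 2) :
    q a b c * q a' b' c' = q (a + a' + b ⬝ᵥ c') (b + b') (c + c') := by
  unfold q
  rw [mkSL_mul]
  congr 1
  · rw [Matrix.SpecialLinearGroup.coe_one, vecMul_one, add_comm]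
  · rw [Matrix.SpecialLinearGroup.coe_one, one_mulVec]
  · rw [mul_one]

theorem q_inj {a a' : ZMod 2} {b b' c c' : Fin n → ZMod 2} (h : q a b c = q a' b' c') :
    a = a' ∧ b = b' ∧ c = c' := by
  obtain ⟨h1, h2, h3, -⟩ := mkSL_inj h
  exact ⟨h1, h2, h3⟩

theorem q_zero : q (0 : ZMod 2) (0 : Fin n → ZMod 2) 0 = 1 := mkSL_one

theorem q_one : q (1 : ZMod 2) (0 : Fin n → ZMod 2) 0 = zt := rfl

/-- the kernel of the projection, inside the ambient group -/
noncomputable def Q0 (n : ℕ) : Subgroup (GG n) :=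
  (piHom (n := n)).ker.map (Subgroup.centralizer ({zt} : Set (GG n))).subtype

theorem mem_Q0 (g : GG n) : g ∈ Q0 n ↔ ∃ a b c, g = q a b c := by
  unfold Q0
  rw [Subgroup.mem_map]
  constructor
  · rintro ⟨x, hx, rfl⟩
    obtain ⟨a, b, c, A, hg⟩ := (mem_cent_iff x.1).1 x.2
    rw [MonoidHom.mem_ker] at hx
    have : piHom x = A := by
      apply Subtype.ext
      rw [piHom_coe, hg, mkSL_coe, pA_mk]
    rw [this] at hx
    subst hx
    exact ⟨a, b, c, hg⟩
  · rintro ⟨a, b, c, rfl⟩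
    refine ⟨⟨q a b c, mkSL_mem a b c 1⟩, ?_, rfl⟩
    rw [MonoidHom.mem_ker]
    exact piHom_mk a b c 1

theorem q_mem (a : ZMod 2) (b c : Fin n → ZMod 2) : q a b c ∈ Q0 n :=
  (mem_Q0 _).2 ⟨a, b, c, rfl⟩

theorem Q0_le : Q0 n ≤ Subgroup.centralizer ({zt} : Set (GG n)) := by
  unfold Q0
  exact Subgroup.map_subtype_le _

end Cfsg.Agent.Lib.Helper90.SLT
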