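import Mathlib
import Cfsg.Agent.Lib.Helper90.SLTransvD
import Cfsg.Agent.Lib.Helper90.SLTransvC

set_option autoImplicit false

/-!
Group theory of the Heisenberg group `Q0` in `SL_{n+2}(2)`.
-/

namespace Cfsg.Agent.Lib.Helper90.SLT

open Matrix

variable {n : ℕ}

theorem card_Q0 : Nat.card (Q0 n) = 2 ^ (2 * n + 1) := by
  have e : (ZMod 2 × (Fin n → ZMod 2) × (Fin n → ZMod 2)) ≃ Q0 n :=
    Equiv.ofBijective (fun p => ⟨q p.1 p.2.1 p.2.2, q_mem _ _ _⟩) (by
      constructor
      · rintro ⟨a, b, c⟩ ⟨a', b', c'⟩ h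
        have h' := congrArg Subtype.val h
        obtain ⟨h1, h2, h3⟩ := q_inj h'
        simp only [Prod.mk.injEq]
        exact ⟨h1, h2, h3⟩
      · rintro ⟨g, hg⟩
        obtain ⟨a, b, c, rfl⟩ := (mem_Q0 g).1 hg
        exact ⟨(a, b, c), rfl⟩)
  rw [← Nat.card_congr e, Nat.card_prod, Nat.card_prod, Nat.card_eq_fintype_card,
    Nat.card_eq_fintype_card, Fintype.card_fun, ZMod.card, Fintype.card_fin]
  ring

theorem isPGroup_Q0 : IsPGroup 2 (Q0 n) := IsPGroup.of_card card_Q0

theorem two_add (x : ZMod 2) : x + x = 0 := CharTwo.add_self_eq_zero x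

theorem two_add_fun (x : Fin n → ZMod 2) : x + x = 0 := by
  ext i; exact CharTwo.add_self_eq_zero (x i)

theorem q_sq (a : ZMod 2) (b c : Fin n → ZMod 2) : q a b c * q a b c = q (b ⬝ᵥ c) 0 0 := by
  rw [q_mul, two_add, two_add_fun, two_add_fun, zero_add]

theorem zt_sq : (zt : GG n) * zt = 1 := by
  rw [← q_one, q_sq, dotProduct_zero, q_zero]

theorem zt_ne_one : (zt : GG n) ≠ 1 := by
  rw [← q_one, ← q_zero]
  intro h
  exact one_ne_zero (q_inj h).1

theorem orderOf_zt : orderOf (zt : GG n) = 2 := by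
  have : Fact (Nat.Prime 2) := ⟨Nat.prime_two⟩
  apply orderOf_eq_prime
  · rw [pow_two, zt_sq]
  · exact zt_ne_one

theorem q_a_mem_zpowers (a : ZMod 2) : q a (0 : Fin n → ZMod 2) 0 ∈ Subgroup.zpowers (zt : GG n) := by
  rcases zmod2_cases a with h | h
  · rw [h, q_zero]; exact Subgroup.one_mem _
  · rw [h, q_one]; exact Subgroup.mem_zpowers _

theorem q_a_cases (a : ZMod 2) : q a (0 : Fin n → ZMod 2) 0 = 1 ∨ q a (0 : Fin n → ZMod 2) 0 = zt := by
  rcases zmod2_cases a with h | h
  · left; rw [h, q_zero]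
  · right; rw [h, q_one]

/-- an element centralizing all Heisenberg elements is `1` or the transvection -/
theorem cent_Q0 (g : GG n) (h : ∀ a b c, g * q a b c = q a b c * g) : g = 1 ∨ g = zt := by
  have hgC : g ∈ Subgroup.centralizer ({zt} : Set (GG n)) := by
    rw [Subgroup.mem_centralizer_iff]
    intro x hx
    rw [Set.mem_singleton_iff] at hx
    subst hx
    rw [← q_one]
    exact (h 1 0 0).symm
  obtain ⟨a, b, c, A, rfl⟩ := (mem_cent_iff g).1 hgC
  have key : ∀ a' b' c', a + a' + b ⬝ᵥ c' = a' + a + b' ⬝ᵥ c ∧ b' + b ᵥ* (1 : SLn n).1 = b + b' ᵥ* A.1 ∧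
      c + A.1 *ᵥ c' = c' + (1 : SLn n).1 *ᵥ c := by
    intro a' b' c'
    have := h a' b' c'
    unfold q at this
    rw [mkSL_mul, mkSL_mul] at this
    obtain ⟨h1, h2, h3, -⟩ := mkSL_inj this
    exact ⟨h1, h2, h3⟩
  have hb : b = 0 := by
    ext j
    have := (key 0 0 (Pi.single j 1)).1
    rw [dotProduct_single_one, zero_dotProduct] at this
    simpa using this
  have hc : c = 0 := by
    ext j
    have := (key 0 (Pi.single j 1) 0).1
    rw [single_one_dotProduct, dotProduct_zero] at this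
    simpa using this.symm
  have hA : A = 1 := by
    apply Matrix.SpecialLinearGroup.ext
    intro i j
    have := (key 0 0 (Pi.single j 1)).2.2
    rw [hc, Matrix.SpecialLinearGroup.coe_one, mulVec_zero, zero_add, add_zero,
      mulVec_single_one] at this
    have h2 := congrFun this i
    rw [Matrix.col_apply] at h2
    rw [h2, Matrix.SpecialLinearGroup.coe_one, Matrix.one_apply, Pi.single_apply]
  subst hb hc hA
  exact q_a_cases a

end Cfsg.Agent.Lib.Helper90.SLT
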