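import Mathlib
import Cfsg.Prelude.Def_Transfer
import Cfsg.Agent.Lib.Helper90.SLTransvE
import Cfsg.Agent.Lib.Helper29.SympHallB

set_option autoImplicit false

/-!
`Q0` is extraspecial; the elementary abelian subgroup `E0`; the complement `K0`.
-/

namespace Cfsg.Agent.Lib.Helper90.SLT

open Matrix

variable {n : ℕ}

theorem zt_mem_Q0 : (zt : GG n) ∈ Q0 n := by
  rw [← q_one]; exact q_mem _ _ _

theorem q_comm_factor (a a' : ZMod 2) (b b' c c' : Fin n → ZMod 2) :
    q a b c * q a' b' c' = q (b ⬝ᵥ c' + b' ⬝ᵥ c) 0 0 * (q a' b' c' * q a b c) := by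
  rw [q_mul, q_mul, q_mul]
  congr 1
  · rw [zero_dotProduct]
    linear_combination (-(b' ⬝ᵥ c)) * (CharTwo.two_eq_zero (R := ZMod 2))
  · rw [zero_add, add_comm]
  · rw [zero_add, add_comm]

theorem extraspecial_Q0 (hn : 1 ≤ n) : Cfsg.IsExtraspecial 2 ↥(Q0 n) := by
  have : Fact (Nat.Prime 2) := ⟨Nat.prime_two⟩
  refine Cfsg.Agent.Lib.Helper29.isExtraspecial_subgroup_of_elem (Q0 n) isPGroup_Q0 zt zt_mem_Q0
    orderOf_zt ?_ ?_ ?_ ?_ ?_
  · intro g hg
    have := Q0_le hg
    rw [Subgroup.mem_centralizer_iff] at this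
    exact this zt rfl
  · intro x hx y hy
    obtain ⟨a, b, c, rfl⟩ := (mem_Q0 x).1 hx
    obtain ⟨a', b', c', rfl⟩ := (mem_Q0 y).1 hy
    have h2 : Cfsg.Agent.Lib.Helper29.cm (q a b c) (q a' b' c') =
        q (b ⬝ᵥ c' + b' ⬝ᵥ c) 0 0 := by
      unfold Cfsg.Agent.Lib.Helper29.cm
      rw [q_comm_factor]
      group
    rw [h2]
    exact q_a_mem_zpowers _
  · intro x hx
    obtain ⟨a, b, c, rfl⟩ := (mem_Q0 x).1 hx
    rw [pow_two, q_sq]
    exact q_a_mem_zpowers _
  · intro x _ hcomm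
    rcases cent_Q0 x (fun a b c => hcomm _ (q_mem a b c)) with h | h
    · rw [h]; exact Subgroup.one_mem _
    · rw [h]; exact Subgroup.mem_zpowers _
  · let i0 : Fin n := ⟨0, by omega⟩
    refine ⟨q 0 (Pi.single i0 1) 0, q_mem _ _ _, q 0 0 (Pi.single i0 1), q_mem _ _ _, ?_⟩
    rw [q_mul, q_mul]
    intro h
    have := (q_inj h).1
    rw [single_one_dotProduct, zero_dotProduct] at this
    simp at this

/-- the elementary abelian subgroup `c = 0` -/
def epsHom (n : ℕ) : Multiplicative (ZMod 2 × (Fin n → ZMod 2)) →* GG n where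
  toFun p := q (Multiplicative.toAdd p).1 (Multiplicative.toAdd p).2 0
  map_one' := q_zero
  map_mul' := by
    intro x y
    rw [q_mul, dotProduct_zero, add_zero, add_zero]
    rfl

theorem epsHom_injective : Function.Injective (epsHom n) := by
  intro x y h
  obtain ⟨h1, h2, -⟩ := q_inj h
  apply Multiplicative.toAdd.injective
  exact Prod.ext h1 h2

/-- the elementary abelian subgroup of order `2^(n+1)` -/
def E0 (n : ℕ) : Subgroup (GG n) := (epsHom n).range

theorem E0_le : E0 n ≤ Q0 n := by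
  rintro _ ⟨p, rfl⟩
  exact q_mem _ _ _

theorem card_E0 : Nat.card (E0 n) = 2 ^ (n + 1) := by
  unfold E0
  rw [← Nat.card_congr (MonoidHom.ofInjective epsHom_injective).toEquiv]
  show Nat.card (ZMod 2 × (Fin n → ZMod 2)) = _
  rw [Nat.card_prod, Nat.card_eq_fintype_card, Nat.card_eq_fintype_card, Fintype.card_fun,
    ZMod.card, Fintype.card_fin]
  ring

theorem E0_elementary : Cfsg.IsElementaryAbelian 2 (E0 n) := by
  constructor
  · constructor
    constructor
    rintro ⟨_, ⟨x, rfl⟩⟩ ⟨_, ⟨y, rfl⟩⟩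
    apply Subtype.ext
    show epsHom n x * epsHom n y = epsHom n y * epsHom n x
    rw [← map_mul, ← map_mul, mul_comm]
  · rintro _ ⟨x, rfl⟩
    rw [← map_pow]
    have : x ^ 2 = 1 := by
      apply Multiplicative.toAdd.injective
      show (2 : ℕ) • Multiplicative.toAdd x = 0
      rw [two_nsmul]
      ext
      · exact two_add _
      · exact congrFun (two_add_fun _) _
    rw [this, map_one]

/-- the embedding of `SL_n(2)` -/
def iotaHom (n : ℕ) : SLn n →* GG n where
  toFun A := mkSL 0 0 0 A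
  map_one' := mkSL_one
  map_mul' := by
    intro A B
    rw [mkSL_mul]
    congr 1
    · simp
    · simp
    · simp

theorem iotaHom_injective : Function.Injective (iotaHom n) := by
  intro A B h
  exact (mkSL_inj h).2.2.2

/-- the complement -/
def K0 (n : ℕ) : Subgroup (GG n) := (iotaHom n).range

theorem K0_le : K0 n ≤ Subgroup.centralizer ({zt} : Set (GG n)) := by
  rintro _ ⟨A, rfl⟩
  exact mkSL_mem _ _ _ _

theorem Q0_inf_K0 : Q0 n ⊓ K0 n = ⊥ := by
  rw [eq_bot_iff]
  rintro g ⟨hg1, ⟨A, rfl⟩⟩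
  obtain ⟨a, b, c, h⟩ := (mem_Q0 _).1 hg1
  have hA : A = 1 := (mkSL_inj h).2.2.2
  rw [Subgroup.mem_bot, hA]
  exact mkSL_one

theorem Q0_sup_K0 : Q0 n ⊔ K0 n = Subgroup.centralizer ({zt} : Set (GG n)) := by
  apply le_antisymm
  · exact sup_le Q0_le K0_le
  · intro g hg
    obtain ⟨a, b, c, A, rfl⟩ := (mem_cent_iff g).1 hg
    have h1 : mkSL a b c A = q a (b ᵥ* (A⁻¹ : SLn n).1) c * mkSL 0 0 0 A := by
      unfold q
      rw [mkSL_mul]
      congr 1
      · simp
      · rw [zero_add, vecMul_vecMul, ← Matrix.SpecialLinearGroup.coe_mul, inv_mul_cancel,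
          Matrix.SpecialLinearGroup.coe_one, vecMul_one]
      · simp
      · rw [one_mul]
    rw [h1]
    exact Subgroup.mul_mem _ (Subgroup.mem_sup_left (q_mem _ _ _))
      (Subgroup.mem_sup_right ⟨A, rfl⟩)

theorem K0_equiv : Nonempty (↥(K0 n) ≃* SLn n) :=
  ⟨(MonoidHom.ofInjective iotaHom_injective).symm⟩

end Cfsg.Agent.Lib.Helper90.SLT
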