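import Mathlib
import Cfsg.Prelude.Def_MonsterType
import Cfsg.Agent.Lib.Helper90.SLTransvF
import Cfsg.Agent.Lib.Helper87.PCore
import Cfsg.Agent.Lib.Helper21.Layer
import Cfsg.Agent.Lib.Helper4.LargeExtra3
import Cfsg.Agent.S5427

set_option autoImplicit false
set_option linter.unusedSimpArgs false
set_option linter.unnecessarySeqFocus false

/-!
`Q0 = O_2(C(z))` and `Q0` is a large extraspecial subgroup of `SL_{n+2}(2)`, `n ≥ 2`.
-/

namespace Cfsg.Agent.Lib.Helper90.SLT

open Matrix Cfsg.Agent.Lib.Helper4.LX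

variable {n : ℕ}

theorem ker_isPGroup : IsPGroup 2 ↥(piHom (n := n)).ker := by
  have h1 : (Q0 n).comap (Subgroup.centralizer ({zt} : Set (GG n))).subtype = (piHom (n := n)).ker := by
    unfold Q0
    exact Subgroup.comap_map_eq_self_of_injective (Subgroup.subtype_injective _) _
  rw [← h1]
  exact isPGroup_Q0.comap_of_injective _ (Subgroup.subtype_injective _)

theorem pCore_eq_ker (hn : 2 ≤ n) :
    Cfsg.pCore 2 ↥(Subgroup.centralizer ({zt} : Set (GG n))) = (piHom (n := n)).ker := by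
  have : Fact (Nat.Prime 2) := ⟨Nat.prime_two⟩
  apply le_antisymm
  · rw [← Subgroup.map_eq_bot_iff]
    apply normal_two_subgroup_eq_bot hn
    · exact (Cfsg.Agent.Lib.Helper87.pCore_normal 2 _).map _ piHom_surjective
    · exact (Cfsg.Agent.Lib.Helper87.pCore_isPGroup 2 _).map _
  · exact Cfsg.Agent.Lib.Helper87.le_pCore inferInstance ker_isPGroup

theorem pCore_map_eq (hn : 2 ≤ n) :
    (Cfsg.pCore 2 ↥(Subgroup.centralizer ({zt} : Set (GG n)))).map
      (Subgroup.centralizer ({zt} : Set (GG n))).subtype = Q0 n := by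
  rw [pCore_eq_ker hn]
  rfl

theorem conj_mem_Q0 {g h : GG n} (hg : g ∈ Subgroup.centralizer ({zt} : Set (GG n)))
    (hh : h ∈ Q0 n) : g * h * g⁻¹ ∈ Q0 n := by
  unfold Q0 at hh ⊢
  rw [Subgroup.mem_map] at hh ⊢
  obtain ⟨x, hx, hxh⟩ := hh
  have hnorm : ((piHom (n := n)).ker).Normal := inferInstance
  have h1 := hnorm.conj_mem x hx ⟨g, hg⟩
  refine ⟨_, h1, ?_⟩
  rw [← hxh]
  simp only [Subgroup.subtype_apply, Subgroup.coe_mul, InvMemClass.coe_inv]

theorem cent_le_normalizer_Q0 :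
    Subgroup.centralizer ({zt} : Set (GG n)) ≤ Subgroup.normalizer (Q0 n : Set (GG n)) := by
  intro g hg
  rw [Subgroup.mem_normalizer_iff]
  intro h
  constructor
  · exact conj_mem_Q0 hg
  · intro hh
    have := conj_mem_Q0 (Subgroup.inv_mem _ hg) hh
    have e : g⁻¹ * (g * h * g⁻¹) * g⁻¹⁻¹ = h := by group
    rwa [e] at this

theorem centralizer_Q0 : ∀ g : GG n, g ∈ Subgroup.centralizer (Q0 n : Set (GG n)) ↔
    g = 1 ∨ g = zt := by
  intro g
  constructor
  · intro hg
    rw [Subgroup.mem_centralizer_iff] at hg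
    exact cent_Q0 g (fun a b c => (hg _ (q_mem a b c)).symm)
  · rintro (rfl | rfl)
    · exact Subgroup.one_mem _
    · rw [Subgroup.mem_centralizer_iff]
      intro h hh
      have := Q0_le hh
      rw [Subgroup.mem_centralizer_iff] at this
      exact (this zt rfl).symm

theorem center_Q0 : ∀ g : GG n, g ∈ (Subgroup.center ↥(Q0 n)).map (Q0 n).subtype ↔
    g = 1 ∨ g = zt := by
  intro g
  rw [Cfsg.Agent.Lib.Helper21.mem_map_center_iff]
  constructor
  · rintro ⟨_, h2⟩
    exact cent_Q0 g (fun a b c => (h2 _ (q_mem a b c)).symm)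
  · intro h
    have h1 := (centralizer_Q0 g).2 h
    rw [Subgroup.mem_centralizer_iff] at h1
    refine ⟨?_, fun k hk => h1 k hk⟩
    rcases h with rfl | rfl
    · exact Subgroup.one_mem _
    · exact zt_mem_Q0

theorem conj_zt (i0 : Fin n) :
    ∃ k : GG n, k * zt * k⁻¹ = q 1 (Pi.single i0 1) 0 := by
  have hdot : (Pi.single (i0.succ.succ) 1 : Fin (n + 2) → ZMod 2) ⬝ᵥ
      (Pi.single (1 : Fin (n + 2)) 1 : Fin (n + 2) → ZMod 2) = 0 := by
    rw [single_dotProduct, one_mul, Pi.single_apply, if_neg (ss_ne_one _)]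
  refine ⟨Tsl _ _ hdot, ?_⟩
  have key : Tsl _ _ hdot * zt = q 1 (Pi.single i0 1) 0 * Tsl _ _ hdot := by
    apply Subtype.ext
    rw [Matrix.SpecialLinearGroup.coe_mul, Matrix.SpecialLinearGroup.coe_mul, Tsl_coe]
    unfold zt q
    rw [mkSL_coe, mkSL_coe, T_mul, mul_T, single_one_vecMul, mulVec_single_one,
      Matrix.SpecialLinearGroup.coe_one]
    ext i j
    obtain rfl | rfl | ⟨i, rfl⟩ := fin3 i <;> obtain rfl | rfl | ⟨j, rfl⟩ := fin3 j <;>
      simp [vecMulVec_apply, Matrix.row_apply, Matrix.col_apply, Pi.single_apply, ss_ne_zero,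
        ss_ne_one, zero_ne_one', (ss_ne_zero _).symm, (ss_ne_one _).symm, zero_ne_one'.symm,
        Fin.succ_inj, Matrix.one_apply] <;>
      (by_cases h : j = i0 <;>
        first
        | (rw [if_pos h]; decide)
        | (rw [if_neg h]; decide)
        | (rw [if_pos h, if_pos h.symm])
        | (rw [if_neg h, if_neg (fun h' => h h'.symm)]))
  rw [key]
  group

theorem large_Q0 (hn : 2 ≤ n) : Cfsg.IsLargeExtraspecial (Q0 n) := by
  have hn1 : 1 ≤ n := by omega
  refine ⟨extraspecial_Q0 hn1, ?_, ?_, ?_⟩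
  · ext g
    rw [centralizer_Q0, center_Q0]
  · intro g hg
    apply cent_le_normalizer_Q0
    rw [Subgroup.mem_centralizer_iff] at hg ⊢
    intro h hh
    rw [Set.mem_singleton_iff] at hh
    subst hh
    exact hg _ ((center_Q0 _).2 (Or.inr rfl))
  · intro D hD hQD
    have hspec : Spec (Cfsg.Agent.S5427.Qf (GG n)) := Cfsg.Agent.S5427.spec_Qf
    have hQf : Cfsg.Agent.S5427.Qf (GG n) zt = Q0 n := pCore_map_eq hn
    have hLE : LE (Cfsg.Agent.S5427.Qf (GG n)) zt := by
      refine LE.of_hyp hspec orderOf_zt ?_ ?_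
      · rw [hQf]; exact extraspecial_Q0 hn1
      · rw [hQf]
        intro g hg
        rcases (centralizer_Q0 g).1 hg with rfl | rfl
        · exact Subgroup.one_mem _
        · exact zt_mem_Q0
    obtain ⟨k, hk⟩ := conj_zt (⟨0, hn1⟩ : Fin n)
    have hLEu := hLE.conj hspec k
    have hcard := (card_Q_conj hspec k (zt : GG n)).le
    rw [hk] at hLEu hcard
    have huQ : q 1 (Pi.single (⟨0, hn1⟩ : Fin n) 1) 0 ∈ Cfsg.Agent.S5427.Qf (GG n) zt := by
      rw [hQf]; exact q_mem _ _ _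
    have hzu := LE.symm_mem hspec hLE hLEu hcard huQ
    refine Cfsg.Agent.S5427.odd_trivial hLE _ huQ ?_ ?_ ?_ hzu D hD (by rw [hQf]; exact hQD)
    · rw [← q_zero]
      intro h
      exact one_ne_zero (q_inj h).1
    · rw [← q_one]
      intro h
      have := congrFun (q_inj h).2.1 ⟨0, hn1⟩
      simp at this
    · rw [q_sq, dotProduct_zero, q_zero]

end Cfsg.Agent.Lib.Helper90.SLT
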