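import Mathlib

set_option autoImplicit false

namespace Cfsg.Agent.Lib.Helper90

variable {G : Type*} [Group G]

/-- Every `p`-subgroup is conjugate into a given Sylow `p`-subgroup. -/
theorem exists_conj_mem_sylow [Finite G] {p : ℕ} [Fact p.Prime] (P : Sylow p G)
    (K : Subgroup G) (hK : IsPGroup p K) : ∃ d : G, ∀ k ∈ K, d⁻¹ * k * d ∈ (P : Subgroup G) := by
  obtain ⟨P', hP'⟩ := hK.exists_le_sylow
  obtain ⟨g, hg⟩ := MulAction.exists_smul_eq G P P'
  refine ⟨g, fun k hk => ?_⟩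
  have h1 : k ∈ ((g • P : Sylow p G) : Subgroup G) := by rw [hg]; exact hP' hk
  rw [Sylow.coe_subgroup_smul, Subgroup.mem_pointwise_smul_iff_inv_smul_mem] at h1
  simpa [MulAut.smul_def, mul_assoc] using h1

theorem isPGroup_zpowers_of_pow {p : ℕ} (y : G) (k : ℕ) (h : y ^ (p ^ k) = 1) :
    IsPGroup p (Subgroup.zpowers y) := by
  rintro ⟨g, hg⟩
  obtain ⟨n, rfl⟩ := Subgroup.mem_zpowers_iff.mp hg
  refine ⟨k, ?_⟩
  ext
  simp only [Subgroup.coe_pow, Subgroup.coe_one]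
  rw [← zpow_natCast, ← zpow_mul, mul_comm, zpow_mul, zpow_natCast, h, one_zpow]

/-- A `p`-element `u` of a subgroup `M` containing the Sylow `p`-subgroup `S` of `G` is `M`-conjugate into `S`. -/
theorem exists_conj_mem_of_le [Finite G] {p : ℕ} [Fact p.Prime] (S : Sylow p G) (M : Subgroup G)
    (hSM : (S : Subgroup G) ≤ M) (u : G) (hu : u ∈ M) (k : ℕ) (huk : u ^ (p ^ k) = 1) :
    ∃ d ∈ M, d⁻¹ * u * d ∈ (S : Subgroup G) := by
  have hK : IsPGroup p (Subgroup.zpowers (⟨u, hu⟩ : M)) := by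
    apply isPGroup_zpowers_of_pow _ k
    ext
    simpa using huk
  obtain ⟨d, hd⟩ := exists_conj_mem_sylow (S.subtype hSM) _ hK
  refine ⟨d, d.2, ?_⟩
  have := hd ⟨u, hu⟩ (Subgroup.mem_zpowers _)
  rw [Sylow.coe_subtype, Subgroup.mem_subgroupOf] at this
  simpa using this

end Cfsg.Agent.Lib.Helper90
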