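import Cfsg.Agent.Lib.Helper60.U3ConjDefs
import Cfsg.Agent.Lib.Helper33.U3ACT

/-! # U3-CONJ sub-hive (helper60) of the U3 hive (S2283): shared auxiliary lemmas of helper90's leaves
(`CJ-INV1`, `CJ-INV2b`, `CJ-NE`): the form and determinants in frame coordinates, `u1` in frame coordinates,
Frobenius images of the parameters. -/

set_option autoImplicit false

namespace Cfsg.Agent.Lib.Helper23.U3

open Matrix Cfsg.Agent.Lib.Helper99 Cfsg.Agent.Lib.Helper13 Cfsg.Agent.Lib.Helper90.Psu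

variable {F : Type*} [Field F] [Fintype F] {q : ℕ}

local notation "hh" => Cfsg.hermForm 3 F q

theorem cj90_hfe (hF : Fintype.card F = q ^ 2) (C : Cfg q F) : hh C.f C.e = 1 := by
  rw [← Helper13.hermForm_conj hF 3 C.e C.f, C.hef, one_pow]

theorem cj90_heε (hF : Fintype.card F = q ^ 2) (C : Cfg q F) : hh C.e C.ε = 0 := by
  have hq : q ≠ 0 := by have := Helper99.q_ge_two hF; omega
  rw [← Helper13.hermForm_conj hF 3 C.ε C.e, C.hεe, zero_pow hq]

theorem cj90_hfε (hF : Fintype.card F = q ^ 2) (C : Cfg q F) : hh C.f C.ε = 0 := by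
  have hq : q ≠ 0 := by have := Helper99.q_ge_two hF; omega
  rw [← Helper13.hermForm_conj hF 3 C.ε C.f, C.hεf, zero_pow hq]

/-- the form in frame coordinates -/
theorem cj90_hh_vec (hF : Fintype.card F = q ^ 2) (C : Cfg q F) (x1 x2 x3 y1 y2 y3 : F) :
    hh (C.vec x1 x2 x3) (C.vec y1 y2 y3) = x1 * y3 ^ q + x2 * y2 ^ q + x3 * y1 ^ q := by
  unfold Cfg.vec
  simp only [Helper13.hermForm_add_left, Helper13.hermForm_smul_left, Helper13.hermForm_add_right hF,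
    Helper13.hermForm_smul_right, C.hee, C.hff, C.hef, C.hεε, C.hεe, C.hεf, cj90_hfe hF C, cj90_heε hF C,
    cj90_hfε hF C]
  ring

theorem cj90_vec_e (C : Cfg q F) : C.vec 1 0 0 = C.e := by simp [Cfg.vec]
theorem cj90_vec_ε (C : Cfg q F) : C.vec 0 1 0 = C.ε := by simp [Cfg.vec]
theorem cj90_vec_f (C : Cfg q F) : C.vec 0 0 1 = C.f := by simp [Cfg.vec]

theorem cj90_vec_smul_f (C : Cfg q F) (t : F) : t • C.f = C.vec 0 0 t := by simp [Cfg.vec]

theorem cj90_vec_zero (C : Cfg q F) : C.vec 0 0 0 = 0 := by simp [Cfg.vec]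

theorem cj90_hh_vec_e (hF : Fintype.card F = q ^ 2) (C : Cfg q F) (x1 x2 x3 : F) :
    hh (C.vec x1 x2 x3) C.e = x3 := by
  have hq : q ≠ 0 := by have := Helper99.q_ge_two hF; omega
  rw [← cj90_vec_e C, cj90_hh_vec hF, zero_pow hq, one_pow]
  ring

theorem cj90_hh_vec_ε (hF : Fintype.card F = q ^ 2) (C : Cfg q F) (x1 x2 x3 : F) :
    hh (C.vec x1 x2 x3) C.ε = x2 := by
  have hq : q ≠ 0 := by have := Helper99.q_ge_two hF; omega
  rw [← cj90_vec_ε C, cj90_hh_vec hF, zero_pow hq, one_pow]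
  ring

theorem cj90_hh_vec_f (hF : Fintype.card F = q ^ 2) (C : Cfg q F) (x1 x2 x3 : F) :
    hh (C.vec x1 x2 x3) C.f = x1 := by
  have hq : q ≠ 0 := by have := Helper99.q_ge_two hF; omega
  rw [← cj90_vec_f C, cj90_hh_vec hF, zero_pow hq, one_pow]
  ring

/-- determinant of three vectors in frame coordinates -/
theorem cj90_det_vec (C : Cfg q F) (x1 x2 x3 y1 y2 y3 z1 z2 z3 : F) :
    (Matrix.of ![C.vec x1 x2 x3, C.vec y1 y2 y3, C.vec z1 z2 z3]).det =
      (Matrix.of ![![x1, x2, x3], ![y1, y2, y3], ![z1, z2, z3]]).det * C.frame.det := by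
  rw [← Matrix.det_mul]
  congr 1
  ext i j
  fin_cases i <;>
    simp [Matrix.mul_apply, Fin.sum_univ_three, Cfg.vec, Cfg.frame]

/-- `u1` in frame coordinates -/
theorem cj90_u1_vec (hF : Fintype.card F = q ^ 2) (C : Cfg q F) (x1 x2 x3 : F) :
    (C.u1 : Matrix (Fin 3) (Fin 3) F) *ᵥ C.vec x1 x2 x3 =
      C.vec (x1 - C.a ^ q * x2 + C.β * x3) (x2 + C.a * x3) x3 := by
  rw [act_u1 hF C, cj90_hh_vec_e hF, cj90_hh_vec_ε hF]
  unfold Cfg.vec
  ext j
  simp only [Pi.add_apply, Pi.sub_apply, Pi.smul_apply, smul_eq_mul]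
  ring

/-- `N = u1 - 1` in frame coordinates -/
theorem cj90_nilp_u1_vec (hF : Fintype.card F = q ^ 2) (C : Cfg q F) (x1 x2 x3 : F) :
    nilp C.u1 *ᵥ C.vec x1 x2 x3 = C.vec (- C.a ^ q * x2 + C.β * x3) (C.a * x3) 0 := by
  unfold nilp
  rw [Matrix.sub_mulVec, Matrix.one_mulVec, cj90_u1_vec hF]
  unfold Cfg.vec
  ext j
  simp only [Pi.add_apply, Pi.sub_apply, Pi.smul_apply, smul_eq_mul]
  ring

theorem cj90_mu_frob (C : Cfg q F) : C.μ ^ q = C.μ⁻¹ := by
  have h := C.hμ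
  rw [pow_succ] at h
  exact eq_inv_of_mul_eq_one_left h

theorem cj90_c_frob (C : Cfg q F) : C.c ^ q = - C.c := by
  have h := C.hc
  linear_combination h

theorem cj90_s_ne (C : Cfg q F) : C.s ≠ 0 := by
  unfold Cfg.s
  intro h
  apply C.hμ2
  have h0 := C.μ_ne_zero
  have h1 : C.μ⁻¹ = C.μ := sub_eq_zero.mp h
  calc C.μ ^ 2 = C.μ * C.μ := sq C.μ
    _ = C.μ * C.μ⁻¹ := by rw [h1]
    _ = 1 := mul_inv_cancel₀ h0

theorem cj90_s_frob (hF : Fintype.card F = q ^ 2) (C : Cfg q F) : C.s ^ q = - C.s := by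
  unfold Cfg.s
  rw [Helper99.frob_sub hF, Helper99.frob_inv, cj90_mu_frob C, inv_inv]
  ring

theorem cj90_t_frob (hF : Fintype.card F = q ^ 2) (C : Cfg q F) : C.t ^ q = C.t := by
  unfold Cfg.t
  rw [div_pow, Helper99.frob_neg hF, cj90_c_frob C, cj90_s_frob hF C]
  rw [neg_neg, div_neg, neg_div]

end Cfsg.Agent.Lib.Helper23.U3
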