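import Mathlib
import Cfsg.Prelude.Def_CaseTheorems
import Cfsg.Agent.Lib.Helper10.Card

set_option autoImplicit false

namespace Cfsg.Agent.Lib.Helper90

open Cfsg

/-- The data of a wreathed 2-group `Z_{2^n} ≀ Z_2`, unpacked from `Cfsg.IsWreathed`. -/
structure WrData (S : Type*) [Group S] (n : ℕ) (x y z : S) : Prop where
  hn : 2 ≤ n
  card : Nat.card S = 2 ^ (2 * n + 1)
  ox : orderOf x = 2 ^ n
  comm : x * y = y * x
  disj : Subgroup.zpowers x ⊓ Subgroup.zpowers y = ⊥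
  oz : orderOf z = 2
  conj : z * x * z⁻¹ = y

theorem exists_wrData {S : Type*} [Group S] (hS : Cfsg.IsWreathed S) :
    ∃ (n : ℕ) (x y z : S), WrData S n x y z := by
  obtain ⟨n, hn, hc, x, y, z, h1, h2, h3, h4, h5⟩ := hS
  exact ⟨n, x, y, z, ⟨hn, hc, h1, h2, h3, h4, h5⟩⟩

namespace WrData

variable {S : Type*} [Group S] {n : ℕ} {x y z : S}

section basic
variable (h : WrData S n x y z)
include h

theorem zz : z * z = 1 := by
  have := pow_orderOf_eq_one z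
  rwa [h.oz, sq] at this

theorem zinv : z⁻¹ = z := inv_eq_of_mul_eq_one_right h.zz

theorem conj' : z * y * z⁻¹ = x := by
  rw [← h.conj, h.zinv]
  calc z * (z * x * z) * z = (z * z) * x * (z * z) := by group
    _ = x := by rw [h.zz]; group

theorem zx : z * x = y * z := by
  calc z * x = (z * x * z⁻¹) * z := by group
    _ = y * z := by rw [h.conj]

theorem zy : z * y = x * z := by
  calc z * y = (z * y * z⁻¹) * z := by group
    _ = x * z := by rw [h.conj']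

theorem oy : orderOf y = 2 ^ n := by
  rw [← h.ox]
  have hs : SemiconjBy z x y := h.zx
  exact (hs.orderOf_eq z).symm

theorem commute_xy : Commute x y := h.comm

/-- The element `x^i y^j`. -/
def b (_h : WrData S n x y z) (i j : ℤ) : S := x ^ i * y ^ j

theorem b_def (i j : ℤ) : h.b i j = x ^ i * y ^ j := rfl

theorem b_mul (i j k l : ℤ) : h.b i j * h.b k l = h.b (i + k) (j + l) := by
  simp only [b_def]
  have h1 : Commute (y ^ j) (x ^ k) := (h.commute_xy.zpow_zpow k j).symm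
  calc x ^ i * y ^ j * (x ^ k * y ^ l) = x ^ i * (y ^ j * x ^ k) * y ^ l := by group
    _ = x ^ i * (x ^ k * y ^ j) * y ^ l := by rw [h1.eq]
    _ = x ^ (i + k) * y ^ (j + l) := by rw [zpow_add, zpow_add]; group

theorem b_zero : h.b 0 0 = 1 := by simp [b_def]

theorem b_inv (i j : ℤ) : (h.b i j)⁻¹ = h.b (-i) (-j) := by
  apply inv_eq_of_mul_eq_one_right
  rw [b_mul]; simp [b_def]

theorem b_comm (i j k l : ℤ) : h.b i j * h.b k l = h.b k l * h.b i j := by
  rw [b_mul, b_mul, add_comm i k, add_comm j l]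

theorem z_xpow (i : ℤ) : z * x ^ i = y ^ i * z := by
  have hs : SemiconjBy z x y := h.zx
  exact (hs.zpow_right i).eq

theorem z_ypow (i : ℤ) : z * y ^ i = x ^ i * z := by
  have hs : SemiconjBy z y x := h.zy
  exact (hs.zpow_right i).eq

theorem z_b (i j : ℤ) : z * h.b i j = h.b j i * z := by
  simp only [b_def]
  calc z * (x ^ i * y ^ j) = (z * x ^ i) * y ^ j := by group
    _ = y ^ i * (z * y ^ j) := by rw [h.z_xpow]; group
    _ = y ^ i * x ^ j * z := by rw [h.z_ypow]; group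
    _ = x ^ j * y ^ i * z := by rw [(h.commute_xy.zpow_zpow j i).eq]

theorem b_z_b_z (i j k l : ℤ) : (h.b i j * z) * (h.b k l * z) = h.b (i + l) (j + k) := by
  calc (h.b i j * z) * (h.b k l * z) = h.b i j * (z * h.b k l) * z := by group
    _ = h.b i j * (h.b l k * z) * z := by rw [h.z_b]
    _ = h.b i j * h.b l k * (z * z) := by group
    _ = h.b (i + l) (j + k) := by rw [h.zz, mul_one, h.b_mul]

theorem b_mul_b_z (i j k l : ℤ) : h.b i j * (h.b k l * z) = h.b (i + k) (j + l) * z := by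
  rw [← mul_assoc, h.b_mul]

theorem b_z_mul_b (i j k l : ℤ) : (h.b i j * z) * h.b k l = h.b (i + l) (j + k) * z := by
  calc (h.b i j * z) * h.b k l = h.b i j * (z * h.b k l) := by group
    _ = h.b i j * (h.b l k * z) := by rw [h.z_b]
    _ = h.b (i + l) (j + k) * z := by rw [← mul_assoc, h.b_mul]

theorem b_eq_one_iff (i j : ℤ) : h.b i j = 1 ↔ ((2 : ℤ) ^ n ∣ i ∧ (2 : ℤ) ^ n ∣ j) := by
  have hox : ((orderOf x : ℕ) : ℤ) = (2 : ℤ) ^ n := by rw [h.ox]; norm_cast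
  have hoy : ((orderOf y : ℕ) : ℤ) = (2 : ℤ) ^ n := by rw [h.oy]; norm_cast
  constructor
  · intro hb
    have h1 : x ^ i = (y ^ j)⁻¹ := eq_inv_of_mul_eq_one_left hb
    have h2 : x ^ i ∈ Subgroup.zpowers x ⊓ Subgroup.zpowers y := by
      refine ⟨Subgroup.zpow_mem_zpowers x i, ?_⟩
      rw [h1]
      exact Subgroup.inv_mem _ (Subgroup.zpow_mem_zpowers y j)
    rw [h.disj, Subgroup.mem_bot] at h2
    have h3 : y ^ j = 1 := by
      rw [b_def, h2, one_mul] at hb; exact hb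
    rw [← hox]
    refine ⟨orderOf_dvd_iff_zpow_eq_one.mpr h2, ?_⟩
    rw [hox, ← hoy]
    exact orderOf_dvd_iff_zpow_eq_one.mpr h3
  · rintro ⟨h1, h2⟩
    rw [← hox] at h1
    rw [← hoy] at h2
    rw [b_def, orderOf_dvd_iff_zpow_eq_one.mp h1, orderOf_dvd_iff_zpow_eq_one.mp h2, one_mul]

theorem b_eq_b_iff (i j k l : ℤ) :
    h.b i j = h.b k l ↔ ((2 : ℤ) ^ n ∣ i - k ∧ (2 : ℤ) ^ n ∣ j - l) := by
  rw [← h.b_eq_one_iff]
  constructor
  · intro he
    have : h.b (i - k) (j - l) = h.b i j * (h.b k l)⁻¹ := by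
      rw [h.b_inv, h.b_mul]; congr 1 <;> ring
    rw [this, he, mul_inv_cancel]
  · intro he
    have : h.b i j = h.b (i - k) (j - l) * h.b k l := by
      rw [h.b_mul]; congr 1 <;> ring
    rw [this, he, one_mul]

end basic

section struct
variable (h : WrData S n x y z)
include h

theorem two_pow_ge_four : (4 : ℤ) ≤ (2 : ℤ) ^ n := by
  have h1 : (2 : ℤ) ^ 2 ≤ (2 : ℤ) ^ n := pow_le_pow_right₀ (by norm_num) h.hn
  simpa using h1

theorem not_dvd_one : ¬ ((2 : ℤ) ^ n ∣ 1) := by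
  intro hd
  have := Int.le_of_dvd (by norm_num) hd
  have := h.two_pow_ge_four
  omega

theorem not_dvd_neg_one : ¬ ((2 : ℤ) ^ n ∣ -1) := by
  intro hd
  exact h.not_dvd_one ((dvd_neg).mp hd)

/-- The base group `⟨x⟩⟨y⟩`. -/
def B (_h : WrData S n x y z) : Subgroup S := Subgroup.zpowers x ⊔ Subgroup.zpowers y

theorem zpowers_x_le_normalizer :
    Subgroup.zpowers x ≤ Subgroup.normalizer (Subgroup.zpowers y : Set S) := by
  refine le_trans ?_ (Subgroup.centralizer_le_normalizer _)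
  rw [Subgroup.zpowers_le, Subgroup.mem_centralizer_iff]
  intro g hg
  obtain ⟨j, rfl⟩ := Subgroup.mem_zpowers_iff.mp hg
  exact ((h.commute_xy.zpow_right j).eq).symm

theorem b_mem_B (i j : ℤ) : h.b i j ∈ h.B :=
  Subgroup.mul_mem _ (Subgroup.mem_sup_left (Subgroup.zpow_mem_zpowers x i))
    (Subgroup.mem_sup_right (Subgroup.zpow_mem_zpowers y j))

theorem mem_B_iff (s : S) : s ∈ h.B ↔ ∃ i j : ℤ, s = h.b i j := by
  constructor
  · intro hs
    have h1 := Cfsg.Agent.Lib.Helper10.mul_set_eq_sup_of_le_normalizer h.zpowers_x_le_normalizer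
    have hs' : s ∈ ((Subgroup.zpowers x ⊔ Subgroup.zpowers y : Subgroup S) : Set S) := hs
    rw [← h1] at hs'
    obtain ⟨a, ha, c, hc, rfl⟩ := hs'
    obtain ⟨i, rfl⟩ := Subgroup.mem_zpowers_iff.mp ha
    obtain ⟨j, rfl⟩ := Subgroup.mem_zpowers_iff.mp hc
    exact ⟨i, j, rfl⟩
  · rintro ⟨i, j, rfl⟩
    exact h.b_mem_B i j

theorem card_B [Finite S] : Nat.card h.B = 2 ^ (2 * n) := by
  have h1 := Cfsg.Agent.Lib.Helper10.card_sup_mul_card_inf h.zpowers_x_le_normalizer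
  rw [h.disj, Subgroup.card_bot, mul_one, Nat.card_zpowers, Nat.card_zpowers, h.ox, h.oy] at h1
  show Nat.card ↥(Subgroup.zpowers x ⊔ Subgroup.zpowers y) = 2 ^ (2 * n)
  rw [h1, ← pow_add, two_mul]

theorem index_B [Finite S] : h.B.index = 2 := by
  have h1 := Subgroup.card_mul_index h.B
  rw [h.card_B, h.card, pow_succ] at h1
  exact Nat.eq_of_mul_eq_mul_left (by positivity) h1

theorem x_ne_one : x ≠ 1 := by
  intro hx
  have := h.ox
  rw [hx, orderOf_one] at this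
  have h4 : 2 ^ 2 ≤ 2 ^ n := Nat.pow_le_pow_right (by norm_num) h.hn
  omega

theorem x_ne_y : x ≠ y := by
  intro hxy
  have h2 : x ∈ Subgroup.zpowers x ⊓ Subgroup.zpowers y :=
    ⟨Subgroup.mem_zpowers x, hxy ▸ Subgroup.mem_zpowers x⟩
  rw [h.disj, Subgroup.mem_bot] at h2
  exact h.x_ne_one h2

theorem z_not_mem_B : z ∉ h.B := by
  intro hz
  obtain ⟨i, j, hij⟩ := (h.mem_B_iff z).mp hz
  have h1 : z * x = x * z := by
    have hx : x = h.b 1 0 := by simp [b_def]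
    rw [hij]
    nth_rewrite 2 [hx]
    nth_rewrite 3 [hx]
    exact h.b_comm i j 1 0
  rw [h.zx] at h1
  exact h.x_ne_y (mul_right_cancel h1).symm

theorem cases [Finite S] (s : S) : (∃ i j : ℤ, s = h.b i j) ∨ (∃ i j : ℤ, s = h.b i j * z) := by
  by_cases hs : s ∈ h.B
  · left; exact (h.mem_B_iff s).mp hs
  · right
    have h1 : s * z ∈ h.B := by
      rw [Subgroup.mul_mem_iff_of_index_two h.index_B]
      exact ⟨fun hh => absurd hh hs, fun hh => absurd hh h.z_not_mem_B⟩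
    obtain ⟨i, j, hij⟩ := (h.mem_B_iff _).mp h1
    refine ⟨i, j, ?_⟩
    rw [← hij, mul_assoc, h.zz, mul_one]

theorem b_z_not_mem_B (i j : ℤ) : h.b i j * z ∉ h.B := by
  intro hh
  apply h.z_not_mem_B
  have := h.B.mul_mem (h.B.inv_mem (h.b_mem_B i j)) hh
  simpa using this

theorem b_z_ne_b (i j k l : ℤ) : h.b i j * z ≠ h.b k l := by
  intro he
  exact h.b_z_not_mem_B i j (he ▸ h.b_mem_B k l)

theorem b_z_eq_b_z_iff (i j k l : ℤ) :
    h.b i j * z = h.b k l * z ↔ ((2 : ℤ) ^ n ∣ i - k ∧ (2 : ℤ) ^ n ∣ j - l) := by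
  rw [← h.b_eq_b_iff]
  exact mul_left_inj z

theorem B_normal [Finite S] : h.B.Normal := Subgroup.normal_of_index_eq_two h.index_B

/-- The centre consists of the diagonal elements `x^i y^i`. -/
theorem mem_center_iff [Finite S] (s : S) : s ∈ Subgroup.center S ↔ ∃ i : ℤ, s = h.b i i := by
  constructor
  · intro hs
    rw [Subgroup.mem_center_iff] at hs
    rcases h.cases s with ⟨i, j, rfl⟩ | ⟨i, j, rfl⟩
    · have h1 := hs z
      rw [h.z_b] at h1
      have h2 : h.b j i = h.b i j := mul_right_cancel h1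
      rw [h.b_eq_b_iff] at h2
      refine ⟨i, ?_⟩
      rw [h.b_eq_b_iff]
      refine ⟨by simp, ?_⟩
      have := h2.1
      exact this
    · exfalso
      have h1 := hs (h.b 1 0)
      rw [h.b_mul_b_z, h.b_z_mul_b, h.b_z_eq_b_z_iff] at h1
      have := h1.1
      apply h.not_dvd_one
      have e : (1 + i - (i + 0) : ℤ) = 1 := by ring
      rwa [e] at this
  · rintro ⟨i, rfl⟩
    rw [Subgroup.mem_center_iff]
    intro g
    rcases h.cases g with ⟨k, l, rfl⟩ | ⟨k, l, rfl⟩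
    · exact h.b_comm k l i i
    · rw [h.b_z_mul_b, h.b_mul_b_z, add_comm k i, add_comm l i]

end struct

section invol
variable (h : WrData S n x y z)
include h

theorem two_pow_eq : (2 : ℤ) ^ n = 2 * (2 : ℤ) ^ (n - 1) := by
  have : n = (n - 1) + 1 := by have := h.hn; omega
  conv_lhs => rw [this, pow_succ]
  ring

theorem half_pos : (0 : ℤ) < (2 : ℤ) ^ (n - 1) := by positivity

theorem not_dvd_half : ¬ ((2 : ℤ) ^ n ∣ (2 : ℤ) ^ (n - 1)) := by
  intro hd
  have h1 := Int.le_of_dvd h.half_pos hd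
  have h2 := h.two_pow_eq
  have h3 := h.half_pos
  omega

/-- Elements `x^i y^j` with `i`, `j` divisible by `2^(n-1)`. -/
theorem b_half (i j : ℤ) (hi : (2 : ℤ) ^ (n - 1) ∣ i) (hj : (2 : ℤ) ^ (n - 1) ∣ j) :
    h.b i j = h.b 0 0 ∨ h.b i j = h.b ((2 : ℤ) ^ (n - 1)) 0 ∨ h.b i j = h.b 0 ((2 : ℤ) ^ (n - 1)) ∨
      h.b i j = h.b ((2 : ℤ) ^ (n - 1)) ((2 : ℤ) ^ (n - 1)) := by
  obtain ⟨k, rfl⟩ := hi
  obtain ⟨l, rfl⟩ := hj
  have hN := h.two_pow_eq
  have key : ∀ m : ℤ, ((2 : ℤ) ^ n ∣ (2 : ℤ) ^ (n - 1) * m - 0) ∨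
      ((2 : ℤ) ^ n ∣ (2 : ℤ) ^ (n - 1) * m - (2 : ℤ) ^ (n - 1)) := by
    intro m
    rcases Int.emod_two_eq_zero_or_one m with hm | hm
    · left
      obtain ⟨q, hq⟩ : (2 : ℤ) ∣ m := Int.dvd_of_emod_eq_zero hm
      refine ⟨q, ?_⟩
      rw [hN, hq]; ring
    · right
      have : (2 : ℤ) ∣ m - 1 := by omega
      obtain ⟨q, hq⟩ := this
      refine ⟨q, ?_⟩
      have : m = 2 * q + 1 := by omega
      rw [hN, this]; ring
  rcases key k with hk | hk <;> rcases key l with hl | hl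
  · left; rw [h.b_eq_b_iff]; exact ⟨hk, hl⟩
  · right; right; left; rw [h.b_eq_b_iff]; exact ⟨hk, hl⟩
  · right; left; rw [h.b_eq_b_iff]; exact ⟨hk, hl⟩
  · right; right; right; rw [h.b_eq_b_iff]; exact ⟨hk, hl⟩

theorem dvd_half_of_dvd_two_mul (i : ℤ) (hi : (2 : ℤ) ^ n ∣ 2 * i) : (2 : ℤ) ^ (n - 1) ∣ i := by
  rw [h.two_pow_eq] at hi
  exact (mul_dvd_mul_iff_left (by norm_num)).mp hi

/-- Classification of the elements of square one. -/
theorem sq_eq_one_cases [Finite S] (s : S) (hs : s * s = 1) :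
    (s = 1 ∨ s = h.b ((2 : ℤ) ^ (n - 1)) 0 ∨ s = h.b 0 ((2 : ℤ) ^ (n - 1)) ∨
      s = h.b ((2 : ℤ) ^ (n - 1)) ((2 : ℤ) ^ (n - 1))) ∨ ∃ i : ℤ, s = h.b i (-i) * z := by
  rcases h.cases s with ⟨i, j, rfl⟩ | ⟨i, j, rfl⟩
  · left
    rw [h.b_mul, h.b_eq_one_iff] at hs
    have hi := h.dvd_half_of_dvd_two_mul i (by rw [two_mul]; exact hs.1)
    have hj := h.dvd_half_of_dvd_two_mul j (by rw [two_mul]; exact hs.2)
    have := h.b_half i j hi hj
    rw [h.b_zero] at this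
    exact this
  · right
    rw [h.b_z_b_z, h.b_eq_one_iff] at hs
    refine ⟨i, ?_⟩
    rw [h.b_z_eq_b_z_iff]
    refine ⟨by simp, ?_⟩
    have := hs.1
    rwa [sub_neg_eq_add, add_comm]

theorem conj_z (i : ℤ) : h.b i 0 * z * (h.b i 0)⁻¹ = h.b i (-i) * z := by
  rw [h.b_inv, h.b_z_mul_b]
  simp

theorem conj_half : z * h.b ((2 : ℤ) ^ (n - 1)) 0 * z⁻¹ = h.b 0 ((2 : ℤ) ^ (n - 1)) := by
  rw [h.z_b]; group

theorem half_sq (i j : ℤ) (hi : (2 : ℤ) ^ (n - 1) ∣ i) (hj : (2 : ℤ) ^ (n - 1) ∣ j) :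
    h.b i j * h.b i j = 1 := by
  rw [h.b_mul, h.b_eq_one_iff, h.two_pow_eq, ← two_mul, ← two_mul]
  exact ⟨mul_dvd_mul_left 2 hi, mul_dvd_mul_left 2 hj⟩

theorem b_half_zero_ne_one : h.b ((2 : ℤ) ^ (n - 1)) 0 ≠ 1 := by
  intro he
  rw [h.b_eq_one_iff] at he
  exact h.not_dvd_half he.1

theorem b_half_half_ne_one : h.b ((2 : ℤ) ^ (n - 1)) ((2 : ℤ) ^ (n - 1)) ≠ 1 := by
  intro he
  rw [h.b_eq_one_iff] at he
  exact h.not_dvd_half he.1

theorem b_half_zero_ne_half_half :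
    h.b ((2 : ℤ) ^ (n - 1)) 0 ≠ h.b ((2 : ℤ) ^ (n - 1)) ((2 : ℤ) ^ (n - 1)) := by
  intro he
  rw [h.b_eq_b_iff] at he
  have := he.2
  rw [zero_sub, dvd_neg] at this
  exact h.not_dvd_half this

theorem z_ne_one : z ≠ 1 := by
  intro hz
  exact h.z_not_mem_B (hz ▸ h.B.one_mem)

end invol

end WrData

end Cfsg.Agent.Lib.Helper90
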