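import Mathlib
import Cfsg.Agent.Lib.Helper90.Wreathed

set_option autoImplicit false

namespace Cfsg.Agent.Lib.Helper90

namespace WrData

variable {S : Type*} [Group S] {n : ℕ} {x y z : S}

section cent
variable (h : WrData S n x y z)
include h

theorem b_mem_center_iff [Finite S] (i j : ℤ) :
    h.b i j ∈ Subgroup.center S ↔ (2 : ℤ) ^ n ∣ i - j := by
  rw [h.mem_center_iff]
  constructor
  · rintro ⟨k, hk⟩
    rw [h.b_eq_b_iff] at hk
    have := dvd_sub hk.1 hk.2
    have e : i - k - (j - k) = i - j := by ring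
    rwa [e] at this
  · intro hd
    refine ⟨i, ?_⟩
    rw [h.b_eq_b_iff]
    refine ⟨by simp, ?_⟩
    have : j - i = -(i - j) := by ring
    rw [this, dvd_neg]; exact hd

theorem b_z_not_mem_center [Finite S] (i j : ℤ) : h.b i j * z ∉ Subgroup.center S := by
  intro hc
  obtain ⟨k, hk⟩ := (h.mem_center_iff _).mp hc
  exact h.b_z_ne_b i j k k hk

/-- `x^k y^l` commutes with `x^i y^j z` iff `k ≡ l`. -/
theorem b_comm_b_z_iff (i j k l : ℤ) :
    h.b k l * (h.b i j * z) = (h.b i j * z) * h.b k l ↔ (2 : ℤ) ^ n ∣ k - l := by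
  rw [h.b_mul_b_z, h.b_z_mul_b, h.b_z_eq_b_z_iff]
  constructor
  · rintro ⟨h1, _⟩
    have e : k + i - (i + l) = k - l := by ring
    rwa [e] at h1
  · intro hd
    refine ⟨?_, ?_⟩
    · have e : k + i - (i + l) = k - l := by ring
      rwa [e]
    · have e : l + j - (j + k) = -(k - l) := by ring
      rw [e, dvd_neg]; exact hd

/-- `x^k y^l z` commutes with `x^i y^j z` iff `k - l ≡ i - j`. -/
theorem b_z_comm_b_z_iff (i j k l : ℤ) :
    (h.b k l * z) * (h.b i j * z) = (h.b i j * z) * (h.b k l * z) ↔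
      (2 : ℤ) ^ n ∣ (k - l) - (i - j) := by
  rw [h.b_z_b_z, h.b_z_b_z, h.b_eq_b_iff]
  constructor
  · rintro ⟨h1, _⟩
    have e : k + j - (i + l) = (k - l) - (i - j) := by ring
    rwa [e] at h1
  · intro hd
    refine ⟨?_, ?_⟩
    · have e : k + j - (i + l) = (k - l) - (i - j) := by ring
      rwa [e]
    · have e : l + i - (j + k) = -((k - l) - (i - j)) := by ring
      rw [e, dvd_neg]; exact hd

/-- `x^k y^l z` commutes with `x^i y^j` iff `i ≡ j`. -/
theorem b_z_comm_b_iff (i j k l : ℤ) :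
    (h.b k l * z) * h.b i j = h.b i j * (h.b k l * z) ↔ (2 : ℤ) ^ n ∣ i - j := by
  rw [eq_comm, h.b_comm_b_z_iff]

/-- The centralizer of a non-central element is commutative. -/
theorem commute_of_commute_noncentral [Finite S] (c u v : S) (hc : c ∉ Subgroup.center S)
    (hu : u * c = c * u) (hv : v * c = c * v) : u * v = v * u := by
  rcases h.cases c with ⟨i, j, rfl⟩ | ⟨i, j, rfl⟩
  · have hij : ¬ (2 : ℤ) ^ n ∣ i - j := fun hd => hc ((h.b_mem_center_iff i j).mpr hd)
    rcases h.cases u with ⟨k, l, rfl⟩ | ⟨k, l, rfl⟩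
    · rcases h.cases v with ⟨k', l', rfl⟩ | ⟨k', l', rfl⟩
      · exact h.b_comm _ _ _ _
      · exact absurd ((h.b_z_comm_b_iff i j k' l').mp hv) hij
    · exact absurd ((h.b_z_comm_b_iff i j k l).mp hu) hij
  · rcases h.cases u with ⟨k, l, rfl⟩ | ⟨k, l, rfl⟩
    · have hkl := (h.b_comm_b_z_iff i j k l).mp hu
      have hcen := (h.b_mem_center_iff k l).mpr hkl
      exact (Subgroup.mem_center_iff.mp hcen v).symm
    · rcases h.cases v with ⟨k', l', rfl⟩ | ⟨k', l', rfl⟩
      · have hkl := (h.b_comm_b_z_iff i j k' l').mp hv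
        have hcen := (h.b_mem_center_iff k' l').mpr hkl
        exact Subgroup.mem_center_iff.mp hcen _
      · have h1 := (h.b_z_comm_b_z_iff i j k l).mp hu
        have h2 := (h.b_z_comm_b_z_iff i j k' l').mp hv
        rw [h.b_z_comm_b_z_iff]
        have := dvd_sub h1 h2
        have e : k - l - (i - j) - (k' - l' - (i - j)) = k - l - (k' - l') := by ring
        rwa [e] at this

end cent

end WrData

end Cfsg.Agent.Lib.Helper90
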