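import Mathlib
import Cfsg.Agent.Lib.Helper90.WreathedCent

set_option autoImplicit false

namespace Cfsg.Agent.Lib.Helper90

namespace WrData

variable {S : Type*} [Group S] {n : ℕ} {x y z : S}

section ab
variable (h : WrData S n x y z)
include h

theorem xy_zpow (i : ℤ) : (x * y) ^ i = h.b i i := by
  rw [h.b_def, h.commute_xy.mul_zpow]

theorem center_eq_zpowers [Finite S] : Subgroup.center S = Subgroup.zpowers (x * y) := by
  ext s
  rw [h.mem_center_iff, Subgroup.mem_zpowers_iff]
  constructor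
  · rintro ⟨i, rfl⟩
    exact ⟨i, h.xy_zpow i⟩
  · rintro ⟨i, rfl⟩
    exact ⟨i, h.xy_zpow i⟩

theorem orderOf_xy : orderOf (x * y) = 2 ^ n := by
  apply orderOf_eq_of_pow_and_pow_div_prime (by positivity)
  · have := h.xy_zpow ((2 : ℤ) ^ n)
    have e : (x * y) ^ ((2 : ℤ) ^ n) = (x * y) ^ (2 ^ n : ℕ) := by
      rw [← zpow_natCast]; norm_cast
    rw [← e, this, h.b_eq_one_iff]
    exact ⟨dvd_refl _, dvd_refl _⟩
  · intro p hp hpd
    have hp2 : p = 2 := (Nat.prime_dvd_prime_iff_eq hp Nat.prime_two).mp (hp.dvd_of_dvd_pow hpd)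
    rw [hp2]
    have hdiv : 2 ^ n / 2 = 2 ^ (n - 1) := by
      have : n = (n - 1) + 1 := by have := h.hn; omega
      conv_lhs => rw [this, pow_succ]
      simp
    rw [hdiv]
    have := h.xy_zpow ((2 : ℤ) ^ (n - 1))
    have e : (x * y) ^ ((2 : ℤ) ^ (n - 1)) = (x * y) ^ (2 ^ (n - 1) : ℕ) := by
      rw [← zpow_natCast]; norm_cast
    rw [← e, this]
    exact h.b_half_half_ne_one

theorem card_center [Finite S] : Nat.card (Subgroup.center S) = 2 ^ n := by
  rw [h.center_eq_zpowers, Nat.card_zpowers, h.orderOf_xy]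

theorem B_comm (a c : S) (ha : a ∈ h.B) (hc : c ∈ h.B) : a * c = c * a := by
  obtain ⟨i, j, rfl⟩ := (h.mem_B_iff a).mp ha
  obtain ⟨k, l, rfl⟩ := (h.mem_B_iff c).mp hc
  exact h.b_comm i j k l

theorem B_isMulCommutative : IsMulCommutative h.B :=
  ⟨⟨fun a c => Subtype.ext (h.B_comm a c a.2 c.2)⟩⟩

/-- A commutative subgroup of order `2^(2n)` is the base group. -/
theorem eq_B_of_comm_card [Finite S] (U : Subgroup S) (hU : IsMulCommutative U)
    (hc : Nat.card U = 2 ^ (2 * n)) : U = h.B := by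
  have hBn : h.B.Normal := h.B_normal
  by_cases hle : U ≤ h.B
  · exact Subgroup.eq_of_le_of_card_ge hle (by rw [hc, h.card_B])
  · exfalso
    obtain ⟨u, huU, huB⟩ := SetLike.not_le_iff_exists.mp hle
    rcases h.cases u with ⟨i, j, rfl⟩ | ⟨i, j, rfl⟩
    · exact huB (h.b_mem_B i j)
    · have hinf : h.B ⊓ U ≤ Subgroup.center S := by
        rintro a ⟨haB, haU⟩
        obtain ⟨k, l, rfl⟩ := (h.mem_B_iff a).mp haB
        rw [h.b_mem_center_iff]
        rw [← h.b_comm_b_z_iff i j k l]
        have := hU.is_comm.comm (⟨_, haU⟩ : U) ⟨_, huU⟩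
        exact congrArg Subtype.val this
      have h1 : Nat.card ↥(h.B ⊓ U) ≤ 2 ^ n := by
        rw [← h.card_center]
        exact Subgroup.card_le_of_le hinf
      have h2 := Subgroup.relIndex_mul_relIndex ⊥ (h.B ⊓ U) U bot_le inf_le_right
      rw [Subgroup.relIndex_bot_left, Subgroup.relIndex_bot_left, Subgroup.inf_relIndex_right] at h2
      have h3 : h.B.relIndex U ∣ 2 := by
        have := Subgroup.relIndex_dvd_index_of_normal h.B U
        rwa [h.index_B] at this
      have h4 : h.B.relIndex U ≤ 2 := Nat.le_of_dvd (by norm_num) h3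
      have h5 : Nat.card U ≤ 2 ^ n * 2 := by
        rw [← h2]
        exact Nat.mul_le_mul h1 h4
      rw [hc] at h5
      have h6 : 2 ^ n * 2 < 2 ^ (2 * n) := by
        rw [← pow_succ]
        apply Nat.pow_lt_pow_right (by norm_num)
        have := h.hn
        omega
      omega

end ab

end WrData

end Cfsg.Agent.Lib.Helper90
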