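import Mathlib
import Cfsg.Agent.Lib.Helper90.WreathedAb

set_option autoImplicit false

namespace Cfsg.Agent.Lib.Helper90

theorem orderOf_eq_of_zpow_iff {G : Type*} [Group G] (g : G) (N : ℕ) (_hN : 0 < N)
    (h : ∀ k : ℤ, g ^ k = 1 ↔ (N : ℤ) ∣ k) : orderOf g = N := by
  apply Nat.dvd_antisymm
  · apply orderOf_dvd_of_pow_eq_one
    have := (h N).mpr (dvd_refl _)
    rwa [zpow_natCast] at this
  · have h1 : g ^ ((orderOf g : ℕ) : ℤ) = 1 := by rw [zpow_natCast]; exact pow_orderOf_eq_one g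
    have := (h _).mp h1
    exact Int.natCast_dvd_natCast.mp this

namespace WrData

variable {S : Type*} [Group S] {n : ℕ} {x y z : S}

section der
variable (h : WrData S n x y z)
include h

theorem b_z_inv (i j : ℤ) : (h.b i j * z)⁻¹ = h.b (-j) (-i) * z := by
  apply inv_eq_of_mul_eq_one_right
  rw [h.b_z_b_z, h.b_eq_one_iff]
  simp

theorem xyinv_zpow (i : ℤ) : (x * y⁻¹) ^ i = h.b i (-i) := by
  have hc : Commute x y⁻¹ := h.commute_xy.inv_right
  rw [h.b_def, hc.mul_zpow, inv_zpow, zpow_neg]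

theorem orderOf_xyinv : orderOf (x * y⁻¹) = 2 ^ n := by
  apply orderOf_eq_of_zpow_iff _ _ (by positivity)
  intro k
  rw [h.xyinv_zpow, h.b_eq_one_iff]
  push_cast
  constructor
  · exact fun hh => hh.1
  · exact fun hh => ⟨hh, (dvd_neg).mpr hh⟩

theorem mem_zpowers_xyinv_iff (s : S) : s ∈ Subgroup.zpowers (x * y⁻¹) ↔ ∃ i : ℤ, s = h.b i (-i) := by
  rw [Subgroup.mem_zpowers_iff]
  constructor
  · rintro ⟨i, rfl⟩; exact ⟨i, h.xyinv_zpow i⟩
  · rintro ⟨i, rfl⟩; exact ⟨i, h.xyinv_zpow i⟩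

open scoped commutatorElement in
theorem commutator_mem [Finite S] (g1 g2 : S) : ⁅g1, g2⁆ ∈ Subgroup.zpowers (x * y⁻¹) := by
  rw [h.mem_zpowers_xyinv_iff, commutatorElement_def]
  rcases h.cases g1 with ⟨i, j, rfl⟩ | ⟨i, j, rfl⟩ <;> rcases h.cases g2 with ⟨k, l, rfl⟩ | ⟨k, l, rfl⟩
  · refine ⟨0, ?_⟩
    rw [h.b_inv, h.b_inv, h.b_mul, h.b_mul, h.b_mul, h.b_eq_b_iff]
    constructor <;> ring_nf <;> exact dvd_zero _
  · refine ⟨i - j, ?_⟩
    rw [h.b_inv, h.b_z_inv, h.b_mul_b_z, h.b_z_mul_b, h.b_z_b_z, h.b_eq_b_iff]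
    constructor <;> ring_nf <;> exact dvd_zero _
  · refine ⟨l - k, ?_⟩
    rw [h.b_inv, h.b_z_inv, h.b_z_mul_b, h.b_z_b_z, h.b_mul, h.b_eq_b_iff]
    constructor <;> ring_nf <;> exact dvd_zero _
  · refine ⟨i + l - j - k, ?_⟩
    rw [h.b_z_inv, h.b_z_inv, h.b_z_b_z, h.b_mul_b_z, h.b_z_b_z, h.b_eq_b_iff]
    constructor <;> ring_nf <;> exact dvd_zero _

open scoped commutatorElement in
theorem commutator_eq_zpowers [Finite S] : commutator S = Subgroup.zpowers (x * y⁻¹) := by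
  apply le_antisymm
  · rw [commutator_eq_closure, Subgroup.closure_le]
    rintro g ⟨g1, g2, rfl⟩
    exact h.commutator_mem g1 g2
  · rw [Subgroup.zpowers_le]
    have : x * y⁻¹ = ⁅x, z⁆ := by
      rw [commutatorElement_def]
      have : z * x⁻¹ * z⁻¹ = y⁻¹ := by
        rw [← h.conj]; group
      calc x * y⁻¹ = x * (z * x⁻¹ * z⁻¹) := by rw [this]
        _ = x * z * x⁻¹ * z⁻¹ := by group
    rw [this]
    exact Subgroup.commutator_mem_commutator (Subgroup.mem_top _) (Subgroup.mem_top _)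

theorem card_commutator [Finite S] : Nat.card (commutator S) = 2 ^ n := by
  rw [h.commutator_eq_zpowers, Nat.card_zpowers, h.orderOf_xyinv]

end der

end WrData

end Cfsg.Agent.Lib.Helper90
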