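import Mathlib
import Cfsg.Agent.Lib.Helper90.WreathedDer
import Cfsg.Agent.Lib.Helper90.Klein

set_option autoImplicit false

namespace Cfsg.Agent.Lib.Helper90

namespace WrData

variable {S : Type*} [Group S] {n : ℕ} {x y z : S}

section klein
variable (h : WrData S n x y z)
include h

/-- `Ω₁` of the base group: the elements `x^i y^j` with `2^(n-1)` dividing `i` and `j`. -/
def T (h : WrData S n x y z) : Subgroup S where
  carrier := {s | ∃ i j : ℤ, (2 : ℤ) ^ (n - 1) ∣ i ∧ (2 : ℤ) ^ (n - 1) ∣ j ∧ s = h.b i j}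
  one_mem' := ⟨0, 0, dvd_zero _, dvd_zero _, h.b_zero.symm⟩
  mul_mem' := by
    rintro _ _ ⟨i, j, hi, hj, rfl⟩ ⟨k, l, hk, hl, rfl⟩
    exact ⟨i + k, j + l, dvd_add hi hk, dvd_add hj hl, h.b_mul i j k l⟩
  inv_mem' := by
    rintro _ ⟨i, j, hi, hj, rfl⟩
    exact ⟨-i, -j, (dvd_neg).mpr hi, (dvd_neg).mpr hj, h.b_inv i j⟩

theorem mem_T_iff (s : S) :
    s ∈ h.T ↔ ∃ i j : ℤ, (2 : ℤ) ^ (n - 1) ∣ i ∧ (2 : ℤ) ^ (n - 1) ∣ j ∧ s = h.b i j := Iff.rfl

theorem T_le_B : h.T ≤ h.B := by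
  rintro _ ⟨i, j, -, -, rfl⟩
  exact h.b_mem_B i j

theorem T_coe_eq : (h.T : Set S) = {1, h.b ((2 : ℤ) ^ (n - 1)) 0, h.b 0 ((2 : ℤ) ^ (n - 1)),
    h.b ((2 : ℤ) ^ (n - 1)) ((2 : ℤ) ^ (n - 1))} := by
  ext s
  simp only [SetLike.mem_coe, Set.mem_insert_iff, Set.mem_singleton_iff]
  constructor
  · rintro ⟨i, j, hi, hj, rfl⟩
    have := h.b_half i j hi hj
    rwa [h.b_zero] at this
  · rintro (rfl | rfl | rfl | rfl)
    · exact h.T.one_mem
    · exact ⟨_, _, dvd_refl _, dvd_zero _, rfl⟩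
    · exact ⟨_, _, dvd_zero _, dvd_refl _, rfl⟩
    · exact ⟨_, _, dvd_refl _, dvd_refl _, rfl⟩

theorem b_zero_half_ne_one : h.b 0 ((2 : ℤ) ^ (n - 1)) ≠ 1 := by
  intro he
  rw [h.b_eq_one_iff] at he
  exact h.not_dvd_half he.2

theorem b_half_zero_ne_zero_half : h.b ((2 : ℤ) ^ (n - 1)) 0 ≠ h.b 0 ((2 : ℤ) ^ (n - 1)) := by
  intro he
  rw [h.b_eq_b_iff] at he
  have := he.1
  rw [sub_zero] at this
  exact h.not_dvd_half this

theorem b_zero_half_ne_half_half :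
    h.b 0 ((2 : ℤ) ^ (n - 1)) ≠ h.b ((2 : ℤ) ^ (n - 1)) ((2 : ℤ) ^ (n - 1)) := by
  intro he
  rw [h.b_eq_b_iff] at he
  have := he.1
  rw [zero_sub, dvd_neg] at this
  exact h.not_dvd_half this

theorem card_T : Nat.card h.T = 4 := by
  show Nat.card ↥(h.T : Set S) = 4
  rw [Nat.card_coe_set_eq, h.T_coe_eq]
  exact ncard_four _ _ _ _ (Ne.symm h.b_half_zero_ne_one) (Ne.symm h.b_zero_half_ne_one)
    (Ne.symm h.b_half_half_ne_one) h.b_half_zero_ne_zero_half h.b_half_zero_ne_half_half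
    h.b_zero_half_ne_half_half

theorem T_sq (t : S) (ht : t ∈ h.T) : t * t = 1 := by
  obtain ⟨i, j, hi, hj, rfl⟩ := ht
  exact h.half_sq i j hi hj

theorem T_klein : IsKleinFour h.T := isKleinFour_of h.T h.card_T h.T_sq

theorem T_normal [Finite S] : h.T.Normal := by
  constructor
  rintro _ ⟨i, j, hi, hj, rfl⟩ g
  rcases h.cases g with ⟨k, l, rfl⟩ | ⟨k, l, rfl⟩
  · refine ⟨i, j, hi, hj, ?_⟩
    rw [h.b_inv, h.b_mul, h.b_mul, h.b_eq_b_iff]
    constructor <;> ring_nf <;> exact dvd_zero _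
  · refine ⟨j, i, hj, hi, ?_⟩
    rw [h.b_z_inv, h.b_z_mul_b, h.b_z_b_z, h.b_eq_b_iff]
    constructor <;> ring_nf <;> exact dvd_zero _

/-- The four-group generated by `z` and the central involution. -/
def V0 (h : WrData S n x y z) : Subgroup S where
  carrier := {s | ∃ k : ℤ, (2 : ℤ) ^ (n - 1) ∣ k ∧ (s = h.b k k ∨ s = h.b k k * z)}
  one_mem' := ⟨0, dvd_zero _, Or.inl h.b_zero.symm⟩
  mul_mem' := by
    rintro _ _ ⟨k, hk, rfl | rfl⟩ ⟨l, hl, rfl | rfl⟩
    · exact ⟨k + l, dvd_add hk hl, Or.inl (h.b_mul k k l l)⟩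
    · exact ⟨k + l, dvd_add hk hl, Or.inr (h.b_mul_b_z k k l l)⟩
    · exact ⟨k + l, dvd_add hk hl, Or.inr (h.b_z_mul_b k k l l)⟩
    · exact ⟨k + l, dvd_add hk hl, Or.inl (h.b_z_b_z k k l l)⟩
  inv_mem' := by
    rintro _ ⟨k, hk, rfl | rfl⟩
    · exact ⟨-k, (dvd_neg).mpr hk, Or.inl (h.b_inv k k)⟩
    · exact ⟨-k, (dvd_neg).mpr hk, Or.inr (h.b_z_inv k k)⟩

theorem mem_V0_iff (s : S) :
    s ∈ h.V0 ↔ ∃ k : ℤ, (2 : ℤ) ^ (n - 1) ∣ k ∧ (s = h.b k k ∨ s = h.b k k * z) := Iff.rfl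

theorem z_mem_V0 : z ∈ h.V0 := ⟨0, dvd_zero _, Or.inr (by rw [h.b_zero, one_mul])⟩

/-- diagonal elements with exponent divisible by `2^(n-1)` are `1` or the central involution. -/
theorem diag_half (k : ℤ) (hk : (2 : ℤ) ^ (n - 1) ∣ k) :
    h.b k k = 1 ∨ h.b k k = h.b ((2 : ℤ) ^ (n - 1)) ((2 : ℤ) ^ (n - 1)) := by
  rcases h.b_half k k hk hk with h0 | h0 | h0 | h0
  · left; rw [h0, h.b_zero]
  · exfalso
    rw [h.b_eq_b_iff] at h0
    have := dvd_sub h0.1 h0.2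
    have e : k - (2 : ℤ) ^ (n - 1) - (k - 0) = -(2 : ℤ) ^ (n - 1) := by ring
    rw [e, dvd_neg] at this
    exact h.not_dvd_half this
  · exfalso
    rw [h.b_eq_b_iff] at h0
    have := dvd_sub h0.1 h0.2
    have e : k - 0 - (k - (2 : ℤ) ^ (n - 1)) = (2 : ℤ) ^ (n - 1) := by ring
    rw [e] at this
    exact h.not_dvd_half this
  · right; exact h0

theorem V0_coe_eq : (h.V0 : Set S) = {1, h.b ((2 : ℤ) ^ (n - 1)) ((2 : ℤ) ^ (n - 1)), z,
    h.b ((2 : ℤ) ^ (n - 1)) ((2 : ℤ) ^ (n - 1)) * z} := by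
  ext s
  simp only [SetLike.mem_coe, Set.mem_insert_iff, Set.mem_singleton_iff]
  constructor
  · rintro ⟨k, hk, rfl | rfl⟩
    · rcases h.diag_half k hk with h0 | h0
      · left; exact h0
      · right; left; exact h0
    · rcases h.diag_half k hk with h0 | h0
      · right; right; left; rw [h0, one_mul]
      · right; right; right; rw [h0]
  · rintro (rfl | rfl | rfl | rfl)
    · exact h.V0.one_mem
    · exact ⟨_, dvd_refl _, Or.inl rfl⟩
    · exact h.z_mem_V0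
    · exact ⟨_, dvd_refl _, Or.inr rfl⟩

theorem card_V0 : Nat.card h.V0 = 4 := by
  show Nat.card ↥(h.V0 : Set S) = 4
  rw [Nat.card_coe_set_eq, h.V0_coe_eq]
  refine ncard_four _ _ _ _ (Ne.symm h.b_half_half_ne_one) (Ne.symm h.z_ne_one) ?_ ?_ ?_ ?_
  · exact fun he => h.b_z_ne_b ((2 : ℤ) ^ (n - 1)) ((2 : ℤ) ^ (n - 1)) 0 0 (by rw [h.b_zero]; exact he.symm)
  · intro he
    apply h.b_z_ne_b 0 0 ((2 : ℤ) ^ (n - 1)) ((2 : ℤ) ^ (n - 1))
    rw [h.b_zero, one_mul]; exact he.symm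
  · exact fun he => h.b_z_ne_b _ _ _ _ he.symm
  · intro he
    have : h.b ((2 : ℤ) ^ (n - 1)) ((2 : ℤ) ^ (n - 1)) = 1 := by
      have h1 : (1 : S) * z = h.b ((2 : ℤ) ^ (n - 1)) ((2 : ℤ) ^ (n - 1)) * z := by
        rw [one_mul]; exact he
      exact (mul_right_cancel h1).symm
    exact h.b_half_half_ne_one this

theorem V0_sq (t : S) (ht : t ∈ h.V0) : t * t = 1 := by
  obtain ⟨k, hk, rfl | rfl⟩ := ht
  · exact h.half_sq k k hk hk
  · rw [h.b_z_b_z, ← h.b_mul]; exact h.half_sq k k hk hk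

theorem V0_klein : IsKleinFour h.V0 := isKleinFour_of h.V0 h.card_V0 h.V0_sq

theorem V0_ne_T : h.V0 ≠ h.T := by
  intro he
  apply h.z_not_mem_B
  exact h.T_le_B (he ▸ h.z_mem_V0)

/-- A Klein four-subgroup inside the base group is `T`. -/
theorem klein_eq_T_of_le_B [Finite S] (V : Subgroup S) (hV : IsKleinFour V) (hle : V ≤ h.B) : V = h.T := by
  apply Subgroup.eq_of_le_of_card_ge
  · intro v hv
    obtain ⟨i, j, rfl⟩ := (h.mem_B_iff v).mp (hle hv)
    have hsq := kleinFour_sq V hV _ hv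
    rw [h.b_mul, h.b_eq_one_iff] at hsq
    exact ⟨i, j, h.dvd_half_of_dvd_two_mul i (by rw [two_mul]; exact hsq.1),
      h.dvd_half_of_dvd_two_mul j (by rw [two_mul]; exact hsq.2), rfl⟩
  · rw [h.card_T, hV.card_four]

/-- Every Klein four-subgroup other than `T` is a conjugate of `V0`. -/
theorem klein_conj [Finite S] (V : Subgroup S) (hV : IsKleinFour V) (hne : V ≠ h.T) :
    ∃ g : S, h.V0.map (MulAut.conj g).toMonoidHom = V := by
  have hnle : ¬ V ≤ h.B := fun hle => hne (h.klein_eq_T_of_le_B V hV hle)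
  obtain ⟨v, hvV, hvB⟩ := SetLike.not_le_iff_exists.mp hnle
  have hvsq := kleinFour_sq V hV v hvV
  rcases h.sq_eq_one_cases v hvsq with (h0 | h0 | h0 | h0) | ⟨i, h0⟩
  · exact absurd (h0 ▸ h.B.one_mem) hvB
  · exact absurd (h0 ▸ h.b_mem_B _ _) hvB
  · exact absurd (h0 ▸ h.b_mem_B _ _) hvB
  · exact absurd (h0 ▸ h.b_mem_B _ _) hvB
  · subst h0
    refine ⟨h.b i 0, ?_⟩
    symm
    apply Subgroup.eq_of_le_of_card_ge
    · intro u huV
      have hcomm := kleinFour_comm V hV u _ huV hvV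
      have husq := kleinFour_sq V hV u huV
      rw [Subgroup.mem_map]
      rcases h.cases u with ⟨k, l, rfl⟩ | ⟨k, l, rfl⟩
      · -- u in B commuting with v: central involution or 1
        have hkl := (h.b_comm_b_z_iff i (-i) k l).mp hcomm
        rw [h.b_mul, h.b_eq_one_iff] at husq
        have hk := h.dvd_half_of_dvd_two_mul k (by rw [two_mul]; exact husq.1)
        have hkl' : h.b k l = h.b k k := by
          rw [h.b_eq_b_iff]
          refine ⟨by simp, ?_⟩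
          have : l - k = -(k - l) := by ring
          rw [this, dvd_neg]; exact hkl
        refine ⟨h.b k k, ⟨k, hk, Or.inl rfl⟩, ?_⟩
        rw [hkl']
        show h.b i 0 * h.b k k * (h.b i 0)⁻¹ = h.b k k
        rw [h.b_inv, h.b_mul, h.b_mul, h.b_eq_b_iff]
        constructor <;> ring_nf <;> exact dvd_zero _
      · -- u = b k l z
        have h1 := (h.b_z_comm_b_z_iff i (-i) k l).mp hcomm
        rw [h.b_z_b_z, h.b_eq_one_iff] at husq
        have h2 := husq.1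
        -- 2(k - i) ≡ 0
        have h3 : (2 : ℤ) ^ n ∣ 2 * (k - i) := by
          have := dvd_add h1 h2
          have e : k - l - (i - -i) + (k + l) = 2 * (k - i) := by ring
          rwa [e] at this
        have h4 := h.dvd_half_of_dvd_two_mul _ h3
        refine ⟨h.b (k - i) (k - i) * z, ⟨k - i, h4, Or.inr rfl⟩, ?_⟩
        show h.b i 0 * (h.b (k - i) (k - i) * z) * (h.b i 0)⁻¹ = h.b k l * z
        rw [h.b_inv, h.b_mul_b_z, h.b_z_mul_b, h.b_z_eq_b_z_iff]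
        constructor
        · ring_nf; exact dvd_zero _
        · have e : 0 + (k - i) + -i - l = (2 * (k - i)) - (k + l) := by ring
          rw [e]
          exact dvd_sub h3 h2
    · rw [hV.card_four, Subgroup.card_map_of_injective (MulAut.conj (h.b i 0)).injective, h.card_V0]

end klein

end WrData

end Cfsg.Agent.Lib.Helper90
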