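import Mathlib
import Cfsg.Agent.Lib.Helper90.WreathedDer
import Cfsg.Agent.Lib.Helper20.QuatLift

set_option autoImplicit false

namespace Cfsg.Agent.Lib.Helper90

theorem zmod_two_mul_self_eq_zero {m : ℕ} [NeZero m] (i : ZMod (2 * m)) (hi : i + i = 0) :
    i = 0 ∨ i = (m : ZMod (2 * m)) := by
  have hm : 0 < m := Nat.pos_of_ne_zero (NeZero.ne m)
  have hlt : i.val < 2 * m := ZMod.val_lt i
  have hcast : ((i.val + i.val : ℕ) : ZMod (2 * m)) = 0 := by
    rw [Nat.cast_add, ZMod.natCast_zmod_val]; exact hi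
  rw [ZMod.natCast_eq_zero_iff] at hcast
  have h2 : m ∣ i.val := by
    have : 2 * m ∣ 2 * i.val := by rwa [two_mul i.val]
    exact (Nat.mul_dvd_mul_iff_left (by norm_num)).mp this
  obtain ⟨k, hk⟩ := h2
  have hk2 : k < 2 := by
    by_contra hk2
    push Not at hk2
    have : m * 2 ≤ m * k := Nat.mul_le_mul_left m hk2
    omega
  have hi' : i = ((i.val : ℕ) : ZMod (2 * m)) := (ZMod.natCast_zmod_val i).symm
  interval_cases k
  · left; rw [hi', hk]; simp
  · right; rw [hi', hk]; simp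

open QuaternionGroup in
/-- In a generalized quaternion group, every element outside a commutative subgroup of index two has
order four. -/
theorem quat_order_four {Y : Type*} [Group Y] {m : ℕ} [NeZero m] (φ : Y ≃* QuaternionGroup m)
    (D : Subgroup Y) (hab : ∀ a ∈ D, ∀ b ∈ D, a * b = b * a)
    (hidx : ∀ u v, u ∉ D → v ∉ D → u * v ∈ D) (u : Y) (hu : u ∉ D) : orderOf u = 4 := by
  rcases hφ : φ u with i | i
  · have hex : ∃ j, φ.symm (xa j) ∈ D := by
      by_contra hne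
      push Not at hne
      have h1 := hidx u (φ.symm (xa 0)) hu (hne 0)
      have h2 : u * φ.symm (xa 0) = φ.symm (xa (0 - i)) := by
        apply φ.injective
        rw [map_mul, hφ, φ.apply_symm_apply, φ.apply_symm_apply, a_mul_xa]
      rw [h2] at h1
      exact hne _ h1
    obtain ⟨j, hj⟩ := hex
    have huu : u * u ∈ D := hidx u u hu hu
    have hc := hab _ hj _ huu
    have hc' := congrArg φ hc
    simp only [map_mul, hφ, φ.apply_symm_apply, a_mul_a, xa_mul_a, a_mul_xa] at hc'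
    have h4 : i + i + (i + i) = 0 := by
      have := xa.inj hc'
      linear_combination this
    have hu4 : u ^ 2 ^ (1 + 1) = 1 := by
      apply φ.injective
      rw [map_pow, hφ, map_one]
      have : (a i : QuaternionGroup m) ^ 2 ^ (1 + 1) = a (i + i + (i + i)) := by
        rw [show (2 : ℕ) ^ (1 + 1) = 2 + 2 by norm_num, pow_add, pow_two, a_mul_a, a_mul_a]
      rw [this, h4, a_zero]
    have hu2 : ¬ u ^ 2 ^ 1 = 1 := by
      intro h2
      have h2' := congrArg φ h2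
      rw [pow_one, map_pow, hφ, map_one, pow_two, a_mul_a, one_def] at h2'
      have hii : i + i = 0 := a.inj h2'
      rcases zmod_two_mul_self_eq_zero i hii with h0 | h0
      · apply hu
        have : u = 1 := by
          apply φ.injective
          rw [hφ, h0, map_one, a_zero]
        rw [this]; exact D.one_mem
      · apply hu
        have : u = φ.symm (xa j) * φ.symm (xa j) := by
          apply φ.injective
          rw [map_mul, φ.apply_symm_apply, hφ, h0, xa_mul_xa]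
          congr 1; ring
        rw [this]; exact D.mul_mem hj hj
    have := orderOf_eq_prime_pow hu2 hu4
    rw [this]; norm_num
  · have : orderOf u = orderOf (φ u) := (MulEquiv.orderOf_eq φ u).symm
    rw [this, hφ, orderOf_xa]

open QuaternionGroup in
theorem quat_not_comm {Y : Type*} [Group Y] {m : ℕ} (hm : 2 ≤ m) (φ : Y ≃* QuaternionGroup m) :
    ∃ u v : Y, u * v ≠ v * u := by
  refine ⟨φ.symm (xa 0), φ.symm (a 1), ?_⟩
  intro he
  have he' := congrArg φ he
  simp only [map_mul, φ.apply_symm_apply, xa_mul_a, a_mul_xa] at he'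
  have h1 : (0 : ZMod (2 * m)) + 1 = 0 - 1 := xa.inj he'
  have h2 : ((2 : ℕ) : ZMod (2 * m)) = 0 := by
    push_cast
    linear_combination h1
  rw [ZMod.natCast_eq_zero_iff] at h2
  have := Nat.le_of_dvd (by norm_num) h2
  omega

namespace WrData

variable {S : Type*} [Group S] {n : ℕ} {x y z : S}

section quat
variable (h : WrData S n x y z)
include h

theorem b_congr (i j k l : ℤ) (h1 : (2 : ℤ) ^ n ∣ i - k) (h2 : (2 : ℤ) ^ n ∣ j - l) :
    h.b i j = h.b k l := (h.b_eq_b_iff i j k l).mpr ⟨h1, h2⟩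

/-- The generalized quaternion subgroup `⟨x y⁻¹, x^(2^(n-1)) z⟩`. -/
def Q (h : WrData S n x y z) : Subgroup S where
  carrier := {s | ∃ t : ℤ, s = h.b t (-t) ∨ s = h.b (t + (2 : ℤ) ^ (n - 1)) (-t) * z}
  one_mem' := ⟨0, Or.inl (by rw [neg_zero, h.b_zero])⟩
  mul_mem' := by
    have hN := h.two_pow_eq
    rintro _ _ ⟨t, rfl | rfl⟩ ⟨t', rfl | rfl⟩
    · exact ⟨t + t', Or.inl (by rw [h.b_mul]; congr 1; ring)⟩
    · exact ⟨t + t', Or.inr (by rw [h.b_mul_b_z]; congr 2 <;> ring)⟩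
    · exact ⟨t - t', Or.inr (by rw [h.b_z_mul_b]; congr 2 <;> ring)⟩
    · refine ⟨t - t' + (2 : ℤ) ^ (n - 1), Or.inl ?_⟩
      rw [h.b_z_b_z]
      apply h.b_congr
      · exact ⟨0, by ring⟩
      · exact ⟨1, by rw [hN]; ring⟩
  inv_mem' := by
    have hN := h.two_pow_eq
    rintro _ ⟨t, rfl | rfl⟩
    · exact ⟨-t, Or.inl (by rw [h.b_inv])⟩
    · refine ⟨t + (2 : ℤ) ^ (n - 1), Or.inr ?_⟩
      rw [h.b_z_inv]
      congr 1
      apply h.b_congr
      · exact ⟨-1, by rw [hN]; ring⟩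
      · exact ⟨0, by ring⟩

theorem mem_Q_iff (s : S) : s ∈ h.Q ↔
    ∃ t : ℤ, s = h.b t (-t) ∨ s = h.b (t + (2 : ℤ) ^ (n - 1)) (-t) * z := Iff.rfl

theorem xyinv_mem_Q : x * y⁻¹ ∈ h.Q := by
  refine ⟨1, Or.inl ?_⟩
  have := h.xyinv_zpow 1
  rwa [zpow_one] at this

theorem w_mem_Q : h.b ((2 : ℤ) ^ (n - 1)) 0 * z ∈ h.Q :=
  ⟨0, Or.inr (by rw [zero_add, neg_zero])⟩

/-- Elements of order four outside the base group lie in `Q`. -/
theorem mem_Q_of_order_four [Finite S] (s : S) (hsB : s ∉ h.B) (hs : orderOf s = 4) : s ∈ h.Q := by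
  have hN := h.two_pow_eq
  rcases h.cases s with ⟨i, j, rfl⟩ | ⟨i, j, rfl⟩
  · exact absurd (h.b_mem_B i j) hsB
  · have h4 : (h.b i j * z) ^ 4 = 1 := by rw [← hs]; exact pow_orderOf_eq_one _
    have h2 : (h.b i j * z) ^ 2 ≠ 1 := by
      intro h2
      have := orderOf_dvd_of_pow_eq_one h2
      rw [hs] at this
      omega
    have e2 : (h.b i j * z) ^ 2 = h.b (i + j) (j + i) := by rw [pow_two, h.b_z_b_z]
    have e4 : (h.b i j * z) ^ 4 = h.b (i + j + (i + j)) (j + i + (j + i)) := by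
      rw [show (4 : ℕ) = 2 + 2 by rfl, pow_add, e2, h.b_mul]
    rw [e4, h.b_eq_one_iff] at h4
    rw [e2, Ne, h.b_eq_one_iff] at h2
    have hH : (2 : ℤ) ^ (n - 1) ∣ i + j := by
      apply h.dvd_half_of_dvd_two_mul
      rw [two_mul]; exact h4.1
    have hnd : ¬ (2 : ℤ) ^ n ∣ i + j := by
      intro hd
      exact h2 ⟨hd, by rwa [add_comm]⟩
    obtain ⟨c, hc⟩ := hH
    rcases Int.emod_two_eq_zero_or_one c with hc2 | hc2
    · exfalso
      apply hnd
      obtain ⟨q, hq⟩ : (2 : ℤ) ∣ c := Int.dvd_of_emod_eq_zero hc2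
      exact ⟨q, by rw [hc, hN, hq]; ring⟩
    · have : (2 : ℤ) ∣ c - 1 := by omega
      obtain ⟨q, hq⟩ := this
      have hc' : c = 2 * q + 1 := by omega
      refine ⟨-j, Or.inr ?_⟩
      congr 1
      apply h.b_congr
      · refine ⟨q, ?_⟩
        have : i = (2 : ℤ) ^ (n - 1) * c - j := by rw [← hc]; ring
        rw [this, hc', hN]; ring
      · exact ⟨0, by ring⟩

/-- `Q` is generalized quaternion of order `2^(n+1)`. -/
theorem nonempty_Q_equiv : Nonempty (h.Q ≃* QuaternionGroup (2 ^ (n - 1))) := by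
  have hN := h.two_pow_eq
  have hNn : (2 : ℕ) ^ n = 2 * 2 ^ (n - 1) := by
    have : n = (n - 1) + 1 := by have := h.hn; omega
    conv_lhs => rw [this]
    rw [pow_succ]; ring
  have hxy1 : x * y⁻¹ = h.b 1 (-1) := by
    have := h.xyinv_zpow 1
    rwa [zpow_one] at this
  set α : h.Q := ⟨x * y⁻¹, h.xyinv_mem_Q⟩ with hα
  set β : h.Q := ⟨h.b ((2 : ℤ) ^ (n - 1)) 0 * z, h.w_mem_Q⟩ with hβ
  have ho : orderOf α = 2 * 2 ^ (n - 1) := by
    rw [hα, Subgroup.orderOf_mk, h.orderOf_xyinv, hNn]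
  have hpow : ∀ k : ℤ, ((α ^ k : h.Q) : S) = h.b k (-k) := by
    intro k
    rw [Subgroup.coe_zpow, hα]
    exact h.xyinv_zpow k
  have hββ : β * β = α ^ (2 ^ (n - 1)) := by
    apply Subtype.ext
    have e1 : ((α ^ (2 ^ (n - 1)) : h.Q) : S) = h.b ((2 : ℤ) ^ (n - 1)) (-(2 : ℤ) ^ (n - 1)) := by
      have := hpow (((2 : ℕ) ^ (n - 1) : ℕ) : ℤ)
      rw [zpow_natCast] at this
      rw [this]
      push_cast
      rfl
    rw [e1, Subgroup.coe_mul, hβ]
    show (h.b ((2 : ℤ) ^ (n - 1)) 0 * z) * (h.b ((2 : ℤ) ^ (n - 1)) 0 * z) = _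
    rw [h.b_z_b_z]
    apply h.b_congr
    · exact ⟨0, by ring⟩
    · exact ⟨1, by rw [hN]; ring⟩
  have hβα : β * α * β⁻¹ = α⁻¹ := by
    apply Subtype.ext
    rw [Subgroup.coe_mul, Subgroup.coe_mul, Subgroup.coe_inv, Subgroup.coe_inv, hβ, hα]
    show (h.b ((2 : ℤ) ^ (n - 1)) 0 * z) * (x * y⁻¹) * (h.b ((2 : ℤ) ^ (n - 1)) 0 * z)⁻¹ = (x * y⁻¹)⁻¹
    rw [hxy1, h.b_z_mul_b, h.b_z_inv, h.b_z_b_z, h.b_inv]
    congr 1 <;> ring
  have hns : β ∉ Subgroup.zpowers α := by
    intro hm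
    obtain ⟨k, hk⟩ := Subgroup.mem_zpowers_iff.mp hm
    have := congrArg (Subtype.val) hk
    rw [hpow] at this
    exact h.b_z_ne_b _ _ _ _ this.symm
  have hgen : Subgroup.closure ({β, α} : Set h.Q) = ⊤ := by
    rw [eq_top_iff]
    rintro ⟨q, hq⟩ -
    have hq' := hq
    obtain ⟨t, rfl | rfl⟩ := hq'
    · have : (⟨h.b t (-t), hq⟩ : h.Q) = α ^ t := Subtype.ext (hpow t).symm
      rw [this]
      exact Subgroup.zpow_mem _ (Subgroup.subset_closure (by simp)) _
    · have : (⟨h.b (t + (2 : ℤ) ^ (n - 1)) (-t) * z, hq⟩ : h.Q) = α ^ t * β := by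
        apply Subtype.ext
        rw [Subgroup.coe_mul, hpow, hβ]
        show _ = h.b t (-t) * (h.b ((2 : ℤ) ^ (n - 1)) 0 * z)
        rw [h.b_mul_b_z, add_zero]
      rw [this]
      exact Subgroup.mul_mem _ (Subgroup.zpow_mem _ (Subgroup.subset_closure (by simp)) _)
        (Subgroup.subset_closure (by simp))
  exact ⟨(Cfsg.Agent.Lib.Helper20.quatEquiv β α (2 ^ (n - 1)) ho hββ hβα hns hgen).symm⟩

theorem card_Q : Nat.card h.Q = 2 ^ (n + 1) := by
  obtain ⟨e⟩ := h.nonempty_Q_equiv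
  rw [Nat.card_congr e.toEquiv, Nat.card_eq_fintype_card, QuaternionGroup.card]
  have : n + 1 = (n - 1) + 2 := by have := h.hn; omega
  rw [this, pow_add]; ring

/-- Uniqueness of the generalized quaternion subgroup of order `2^(n+1)`. -/
theorem eq_Q [Finite S] (Y : Subgroup S) (hc : Nat.card Y = 2 ^ (n + 1))
    (φ : Y ≃* QuaternionGroup (2 ^ (n - 1))) : Y = h.Q := by
  have hm2 : 2 ≤ 2 ^ (n - 1) := by
    have : 1 ≤ n - 1 := by have := h.hn; omega
    calc 2 = 2 ^ 1 := by norm_num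
      _ ≤ 2 ^ (n - 1) := Nat.pow_le_pow_right (by norm_num) this
  have hprod : ∀ u v : S, u ∉ h.B → v ∉ h.B → u * v ∈ h.B := by
    intro u v hu hv
    rcases h.cases u with ⟨i, j, rfl⟩ | ⟨i, j, rfl⟩
    · exact absurd (h.b_mem_B i j) hu
    rcases h.cases v with ⟨k, l, rfl⟩ | ⟨k, l, rfl⟩
    · exact absurd (h.b_mem_B k l) hv
    rw [h.b_z_b_z]
    exact h.b_mem_B _ _
  have key : ∀ u : S, u ∈ Y → u ∉ h.B → u ∈ h.Q := by
    intro u huY huB
    apply h.mem_Q_of_order_four u huB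
    have := quat_order_four φ (h.B.subgroupOf Y)
      (fun a ha b hb => Subtype.ext (h.B_comm a b (Subgroup.mem_subgroupOf.mp ha)
        (Subgroup.mem_subgroupOf.mp hb)))
      (fun u v hu hv => Subgroup.mem_subgroupOf.mpr (hprod u v
        (fun hh => hu (Subgroup.mem_subgroupOf.mpr hh))
        (fun hh => hv (Subgroup.mem_subgroupOf.mpr hh))))
      ⟨u, huY⟩ (fun hh => huB (Subgroup.mem_subgroupOf.mp hh))
    rwa [Subgroup.orderOf_mk] at this
  obtain ⟨u₀, hu₀Y, hu₀B⟩ : ∃ u₀ : S, u₀ ∈ Y ∧ u₀ ∉ h.B := by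
    by_contra hne
    push Not at hne
    obtain ⟨u, v, huv⟩ := quat_not_comm hm2 φ
    apply huv
    exact Subtype.ext (h.B_comm u v (hne u u.2) (hne v v.2))
  have hle : Y ≤ h.Q := by
    intro s hs
    by_cases hsB : s ∈ h.B
    · have h1 : s * u₀ ∉ h.B := by
        intro hh
        apply hu₀B
        have := h.B.mul_mem (h.B.inv_mem hsB) hh
        rwa [inv_mul_cancel_left] at this
      have h2 := key (s * u₀) (Y.mul_mem hs hu₀Y) h1
      have h3 := key u₀ hu₀Y hu₀B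
      have := h.Q.mul_mem h2 (h.Q.inv_mem h3)
      rwa [mul_inv_cancel_right] at this
    · exact key s hs hsB
  exact Subgroup.eq_of_le_of_card_ge hle (by rw [hc, h.card_Q])

theorem Q_normal [Finite S] : h.Q.Normal := by
  constructor
  intro q hq g
  have hinj : Function.Injective (MulAut.conj g).toMonoidHom := (MulAut.conj g).injective
  obtain ⟨e⟩ := h.nonempty_Q_equiv
  have e1 := h.Q.equivMapOfInjective _ hinj
  have hcard : Nat.card (h.Q.map (MulAut.conj g).toMonoidHom) = 2 ^ (n + 1) := by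
    rw [← Nat.card_congr e1.toEquiv, h.card_Q]
  have := h.eq_Q _ hcard (e1.symm.trans e)
  rw [← this]
  exact ⟨q, hq, rfl⟩

end quat

end WrData

end Cfsg.Agent.Lib.Helper90
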