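import Mathlib
import Cfsg.Agent.Lib.Helper90.WreathedQuat

set_option autoImplicit false

namespace Cfsg.Agent.Lib.Helper90

theorem dvd_of_eq_dvd {a b c : ℤ} (h : a ∣ b) (e : c = b) : a ∣ c := e ▸ h

namespace WrData

variable {S : Type*} [Group S] {n : ℕ} {x y z : S}

section sub
variable (h : WrData S n x y z)
include h

/-- The subgroup `{x^i y^j : 2^m ∣ i - j} ∪ {x^i y^j z : 2^m ∣ i - j - d}`. -/
def W (h : WrData S n x y z) (m : ℕ) (d : ℤ) : Subgroup S where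
  carrier := {s | ∃ i j : ℤ, ((2 : ℤ) ^ m ∣ i - j ∧ s = h.b i j) ∨
    ((2 : ℤ) ^ m ∣ i - j - d ∧ s = h.b i j * z)}
  one_mem' := ⟨0, 0, Or.inl ⟨by simp, h.b_zero.symm⟩⟩
  mul_mem' := by
    rintro _ _ ⟨i, j, (⟨h1, rfl⟩ | ⟨h1, rfl⟩)⟩ ⟨k, l, (⟨h2, rfl⟩ | ⟨h2, rfl⟩)⟩
    · refine ⟨i + k, j + l, Or.inl ⟨?_, h.b_mul _ _ _ _⟩⟩
      have := dvd_add h1 h2
      exact dvd_of_eq_dvd this (by ring)
    · refine ⟨i + k, j + l, Or.inr ⟨?_, h.b_mul_b_z _ _ _ _⟩⟩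
      have := dvd_add h1 h2
      exact dvd_of_eq_dvd this (by ring)
    · refine ⟨i + l, j + k, Or.inr ⟨?_, h.b_z_mul_b _ _ _ _⟩⟩
      have := dvd_sub h1 h2
      exact dvd_of_eq_dvd this (by ring)
    · refine ⟨i + l, j + k, Or.inl ⟨?_, h.b_z_b_z _ _ _ _⟩⟩
      have := dvd_sub h1 h2
      exact dvd_of_eq_dvd this (by ring)
  inv_mem' := by
    rintro _ ⟨i, j, (⟨h1, rfl⟩ | ⟨h1, rfl⟩)⟩
    · refine ⟨-i, -j, Or.inl ⟨?_, h.b_inv _ _⟩⟩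
      have := (dvd_neg).mpr h1
      exact dvd_of_eq_dvd this (by ring)
    · refine ⟨-j, -i, Or.inr ⟨?_, h.b_z_inv _ _⟩⟩
      exact dvd_of_eq_dvd h1 (by ring)

theorem mem_W_iff (m : ℕ) (d : ℤ) (s : S) : s ∈ h.W m d ↔
    ∃ i j : ℤ, ((2 : ℤ) ^ m ∣ i - j ∧ s = h.b i j) ∨
      ((2 : ℤ) ^ m ∣ i - j - d ∧ s = h.b i j * z) := Iff.rfl

theorem two_pow_dvd_two_pow {m : ℕ} (hm : m ≤ n) : (2 : ℤ) ^ m ∣ (2 : ℤ) ^ n := pow_dvd_pow 2 hm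

theorem b_mem_W_iff {m : ℕ} (hm : m ≤ n) (d i j : ℤ) :
    h.b i j ∈ h.W m d ↔ (2 : ℤ) ^ m ∣ i - j := by
  constructor
  · rintro ⟨k, l, (⟨h1, he⟩ | ⟨_, he⟩)⟩
    · obtain ⟨e1, e2⟩ := (h.b_eq_b_iff _ _ _ _).mp he
      have e1' := (h.two_pow_dvd_two_pow hm).trans e1
      have e2' := (h.two_pow_dvd_two_pow hm).trans e2
      have := dvd_add (dvd_sub e1' e2') h1
      exact dvd_of_eq_dvd this (by ring)
    · exact absurd he.symm (h.b_z_ne_b _ _ _ _)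
  · intro h1
    exact ⟨i, j, Or.inl ⟨h1, rfl⟩⟩

theorem b_z_mem_W_iff {m : ℕ} (hm : m ≤ n) (d i j : ℤ) :
    h.b i j * z ∈ h.W m d ↔ (2 : ℤ) ^ m ∣ i - j - d := by
  constructor
  · rintro ⟨k, l, (⟨_, he⟩ | ⟨h1, he⟩)⟩
    · exact absurd he (h.b_z_ne_b _ _ _ _)
    · obtain ⟨e1, e2⟩ := (h.b_z_eq_b_z_iff _ _ _ _).mp he
      have e1' := (h.two_pow_dvd_two_pow hm).trans e1
      have e2' := (h.two_pow_dvd_two_pow hm).trans e2
      have := dvd_add (dvd_sub e1' e2') h1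
      exact dvd_of_eq_dvd this (by ring)
  · intro h1
    exact ⟨i, j, Or.inr ⟨h1, rfl⟩⟩

theorem W_congr (m : ℕ) (d d' : ℤ) (hd : (2 : ℤ) ^ m ∣ d - d') : h.W m d = h.W m d' := by
  ext s
  rw [h.mem_W_iff, h.mem_W_iff]
  constructor
  · rintro ⟨i, j, (⟨h1, rfl⟩ | ⟨h1, rfl⟩)⟩
    · exact ⟨i, j, Or.inl ⟨h1, rfl⟩⟩
    · refine ⟨i, j, Or.inr ⟨?_, rfl⟩⟩
      have := dvd_add h1 hd
      exact dvd_of_eq_dvd this (by ring)
  · rintro ⟨i, j, (⟨h1, rfl⟩ | ⟨h1, rfl⟩)⟩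
    · exact ⟨i, j, Or.inl ⟨h1, rfl⟩⟩
    · refine ⟨i, j, Or.inr ⟨?_, rfl⟩⟩
      have := dvd_sub h1 hd
      exact dvd_of_eq_dvd this (by ring)

theorem center_le_W [Finite S] (m : ℕ) (d : ℤ) : Subgroup.center S ≤ h.W m d := by
  intro s hs
  obtain ⟨i, rfl⟩ := (h.mem_center_iff s).mp hs
  exact ⟨i, i, Or.inl ⟨by simp, rfl⟩⟩

/-- Every subgroup containing the centre and not contained in the base group is one of the `W m d`. -/
theorem exists_eq_W [Finite S] (X : Subgroup S) (hZ : Subgroup.center S ≤ X) (hXB : ¬ X ≤ h.B) :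
    ∃ m ≤ n, ∃ d : ℤ, X = h.W m d := by
  let D : AddSubgroup ℤ :=
    { carrier := {c | ∃ i j : ℤ, h.b i j ∈ X ∧ c = i - j}
      zero_mem' := ⟨0, 0, by rw [h.b_zero]; exact X.one_mem, by ring⟩
      add_mem' := by
        rintro _ _ ⟨i, j, h1, rfl⟩ ⟨k, l, h2, rfl⟩
        refine ⟨i + k, j + l, ?_, by ring⟩
        rw [← h.b_mul]; exact X.mul_mem h1 h2
      neg_mem' := by
        rintro _ ⟨i, j, h1, rfl⟩
        refine ⟨-i, -j, ?_, by ring⟩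
        rw [← h.b_inv]; exact X.inv_mem h1 }
  have hDmem : ∀ c : ℤ, c ∈ D ↔ ∃ i j : ℤ, h.b i j ∈ X ∧ c = i - j := fun c => Iff.rfl
  obtain ⟨g, hg⟩ := Int.subgroup_cyclic D
  have h2n : (2 : ℤ) ^ n ∈ D := by
    refine ⟨2 ^ n, 0, ?_, by ring⟩
    have : h.b ((2 : ℤ) ^ n) 0 = 1 := (h.b_eq_one_iff _ _).mpr ⟨dvd_refl _, dvd_zero _⟩
    rw [this]; exact X.one_mem
  have hgdvd : g ∣ (2 : ℤ) ^ n := by
    rw [hg, AddSubgroup.mem_closure_singleton] at h2n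
    obtain ⟨k, hk⟩ := h2n
    exact ⟨k, by rw [← hk]; simp [mul_comm]⟩
  have hnat : g.natAbs ∣ 2 ^ n := by
    have := Int.natAbs_dvd_natAbs.mpr hgdvd
    simpa [Int.natAbs_pow] using this
  obtain ⟨m, hmn, hm⟩ := (Nat.dvd_prime_pow Nat.prime_two).mp hnat
  have hDiff : ∀ c : ℤ, c ∈ D ↔ (2 : ℤ) ^ m ∣ c := by
    intro c
    rw [hg, AddSubgroup.mem_closure_singleton]
    have e : ((2 : ℤ) ^ m ∣ c) ↔ (g ∣ c) := by
      rw [← Int.natAbs_dvd_natAbs, ← Int.natAbs_dvd_natAbs (a := g), Int.natAbs_pow, hm]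
      simp
    rw [e]
    constructor
    · rintro ⟨k, rfl⟩
      exact ⟨k, by simp [mul_comm]⟩
    · rintro ⟨k, rfl⟩
      exact ⟨k, by simp [mul_comm]⟩
  -- membership of base elements
  have hb : ∀ i j : ℤ, h.b i j ∈ X ↔ (2 : ℤ) ^ m ∣ i - j := by
    intro i j
    constructor
    · intro hX
      exact (hDiff _).mp ⟨i, j, hX, rfl⟩
    · intro hd
      obtain ⟨i', j', hX, he⟩ := (hDiff _).mpr hd
      have : h.b i j = h.b i' j' * h.b (i - i') (i - i') := by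
        rw [h.b_mul]
        congr 1
        · ring
        · linarith
      rw [this]
      apply X.mul_mem hX
      apply hZ
      exact (h.mem_center_iff _).mpr ⟨_, rfl⟩
  obtain ⟨u, huX, huB⟩ := SetLike.not_le_iff_exists.mp hXB
  rcases h.cases u with ⟨i₀, j₀, rfl⟩ | ⟨i₀, j₀, rfl⟩
  · exact absurd (h.b_mem_B _ _) huB
  have hbz : ∀ i j : ℤ, h.b i j * z ∈ X ↔ (2 : ℤ) ^ m ∣ i - j - (i₀ - j₀) := by
    intro i j
    have e : h.b i j * z = h.b (i - i₀) (j - j₀) * (h.b i₀ j₀ * z) := by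
      rw [h.b_mul_b_z]; congr 2 <;> ring
    have e2 : (2 : ℤ) ^ m ∣ i - j - (i₀ - j₀) ↔ (2 : ℤ) ^ m ∣ (i - i₀) - (j - j₀) := by
      have : i - j - (i₀ - j₀) = (i - i₀) - (j - j₀) := by ring
      rw [this]
    rw [e2, ← hb, e]
    constructor
    · intro hX
      have := X.mul_mem hX (X.inv_mem huX)
      rwa [mul_inv_cancel_right] at this
    · intro hX
      exact X.mul_mem hX huX
  refine ⟨m, hmn, i₀ - j₀, ?_⟩
  ext s
  rcases h.cases s with ⟨i, j, rfl⟩ | ⟨i, j, rfl⟩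
  · rw [hb, h.b_mem_W_iff hmn]
  · rw [hbz, h.b_z_mem_W_iff hmn]

end sub

end WrData

end Cfsg.Agent.Lib.Helper90
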