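import Mathlib
import Cfsg.Agent.Lib.Helper90.WreathedSub
import Cfsg.Agent.Lib.Helper90.AutTwo
import Cfsg.Agent.Lib.Helper90.WreathedKlein

set_option autoImplicit false

namespace Cfsg.Agent.Lib.Helper90

namespace WrData

variable {S : Type*} [Group S] {n : ℕ} {x y z : S}

section aut
variable (h : WrData S n x y z)
include h

theorem b_pow (i j : ℤ) (k : ℕ) : (h.b i j) ^ k = h.b (k * i) (k * j) := by
  induction k with
  | zero => simp [h.b_zero]
  | succ k ih =>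
    rw [pow_succ, ih, h.b_mul]
    congr 1 <;> push_cast <;> ring

theorem not_two_pow_dvd {m : ℕ} (hm : m < n) : ¬ (2 : ℤ) ^ n ∣ (2 : ℤ) ^ m := by
  intro hd
  have h1 : (2 : ℤ) ^ n ≤ (2 : ℤ) ^ m := Int.le_of_dvd (by positivity) hd
  have h2 : (2 : ℤ) ^ m < (2 : ℤ) ^ n := pow_lt_pow_right₀ (by norm_num) hm
  omega

theorem not_dvd_half_mul_odd (c : ℤ) (hc : ¬ (2 : ℤ) ∣ c) : ¬ (2 : ℤ) ^ n ∣ (2 : ℤ) ^ (n - 1) * c := by
  intro hd
  rw [h.two_pow_eq, mul_comm 2, mul_dvd_mul_iff_left (by positivity)] at hd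
  exact hc hd

/-- The only central involution is `x^(2^(n-1)) y^(2^(n-1))`. -/
theorem center_inv_unique (i : ℤ) (h1 : h.b i i * h.b i i = 1) (h2 : h.b i i ≠ 1) :
    h.b i i = h.b ((2 : ℤ) ^ (n - 1)) ((2 : ℤ) ^ (n - 1)) := by
  have hN := h.two_pow_eq
  rw [h.b_mul, h.b_eq_one_iff] at h1
  have hH := h.dvd_half_of_dvd_two_mul i (by rw [two_mul]; exact h1.1)
  obtain ⟨c, rfl⟩ := hH
  rcases Int.emod_two_eq_zero_or_one c with hc | hc
  · exfalso
    apply h2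
    obtain ⟨q, rfl⟩ : (2 : ℤ) ∣ c := Int.dvd_of_emod_eq_zero hc
    rw [h.b_eq_one_iff]
    exact ⟨⟨q, by rw [hN]; ring⟩, ⟨q, by rw [hN]; ring⟩⟩
  · have : (2 : ℤ) ∣ c - 1 := by omega
    obtain ⟨q, hq⟩ := this
    have hc' : c = 2 * q + 1 := by omega
    apply h.b_congr
    · exact ⟨q, by rw [hc', hN]; ring⟩
    · exact ⟨q, by rw [hc', hN]; ring⟩

theorem isPGroup_two [Finite S] : IsPGroup 2 S := IsPGroup.of_card h.card

theorem e_mem_center [Finite S] :
    h.b ((2 : ℤ) ^ (n - 1)) ((2 : ℤ) ^ (n - 1)) ∈ Subgroup.center S :=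
  (h.mem_center_iff _).mpr ⟨_, rfl⟩

theorem orderOf_e : orderOf (h.b ((2 : ℤ) ^ (n - 1)) ((2 : ℤ) ^ (n - 1))) = 2 :=
  (orderOf_two_iff' _).mpr ⟨h.b_half_half_ne_one, h.half_sq _ _ (dvd_refl _) (dvd_refl _)⟩

end aut

section main
variable (h : WrData S n x y z)
include h

theorem W_cases (m : ℕ) (d : ℤ) (w : h.W m d) :
    (∃ i j : ℤ, (2 : ℤ) ^ m ∣ i - j ∧ (w : S) = h.b i j) ∨
      (∃ i j : ℤ, (2 : ℤ) ^ m ∣ i - j - d ∧ (w : S) = h.b i j * z) := by
  obtain ⟨i, j, h1 | h1⟩ := w.2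
  · exact Or.inl ⟨i, j, h1⟩
  · exact Or.inr ⟨i, j, h1⟩

theorem u_mem_W {m : ℕ} (hm : m ≤ n) (d : ℤ) : h.b d 0 * z ∈ h.W m d :=
  (h.b_z_mem_W_iff hm d d 0).mpr (by simp)

theorem v_mem_W {m : ℕ} (hm : m ≤ n) (d : ℤ) : h.b ((2 : ℤ) ^ m) 0 ∈ h.W m d :=
  (h.b_mem_W_iff hm d _ 0).mpr (by simp)

/-- For `m < n` the centre of `W m d` is the centre of `S`. -/
theorem center_W {m : ℕ} (hmn : m < n) (d : ℤ) (w : h.W m d)
    (hw : w ∈ Subgroup.center (h.W m d)) : ∃ i : ℤ, (w : S) = h.b i i := by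
  rcases h.W_cases m d w with ⟨i, j, _, he⟩ | ⟨i, j, _, he⟩
  · have hc := Subgroup.mem_center_iff.mp hw ⟨_, h.u_mem_W hmn.le d⟩
    have hc' : (h.b d 0 * z) * (w : S) = (w : S) * (h.b d 0 * z) := congrArg Subtype.val hc
    rw [he, h.b_z_mul_b, h.b_mul_b_z, h.b_z_eq_b_z_iff] at hc'
    refine ⟨i, ?_⟩
    rw [he]
    apply h.b_congr
    · simp
    · have := hc'.1
      exact dvd_of_eq_dvd this (by ring)
  · exfalso
    have hc := Subgroup.mem_center_iff.mp hw ⟨_, h.v_mem_W hmn.le d⟩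
    have hc' : h.b ((2 : ℤ) ^ m) 0 * (w : S) = (w : S) * h.b ((2 : ℤ) ^ m) 0 :=
      congrArg Subtype.val hc
    rw [he, h.b_z_mul_b, h.b_mul_b_z, h.b_z_eq_b_z_iff] at hc'
    have := hc'.1
    exact h.not_two_pow_dvd hmn (dvd_of_eq_dvd this (by ring))

/-- For `m < n` every automorphism of `W m d` fixes the central involution. -/
theorem aut_fix_e [Finite S] {m : ℕ} (hmn : m < n) (d : ℤ) (φ : MulAut (h.W m d)) :
    φ ⟨h.b ((2 : ℤ) ^ (n - 1)) ((2 : ℤ) ^ (n - 1)), h.center_le_W m d h.e_mem_center⟩ =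
      ⟨h.b ((2 : ℤ) ^ (n - 1)) ((2 : ℤ) ^ (n - 1)), h.center_le_W m d h.e_mem_center⟩ := by
  set e : h.W m d := ⟨h.b ((2 : ℤ) ^ (n - 1)) ((2 : ℤ) ^ (n - 1)),
    h.center_le_W m d h.e_mem_center⟩ with he
  have hec : e ∈ Subgroup.center (h.W m d) := by
    rw [Subgroup.mem_center_iff]
    intro g
    apply Subtype.ext
    exact Subgroup.mem_center_iff.mp h.e_mem_center g
  have hφc : φ e ∈ Subgroup.center (h.W m d) := by
    rw [Subgroup.mem_center_iff]
    intro g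
    have h1 := Subgroup.mem_center_iff.mp hec (φ.symm g)
    have h2 := congrArg φ h1
    rwa [map_mul, map_mul, φ.apply_symm_apply] at h2
  obtain ⟨i, hi⟩ := h.center_W hmn d (φ e) hφc
  have ho : orderOf (φ e) = 2 := by
    rw [MulEquiv.orderOf_eq, he, Subgroup.orderOf_mk]; exact h.orderOf_e
  rw [← Subgroup.orderOf_coe, hi, orderOf_two_iff'] at ho
  apply Subtype.ext
  rw [hi]
  exact h.center_inv_unique i ho.2 ho.1

theorem mem_Y_iff (m : ℕ) (d : ℤ) (w : h.W m d) :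
    w ∈ h.B.subgroupOf (h.W m d) ↔ ∃ i j : ℤ, (w : S) = h.b i j := by
  rw [Subgroup.mem_subgroupOf, h.mem_B_iff]

theorem not_mem_Y_iff [Finite S] (m : ℕ) (d : ℤ) (w : h.W m d) :
    w ∉ h.B.subgroupOf (h.W m d) ↔ ∃ i j : ℤ, (w : S) = h.b i j * z := by
  rw [Subgroup.mem_subgroupOf]
  constructor
  · intro hw
    rcases h.cases (w : S) with ⟨i, j, he⟩ | ⟨i, j, he⟩
    · exact absurd (he ▸ h.b_mem_B i j) hw
    · exact ⟨i, j, he⟩
  · rintro ⟨i, j, he⟩
    rw [he]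
    exact h.b_z_not_mem_B i j

/-- An odd-order automorphism of `W m d` (`m < n`) preserving the base part is trivial. -/
theorem aut_eq_one_of_Y_invariant [Finite S] {m : ℕ} (hmn : m < n) (d : ℤ) (φ : MulAut (h.W m d))
    (k : ℕ) (hk : Odd k) (hφk : φ ^ k = 1)
    (hinv : ∀ w ∈ h.B.subgroupOf (h.W m d), φ w ∈ h.B.subgroupOf (h.W m d)) : φ = 1 := by
  have hm1 : m ≤ n - 1 := by omega
  have hdvd : (2 : ℤ) ^ m ∣ (2 : ℤ) ^ (n - 1) := pow_dvd_pow 2 hm1
  have htW : h.b ((2 : ℤ) ^ (n - 1)) 0 ∈ h.W m d :=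
    (h.b_mem_W_iff hmn.le d _ _).mpr (by simpa using hdvd)
  have huW : h.b 0 ((2 : ℤ) ^ (n - 1)) ∈ h.W m d :=
    (h.b_mem_W_iff hmn.le d _ _).mpr (by simpa using hdvd)
  have hfix : ∀ w ∈ h.B.subgroupOf (h.W m d), φ w = w := by
    apply fix_of_threeInv_sub φ k hk hφk (h.B.subgroupOf (h.W m d)) hinv
      (t := ⟨_, htW⟩) (u := ⟨_, huW⟩)
      (e := ⟨h.b ((2 : ℤ) ^ (n - 1)) ((2 : ℤ) ^ (n - 1)), h.center_le_W m d h.e_mem_center⟩)
    · intro a ha b hb
      apply Subtype.ext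
      exact h.B_comm _ _ (Subgroup.mem_subgroupOf.mp ha) (Subgroup.mem_subgroupOf.mp hb)
    · exact (h.isPGroup_two.to_subgroup _).to_subgroup _
    · rw [Subgroup.mem_subgroupOf]; exact h.b_mem_B _ _
    · rw [Subgroup.mem_subgroupOf]; exact h.b_mem_B _ _
    · rw [Subgroup.orderOf_mk, orderOf_two_iff']
      exact ⟨h.b_half_zero_ne_one, h.half_sq _ _ (dvd_refl _) (dvd_zero _)⟩
    · rw [Subgroup.orderOf_mk, orderOf_two_iff']
      exact ⟨h.b_zero_half_ne_one, h.half_sq _ _ (dvd_zero _) (dvd_refl _)⟩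
    · intro he
      have he' := congrArg Subtype.val he
      rw [h.b_eq_b_iff] at he'
      exact h.not_dvd_half (by simpa using he'.1)
    · intro s hs hso
      rw [← Subgroup.orderOf_coe, orderOf_two_iff'] at hso
      rcases h.sq_eq_one_cases (s : S) hso.2 with (h0 | h0 | h0 | h0) | ⟨i, h0⟩
      · exact absurd h0 hso.1
      · left; exact Subtype.ext h0
      · right; left; exact Subtype.ext h0
      · right; right
        apply Subtype.ext
        rw [h0, Subgroup.coe_mul]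
        show _ = h.b ((2 : ℤ) ^ (n - 1)) 0 * h.b 0 ((2 : ℤ) ^ (n - 1))
        rw [h.b_mul, add_zero, zero_add]
      · exfalso
        have := Subgroup.mem_subgroupOf.mp hs
        rw [h0] at this
        exact h.b_z_not_mem_B _ _ this
    · rw [Subgroup.mem_subgroupOf]; exact h.b_mem_B _ _
    · rw [Subgroup.orderOf_mk]; exact h.orderOf_e
    · exact h.aut_fix_e hmn d φ
  apply aut_eq_one_of_fix_index_two ((h.isPGroup_two).to_subgroup _) φ k hk hφk
    (h.B.subgroupOf (h.W m d)) ?_ hfix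
  intro a b ha hb
  obtain ⟨i, j, hea⟩ := (h.not_mem_Y_iff m d a).mp ha
  obtain ⟨k', l, heb⟩ := (h.not_mem_Y_iff m d b).mp hb
  rw [Subgroup.mem_subgroupOf, Subgroup.coe_mul, Subgroup.coe_inv, hea, heb, h.b_z_inv, h.b_z_b_z]
  exact h.b_mem_B _ _

/-- squares of elements of `S` lie in the base group -/
theorem sq_mem_B [Finite S] (s : S) : s * s ∈ h.B := by
  rcases h.cases s with ⟨i, j, rfl⟩ | ⟨i, j, rfl⟩
  · rw [h.b_mul]; exact h.b_mem_B _ _
  · rw [h.b_z_b_z]; exact h.b_mem_B _ _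

/-- Case `m + 2 ≤ n`: odd-order automorphisms of `W m d` are trivial. -/
theorem aut_trivial_small [Finite S] {m : ℕ} (hm2 : m + 2 ≤ n) (d : ℤ) (φ : MulAut (h.W m d))
    (k : ℕ) (hk : Odd k) (hφk : φ ^ k = 1) : φ = 1 := by
  have hmn : m < n := by omega
  have hchar : ∀ w : h.W m d, w ∈ h.B.subgroupOf (h.W m d) ↔ ∀ v : h.W m d, w * (v * v) = (v * v) * w := by
    intro w
    constructor
    · intro hw v
      apply Subtype.ext
      simp only [Subgroup.coe_mul]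
      exact h.B_comm _ _ (Subgroup.mem_subgroupOf.mp hw) (h.sq_mem_B _)
    · intro hw
      by_contra hnot
      obtain ⟨i, j, he⟩ := (h.not_mem_Y_iff m d w).mp hnot
      have hc := hw ⟨_, h.v_mem_W hmn.le d⟩
      have hc' : (w : S) * (h.b ((2 : ℤ) ^ m) 0 * h.b ((2 : ℤ) ^ m) 0) =
          (h.b ((2 : ℤ) ^ m) 0 * h.b ((2 : ℤ) ^ m) 0) * (w : S) := congrArg Subtype.val hc
      rw [he, h.b_mul, h.b_z_mul_b, h.b_mul_b_z, h.b_z_eq_b_z_iff] at hc'
      have h1 := hc'.1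
      have h2 : (2 : ℤ) ^ n ∣ (2 : ℤ) ^ (m + 1) := by
        rw [pow_succ]
        have := (dvd_neg).mpr h1
        exact dvd_of_eq_dvd this (by ring)
      exact h.not_two_pow_dvd (by omega : m + 1 < n) h2
  apply h.aut_eq_one_of_Y_invariant hmn d φ k hk hφk
  intro w hw
  rw [hchar] at hw ⊢
  intro v
  have h1 := hw (φ.symm v)
  have h2 := congrArg φ h1
  simpa [map_mul] using h2

/-- Case `m = n - 1`, `d` odd: odd-order automorphisms of `W m d` are trivial. -/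
theorem aut_trivial_odd [Finite S] (d : ℤ) (hd : ¬ (2 : ℤ) ∣ d) (φ : MulAut (h.W (n - 1) d))
    (k : ℕ) (hk : Odd k) (hφk : φ ^ k = 1) : φ = 1 := by
  have hn2 := h.hn
  have hmn : n - 1 < n := by omega
  have hN := h.two_pow_eq
  have hNn : (2 : ℕ) ^ n = 2 * 2 ^ (n - 1) := by
    have : n = (n - 1) + 1 := by omega
    conv_lhs => rw [this]
    rw [pow_succ]; ring
  have h2H : (2 : ℤ) ∣ (2 : ℤ) ^ (n - 1) := by
    have : n - 1 = (n - 2) + 1 := by omega
    rw [this, pow_succ]; exact dvd_mul_left _ _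
  have hchar : ∀ w : h.W (n - 1) d, w ∈ h.B.subgroupOf (h.W (n - 1) d) ↔ w ^ (2 ^ n) = 1 := by
    intro w
    constructor
    · intro hw
      obtain ⟨i, j, he⟩ := (h.mem_Y_iff _ d w).mp hw
      apply Subtype.ext
      rw [Subgroup.coe_pow, he, h.b_pow, Subgroup.coe_one, h.b_eq_one_iff]
      push_cast
      exact ⟨dvd_mul_right _ _, dvd_mul_right _ _⟩
    · intro hw
      by_contra hnot
      obtain ⟨i, j, he⟩ := (h.not_mem_Y_iff _ d w).mp hnot
      have hwW : h.b i j * z ∈ h.W (n - 1) d := he ▸ w.2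
      have hdiv := (h.b_z_mem_W_iff hmn.le d i j).mp hwW
      have hw' := congrArg Subtype.val hw
      rw [Subgroup.coe_pow, he, Subgroup.coe_one, hNn, pow_mul, pow_two, h.b_z_b_z, h.b_pow,
        h.b_eq_one_iff] at hw'
      have h1 := hw'.1
      push_cast at h1
      apply h.not_dvd_half_mul_odd (i + j) ?_ h1
      intro h2
      apply hd
      have h3 : (2 : ℤ) ∣ i - j - d := h2H.trans hdiv
      have h4 : d = (i + j) - (i - j - d) - 2 * j := by ring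
      rw [h4]
      exact dvd_sub (dvd_sub h2 h3) (dvd_mul_right _ _)
  apply h.aut_eq_one_of_Y_invariant hmn d φ k hk hφk
  intro w hw
  rw [hchar] at hw ⊢
  rw [← map_pow, hw, map_one]

theorem W_top_comm (d : ℤ) (a c : S) (ha : a ∈ h.W n d) (hc : c ∈ h.W n d) : a * c = c * a := by
  obtain ⟨i, j, (⟨h1, rfl⟩ | ⟨h1, rfl⟩)⟩ := ha <;> obtain ⟨k, l, (⟨h2, rfl⟩ | ⟨h2, rfl⟩)⟩ := hc
  · exact h.b_comm _ _ _ _
  · rw [h.b_mul_b_z, h.b_z_mul_b, h.b_z_eq_b_z_iff]
    exact ⟨dvd_of_eq_dvd h1 (by ring), dvd_of_eq_dvd ((dvd_neg).mpr h1) (by ring)⟩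
  · rw [h.b_mul_b_z, h.b_z_mul_b, h.b_z_eq_b_z_iff]
    exact ⟨dvd_of_eq_dvd ((dvd_neg).mpr h2) (by ring), dvd_of_eq_dvd h2 (by ring)⟩
  · rw [h.b_z_b_z, h.b_z_b_z, h.b_eq_b_iff]
    exact ⟨dvd_of_eq_dvd (dvd_sub h1 h2) (by ring), dvd_of_eq_dvd (dvd_sub h2 h1) (by ring)⟩

/-- elements of `W n d ∩ B` are central -/
theorem W_top_base [Finite S] (d : ℤ) (w : h.W n d) (hw : (w : S) ∈ h.B) : ∃ i : ℤ, (w : S) = h.b i i := by
  obtain ⟨i, j, he⟩ := (h.mem_B_iff _).mp hw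
  have hW : h.b i j ∈ h.W n d := he ▸ w.2
  have := (h.b_mem_W_iff (le_refl n) d i j).mp hW
  refine ⟨i, ?_⟩
  rw [he]
  apply h.b_congr
  · simp
  · exact dvd_of_eq_dvd ((dvd_neg).mpr this) (by ring)

/-- Case `m = n`, `d` odd: odd-order automorphisms of `W n d` are trivial. -/
theorem aut_trivial_top_odd [Finite S] (d : ℤ) (hd : ¬ (2 : ℤ) ∣ d) (φ : MulAut (h.W n d))
    (k : ℕ) (hk : Odd k) (hφk : φ ^ k = 1) : φ = 1 := by
  have h2N : (2 : ℤ) ∣ (2 : ℤ) ^ n := by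
    have : n = (n - 1) + 1 := by have := h.hn; omega
    rw [this, pow_succ]; exact dvd_mul_left _ _
  set e : h.W n d := ⟨h.b ((2 : ℤ) ^ (n - 1)) ((2 : ℤ) ^ (n - 1)),
    h.center_le_W n d h.e_mem_center⟩ with he
  have hsq : ∀ t : h.W n d, t ^ 2 = 1 → t = 1 ∨ t = e := by
    intro t ht
    have ht' : (t : S) * (t : S) = 1 := by
      have := congrArg Subtype.val ht
      rwa [Subgroup.coe_pow, pow_two] at this
    rcases h.W_cases n d t with ⟨i, j, h1, he1⟩ | ⟨i, j, h1, he1⟩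
    · obtain ⟨i', hi'⟩ := h.W_top_base d t (he1 ▸ h.b_mem_B i j)
      by_cases h1' : (t : S) = 1
      · left; exact Subtype.ext h1'
      · right
        apply Subtype.ext
        rw [hi'] at ht' h1' ⊢
        exact h.center_inv_unique i' ht' h1'
    · exfalso
      rw [he1, h.b_z_b_z, h.b_eq_one_iff] at ht'
      apply hd
      have h3 : (2 : ℤ) ∣ i + j := h2N.trans ht'.1
      have h4 : (2 : ℤ) ∣ i - j - d := h2N.trans h1
      have h5 : d = (i + j) - (i - j - d) - 2 * j := by ring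
      rw [h5]
      exact dvd_sub (dvd_sub h3 h4) (dvd_mul_right _ _)
  have he2 : e ^ 2 = 1 := by
    apply Subtype.ext
    rw [Subgroup.coe_pow, pow_two]
    exact h.half_sq _ _ (dvd_refl _) (dvd_refl _)
  have he1 : e ≠ 1 := fun hh => h.b_half_half_ne_one (congrArg Subtype.val hh)
  apply aut_eq_one_of_fix_sq_one
    (fun a c => Subtype.ext (h.W_top_comm d a c a.2 c.2)) (h.isPGroup_two.to_subgroup _) φ k hk hφk
  intro t ht
  rcases hsq t ht with rfl | rfl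
  · exact map_one φ
  · have h1 : (φ e) ^ 2 = 1 := by rw [← map_pow, he2, map_one]
    rcases hsq _ h1 with h2 | h2
    · exfalso
      apply he1
      apply φ.injective
      rw [h2, map_one]
    · exact h2

/-- Case `m = n`, `d` even: odd-order automorphisms of `W n d` are trivial. -/
theorem aut_trivial_top_even [Finite S] (d : ℤ) (hd : (2 : ℤ) ∣ d) (φ : MulAut (h.W n d))
    (k : ℕ) (hk : Odd k) (hφk : φ ^ k = 1) : φ = 1 := by
  have hn2 := h.hn
  have hN := h.two_pow_eq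
  obtain ⟨c, rfl⟩ := hd
  set e : h.W n (2 * c) := ⟨h.b ((2 : ℤ) ^ (n - 1)) ((2 : ℤ) ^ (n - 1)),
    h.center_le_W n (2 * c) h.e_mem_center⟩ with he
  have htW : h.b c (-c) * z ∈ h.W n (2 * c) :=
    (h.b_z_mem_W_iff (le_refl n) _ _ _).mpr ⟨0, by ring⟩
  have hT : ThreeInv (h.W n (2 * c)) e ⟨_, htW⟩ := by
    refine ⟨fun a c' => Subtype.ext (h.W_top_comm _ a c' a.2 c'.2), h.isPGroup_two.to_subgroup _,
      ?_, ?_, ?_, ?_⟩
    · rw [he, Subgroup.orderOf_mk]; exact h.orderOf_e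
    · rw [Subgroup.orderOf_mk, orderOf_two_iff']
      refine ⟨fun hh => h.b_z_ne_b c (-c) 0 0 (by rw [h.b_zero]; exact hh), ?_⟩
      rw [h.b_z_b_z, h.b_eq_one_iff]
      simp
    · intro hh
      have := congrArg Subtype.val hh
      exact h.b_z_ne_b _ _ _ _ this.symm
    · intro s hs
      rw [← Subgroup.orderOf_coe, orderOf_two_iff'] at hs
      rcases h.W_cases n (2 * c) s with ⟨i, j, h1, he1⟩ | ⟨i, j, h1, he1⟩
      · left
        obtain ⟨i', hi'⟩ := h.W_top_base _ s (he1 ▸ h.b_mem_B i j)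
        apply Subtype.ext
        rw [hi'] at hs ⊢
        exact h.center_inv_unique i' hs.2 hs.1
      · right
        have hss := hs.2
        rw [he1, h.b_z_b_z, h.b_eq_one_iff] at hss
        have hic : (2 : ℤ) ^ (n - 1) ∣ i - c := by
          apply h.dvd_half_of_dvd_two_mul
          have := dvd_add hss.1 h1
          exact dvd_of_eq_dvd this (by ring)
        obtain ⟨q, hq⟩ := hic
        rcases Int.emod_two_eq_zero_or_one q with hq2 | hq2
        · left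
          apply Subtype.ext
          rw [he1]
          obtain ⟨r, rfl⟩ : (2 : ℤ) ∣ q := Int.dvd_of_emod_eq_zero hq2
          have hi : (2 : ℤ) ^ n ∣ i - c := ⟨r, by rw [hq, hN]; ring⟩
          congr 1
          apply h.b_congr _ _ _ _ hi
          exact dvd_of_eq_dvd (dvd_sub hss.1 hi) (by ring)
        · right
          apply Subtype.ext
          rw [he1, Subgroup.coe_mul]
          show _ = h.b ((2 : ℤ) ^ (n - 1)) ((2 : ℤ) ^ (n - 1)) * (h.b c (-c) * z)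
          rw [h.b_mul_b_z]
          have : (2 : ℤ) ∣ q - 1 := by omega
          obtain ⟨r, hr⟩ := this
          have hq' : q = 2 * r + 1 := by omega
          have hi : (2 : ℤ) ^ n ∣ i - ((2 : ℤ) ^ (n - 1) + c) :=
            ⟨r, by rw [show i - ((2 : ℤ) ^ (n - 1) + c) = (i - c) - (2 : ℤ) ^ (n - 1) by ring, hq, hq',
              hN]; ring⟩
          congr 1
          apply h.b_congr _ _ _ _ hi
          have h3 : (2 : ℤ) ^ n ∣ 2 * (2 : ℤ) ^ (n - 1) := by rw [← hN]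
          exact dvd_of_eq_dvd (dvd_sub (dvd_sub hss.1 hi) h3) (by ring)
  -- `e` is a square, hence fixed
  have hvW : h.b ((2 : ℤ) ^ (n - 2)) ((2 : ℤ) ^ (n - 2)) ∈ h.W n (2 * c) :=
    h.center_le_W n _ ((h.mem_center_iff _).mpr ⟨_, rfl⟩)
  have hvv : (⟨_, hvW⟩ : h.W n (2 * c)) * ⟨_, hvW⟩ = e := by
    apply Subtype.ext
    rw [Subgroup.coe_mul, he]
    show h.b ((2 : ℤ) ^ (n - 2)) ((2 : ℤ) ^ (n - 2)) * h.b ((2 : ℤ) ^ (n - 2)) ((2 : ℤ) ^ (n - 2)) = _
    rw [h.b_mul]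
    have : (2 : ℤ) ^ (n - 2) + (2 : ℤ) ^ (n - 2) = (2 : ℤ) ^ (n - 1) := by
      have : n - 1 = (n - 2) + 1 := by omega
      rw [this, pow_succ]; ring
    rw [this]
  have hφe : φ e = e := by
    have h1 : ((φ e : h.W n (2 * c)) : S) ∈ h.B := by
      rw [← hvv, map_mul, Subgroup.coe_mul]
      exact h.sq_mem_B _
    obtain ⟨i', hi'⟩ := h.W_top_base _ (φ e) h1
    have ho : orderOf (φ e) = 2 := by
      rw [MulEquiv.orderOf_eq]; exact hT.ot
    rw [← Subgroup.orderOf_coe, hi', orderOf_two_iff'] at ho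
    apply Subtype.ext
    rw [hi']
    exact h.center_inv_unique i' ho.2 ho.1
  exact hT.eq_one_of_fix_inv φ k hk hφk e hT.ot hφe

end main

end WrData

end Cfsg.Agent.Lib.Helper90
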