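import Mathlib
import Cfsg.Agent.Lib.Helper90.WreathedAut

set_option autoImplicit false

namespace Cfsg.Agent.Lib.Helper90

namespace WrData

variable {S : Type*} [Group S] {n : ℕ} {x y z : S}

section cls
variable (h : WrData S n x y z)
include h

/-- Classification of the self-centralizing subgroups whose automorphism group is not a 2-group. -/
theorem classify [Finite S] (X : Subgroup S) (hC : Subgroup.centralizer (X : Set S) ≤ X)
    (hA : ¬ IsPGroup 2 (MulAut X)) : X = h.B ∨ ∃ c : ℤ, X = h.W (n - 1) (2 * c) := by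
  have hZ : Subgroup.center S ≤ X := (Subgroup.center_le_centralizer _).trans hC
  by_cases hXB : X ≤ h.B
  · left
    apply le_antisymm hXB
    refine le_trans ?_ hC
    intro b hb
    rw [Subgroup.mem_centralizer_iff]
    intro g hg
    exact h.B_comm g b (hXB hg) hb
  · right
    obtain ⟨m, hmn, d, rfl⟩ := h.exists_eq_W X hZ hXB
    obtain ⟨φ, k, hk, hφk, hφ1⟩ := exists_odd_aut_of_not_isPGroup hA
    have hn2 := h.hn
    by_cases hm2 : m + 2 ≤ n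
    · exact absurd (h.aut_trivial_small hm2 d φ k hk hφk) hφ1
    by_cases hmn' : m = n
    · subst hmn'
      by_cases hd : (2 : ℤ) ∣ d
      · exact absurd (h.aut_trivial_top_even d hd φ k hk hφk) hφ1
      · exact absurd (h.aut_trivial_top_odd d hd φ k hk hφk) hφ1
    have hm1 : m = n - 1 := by omega
    subst hm1
    by_cases hd : (2 : ℤ) ∣ d
    · obtain ⟨c, rfl⟩ := hd
      exact ⟨c, rfl⟩
    · exact absurd (h.aut_trivial_odd d hd φ k hk hφk) hφ1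

theorem conj_mem_W_b (m : ℕ) (d k l : ℤ) (s : S) (hs : s ∈ h.W m d) :
    h.b k l * s * (h.b k l)⁻¹ ∈ h.W m (d + 2 * (k - l)) := by
  obtain ⟨i, j, (⟨h1, rfl⟩ | ⟨h1, rfl⟩)⟩ := hs
  · refine ⟨i, j, Or.inl ⟨h1, ?_⟩⟩
    rw [h.b_comm, mul_inv_cancel_right]
  · refine ⟨k + i + -l, l + j + -k, Or.inr ⟨dvd_of_eq_dvd h1 (by ring), ?_⟩⟩
    rw [h.b_mul_b_z, h.b_inv, h.b_z_mul_b]

theorem conj_mem_W_z (m : ℕ) (d : ℤ) (s : S) (hs : s ∈ h.W m d) :
    z * s * z⁻¹ ∈ h.W m (-d) := by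
  obtain ⟨i, j, (⟨h1, rfl⟩ | ⟨h1, rfl⟩)⟩ := hs
  · refine ⟨j, i, Or.inl ⟨dvd_of_eq_dvd ((dvd_neg).mpr h1) (by ring), ?_⟩⟩
    rw [h.z_b, mul_inv_cancel_right]
  · refine ⟨j, i, Or.inr ⟨dvd_of_eq_dvd ((dvd_neg).mpr h1) (by ring), ?_⟩⟩
    rw [h.zinv, ← mul_assoc, h.z_b, mul_assoc, mul_assoc, h.zz, mul_one]

/-- Conjugation by `x^k y^l` maps `W m d` onto `W m (d + 2 (k - l))`. -/
theorem map_conj_W (m : ℕ) (d k l : ℤ) :
    (h.W m d).map (MulAut.conj (h.b k l)).toMonoidHom = h.W m (d + 2 * (k - l)) := by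
  apply le_antisymm
  · rintro _ ⟨s, hs, rfl⟩
    exact h.conj_mem_W_b m d k l s hs
  · intro g hg
    refine ⟨(h.b k l)⁻¹ * g * h.b k l, ?_, ?_⟩
    · have := h.conj_mem_W_b m _ (-k) (-l) g hg
      rw [← h.b_inv, inv_inv] at this
      have e : d + 2 * (k - l) + 2 * (-k - -l) = d := by ring
      rwa [e] at this
    · simp [MulAut.conj_apply, mul_assoc]

theorem half_eq : (2 : ℤ) ^ (n - 1) = 2 * (2 : ℤ) ^ (n - 2) := by
  have : n - 1 = (n - 2) + 1 := by have := h.hn; omega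
  rw [this, pow_succ]; ring

theorem half_dvd_cases (c : ℤ) (hc : (2 : ℤ) ^ (n - 1) ∣ 2 * c) :
    (2 : ℤ) ^ (n - 1) ∣ c ∨ (2 : ℤ) ^ (n - 1) ∣ c + (2 : ℤ) ^ (n - 2) := by
  have hH := h.half_eq
  rw [hH] at hc ⊢
  have hq : (2 : ℤ) ^ (n - 2) ∣ c := (mul_dvd_mul_iff_left (by norm_num)).mp hc
  obtain ⟨q, rfl⟩ := hq
  rcases Int.emod_two_eq_zero_or_one q with hq2 | hq2
  · left
    obtain ⟨r, rfl⟩ : (2 : ℤ) ∣ q := Int.dvd_of_emod_eq_zero hq2
    exact ⟨r, by ring⟩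
  · right
    have : (2 : ℤ) ∣ q + 1 := by omega
    obtain ⟨r, hr⟩ := this
    refine ⟨r, ?_⟩
    have : (2 : ℤ) ^ (n - 2) * q + (2 : ℤ) ^ (n - 2) = (2 : ℤ) ^ (n - 2) * (q + 1) := by ring
    rw [this, hr]; ring

/-- `|N_S(W (n-1) d) : W (n-1) d| = 2`. -/
theorem relIndex_W_normalizer [Finite S] (d : ℤ) :
    (h.W (n - 1) d).relIndex (Subgroup.normalizer ((h.W (n - 1) d : Subgroup S) : Set S)) = 2 := by
  have hn2 := h.hn
  have hmn : n - 1 ≤ n := by omega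
  have hH := h.half_eq
  have hQpos : (0 : ℤ) < (2 : ℤ) ^ (n - 2) := by positivity
  rw [Subgroup.relIndex_eq_two_iff_exists_notMem_and]
  refine ⟨h.b ((2 : ℤ) ^ (n - 2)) 0, ?_, ?_, ?_⟩
  · rw [Subgroup.mem_normalizer_iff]
    intro g
    constructor
    · intro hg
      have := h.conj_mem_W_b (n - 1) d ((2 : ℤ) ^ (n - 2)) 0 g hg
      rwa [h.W_congr (n - 1) (d + 2 * ((2 : ℤ) ^ (n - 2) - 0)) d ⟨1, by rw [hH]; ring⟩] at this
    · intro hg
      have := h.conj_mem_W_b (n - 1) d (-(2 : ℤ) ^ (n - 2)) (-0) _ hg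
      rw [← h.b_inv, h.W_congr (n - 1) (d + 2 * (-(2 : ℤ) ^ (n - 2) - -0)) d
        ⟨-1, by rw [hH]; ring⟩] at this
      have e : (h.b ((2 : ℤ) ^ (n - 2)) 0)⁻¹ * (h.b ((2 : ℤ) ^ (n - 2)) 0 * g *
          (h.b ((2 : ℤ) ^ (n - 2)) 0)⁻¹) * (h.b ((2 : ℤ) ^ (n - 2)) 0)⁻¹⁻¹ = g := by group
      rwa [e] at this
  · rw [h.b_mem_W_iff hmn]
    intro hd
    rw [sub_zero] at hd
    have := Int.le_of_dvd hQpos hd
    omega
  · intro s hs
    rw [Subgroup.mem_normalizer_iff] at hs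
    have hu := (hs (h.b d 0 * z)).mp (h.u_mem_W hmn d)
    rcases h.cases s with ⟨k, l, rfl⟩ | ⟨k, l, rfl⟩
    · rw [h.b_mul_b_z, h.b_inv, h.b_z_mul_b, h.b_z_mem_W_iff hmn] at hu
      have h1 : (2 : ℤ) ^ (n - 1) ∣ 2 * (k - l) := dvd_of_eq_dvd hu (by ring)
      rcases h.half_dvd_cases _ h1 with h2 | h2
      · right
        exact (h.b_mem_W_iff hmn d k l).mpr h2
      · left
        rw [h.b_mul, h.b_mem_W_iff hmn]
        exact dvd_of_eq_dvd h2 (by ring)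
    · rw [h.b_z_b_z, h.b_z_inv, h.b_mul_b_z, h.b_z_mem_W_iff hmn] at hu
      have h1 : (2 : ℤ) ^ (n - 1) ∣ 2 * (k - l - d) := dvd_of_eq_dvd hu (by ring)
      rcases h.half_dvd_cases _ h1 with h2 | h2
      · right
        exact (h.b_z_mem_W_iff hmn d k l).mpr h2
      · left
        rw [h.b_z_mul_b, h.b_z_mem_W_iff hmn]
        have h3 : (2 : ℤ) ^ (n - 1) ∣ (k - l - d + (2 : ℤ) ^ (n - 2)) - (2 : ℤ) ^ (n - 1) :=
          dvd_sub h2 (dvd_refl _)
        exact dvd_of_eq_dvd h3 (by rw [hH]; ring)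

theorem b_zpow (i j q : ℤ) : (h.b i j) ^ q = h.b (q * i) (q * j) := by
  cases q with
  | ofNat k =>
    rw [Int.ofNat_eq_natCast, zpow_natCast, h.b_pow]
  | negSucc k =>
    rw [zpow_negSucc, h.b_pow, h.b_inv, Int.negSucc_eq]
    congr 1 <;> push_cast <;> ring

/-- `W (n-1) (2c)` is the product of a quaternion group of order 8 with the centre. -/
theorem exists_quat_W [Finite S] (c : ℤ) : ∃ Q : Subgroup S,
    Nonempty (Q ≃* QuaternionGroup 2) ∧ h.W (n - 1) (2 * c) = Q ⊔ Subgroup.center S := by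
  have hn2 := h.hn
  have hmn : n - 1 ≤ n := by omega
  have hH := h.half_eq
  have hN := h.two_pow_eq
  obtain ⟨α, hα⟩ : ∃ α, α = h.b ((2 : ℤ) ^ (n - 2)) (-(2 : ℤ) ^ (n - 2)) := ⟨_, rfl⟩
  obtain ⟨β, hβ⟩ : ∃ β, β = h.b ((2 : ℤ) ^ (n - 1) + c) (-c) * z := ⟨_, rfl⟩
  have hαQ : α ∈ Subgroup.closure ({β, α} : Set S) := Subgroup.subset_closure (by simp)
  have hβQ : β ∈ Subgroup.closure ({β, α} : Set S) := Subgroup.subset_closure (by simp)
  have hα2 : α ^ 2 = h.b ((2 : ℤ) ^ (n - 1)) ((2 : ℤ) ^ (n - 1)) := by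
    rw [hα, h.b_pow]
    push_cast
    apply h.b_congr
    · exact ⟨0, by rw [hH]; ring⟩
    · exact ⟨-1, by rw [hN, hH]; ring⟩
  have hoα : orderOf α = 2 * 2 := by
    have h1 : ¬ α ^ 2 ^ 1 = 1 := by
      rw [pow_one, hα2]; exact h.b_half_half_ne_one
    have h2 : α ^ 2 ^ (1 + 1) = 1 := by
      rw [show (2 : ℕ) ^ (1 + 1) = 2 * 2 by norm_num, pow_mul, hα2, pow_two]
      exact h.half_sq _ _ (dvd_refl _) (dvd_refl _)
    rw [orderOf_eq_prime_pow h1 h2]; norm_num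
  have hββ : β * β = α ^ 2 := by
    rw [hα2, hβ, h.b_z_b_z]
    apply h.b_congr
    · exact ⟨0, by ring⟩
    · exact ⟨0, by ring⟩
  have hβαβ : β * α * β⁻¹ = α⁻¹ := by
    rw [hβ, hα, h.b_z_mul_b, h.b_z_inv, h.b_z_b_z, h.b_inv]
    congr 1 <;> ring
  have hns : β ∉ Subgroup.zpowers α := by
    intro hm
    obtain ⟨q, hq⟩ := Subgroup.mem_zpowers_iff.mp hm
    rw [hα, h.b_zpow, hβ] at hq
    exact h.b_z_ne_b _ _ _ _ hq.symm
  refine ⟨Subgroup.closure ({β, α} : Set S), ?_, ?_⟩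
  · have ho' : orderOf (⟨α, hαQ⟩ : Subgroup.closure ({β, α} : Set S)) = 2 * 2 := by
      rw [Subgroup.orderOf_mk]; exact hoα
    have hββ' : (⟨β, hβQ⟩ : Subgroup.closure ({β, α} : Set S)) * ⟨β, hβQ⟩ = ⟨α, hαQ⟩ ^ 2 :=
      Subtype.ext hββ
    have hβαβ' : (⟨β, hβQ⟩ : Subgroup.closure ({β, α} : Set S)) * ⟨α, hαQ⟩ * ⟨β, hβQ⟩⁻¹ =
        ⟨α, hαQ⟩⁻¹ := Subtype.ext hβαβ
    have hns' : (⟨β, hβQ⟩ : Subgroup.closure ({β, α} : Set S)) ∉ Subgroup.zpowers ⟨α, hαQ⟩ := by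
      intro hm
      apply hns
      obtain ⟨q, hq⟩ := Subgroup.mem_zpowers_iff.mp hm
      have := congrArg Subtype.val hq
      rw [Subgroup.coe_zpow] at this
      exact Subgroup.mem_zpowers_iff.mpr ⟨q, this⟩
    have hgen : Subgroup.closure ({⟨β, hβQ⟩, ⟨α, hαQ⟩} : Set (Subgroup.closure ({β, α} : Set S))) = ⊤ := by
      have := Subgroup.closure_closure_coe_preimage (k := ({β, α} : Set S))
      convert this using 2
      ext ⟨g, hg⟩
      simp [Subtype.ext_iff]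
    exact ⟨(Cfsg.Agent.Lib.Helper20.quatEquiv _ _ 2 ho' hββ' hβαβ' hns' hgen).symm⟩
  · apply le_antisymm
    · have hbase : ∀ i j : ℤ, (2 : ℤ) ^ (n - 1) ∣ i - j →
          h.b i j ∈ Subgroup.closure ({β, α} : Set S) ⊔ Subgroup.center S := by
        intro i j hd
        obtain ⟨q, hq⟩ := hd
        have e : h.b i j = h.b (i - (2 : ℤ) ^ (n - 2) * q) (i - (2 : ℤ) ^ (n - 2) * q) * α ^ q := by
          rw [hα, h.b_zpow, h.b_mul]
          apply h.b_congr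
          · exact ⟨0, by ring⟩
          · refine ⟨0, ?_⟩
            have : j = i - (2 : ℤ) ^ (n - 1) * q := by rw [← hq]; ring
            rw [this, hH]; ring
        rw [e]
        exact Subgroup.mul_mem _ (Subgroup.mem_sup_right ((h.mem_center_iff _).mpr ⟨_, rfl⟩))
          (Subgroup.mem_sup_left (Subgroup.zpow_mem _ hαQ q))
      intro s hs
      obtain ⟨i, j, (⟨h1, rfl⟩ | ⟨h1, rfl⟩)⟩ := hs
      · exact hbase i j h1
      · have e : h.b i j * z = h.b (i - (2 : ℤ) ^ (n - 1) - c) (j + c) * β := by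
          rw [hβ, h.b_mul_b_z]
          congr 2 <;> ring
        rw [e]
        apply Subgroup.mul_mem _ (hbase _ _ ?_) (Subgroup.mem_sup_left hβQ)
        have := dvd_sub h1 (dvd_refl ((2 : ℤ) ^ (n - 1)))
        exact dvd_of_eq_dvd this (by ring)
    · apply sup_le _ (h.center_le_W _ _)
      rw [Subgroup.closure_le]
      rintro g (rfl | rfl)
      · rw [hβ]
        show _ ∈ h.W (n - 1) (2 * c)
        rw [h.b_z_mem_W_iff hmn]
        exact ⟨1, by ring⟩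
      · rw [hα]
        show _ ∈ h.W (n - 1) (2 * c)
        rw [h.b_mem_W_iff hmn]
        exact ⟨1, by rw [hH]; ring⟩

/-- All the `W (n-1) (2c)` are conjugate. -/
theorem exists_conj_W (c c' : ℤ) : ∃ s : S,
    (h.W (n - 1) (2 * c)).map (MulAut.conj s).toMonoidHom = h.W (n - 1) (2 * c') := by
  refine ⟨h.b (c' - c) 0, ?_⟩
  rw [h.map_conj_W]
  congr 1; ring

end cls

end WrData

end Cfsg.Agent.Lib.Helper90
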