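import Mathlib
import Cfsg.Agent.Lib.Helper90.WreathedSub

set_option autoImplicit false

namespace Cfsg.Agent.Lib.Helper90

namespace WrData

variable {S S' : Type*} [Group S] [Group S'] {n : ℕ} {x y z : S}

/-- Transport of wreathed data along an isomorphism. -/
theorem of_equiv (h : WrData S n x y z) (e : S ≃* S') : WrData S' n (e x) (e y) (e z) where
  hn := h.hn
  card := by rw [← Nat.card_congr e.toEquiv]; exact h.card
  ox := by rw [MulEquiv.orderOf_eq]; exact h.ox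
  comm := by rw [← map_mul, ← map_mul, h.comm]
  disj := by
    rw [eq_bot_iff]
    intro a ha
    obtain ⟨ha1, ha2⟩ := Subgroup.mem_inf.mp ha
    obtain ⟨i, hi⟩ := Subgroup.mem_zpowers_iff.mp ha1
    obtain ⟨j, hj⟩ := Subgroup.mem_zpowers_iff.mp ha2
    rw [← map_zpow] at hi hj
    have h1 : x ^ i = y ^ j := e.injective (hi.trans hj.symm)
    have h2 : x ^ i ∈ Subgroup.zpowers x ⊓ Subgroup.zpowers y :=
      Subgroup.mem_inf.mpr ⟨Subgroup.zpow_mem_zpowers x i, h1 ▸ Subgroup.zpow_mem_zpowers y j⟩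
    rw [h.disj, Subgroup.mem_bot] at h2
    rw [Subgroup.mem_bot, ← hi, h2, map_one]
  oz := by rw [MulEquiv.orderOf_eq]; exact h.oz
  conj := by rw [← map_inv, ← map_mul, ← map_mul, h.conj]

theorem of_equiv_b (h : WrData S n x y z) (e : S ≃* S') (i j : ℤ) :
    (h.of_equiv e).b i j = e (h.b i j) := by
  rw [b_def, b_def, map_mul, map_zpow, map_zpow]

theorem mem_of_equiv_W (h : WrData S n x y z) (e : S ≃* S') (m : ℕ) (d : ℤ) (s : S) :
    e s ∈ (h.of_equiv e).W m d ↔ s ∈ h.W m d := by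
  rw [mem_W_iff, mem_W_iff]
  constructor
  · rintro ⟨i, j, (⟨h1, h2⟩ | ⟨h1, h2⟩)⟩
    · refine ⟨i, j, Or.inl ⟨h1, ?_⟩⟩
      rw [h.of_equiv_b e] at h2
      exact e.injective h2
    · refine ⟨i, j, Or.inr ⟨h1, ?_⟩⟩
      rw [h.of_equiv_b e, ← map_mul] at h2
      exact e.injective h2
  · rintro ⟨i, j, (⟨h1, h2⟩ | ⟨h1, h2⟩)⟩
    · refine ⟨i, j, Or.inl ⟨h1, ?_⟩⟩
      rw [h.of_equiv_b e, h2]
    · refine ⟨i, j, Or.inr ⟨h1, ?_⟩⟩
      rw [h.of_equiv_b e, ← map_mul, h2]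

theorem of_equiv_W (h : WrData S n x y z) (e : S ≃* S') (m : ℕ) (d : ℤ) :
    (h.of_equiv e).W m d = (h.W m d).map e.toMonoidHom := by
  ext s'
  constructor
  · intro hs'
    refine ⟨e.symm s', ?_, by simp⟩
    show e.symm s' ∈ h.W m d
    rw [← h.mem_of_equiv_W e, e.apply_symm_apply]
    exact hs'
  · rintro ⟨s, hs, rfl⟩
    exact (h.mem_of_equiv_W e m d s).mpr hs

end WrData

end Cfsg.Agent.Lib.Helper90
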