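import Mathlib
import Cfsg.Agent.Lib.Helper90.WreathedCls
import Cfsg.Agent.Lib.Helper90.AutCenter

set_option autoImplicit false

namespace Cfsg.Agent.Lib.Helper90

theorem quat8_sq (r q : QuaternionGroup 2) : r * r = 1 ∨ q * q = 1 ∨ r * r = q * q := by
  revert r q
  decide

namespace WrData

variable {S : Type*} [Group S] {n : ℕ} {x y z : S}

section
variable (h : WrData S n x y z)
include h

theorem pred_lt : n - 1 < n := by have := h.hn; omega

theorem pred_le : n - 1 ≤ n := by omega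

theorem mem_center_W_iff [Finite S] (d : ℤ) (w : h.W (n - 1) d) :
    w ∈ Subgroup.center (h.W (n - 1) d) ↔ ∃ i : ℤ, (w : S) = h.b i i := by
  constructor
  · exact h.center_W h.pred_lt d w
  · rintro ⟨i, hi⟩
    rw [Subgroup.mem_center_iff]
    intro g
    apply Subtype.ext
    have hc : (w : S) ∈ Subgroup.center S := (h.mem_center_iff _).mpr ⟨i, hi⟩
    exact Subgroup.mem_center_iff.mp hc g

theorem isCyclic_center_W [Finite S] (d : ℤ) :
    IsCyclic (Subgroup.center (h.W (n - 1) d)) := by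
  have hmem : h.b 1 1 ∈ h.W (n - 1) d :=
    h.center_le_W _ _ ((h.mem_center_iff _).mpr ⟨1, rfl⟩)
  have hc : (⟨h.b 1 1, hmem⟩ : h.W (n - 1) d) ∈ Subgroup.center (h.W (n - 1) d) :=
    (h.mem_center_W_iff d _).mpr ⟨1, rfl⟩
  refine ⟨⟨⟨_, hc⟩, fun c => ?_⟩⟩
  obtain ⟨i, hi⟩ := (h.mem_center_W_iff d c.1).mp c.2
  refine ⟨i, ?_⟩
  apply Subtype.ext
  apply Subtype.ext
  simp only [Subgroup.coe_zpow]
  rw [hi, h.b_zpow]
  simp

theorem isPGroup_center_W [Finite S] (d : ℤ) :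
    IsPGroup 2 (Subgroup.center (h.W (n - 1) d)) :=
  (h.isPGroup_two.to_subgroup (h.W (n - 1) d)).to_subgroup _

theorem dvd_of_even_mul (a q : ℤ) (ha : a = (2 : ℤ) ^ (n - 1) * (2 * q)) : (2 : ℤ) ^ n ∣ a :=
  ⟨q, by rw [ha, h.two_pow_eq]; ring⟩

theorem qz_W [Finite S] (d : ℤ) :
    QZ (h.W (n - 1) d) ⟨h.b ((2 : ℤ) ^ (n - 1)) 0, h.v_mem_W h.pred_le d⟩
      ⟨h.b d 0 * z, h.u_mem_W h.pred_le d⟩ where
  tt := by
    rw [h.mem_center_W_iff]
    refine ⟨0, ?_⟩
    show h.b ((2 : ℤ) ^ (n - 1)) 0 * h.b ((2 : ℤ) ^ (n - 1)) 0 = h.b 0 0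
    rw [h.b_mul]
    apply h.b_congr
    · exact h.dvd_of_even_mul _ 1 (by ring)
    · simp
  u_not := by
    rw [h.mem_center_W_iff]
    rintro ⟨i, hi⟩
    exact h.b_z_ne_b _ _ _ _ hi
  tu_not := by
    rw [h.mem_center_W_iff]
    rintro ⟨i, hi⟩
    have : (h.b ((2 : ℤ) ^ (n - 1)) 0)⁻¹ * (h.b d 0 * z) = h.b i i := hi
    rw [h.b_inv, h.b_mul_b_z] at this
    exact h.b_z_ne_b _ _ _ _ this
  cases v := by
    rcases h.W_cases (n - 1) d v with ⟨i, j, ⟨g, hg⟩, he⟩ | ⟨i, j, ⟨g, hg⟩, he⟩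
    · rcases Int.emod_two_eq_zero_or_one g with hg2 | hg2
      · left
        obtain ⟨q, rfl⟩ : (2 : ℤ) ∣ g := Int.dvd_of_emod_eq_zero hg2
        rw [h.mem_center_W_iff]
        refine ⟨j, ?_⟩
        rw [he]
        apply h.b_congr
        · exact h.dvd_of_even_mul _ q hg
        · simp
      · right; left
        obtain ⟨q, hq⟩ : (2 : ℤ) ∣ g - 1 := by omega
        rw [h.mem_center_W_iff]
        refine ⟨j, ?_⟩
        show (h.b ((2 : ℤ) ^ (n - 1)) 0)⁻¹ * (v : S) = h.b j j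
        rw [he, h.b_inv, h.b_mul]
        apply h.b_congr
        · refine h.dvd_of_even_mul _ q ?_
          have : g = 2 * q + 1 := by omega
          rw [this] at hg
          linear_combination hg
        · simp
    · rcases Int.emod_two_eq_zero_or_one g with hg2 | hg2
      · right; right; left
        obtain ⟨q, rfl⟩ : (2 : ℤ) ∣ g := Int.dvd_of_emod_eq_zero hg2
        rw [h.mem_center_W_iff]
        refine ⟨j, ?_⟩
        show (h.b d 0 * z)⁻¹ * (v : S) = h.b j j
        rw [he, h.b_z_inv, h.b_z_b_z]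
        apply h.b_congr
        · simp
        · refine h.dvd_of_even_mul _ q ?_
          linear_combination hg
      · right; right; right
        obtain ⟨q, hq⟩ : (2 : ℤ) ∣ g - 1 := by omega
        rw [h.mem_center_W_iff]
        refine ⟨j, ?_⟩
        show (h.b ((2 : ℤ) ^ (n - 1)) 0 * (h.b d 0 * z))⁻¹ * (v : S) = h.b j j
        rw [he, h.b_mul_b_z, h.b_z_inv, h.b_z_b_z]
        apply h.b_congr
        · simp
        · refine h.dvd_of_even_mul _ q ?_
          have : g = 2 * q + 1 := by omega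
          rw [this] at hg
          linear_combination hg

/-- The centralizer of `W (n-1) d` in `S` is the centre of `S`. -/
theorem centralizer_W_le_center [Finite S] (d : ℤ) :
    Subgroup.centralizer ((h.W (n - 1) d : Subgroup S) : Set S) ≤ Subgroup.center S := by
  intro s hs
  rw [Subgroup.mem_centralizer_iff] at hs
  have h1 := hs _ (h.v_mem_W h.pred_le d)
  have h3 := hs _ (h.u_mem_W h.pred_le d)
  rcases h.cases s with ⟨i, j, rfl⟩ | ⟨i, j, rfl⟩
  · rw [h.b_z_mul_b, h.b_mul_b_z, h.b_z_eq_b_z_iff] at h3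
    rw [h.b_mem_center_iff]
    exact dvd_of_eq_dvd h3.2 (by ring)
  · exfalso
    rw [h.b_mul_b_z, h.b_z_mul_b, h.b_z_eq_b_z_iff] at h1
    exact h.not_dvd_half (dvd_of_eq_dvd h1.1 (by ring))

/-- A quaternion subgroup of order eight together with the centre is some `W (n-1) (2c)`. -/
theorem exists_quatZ_eq_W [Finite S] (Q₁ : Subgroup S) (φ : Q₁ ≃* QuaternionGroup 2) :
    ∃ c : ℤ, Q₁ ⊔ Subgroup.center S = h.W (n - 1) (2 * c) := by
  have hn2 := h.hn
  obtain ⟨u, v, huv⟩ := quat_not_comm (le_refl 2) φ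
  have huv' : (u : S) * (v : S) ≠ (v : S) * (u : S) := fun he => huv (Subtype.ext he)
  have hZ : Subgroup.center S ≤ Q₁ ⊔ Subgroup.center S := le_sup_right
  have hQX : Q₁ ≤ Q₁ ⊔ Subgroup.center S := le_sup_left
  have hXB : ¬ Q₁ ⊔ Subgroup.center S ≤ h.B := fun hle =>
    huv' (h.B_comm _ _ (hle (hQX u.2)) (hle (hQX v.2)))
  obtain ⟨m, hm, d, hX⟩ := h.exists_eq_W _ hZ hXB
  -- an element of `Q₁` outside `B`
  have hF1 : ∃ q : Q₁, (q : S) ∉ h.B := by
    by_contra hne
    push Not at hne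
    exact huv' (h.B_comm _ _ (hne u) (hne v))
  obtain ⟨q, hqB⟩ := hF1
  have hF2 : orderOf q = 4 := by
    refine quat_order_four φ (h.B.subgroupOf Q₁) ?_ ?_ q hqB
    · intro a ha c hc
      exact Subtype.ext (h.B_comm _ _ ha hc)
    · intro a c ha hc
      rw [Subgroup.mem_subgroupOf] at ha hc ⊢
      rcases h.cases (a : S) with ⟨i, j, he⟩ | ⟨i, j, he⟩
      · exact absurd (he ▸ h.b_mem_B i j) ha
      rcases h.cases (c : S) with ⟨k, l, he'⟩ | ⟨k, l, he'⟩
      · exact absurd (he' ▸ h.b_mem_B k l) hc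
      rw [Subgroup.coe_mul, he, he', h.b_z_b_z]
      exact h.b_mem_B _ _
  obtain ⟨k, l, hq⟩ : ∃ k l : ℤ, (q : S) = h.b k l * z := by
    rcases h.cases (q : S) with ⟨i, j, he⟩ | ⟨i, j, he⟩
    · exact absurd (he ▸ h.b_mem_B i j) hqB
    · exact ⟨i, j, he⟩
  have hqq : (q : S) * (q : S) = h.b (k + l) (k + l) := by
    rw [hq, h.b_z_b_z, add_comm l k]
  have hqq1 : (q : S) * (q : S) ≠ 1 := by
    intro he
    have h1 : q ^ 2 = 1 := by
      apply Subtype.ext
      rw [Subgroup.coe_pow, sq, he]; rfl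
    have := orderOf_dvd_of_pow_eq_one h1
    rw [hF2] at this
    omega
  have hqqe : (q : S) * (q : S) = h.b ((2 : ℤ) ^ (n - 1)) ((2 : ℤ) ^ (n - 1)) := by
    rw [hqq]
    apply h.center_inv_unique
    · rw [← hqq]
      have h1 : q ^ 4 = 1 := by rw [← hF2]; exact pow_orderOf_eq_one q
      have h3 := congrArg Subtype.val h1
      rw [Subgroup.coe_pow, Subgroup.coe_one] at h3
      rw [← h3, pow_succ, pow_succ, pow_succ, pow_one, mul_assoc, mul_assoc, mul_assoc]
    · rw [← hqq]; exact hqq1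
  have hqq1' : φ q * φ q ≠ 1 := by
    intro he
    apply hqq1
    have : q * q = 1 := by
      apply φ.injective; rw [map_mul, he, map_one]
    have := congrArg Subtype.val this
    simpa using this
  -- squares of elements of `Q₁` are central
  have hF4 : ∀ r : Q₁, (r : S) * (r : S) ∈ Subgroup.center S := by
    intro r
    rcases quat8_sq (φ r) (φ q) with h1 | h1 | h1
    · have : r * r = 1 := by
        apply φ.injective; rw [map_mul, h1, map_one]
      have := congrArg Subtype.val this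
      rw [Subgroup.coe_mul, Subgroup.coe_one] at this
      rw [this]; exact Subgroup.one_mem _
    · exact absurd h1 hqq1'
    · have : r * r = q * q := by
        apply φ.injective; rw [map_mul, map_mul, h1]
      have := congrArg Subtype.val this
      rw [Subgroup.coe_mul, Subgroup.coe_mul] at this
      rw [this, hqq, h.mem_center_iff]
      exact ⟨_, rfl⟩
  have hF5 : ∀ w ∈ Q₁ ⊔ Subgroup.center S, w * w ∈ Subgroup.center S := by
    intro w hw
    have hnorm : Q₁ ≤ Subgroup.normalizer ((Subgroup.center S : Subgroup S) : Set S) := by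
      rw [Subgroup.normalizer_eq_top]; exact le_top
    have h1 := Cfsg.Agent.Lib.Helper10.mul_set_eq_sup_of_le_normalizer hnorm
    have hw' : w ∈ ((Q₁ ⊔ Subgroup.center S : Subgroup S) : Set S) := hw
    rw [← h1] at hw'
    obtain ⟨r, hr, ζ, hζ, rfl⟩ := hw'
    have hc : ζ * r = r * ζ := Subgroup.mem_center_iff.mp hζ r |>.symm
    have : r * ζ * (r * ζ) = (r * r) * (ζ * ζ) := by
      calc r * ζ * (r * ζ) = r * (ζ * r) * ζ := by group
        _ = r * (r * ζ) * ζ := by rw [hc]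
        _ = (r * r) * (ζ * ζ) := by group
    rw [this]
    exact mul_mem (hF4 ⟨r, hr⟩) (mul_mem hζ hζ)
  -- `m < n`
  have hmn : m < n := by
    rcases Nat.lt_or_ge m n with h1 | h1
    · exact h1
    · exfalso
      have hmn' : m = n := le_antisymm hm h1
      subst hmn'
      apply huv'
      exact h.W_top_comm d _ _ (hX ▸ hQX u.2) (hX ▸ hQX v.2)
  -- `n - 1 ≤ m`
  have hmn2 : n ≤ m + 1 := by
    by_contra hlt
    push Not at hlt
    have h1 : h.b ((2 : ℤ) ^ m) 0 ∈ Q₁ ⊔ Subgroup.center S := by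
      rw [hX]; exact h.v_mem_W hm d
    have h3 := hF5 _ h1
    rw [h.b_mul, h.b_mem_center_iff] at h3
    apply h.not_two_pow_dvd hlt
    exact dvd_of_eq_dvd h3 (by rw [pow_succ]; ring)
  have hm' : m = n - 1 := by omega
  subst hm'
  -- `d` is even
  have hqW : h.b k l * z ∈ h.W (n - 1) d := by
    rw [← hX, ← hq]; exact hQX q.2
  rw [h.b_z_mem_W_iff hm] at hqW
  rw [hqq, h.b_eq_b_iff] at hqqe
  have h2H : (2 : ℤ) ∣ (2 : ℤ) ^ (n - 1) := ⟨_, h.half_eq⟩
  have h2N : (2 : ℤ) ∣ (2 : ℤ) ^ n := ⟨_, h.two_pow_eq⟩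
  have e1 : (2 : ℤ) ∣ k + l - (2 : ℤ) ^ (n - 1) := h2N.trans hqqe.1
  have e2 : (2 : ℤ) ∣ k - l - d := h2H.trans hqW
  have e3 : (2 : ℤ) ∣ d := by
    obtain ⟨a1, ha1⟩ := e1
    obtain ⟨a2, ha2⟩ := e2
    obtain ⟨a3, ha3⟩ := h2H
    exact ⟨a1 + a3 - l - a2, by linear_combination ha1 - ha2 + ha3⟩
  obtain ⟨c, rfl⟩ := e3
  exact ⟨c, hX⟩

end

end WrData

end Cfsg.Agent.Lib.Helper90
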