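import Mathlib
import Cfsg.Agent.Lib.Helper90.WreathedV
import Cfsg.Agent.Lib.Helper90.LocalIdx

set_option autoImplicit false

namespace Cfsg.Agent.Lib.Helper90

open Subgroup Cfsg.Agent.Lib.Helper33

namespace WrData

section internal
variable {S : Type*} [Group S] {n : ℕ} {x y z : S} (h : WrData S n x y z)
include h

theorem threeInv_B [Finite S] :
    ThreeInv h.B ⟨h.b ((2 : ℤ) ^ (n - 1)) 0, h.b_mem_B _ _⟩
      ⟨h.b 0 ((2 : ℤ) ^ (n - 1)), h.b_mem_B _ _⟩ where
  comm a c := Subtype.ext (h.B_comm _ _ a.2 c.2)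
  pgroup := h.isPGroup_two.to_subgroup _
  ot := by
    rw [Subgroup.orderOf_mk, orderOf_two_iff']
    exact ⟨h.b_half_zero_ne_one, h.half_sq _ _ (dvd_refl _) (dvd_zero _)⟩
  ou := by
    rw [Subgroup.orderOf_mk, orderOf_two_iff']
    exact ⟨h.b_zero_half_ne_one, h.half_sq _ _ (dvd_zero _) (dvd_refl _)⟩
  ne := by
    intro he
    have := congrArg Subtype.val he
    rw [h.b_eq_b_iff] at this
    exact h.not_dvd_half (dvd_of_eq_dvd this.1 (by ring))
  all s hs := by
    rw [← Subgroup.orderOf_coe, orderOf_two_iff'] at hs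
    rcases h.sq_eq_one_cases _ hs.2 with (h0 | h0 | h0 | h0) | ⟨i, h0⟩
    · exact absurd h0 hs.1
    · left; exact Subtype.ext h0
    · right; left; exact Subtype.ext h0
    · right; right
      apply Subtype.ext
      rw [h0, Subgroup.coe_mul, h.b_mul]
      simp
    · exfalso
      exact h.b_z_not_mem_B i (-i) (h0 ▸ s.2)

end internal

section global
variable {G : Type*} [Group G] [Finite G] {S : Sylow 2 G} {n : ℕ} {x y z : ↥(S : Subgroup G)}
  (h : WrData ↥(S : Subgroup G) n x y z)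
include h

theorem eq_map_B (U : Subgroup G) (hUS : U ≤ (S : Subgroup G)) (hUab : IsMulCommutative U)
    (hUcard : Nat.card U = 2 ^ (2 * n)) : U = h.B.map (S : Subgroup G).subtype := by
  have h1 : U.subgroupOf (S : Subgroup G) = h.B := by
    apply h.eq_B_of_comm_card
    · infer_instance
    · rw [Nat.card_congr (subgroupOfEquivOfLe hUS).toEquiv, hUcard]
  rw [← h1, map_subgroupOf_eq_of_le hUS]

theorem coe_mem_normalizer_map (X : Subgroup ↥(S : Subgroup G)) (s : ↥(S : Subgroup G))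
    (hs : s ∈ normalizer (X : Set ↥(S : Subgroup G))) :
    (s : G) ∈ normalizer ((X.map (S : Subgroup G).subtype : Subgroup G) : Set G) :=
  le_normalizer_map (S : Subgroup G).subtype ⟨s, hs, rfl⟩

/-- `|N_G(U) : C_G(U)| ∈ {2, 6}`. -/
theorem relIndex_U (U : Subgroup G) (hUS : U ≤ (S : Subgroup G)) (hUab : IsMulCommutative U)
    (hUcard : Nat.card U = 2 ^ (2 * n)) :
    (centralizer (U : Set G)).relIndex (normalizer (U : Set G)) = 2 ∨
      (centralizer (U : Set G)).relIndex (normalizer (U : Set G)) = 6 := by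
  have hU := h.eq_map_B U hUS hUab hUcard
  subst hU
  have hBn : h.B.Normal := h.B_normal
  have h3 := ThreeInv.of_equiv
    (h.B.equivMapOfInjective (S : Subgroup G).subtype (subtype_injective _)).symm h.threeInv_B
  refine relIndex_two_or_six S _ (map_subtype_le _) h3 ?_ (z : G) ?_ ?_ ?_
  · rw [h.card, hUcard, pow_succ, mul_comm]
  · apply h.coe_mem_normalizer_map
    rw [normalizer_eq_top]; exact mem_top _
  · intro hz
    rw [mem_centralizer_iff] at hz
    have hx : (x : G) ∈ h.B.map (S : Subgroup G).subtype := by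
      refine ⟨x, ?_, rfl⟩
      have := h.b_mem_B 1 0
      simpa [WrData.b_def] using this
    have h1 := hz _ hx
    have h2 : x * z = z * x := Subtype.ext h1
    rw [h.zx] at h2
    have : x = y := mul_right_cancel h2
    exact h.x_ne_y this
  · have : (z : G) * (z : G) = 1 := by
      have := congrArg Subtype.val h.zz
      simpa using this
    rw [this]; exact one_mem _

theorem map_W_le (d : ℤ) : (h.W (n - 1) d).map (S : Subgroup G).subtype ≤ (S : Subgroup G) :=
  map_subtype_le _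

theorem relIndex_map_W (d : ℤ) :
    ((h.W (n - 1) d).map (S : Subgroup G).subtype).relIndex ((S : Subgroup G) ⊓
      normalizer (((h.W (n - 1) d).map (S : Subgroup G).subtype : Subgroup G) : Set G)) = 2 := by
  have h1 := h.relIndex_W_normalizer d
  have h2 : ((h.W (n - 1) d).map (S : Subgroup G).subtype).subgroupOf (S : Subgroup G) =
      h.W (n - 1) d := comap_map_eq_self_of_injective (subtype_injective _) _
  rw [← relIndex_subgroupOf (inf_le_left : (S : Subgroup G) ⊓ normalizer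
    (((h.W (n - 1) d).map (S : Subgroup G).subtype : Subgroup G) : Set G) ≤ (S : Subgroup G)),
    inf_comm, inf_subgroupOf_right, subgroupOf_normalizer_eq (h.map_W_le d), h2]
  exact h1

theorem inf_centralizer_map_W_le (d : ℤ) :
    (S : Subgroup G) ⊓ centralizer (((h.W (n - 1) d).map (S : Subgroup G).subtype : Subgroup G) : Set G)
      ≤ (h.W (n - 1) d).map (S : Subgroup G).subtype := by
  intro g hg
  obtain ⟨hgS, hgC⟩ := Subgroup.mem_inf.mp hg
  rw [mem_centralizer_iff] at hgC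
  have h1 : (⟨g, hgS⟩ : ↥(S : Subgroup G)) ∈
      centralizer ((h.W (n - 1) d : Subgroup ↥(S : Subgroup G)) : Set ↥(S : Subgroup G)) := by
    rw [mem_centralizer_iff]
    intro w hw
    apply Subtype.ext
    exact hgC _ ⟨w, hw, rfl⟩
  exact ⟨⟨g, hgS⟩, h.center_le_W _ _ (h.centralizer_W_le_center d h1), rfl⟩

theorem exists_eq_map_W (Q : Subgroup G) (hQS : Q ≤ (S : Subgroup G))
    (eQ : Q ≃* QuaternionGroup 2) : ∃ c : ℤ,
    Q ⊔ (center ↥(S : Subgroup G)).map (S : Subgroup G).subtype =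
      (h.W (n - 1) (2 * c)).map (S : Subgroup G).subtype := by
  obtain ⟨c, hc⟩ := h.exists_quatZ_eq_W (Q.subgroupOf (S : Subgroup G))
    ((subgroupOfEquivOfLe hQS).trans eQ)
  refine ⟨c, ?_⟩
  rw [← hc, Subgroup.map_sup, map_subgroupOf_eq_of_le hQS]

theorem card_inf_normalizer_map_W (d : ℤ) :
    Nat.card ((S : Subgroup G) ⊓
      normalizer (((h.W (n - 1) d).map (S : Subgroup G).subtype : Subgroup G) : Set G) : Subgroup G) =
      2 * Nat.card ((h.W (n - 1) d).map (S : Subgroup G).subtype) := by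
  rw [card_eq_relIndex_mul_card (le_inf (h.map_W_le d) le_normalizer), h.relIndex_map_W]

theorem cj_map_center (Q : Subgroup G) (eQ : Q ≃* QuaternionGroup 2) (g : G)
    (hg : cj g (Q ⊔ (center ↥(S : Subgroup G)).map (S : Subgroup G).subtype) ≤ (S : Subgroup G))
    (hQS : Q ≤ (S : Subgroup G)) :
    cj g ((center ↥(S : Subgroup G)).map (S : Subgroup G).subtype) =
      (center ↥(S : Subgroup G)).map (S : Subgroup G).subtype := by
  obtain ⟨u, v, huv⟩ := quat_not_comm (le_refl 2) eQ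
  have huv' : (u : G) * (v : G) ≠ (v : G) * (u : G) := fun he => huv (Subtype.ext he)
  apply Subgroup.eq_of_le_of_card_ge
  · rintro ζ' hζ'
    have hζ'S : ζ' ∈ (S : Subgroup G) := hg (cj_mono le_sup_right hζ')
    obtain ⟨ζ, ⟨ζ₀, hζ₀, rfl⟩, rfl⟩ := mem_cj'.mp hζ'
    have hu'S : g * u * g⁻¹ ∈ (S : Subgroup G) := hg (cj_mono le_sup_left (conj_mem_cj u.2))
    have hv'S : g * v * g⁻¹ ∈ (S : Subgroup G) := hg (cj_mono le_sup_left (conj_mem_cj v.2))
    have hcu : (u : G) * (ζ₀ : G) = (ζ₀ : G) * (u : G) := by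
      have := Subgroup.mem_center_iff.mp hζ₀ ⟨u, hQS u.2⟩
      exact congrArg Subtype.val this
    have hcv : (v : G) * (ζ₀ : G) = (ζ₀ : G) * (v : G) := by
      have := Subgroup.mem_center_iff.mp hζ₀ ⟨v, hQS v.2⟩
      exact congrArg Subtype.val this
    by_contra hnot
    have hnc : (⟨_, hζ'S⟩ : ↥(S : Subgroup G)) ∉ center ↥(S : Subgroup G) := by
      intro hc
      exact hnot ⟨_, hc, rfl⟩
    have := h.commute_of_commute_noncentral _ ⟨_, hu'S⟩ ⟨_, hv'S⟩ hnc
      (Subtype.ext (by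
        show g * u * g⁻¹ * ((S : Subgroup G).subtype ζ₀ |> fun a => g * a * g⁻¹) = _
        simp only [Subgroup.subtype_apply]
        calc g * u * g⁻¹ * (g * ζ₀ * g⁻¹) = g * (u * ζ₀) * g⁻¹ := by group
          _ = g * (ζ₀ * u) * g⁻¹ := by rw [hcu]
          _ = g * ζ₀ * g⁻¹ * (g * u * g⁻¹) := by group))
      (Subtype.ext (by
        show g * v * g⁻¹ * ((S : Subgroup G).subtype ζ₀ |> fun a => g * a * g⁻¹) = _
        simp only [Subgroup.subtype_apply]
        calc g * v * g⁻¹ * (g * ζ₀ * g⁻¹) = g * (v * ζ₀) * g⁻¹ := by group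
          _ = g * (ζ₀ * v) * g⁻¹ := by rw [hcv]
          _ = g * ζ₀ * g⁻¹ * (g * v * g⁻¹) := by group))
    have h2 : g * u * g⁻¹ * (g * v * g⁻¹) = g * v * g⁻¹ * (g * u * g⁻¹) := congrArg Subtype.val this
    apply huv'
    have : g * ((u : G) * v) * g⁻¹ = g * ((v : G) * u) * g⁻¹ := by
      calc g * ((u : G) * v) * g⁻¹ = g * u * g⁻¹ * (g * v * g⁻¹) := by group
        _ = g * v * g⁻¹ * (g * u * g⁻¹) := h2
        _ = g * ((v : G) * u) * g⁻¹ := by group
    exact mul_left_cancel (mul_right_cancel this)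
  · rw [card_cj]

theorem card_inf_normalizer_cj_le (Q : Subgroup G) (hQS : Q ≤ (S : Subgroup G))
    (eQ : Q ≃* QuaternionGroup 2) (g : G)
    (hg : cj g (Q ⊔ (center ↥(S : Subgroup G)).map (S : Subgroup G).subtype) ≤ (S : Subgroup G)) :
    Nat.card ((S : Subgroup G) ⊓ normalizer
      ((cj g (Q ⊔ (center ↥(S : Subgroup G)).map (S : Subgroup G).subtype) : Subgroup G) : Set G) :
        Subgroup G) ≤
    Nat.card ((S : Subgroup G) ⊓ normalizer
      ((Q ⊔ (center ↥(S : Subgroup G)).map (S : Subgroup G).subtype : Subgroup G) : Set G) :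
        Subgroup G) := by
  have hcard := card_cj g (Q ⊔ (center ↥(S : Subgroup G)).map (S : Subgroup G).subtype)
  have e1 : cj g (Q ⊔ (center ↥(S : Subgroup G)).map (S : Subgroup G).subtype) =
      cj g Q ⊔ (center ↥(S : Subgroup G)).map (S : Subgroup G).subtype := by
    rw [cj_sup, h.cj_map_center Q eQ g hg hQS]
  have hQ'S : cj g Q ≤ (S : Subgroup G) := (cj_mono le_sup_left).trans hg
  obtain ⟨c', hc'⟩ := h.exists_eq_map_W (cj g Q) hQ'S ((cjEquiv g Q).symm.trans eQ)
  obtain ⟨c, hc⟩ := h.exists_eq_map_W Q hQS eQ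
  rw [e1, hc'] at hcard ⊢
  rw [hc] at hcard ⊢
  rw [h.card_inf_normalizer_map_W, h.card_inf_normalizer_map_W, hcard]

/-- odd divisors of `|N_G(V) : V C_G(V)|` are one or three -/
theorem odd_dvd_relIndex_map_W (d : ℤ) (r : ℕ) (hr : Odd r)
    (hd : r ∣ ((h.W (n - 1) d).map (S : Subgroup G).subtype ⊔
      centralizer (((h.W (n - 1) d).map (S : Subgroup G).subtype : Subgroup G) : Set G)).relIndex
      (normalizer (((h.W (n - 1) d).map (S : Subgroup G).subtype : Subgroup G) : Set G))) :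
    r = 1 ∨ r = 3 := by
  obtain ⟨V, hV⟩ : ∃ V : Subgroup G, V = (h.W (n - 1) d).map (S : Subgroup G).subtype := ⟨_, rfl⟩
  rw [← hV] at hd
  have e : ↥V ≃* ↥(h.W (n - 1) d) := by
    rw [hV]
    exact ((h.W (n - 1) d).equivMapOfInjective (S : Subgroup G).subtype (subtype_injective _)).symm
  have hc : IsCyclic (center ↥V) :=
    (centerCongr e).isCyclic.mpr (h.isCyclic_center_W d)
  have h2 : IsPGroup 2 (center ↥V) := (h.isPGroup_center_W d).of_equiv (centerCongr e).symm
  have hidx : (center ↥V).index ≤ 4 := (QZ.of_equiv e (h.qz_W d)).index_le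
  apply odd_dvd_card_mulAut hc h2 hidx r hr
  have h3 : (V ⊔ centralizer (V : Set G)).relIndex (normalizer (V : Set G)) ∣
      (centralizer (V : Set G)).relIndex (normalizer (V : Set G)) :=
    relIndex_dvd_of_le_left _ le_sup_right
  rw [← card_range_normalizerMonoidHom'] at h3
  exact hd.trans (h3.trans (Subgroup.card_subgroup_dvd_card _))

/-- `|N_G(V) : V C_G(V)| ∈ {2, 6}` for `V = Q Z(S)`. -/
theorem relIndex_V (Q : Subgroup G) (hQS : Q ≤ (S : Subgroup G)) (eQ : Q ≃* QuaternionGroup 2) :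
    ((Q ⊔ (center ↥(S : Subgroup G)).map (S : Subgroup G).subtype) ⊔ centralizer
      ((Q ⊔ (center ↥(S : Subgroup G)).map (S : Subgroup G).subtype : Subgroup G) : Set G)).relIndex
      (normalizer ((Q ⊔ (center ↥(S : Subgroup G)).map (S : Subgroup G).subtype : Subgroup G) : Set G))
        = 2 ∨
    ((Q ⊔ (center ↥(S : Subgroup G)).map (S : Subgroup G).subtype) ⊔ centralizer
      ((Q ⊔ (center ↥(S : Subgroup G)).map (S : Subgroup G).subtype : Subgroup G) : Set G)).relIndex
      (normalizer ((Q ⊔ (center ↥(S : Subgroup G)).map (S : Subgroup G).subtype : Subgroup G) : Set G))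
        = 6 := by
  have H3 := not_dvd_relIndex_of_fullyNormalized S
    (Q ⊔ (center ↥(S : Subgroup G)).map (S : Subgroup G).subtype)
    (sup_le hQS (map_subtype_le _)) (fun g hg => h.card_inf_normalizer_cj_le Q hQS eQ g hg)
  obtain ⟨c, hc⟩ := h.exists_eq_map_W Q hQS eQ
  rw [hc] at H3 ⊢
  obtain ⟨r, hr, hr2⟩ := exists_relIndex_eq_two_mul_odd (S : Subgroup G) _ _ _ (h.map_W_le _) rfl rfl
    (h.relIndex_map_W _) (h.inf_centralizer_map_W_le _) H3
  rcases h.odd_dvd_relIndex_map_W _ r hr ⟨2, by rw [hr2]; ring⟩ with h1 | h1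
  · left; rw [hr2, h1]
  · right; rw [hr2, h1]

end global

end WrData

end Cfsg.Agent.Lib.Helper90
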