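import Mathlib
import Cfsg.Agent.Lib.Helper90.WreathedLocal
import Cfsg.Agent.Lib.Helper90.SylowConj

set_option autoImplicit false

namespace Cfsg.Agent.Lib.Helper90

open Subgroup Cfsg.Agent.Lib.Helper33

section general
variable {G : Type*} [Group G]

/-- An element of order three in the automizer of `U`. -/
theorem exists_aut_order_three [Finite G] (U : Subgroup G)
    (h3 : 3 ∣ (centralizer (U : Set G)).relIndex (normalizer (U : Set G))) :
    ∃ g : normalizer (U : Set G), U.normalizerMonoidHom g ≠ 1 ∧ (U.normalizerMonoidHom g) ^ 3 = 1 := by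
  rw [← card_range_normalizerMonoidHom'] at h3
  have : Fact (Nat.Prime 3) := ⟨Nat.prime_three⟩
  obtain ⟨⟨φ, hφr⟩, hφ⟩ := exists_prime_orderOf_dvd_card' 3 h3
  rw [Subgroup.orderOf_mk] at hφ
  obtain ⟨g, rfl⟩ := hφr
  refine ⟨g, ?_, ?_⟩
  · intro he
    rw [he, orderOf_one] at hφ
    omega
  · rw [← hφ]; exact pow_orderOf_eq_one _

theorem normalizerMonoidHom_pow_apply (U : Subgroup G) (g : normalizer (U : Set G)) (i : ℕ) (a : U) :
    (((U.normalizerMonoidHom g) ^ i) a : G) = (g : G) ^ i * a * ((g : G) ^ i)⁻¹ := by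
  rw [← map_pow, normalizerMonoidHom_apply_apply_coe]
  simp

namespace ThreeInv

variable {U : Subgroup G} {t u : U} (h3 : ThreeInv U t u)
include h3

theorem exists_conj (g : normalizer (U : Set G)) (hne : U.normalizerMonoidHom g ≠ 1)
    (hg3 : (U.normalizerMonoidHom g) ^ 3 = 1) (s r : G) (hs : s ∈ U) (hr : r ∈ U)
    (os : orderOf s = 2) (or : orderOf r = 2) :
    ∃ k ∈ normalizer (U : Set G), k * s * k⁻¹ = r := by
  obtain ⟨i, hi⟩ := h3.exists_pow_apply_eq _ 3 (by decide) hg3 hne ⟨s, hs⟩ ⟨r, hr⟩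
    (by rw [Subgroup.orderOf_mk]; exact os) (by rw [Subgroup.orderOf_mk]; exact or)
  refine ⟨(g : G) ^ i, pow_mem g.2 i, ?_⟩
  have := congrArg Subtype.val hi
  rw [normalizerMonoidHom_pow_apply] at this
  exact this

theorem exists_comm_form [Finite G] (g : normalizer (U : Set G))
    (hne : U.normalizerMonoidHom g ≠ 1) (hg3 : (U.normalizerMonoidHom g) ^ 3 = 1) (a : G)
    (ha : a ∈ U) : ∃ c ∈ U, a = c⁻¹ * ((g : G) * c * (g : G)⁻¹) := by
  obtain ⟨φ, hφ⟩ : ∃ φ : MulAut U, φ = U.normalizerMonoidHom g := ⟨_, rfl⟩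
  rw [← hφ] at hne hg3
  let ψ : U → U := fun c => c⁻¹ * φ c
  have hinj : Function.Injective ψ := by
    intro c c' hcc
    have h1 : c⁻¹ * φ c = c'⁻¹ * φ c' := hcc
    have hfix : φ (c * c'⁻¹) = c * c'⁻¹ := by
      rw [map_mul, map_inv]
      have : φ c = c * (c'⁻¹ * φ c') := by rw [← h1]; group
      rw [this]; group
    by_contra hne'
    have hz : c * c'⁻¹ ≠ 1 := fun he => hne' (mul_inv_eq_one.mp he)
    exact hne (h3.eq_one_of_fix φ 3 (by decide) hg3 _ hz hfix)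
  have hsurj := Finite.surjective_of_injective hinj
  obtain ⟨c, hc⟩ := hsurj ⟨a, ha⟩
  refine ⟨c, c.2, ?_⟩
  have := congrArg Subtype.val hc
  simp only [ψ, Subgroup.coe_mul, Subgroup.coe_inv] at this
  rw [← this, hφ, normalizerMonoidHom_apply_apply_coe]

end ThreeInv

end general

namespace WrData

section internal
variable {S : Type*} [Group S] {n : ℕ} {x y z : S} (h : WrData S n x y z)
include h

theorem t_not_mem_center_W [Finite S] (d : ℤ) :
    (⟨h.b ((2 : ℤ) ^ (n - 1)) 0, h.v_mem_W h.pred_le d⟩ : h.W (n - 1) d) ∉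
      center (h.W (n - 1) d) := by
  rw [h.mem_center_W_iff]
  rintro ⟨i, hi⟩
  have hi' : h.b ((2 : ℤ) ^ (n - 1)) 0 = h.b i i := hi
  rw [h.b_eq_b_iff] at hi'
  exact h.not_dvd_half (dvd_of_eq_dvd (dvd_sub hi'.1 hi'.2) (by ring))

/-- elements of `W (n-1) d ∩ B` lie in `Z ∪ tZ`. -/
theorem W_base_cases [Finite S] (d : ℤ) (v : h.W (n - 1) d) (hv : (v : S) ∈ h.B) :
    v ∈ center (h.W (n - 1) d) ∨
      (⟨h.b ((2 : ℤ) ^ (n - 1)) 0, h.v_mem_W h.pred_le d⟩ : h.W (n - 1) d)⁻¹ * v ∈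
        center (h.W (n - 1) d) := by
  rcases h.W_cases (n - 1) d v with ⟨i, j, ⟨g, hg⟩, he⟩ | ⟨i, j, _, he⟩
  · rcases Int.emod_two_eq_zero_or_one g with hg2 | hg2
    · left
      obtain ⟨q, rfl⟩ : (2 : ℤ) ∣ g := Int.dvd_of_emod_eq_zero hg2
      rw [h.mem_center_W_iff]
      refine ⟨j, ?_⟩
      rw [he]
      apply h.b_congr
      · exact h.dvd_of_even_mul _ q hg
      · simp
    · right
      obtain ⟨q, hq⟩ : (2 : ℤ) ∣ g - 1 := by omega
      rw [h.mem_center_W_iff]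
      refine ⟨j, ?_⟩
      show (h.b ((2 : ℤ) ^ (n - 1)) 0)⁻¹ * (v : S) = h.b j j
      rw [he, h.b_inv, h.b_mul]
      apply h.b_congr
      · refine h.dvd_of_even_mul _ q ?_
        have : g = 2 * q + 1 := by omega
        rw [this] at hg
        linear_combination hg
      · simp
  · exfalso
    rw [he] at hv
    exact h.b_z_not_mem_B i j hv

/-- Every involution of `S` is conjugate to `x^(2^(n-1))`, the central involution or `z`. -/
theorem inv_conj_cases [Finite S] (s : S) (hs : orderOf s = 2) :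
    ∃ k : S, k * s * k⁻¹ = h.b ((2 : ℤ) ^ (n - 1)) 0 ∨
      k * s * k⁻¹ = h.b ((2 : ℤ) ^ (n - 1)) ((2 : ℤ) ^ (n - 1)) ∨ k * s * k⁻¹ = z := by
  obtain ⟨hne, hsq⟩ := (orderOf_two_iff' s).mp hs
  rcases h.sq_eq_one_cases s hsq with (h0 | h0 | h0 | h0) | ⟨i, h0⟩
  · exact absurd h0 hne
  · exact ⟨1, Or.inl (by rw [h0]; group)⟩
  · refine ⟨z, Or.inl ?_⟩
    rw [h0, h.z_b]; group
  · exact ⟨1, Or.inr (Or.inl (by rw [h0]; group))⟩
  · refine ⟨(h.b i 0)⁻¹, Or.inr (Or.inr ?_)⟩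
    rw [h0, ← h.conj_z]; group

end internal

section global
variable {G : Type*} [Group G] [Finite G] {S : Sylow 2 G} {n : ℕ} {x y z : ↥(S : Subgroup G)}
  (h : WrData ↥(S : Subgroup G) n x y z)
include h

/-- The isomorphism from the image in `G` of `W (n-1) d` back to `W (n-1) d`. -/
noncomputable def eW (d : ℤ) :
    ↥((h.W (n - 1) d).map (S : Subgroup G).subtype) ≃* ↥(h.W (n - 1) d) :=
  ((h.W (n - 1) d).equivMapOfInjective (S : Subgroup G).subtype (subtype_injective _)).symm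

theorem coe_eW_symm (d : ℤ) (w : h.W (n - 1) d) :
    (((h.eW d).symm w : ↥((h.W (n - 1) d).map (S : Subgroup G).subtype)) : G) =
      ((w : ↥(S : Subgroup G)) : G) := rfl

theorem coe_eW (d : ℤ) (a : ↥((h.W (n - 1) d).map (S : Subgroup G).subtype)) :
    (((h.eW d a : h.W (n - 1) d) : ↥(S : Subgroup G)) : G) = (a : G) := by
  have := h.coe_eW_symm d (h.eW d a)
  rw [MulEquiv.symm_apply_apply] at this
  exact this.symm

/-- Every involution of `G` is conjugate to `x^(2^(n-1))`, the central involution of `S`, or `z`. -/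
theorem inv_conj_cases_G (τ : G) (hτ : orderOf τ = 2) :
    ∃ k : G, k * τ * k⁻¹ = ((h.b ((2 : ℤ) ^ (n - 1)) 0 : ↥(S : Subgroup G)) : G) ∨
      k * τ * k⁻¹ = ((h.b ((2 : ℤ) ^ (n - 1)) ((2 : ℤ) ^ (n - 1)) : ↥(S : Subgroup G)) : G) ∨
      k * τ * k⁻¹ = (z : G) := by
  have hK : IsPGroup 2 (zpowers τ) := by
    apply isPGroup_zpowers_of_pow τ 1
    rw [pow_one, ← hτ]; exact pow_orderOf_eq_one τ
  obtain ⟨d, hd⟩ := exists_conj_mem_sylow S (zpowers τ) hK
  have hτ' := hd τ (mem_zpowers τ)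
  have ho : orderOf (⟨d⁻¹ * τ * d, hτ'⟩ : ↥(S : Subgroup G)) = 2 := by
    rw [Subgroup.orderOf_mk]
    have : d⁻¹ * τ * d = (MulAut.conj d⁻¹) τ := by simp
    rw [this, MulEquiv.orderOf_eq]; exact hτ
  obtain ⟨k, hk⟩ := h.inv_conj_cases _ ho
  refine ⟨k * d⁻¹, ?_⟩
  have e : (k : G) * d⁻¹ * τ * ((k : G) * d⁻¹)⁻¹ = (k : G) * (d⁻¹ * τ * d) * (k : G)⁻¹ := by group
  rw [e]
  rcases hk with hk | hk | hk
  · left; rw [← hk]; rfl
  · right; left; rw [← hk]; rfl
  · right; right; rw [← hk]; rfl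

/-- If `3` divides `|N_G(V) : V C_G(V)|` then `x^(2^(n-1))` is conjugate to an element of `S`
outside the base group. -/
theorem exists_conj_out_of_B (d : ℤ)
    (h3 : 3 ∣ ((h.W (n - 1) d).map (S : Subgroup G).subtype ⊔
      centralizer (((h.W (n - 1) d).map (S : Subgroup G).subtype : Subgroup G) : Set G)).relIndex
      (normalizer (((h.W (n - 1) d).map (S : Subgroup G).subtype : Subgroup G) : Set G))) :
    ∃ (g : G) (w : ↥(S : Subgroup G)), w ∉ h.B ∧
      g * ((h.b ((2 : ℤ) ^ (n - 1)) 0 : ↥(S : Subgroup G)) : G) * g⁻¹ = (w : G) := by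
  have h3' := h3.trans (relIndex_dvd_of_le_left _ le_sup_right)
  obtain ⟨g, hne, hg3⟩ := exists_aut_order_three _ h3'
  obtain ⟨φ, hφ⟩ : ∃ φ : MulAut ↥((h.W (n - 1) d).map (S : Subgroup G).subtype),
    φ = ((h.W (n - 1) d).map (S : Subgroup G).subtype).normalizerMonoidHom g := ⟨_, rfl⟩
  rw [← hφ] at hne hg3
  obtain ⟨tW, htW⟩ : ∃ tW : h.W (n - 1) d,
    tW = ⟨h.b ((2 : ℤ) ^ (n - 1)) 0, h.v_mem_W h.pred_le d⟩ := ⟨_, rfl⟩
  have hq := QZ.of_equiv (h.eW d) (h.qz_W d)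
  rw [← htW] at hq
  have hc : IsCyclic (center ↥((h.W (n - 1) d).map (S : Subgroup G).subtype)) :=
    (centerCongr (h.eW d)).isCyclic.mpr (h.isCyclic_center_W d)
  have h2 : IsPGroup 2 (center ↥((h.W (n - 1) d).map (S : Subgroup G).subtype)) :=
    (h.isPGroup_center_W d).of_equiv (centerCongr (h.eW d)).symm
  refine ⟨g, ((h.eW d (φ ((h.eW d).symm tW)) : h.W (n - 1) d) : ↥(S : Subgroup G)), ?_, ?_⟩
  · intro hB
    have hB' := h.W_base_cases d _ hB
    have hnc := h.t_not_mem_center_W d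
    rw [← htW] at hB' hnc
    rcases hB' with h1 | h1
    · -- the image is central, so `tW` is central
      have h4 : φ ((h.eW d).symm tW) ∈ center ↥((h.W (n - 1) d).map (S : Subgroup G).subtype) := by
        rw [mem_center_equiv (h.eW d)]; exact h1
      have h5 := aut_mem_center φ⁻¹ _ h4
      rw [MulAut.inv_apply_self, mem_center_equiv (h.eW d), MulEquiv.apply_symm_apply] at h5
      exact hnc h5
    · apply hne
      apply hq.eq_one_of_fix hc h2 φ 3 (by decide) hg3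
      rw [mem_center_equiv (h.eW d), map_mul, map_inv, MulEquiv.apply_symm_apply]
      exact h1
  · rw [h.coe_eW, hφ, normalizerMonoidHom_apply_apply_coe, h.coe_eW_symm, htW]

end global

end WrData

end Cfsg.Agent.Lib.Helper90
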