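import Mathlib
import Cfsg.Agent.Lib.Helper90.WreathedFusion
import Cfsg.Agent.Lib.Helper90.Essential

set_option autoImplicit false

namespace Cfsg.Agent.Lib.Helper90

open Subgroup Cfsg.Agent.Lib.Helper33 Cfsg.Agent.Lib.Helper2

section general
variable {G : Type*} [Group G]

theorem relIndex_cj_sup_centralizer (g : G) (V : Subgroup G) :
    (cj g V ⊔ centralizer ((cj g V : Subgroup G) : Set G)).relIndex
      (normalizer ((cj g V : Subgroup G) : Set G)) =
    (V ⊔ centralizer (V : Set G)).relIndex (normalizer (V : Set G)) := by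
  rw [centralizer_cj, normalizer_cj, ← cj_sup, relIndex_cj]

theorem relIndex_cj_centralizer (g : G) (V : Subgroup G) :
    (centralizer ((cj g V : Subgroup G) : Set G)).relIndex
      (normalizer ((cj g V : Subgroup G) : Set G)) =
    (centralizer (V : Set G)).relIndex (normalizer (V : Set G)) := by
  rw [centralizer_cj, normalizer_cj, relIndex_cj]

/-- If `|N_G(V) : V C_G(V)| = 2` for a 2-group `V` then `|N_G(V) : C_G(V)|` is a power of two. -/
theorem relIndex_pow_two_of_two [Finite G] (V : Subgroup G) (hV2 : IsPGroup 2 V)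
    (h₂ : (V ⊔ centralizer (V : Set G)).relIndex (normalizer (V : Set G)) = 2) :
    ∃ k : ℕ, (centralizer (V : Set G)).relIndex (normalizer (V : Set G)) = 2 ^ k := by
  obtain ⟨N, hN⟩ : ∃ N : Subgroup G, N = normalizer (V : Set G) := ⟨_, rfl⟩
  obtain ⟨C, hC⟩ : ∃ C : Subgroup G, C = centralizer (V : Set G) := ⟨_, rfl⟩
  have hVN : V ≤ N := by rw [hN]; exact le_normalizer
  have hCN : C ≤ N := by rw [hN, hC]; exact centralizer_le_normalizer _
  have hCn : (C.subgroupOf N).Normal := by
    rw [hN, hC, ← normalizerMonoidHom_ker]; exact MonoidHom.normal_ker _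
  rw [← hN, ← hC] at h₂ ⊢
  have e1 := relIndex_mul_relIndex C (V ⊔ C) N le_sup_right (sup_le hVN hCN)
  rw [h₂] at e1
  have e2 : C.relIndex (V ⊔ C) = C.relIndex V := by
    rw [← relIndex_subgroupOf (sup_le hVN hCN), subgroupOf_sup hVN hCN, relIndex_sup_right,
      relIndex_subgroupOf hVN]
  obtain ⟨j, hj⟩ := hV2.exists_card_eq
  have e3 : C.relIndex V ∣ 2 ^ j := by rw [← hj]; exact relIndex_dvd_card C V
  obtain ⟨i, _, hi⟩ := (Nat.dvd_prime_pow Nat.prime_two).mp e3
  refine ⟨i + 1, ?_⟩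
  rw [← e1, e2, hi, pow_succ]

end general

namespace WrData

section global
variable {G : Type*} [Group G] [Finite G] {S : Sylow 2 G} {n : ℕ} {x y z : ↥(S : Subgroup G)}
  (h : WrData ↥(S : Subgroup G) n x y z)
include h

/-- A subgroup of `S` containing its centralizer in `S` is `U`, some `V_c`, or has an automizer of
2-power order. -/
theorem centric_cases (T : Subgroup G) (hTS : T ≤ (S : Subgroup G))
    (hcen : (S : Subgroup G) ⊓ centralizer (T : Set G) ≤ T) :
    T = h.B.map (S : Subgroup G).subtype ∨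
      (∃ c : ℤ, T = (h.W (n - 1) (2 * c)).map (S : Subgroup G).subtype) ∨
      ∃ k : ℕ, (centralizer (T : Set G)).relIndex (normalizer (T : Set G)) = 2 ^ k := by
  have hC₁ : centralizer ((T.subgroupOf (S : Subgroup G) : Subgroup ↥(S : Subgroup G)) :
      Set ↥(S : Subgroup G)) ≤ T.subgroupOf (S : Subgroup G) := by
    intro s hs
    rw [mem_subgroupOf]
    apply hcen
    refine Subgroup.mem_inf.mpr ⟨s.2, ?_⟩
    rw [mem_centralizer_iff]
    intro t ht
    have := (mem_centralizer_iff.mp hs) ⟨t, hTS ht⟩ (mem_subgroupOf.mpr ht)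
    exact congrArg Subtype.val this
  have hmap : T = (T.subgroupOf (S : Subgroup G)).map (S : Subgroup G).subtype :=
    (map_subgroupOf_eq_of_le hTS).symm
  by_cases hA : IsPGroup 2 (MulAut (T.subgroupOf (S : Subgroup G)))
  · right; right
    have hA' : IsPGroup 2 (MulAut T) := hA.of_equiv (MulAut.congr (subgroupOfEquivOfLe hTS))
    obtain ⟨k, hk⟩ := (hA'.to_subgroup T.normalizerMonoidHom.range).exists_card_eq
    exact ⟨k, by rw [← card_range_normalizerMonoidHom', hk]⟩
  · rcases h.classify _ hC₁ hA with h1 | ⟨c, h1⟩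
    · left; rw [hmap, h1]
    · right; left; exact ⟨c, by rw [hmap, h1]⟩

theorem map_conj_eq_cj (X : Subgroup ↥(S : Subgroup G)) (s : ↥(S : Subgroup G)) :
    (X.map (MulAut.conj s).toMonoidHom).map (S : Subgroup G).subtype =
      cj (s : G) (X.map (S : Subgroup G).subtype) := by
  rw [cj_def, Subgroup.map_map, Subgroup.map_map]
  congr 1

/-- All the `V_c` are conjugate under `S`. -/
theorem exists_cj_map_W (c c' : ℤ) : ∃ s : ↥(S : Subgroup G),
    cj (s : G) ((h.W (n - 1) (2 * c)).map (S : Subgroup G).subtype) =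
      (h.W (n - 1) (2 * c')).map (S : Subgroup G).subtype := by
  obtain ⟨s, hs⟩ := h.exists_conj_W c c'
  exact ⟨s, by rw [← h.map_conj_eq_cj, hs]⟩

theorem map_B_ne (hne : h.B.map (S : Subgroup G).subtype = (S : Subgroup G)) : False := by
  have hz : (z : G) ∈ h.B.map (S : Subgroup G).subtype := by rw [hne]; exact z.2
  obtain ⟨b, hb, hbz⟩ := hz
  have : b = z := Subtype.ext hbz
  exact h.z_not_mem_B (this ▸ hb)

theorem map_W_ne (d : ℤ) (hne : (h.W (n - 1) d).map (S : Subgroup G).subtype = (S : Subgroup G)) :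
    False := by
  have hn2 := h.hn
  have hx : (x : G) ∈ (h.W (n - 1) d).map (S : Subgroup G).subtype := by rw [hne]; exact x.2
  obtain ⟨b, hb, hbx⟩ := hx
  have hbx' : b = x := Subtype.ext hbx
  rw [hbx'] at hb
  have hb' : h.b 1 0 ∈ h.W (n - 1) d := by simpa [WrData.b_def] using hb
  have hb := (h.b_mem_W_iff h.pred_le d 1 0).mp hb'
  have h2 : (2 : ℤ) ∣ (2 : ℤ) ^ (n - 1) := ⟨_, h.half_eq⟩
  have := h2.trans hb
  omega

/-- `N_G(S) = C_G(S) S`. -/
theorem normalizer_S_factor (g : G) (hg : g ∈ normalizer ((S : Subgroup G) : Set G)) :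
    ∃ c ∈ centralizer ((S : Subgroup G) : Set G), ∃ s ∈ (S : Subgroup G), g = c * s := by
  have hfull : ¬ 2 ∣ ((S : Subgroup G) ⊓ normalizer ((S : Subgroup G) : Set G)).relIndex
      (normalizer ((S : Subgroup G) : Set G)) := by
    rw [inf_eq_left.mpr le_normalizer]
    exact not_dvd_relIndex_normalizer S
  rcases h.centric_cases (S : Subgroup G) (le_refl _) inf_le_left with h1 | ⟨c, h1⟩ | ⟨k, hk⟩
  · exact (h.map_B_ne h1.symm).elim
  · exact (h.map_W_ne _ h1.symm).elim
  · exact normalizer_factor' S _ hfull k hk g hg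

/-- Fusion in `S` is generated by `S`, centralizers, and the normalizers of those `U`, `V_c` whose
automizers are not 2-groups. -/
theorem creach_wreathed (𝓔 : Set (Subgroup G))
    (hU : h.B.map (S : Subgroup G).subtype ∈ 𝓔 ∨ ∃ k : ℕ,
      (centralizer ((h.B.map (S : Subgroup G).subtype : Subgroup G) : Set G)).relIndex
        (normalizer ((h.B.map (S : Subgroup G).subtype : Subgroup G) : Set G)) = 2 ^ k)
    (hV : ∀ c : ℤ, (h.W (n - 1) (2 * c)).map (S : Subgroup G).subtype ∈ 𝓔 ∨ ∃ k : ℕ,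
      (centralizer (((h.W (n - 1) (2 * c)).map (S : Subgroup G).subtype : Subgroup G) : Set G)).relIndex
        (normalizer (((h.W (n - 1) (2 * c)).map (S : Subgroup G).subtype : Subgroup G) : Set G)) = 2 ^ k)
    (A : Set G) (g : G) (hA : A ⊆ (S : Subgroup G)) (hAg : rc g A ⊆ (S : Subgroup G)) :
    CReach ({(S : Subgroup G)} ∪ 𝓔) A g := by
  have hS𝓕 : (S : Subgroup G) ∈ ({(S : Subgroup G)} ∪ 𝓔 : Set (Subgroup G)) := Or.inl rfl
  apply creach_of_essential S _ hS𝓕 _ A g hA hAg
  intro T hTS _ hcen hfull x hx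
  have key : (∃ k : ℕ, (centralizer (T : Set G)).relIndex (normalizer (T : Set G)) = 2 ^ k) →
      CReach ({(S : Subgroup G)} ∪ 𝓔) (T : Set G) x := by
    rintro ⟨k, hk⟩
    obtain ⟨c, hc, s, hs, rfl⟩ := normalizer_factor' S T hfull k hk x hx
    exact creach_of_factor S _ hS𝓕 T hTS c s hc hs
  rcases h.centric_cases T hTS hcen with h1 | ⟨c, h1⟩ | hk
  · rcases hU with hU | hU
    · exact CReach.of_reach (Reach.single (Or.inr (h1 ▸ hU)) hx (le_refl _))
    · exact key (h1 ▸ hU)
  · rcases hV c with hV | hV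
    · exact CReach.of_reach (Reach.single (Or.inr (h1 ▸ hV)) hx (le_refl _))
    · exact key (h1 ▸ hV)
  · exact key hk

theorem reach_singleton_mem_normalizer {A : Set G} {g : G}
    (hr : Reach ({(S : Subgroup G)} ∪ (∅ : Set (Subgroup G))) A g) :
    g ∈ normalizer ((S : Subgroup G) : Set G) := by
  induction hr with
  | nil A => exact one_mem _
  | cons A T x g hT hx _ _ ih =>
    rcases hT with hT | hT
    · have hT' : T = (S : Subgroup G) := hT
      rw [hT'] at hx
      exact mul_mem hx ih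
    · exact absurd hT (Set.notMem_empty _)

/-- In the case where all automizers are 2-groups, `S` controls its own fusion. -/
theorem S_control
    (hU : ∃ k : ℕ,
      (centralizer ((h.B.map (S : Subgroup G).subtype : Subgroup G) : Set G)).relIndex
        (normalizer ((h.B.map (S : Subgroup G).subtype : Subgroup G) : Set G)) = 2 ^ k)
    (hV : ∀ c : ℤ, ∃ k : ℕ,
      (centralizer (((h.W (n - 1) (2 * c)).map (S : Subgroup G).subtype : Subgroup G) : Set G)).relIndex
        (normalizer (((h.W (n - 1) (2 * c)).map (S : Subgroup G).subtype : Subgroup G) : Set G)) = 2 ^ k)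
    (A : Set G) (g : G) (hA : A ⊆ (S : Subgroup G)) (hAg : rc g A ⊆ (S : Subgroup G)) :
    ∃ s ∈ (S : Subgroup G), ∀ a ∈ A, s⁻¹ * a * s = g⁻¹ * a * g := by
  obtain ⟨g', hr, he⟩ := h.creach_wreathed ∅ (Or.inr hU) (fun c => Or.inr (hV c)) A g hA hAg
  obtain ⟨c, hc, s, hs, rfl⟩ := h.normalizer_S_factor g' (h.reach_singleton_mem_normalizer hr)
  refine ⟨s, hs, fun a ha => ?_⟩
  rw [← he a ha]
  have hca : c⁻¹ * a * c = a := by
    have := (mem_centralizer_iff.mp hc) a (hA ha)
    calc c⁻¹ * a * c = c⁻¹ * (a * c) := by group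
      _ = c⁻¹ * (c * a) := by rw [this]
      _ = a := by group
  calc s⁻¹ * a * s = s⁻¹ * (c⁻¹ * a * c) * s := by rw [hca]
    _ = (c * s)⁻¹ * a * (c * s) := by group

/-- If `|N_G(V) : V C_G(V)| = 2` for one `V_c`, all `V_c` have automizers of 2-power order. -/
theorem relIndex_map_W_pow_two (c₀ : ℤ)
    (h₂ : ((h.W (n - 1) (2 * c₀)).map (S : Subgroup G).subtype ⊔
      centralizer (((h.W (n - 1) (2 * c₀)).map (S : Subgroup G).subtype : Subgroup G) : Set G)).relIndex
      (normalizer (((h.W (n - 1) (2 * c₀)).map (S : Subgroup G).subtype : Subgroup G) : Set G)) = 2)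
    (c : ℤ) : ∃ k : ℕ,
      (centralizer (((h.W (n - 1) (2 * c)).map (S : Subgroup G).subtype : Subgroup G) : Set G)).relIndex
        (normalizer (((h.W (n - 1) (2 * c)).map (S : Subgroup G).subtype : Subgroup G) : Set G)) = 2 ^ k := by
  obtain ⟨s, hs⟩ := h.exists_cj_map_W c₀ c
  rw [← hs, relIndex_cj_centralizer]
  exact relIndex_pow_two_of_two _ (S.2.to_le (h.map_W_le _)) h₂

end global

end WrData

end Cfsg.Agent.Lib.Helper90
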