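import Mathlib
import Cfsg.Agent.Lib.Helper90.WreathedV

set_option autoImplicit false

namespace Cfsg.Agent.Lib.Helper90

namespace WrData

variable {S : Type*} [Group S] {n : ℕ} {x y z : S}

section
variable (h : WrData S n x y z)
include h

theorem b_mem_Q (t : ℤ) : h.b t (-t) ∈ h.Q := ⟨t, Or.inl rfl⟩

theorem r_mem_Q (t : ℤ) : h.b (t + (2 : ℤ) ^ (n - 1)) (-t) * z ∈ h.Q := ⟨t, Or.inr rfl⟩

open scoped commutatorElement in
/-- commutators lie in `Q` -/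
theorem comm_mem_Q [Finite S] (a s : S) : a⁻¹ * (s⁻¹ * a * s) ∈ h.Q := by
  have h1 := h.commutator_mem a⁻¹ s⁻¹
  rw [h.mem_zpowers_xyinv_iff, commutatorElement_def] at h1
  obtain ⟨i, hi⟩ := h1
  have e : a⁻¹ * (s⁻¹ * a * s) = a⁻¹ * s⁻¹ * a⁻¹⁻¹ * s⁻¹⁻¹ := by group
  rw [e, hi]
  exact h.b_mem_Q i

/-- the central involution is a square of every element of `Q` outside the base -/
theorem r_sq (t : ℤ) : (h.b (t + (2 : ℤ) ^ (n - 1)) (-t) * z) *
    (h.b (t + (2 : ℤ) ^ (n - 1)) (-t) * z) =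
      h.b ((2 : ℤ) ^ (n - 1)) ((2 : ℤ) ^ (n - 1)) := by
  rw [h.b_z_b_z]
  congr 1 <;> ring

/-- A non-central element whose square is the central involution lies in `Q`. -/
theorem mem_Q_of_sq_eq_e [Finite S] (s : S)
    (hs : s * s = h.b ((2 : ℤ) ^ (n - 1)) ((2 : ℤ) ^ (n - 1)))
    (hnc : s ∉ Subgroup.center S) : s ∈ h.Q := by
  have hN := h.two_pow_eq
  rcases h.cases s with ⟨i, j, rfl⟩ | ⟨i, j, rfl⟩
  · rw [h.b_mul, h.b_eq_b_iff] at hs
    rw [h.b_mem_center_iff] at hnc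
    obtain ⟨⟨a1, ha1⟩, ⟨a2, ha2⟩⟩ := hs
    -- `i - j = 2^(n-1) (a1 - a2)`
    have e1 : i - j = (2 : ℤ) ^ (n - 1) * (a1 - a2) := by
      have : 2 * (i - j) = 2 * ((2 : ℤ) ^ (n - 1) * (a1 - a2)) := by
        rw [hN] at ha1 ha2; linear_combination ha1 - ha2
      exact mul_left_cancel₀ (by norm_num) this
    rcases Int.emod_two_eq_zero_or_one (a1 - a2) with hg | hg
    · exfalso
      apply hnc
      obtain ⟨q, hq⟩ : (2 : ℤ) ∣ a1 - a2 := Int.dvd_of_emod_eq_zero hg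
      exact h.dvd_of_even_mul _ q (by rw [e1, hq])
    · obtain ⟨q, hq⟩ : (2 : ℤ) ∣ a1 - a2 - 1 := by omega
      refine ⟨i, Or.inl ?_⟩
      apply h.b_congr
      · simp
      · -- `j + i ≡ 0`
        refine ⟨a1 - q, ?_⟩
        have hq' : a1 - a2 = 2 * q + 1 := by omega
        rw [hq'] at e1
        rw [hN] at ha1 ⊢
        linear_combination ha1 - e1
  · rw [h.b_z_b_z, h.b_eq_b_iff] at hs
    refine ⟨-j, Or.inr ?_⟩
    rw [h.b_z_eq_b_z_iff]
    refine ⟨?_, by simp⟩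
    exact dvd_of_eq_dvd hs.1 (by ring)

/-- elements of `Q ∩ W (n-1) d` are central or square to the central involution -/
theorem sq_of_mem_Q_W [Finite S] (d : ℤ) (q : S) (hq : q ∈ h.Q) (hqW : q ∈ h.W (n - 1) d) :
    q ∈ Subgroup.center S ∨ q * q = h.b ((2 : ℤ) ^ (n - 1)) ((2 : ℤ) ^ (n - 1)) := by
  have hN := h.two_pow_eq
  obtain ⟨t, rfl | rfl⟩ := hq
  · rw [h.b_mem_W_iff h.pred_le] at hqW
    obtain ⟨g, hg⟩ := hqW
    rcases Int.emod_two_eq_zero_or_one g with hg2 | hg2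
    · left
      obtain ⟨q, rfl⟩ : (2 : ℤ) ∣ g := Int.dvd_of_emod_eq_zero hg2
      rw [h.b_mem_center_iff]
      exact h.dvd_of_even_mul _ q hg
    · right
      obtain ⟨q, hq⟩ : (2 : ℤ) ∣ g - 1 := by omega
      have hg' : g = 2 * q + 1 := by omega
      rw [hg'] at hg
      rw [h.b_mul, h.b_eq_b_iff]
      constructor
      · exact ⟨q, by rw [hN]; linear_combination hg⟩
      · exact ⟨-q - 1, by rw [hN]; linear_combination -hg⟩
  · right; exact h.r_sq t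

/-- Every element of `W (n-1) (2c)` is a product of an element of `Q` and a central element. -/
theorem W_decomp [Finite S] (c : ℤ) (a : S) (ha : a ∈ h.W (n - 1) (2 * c)) :
    ∃ q ∈ h.Q, ∃ ζ ∈ Subgroup.center S, a = q * ζ := by
  have hN := h.two_pow_eq
  have hH := h.half_eq
  obtain ⟨i, j, (⟨⟨g, hg⟩, rfl⟩ | ⟨⟨g, hg⟩, rfl⟩)⟩ := ha
  · rcases Int.emod_two_eq_zero_or_one g with hg2 | hg2
    · obtain ⟨q, rfl⟩ : (2 : ℤ) ∣ g := Int.dvd_of_emod_eq_zero hg2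
      refine ⟨1, one_mem _, h.b i j, ?_, (one_mul _).symm⟩
      rw [h.b_mem_center_iff]
      exact h.dvd_of_even_mul _ q hg
    · obtain ⟨q, hq⟩ : (2 : ℤ) ∣ g - 1 := by omega
      have hg' : g = 2 * q + 1 := by omega
      refine ⟨h.b ((2 : ℤ) ^ (n - 2)) (-(2 : ℤ) ^ (n - 2)), h.b_mem_Q _,
        h.b (i - (2 : ℤ) ^ (n - 2)) (j + (2 : ℤ) ^ (n - 2)), ?_, ?_⟩
      · rw [h.b_mem_center_iff]
        refine h.dvd_of_even_mul _ q ?_
        rw [hg'] at hg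
        rw [hH] at hg ⊢
        linear_combination hg
      · rw [h.b_mul]; congr 1 <;> ring
  · -- `i + j - 2^(n-1)` is even
    have hev : (2 : ℤ) ∣ i + j - (2 : ℤ) ^ (n - 1) := by
      refine ⟨(2 : ℤ) ^ (n - 2) * g + c + j - (2 : ℤ) ^ (n - 2), ?_⟩
      rw [hH] at hg ⊢
      linear_combination hg
    obtain ⟨w, hw⟩ := hev
    refine ⟨h.b ((w - j) + (2 : ℤ) ^ (n - 1)) (-(w - j)) * z, h.r_mem_Q _, h.b w w, ?_, ?_⟩
    · rw [h.b_mem_center_iff]; simp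
    · rw [h.b_z_mul_b]
      congr 2
      · linear_combination hw
      · ring

/-- A subset of `S` closed under products, inverses and conjugation by `S` which contains one
element of `Q` outside the base contains `Q`. -/
theorem Q_le_of_normal [Finite S] (X : Subgroup S) (hX : X.Normal) (i : ℤ)
    (hi : h.b (i + (2 : ℤ) ^ (n - 1)) (-i) * z ∈ X) : h.Q ≤ X := by
  have hN := h.two_pow_eq
  have hr : ∀ t : ℤ, h.b (t + (2 : ℤ) ^ (n - 1)) (-t) * z ∈ X := by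
    intro t
    have := hX.conj_mem _ hi (h.b (t - i) 0)
    rw [h.b_inv, h.b_mul_b_z, h.b_z_mul_b] at this
    have e : h.b (t - i + (i + (2 : ℤ) ^ (n - 1)) + -0) (0 + -i + -(t - i)) * z =
        h.b (t + (2 : ℤ) ^ (n - 1)) (-t) * z := by
      congr 2 <;> ring
    rwa [e] at this
  rintro q ⟨t, rfl | rfl⟩
  · have h1 := X.mul_mem (X.mul_mem (X.mul_mem (hr t) (hr 0)) (hr 0)) (hr 0)
    rw [h.b_z_b_z, mul_assoc, h.b_z_b_z, h.b_mul] at h1
    have e : ∀ u v : ℤ, (2 : ℤ) ^ n ∣ u - t → (2 : ℤ) ^ n ∣ v - -t → h.b u v ∈ X →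
        h.b t (-t) ∈ X := by
      intro u v hu hv hm
      rwa [h.b_congr _ _ _ _ hu hv] at hm
    refine e _ _ ?_ ?_ h1
    · exact ⟨1, by rw [hN]; ring⟩
    · exact ⟨1, by rw [hN]; ring⟩
  · exact hr t

/-- For an involution `w` outside the base, `x^(-2^(n-1)) w` is an element of `Q` outside the
base. -/
theorem exists_r_of_inv [Finite S] (w : S) (hw : orderOf w = 2) (hwB : w ∉ h.B) :
    ∃ i : ℤ, (h.b ((2 : ℤ) ^ (n - 1)) 0)⁻¹ * w = h.b (i + (2 : ℤ) ^ (n - 1)) (-i) * z := by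
  have hN := h.two_pow_eq
  obtain ⟨_, hsq⟩ := (orderOf_two_iff' w).mp hw
  rcases h.sq_eq_one_cases w hsq with (h0 | h0 | h0 | h0) | ⟨i, h0⟩
  · exact absurd (h0 ▸ h.B.one_mem) hwB
  · exact absurd (h0 ▸ h.b_mem_B _ _) hwB
  · exact absurd (h0 ▸ h.b_mem_B _ _) hwB
  · exact absurd (h0 ▸ h.b_mem_B _ _) hwB
  · refine ⟨i, ?_⟩
    rw [h0, h.b_inv, h.b_mul_b_z, h.b_z_eq_b_z_iff]
    exact ⟨⟨-1, by rw [hN]; ring⟩, ⟨0, by ring⟩⟩

end

end WrData

end Cfsg.Agent.Lib.Helper90
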