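import Mathlib
import Cfsg.Agent.Lib.Helper90.WreathedQ
import Cfsg.Agent.Lib.Helper90.WreathedEss
import Cfsg.Agent.Lib.Helper90.FocalReach
import Cfsg.Agent.Lib.Helper90.WreathedFusion

set_option autoImplicit false

namespace Cfsg.Agent.Lib.Helper90

open Subgroup Cfsg.Agent.Lib.Helper33 Cfsg.Agent.Lib.Helper2

/-- Elements of odd order lie in every normal subgroup of 2-power index. -/
theorem mem_of_odd_orderOf {G' : Type*} [Group G'] (K : Subgroup G') [K.Normal] (j : ℕ)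
    (hKi : K.index = 2 ^ j) (k : G') (hk : Odd (orderOf k)) : k ∈ K := by
  have h1 : k ^ (2 ^ j) ∈ K := by rw [← hKi]; exact K.pow_index_mem k
  obtain ⟨m, hm⟩ := exists_pow_eq_self_of_coprime (x := k) (n := 2 ^ j)
    (Nat.Coprime.pow_left j hk.coprime_two_left)
  rw [← hm]; exact pow_mem h1 m

namespace WrData

variable {G : Type*} [Group G] [Finite G] {S : Sylow 2 G} {n : ℕ} {x y z : ↥(S : Subgroup G)}
  (h : WrData ↥(S : Subgroup G) n x y z)
include h

/-- one direction of: the normalizer of `V_d` normalizes the image of `Z(S)` -/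
theorem conj_center_mem_of_mem_normalizer (d : ℤ) (x' : G)
    (hx' : x' ∈ normalizer (((h.W (n - 1) d).map (S : Subgroup G).subtype : Subgroup G) : Set G))
    (ζ : G) (hζ : ζ ∈ (center ↥(S : Subgroup G)).map (S : Subgroup G).subtype) :
    x' * ζ * x'⁻¹ ∈ (center ↥(S : Subgroup G)).map (S : Subgroup G).subtype := by
  obtain ⟨ζ₀, hζ₀, rfl⟩ := hζ
  have hζV : ((S : Subgroup G).subtype ζ₀ : G) ∈ (h.W (n - 1) d).map (S : Subgroup G).subtype :=
    ⟨ζ₀, h.center_le_W _ _ hζ₀, rfl⟩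
  obtain ⟨w, hw, hwe⟩ := (mem_normalizer_iff.mp hx' _).mp hζV
  refine ⟨w, ?_, hwe⟩
  apply h.centralizer_W_le_center d
  rw [mem_centralizer_iff]
  intro v hv
  have hvV : ((S : Subgroup G).subtype v : G) ∈ (h.W (n - 1) d).map (S : Subgroup G).subtype :=
    ⟨v, hv, rfl⟩
  obtain ⟨v', hv', hve⟩ := (mem_normalizer_iff.mp (inv_mem hx') _).mp hvV
  have hcomm : v' * ζ₀ = ζ₀ * v' := Subgroup.mem_center_iff.mp hζ₀ v'
  have hcomm' : (v' : G) * (ζ₀ : G) = (ζ₀ : G) * (v' : G) := by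
    have := congrArg (fun s : ↥(S : Subgroup G) => (s : G)) hcomm
    simpa using this
  apply Subtype.ext
  rw [Subgroup.coe_mul, Subgroup.coe_mul]
  have e1 : (v : G) = x' * (v' : G) * x'⁻¹ := by
    have : (v' : G) = x'⁻¹ * (v : G) * x'⁻¹⁻¹ := hve
    rw [this]; group
  have e2 : (w : G) = x' * (ζ₀ : G) * x'⁻¹ := hwe
  rw [e1, e2]
  calc x' * (v' : G) * x'⁻¹ * (x' * (ζ₀ : G) * x'⁻¹) = x' * ((v' : G) * (ζ₀ : G)) * x'⁻¹ := by group
    _ = x' * ((ζ₀ : G) * (v' : G)) * x'⁻¹ := by rw [hcomm']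
    _ = x' * (ζ₀ : G) * x'⁻¹ * (x' * (v' : G) * x'⁻¹) := by group

theorem normalizer_map_W_le_normalizer_center (d : ℤ) :
    normalizer (((h.W (n - 1) d).map (S : Subgroup G).subtype : Subgroup G) : Set G) ≤
      normalizer (((center ↥(S : Subgroup G)).map (S : Subgroup G).subtype : Subgroup G) : Set G) := by
  intro x' hx'
  rw [mem_normalizer_iff]
  intro ζ
  constructor
  · exact h.conj_center_mem_of_mem_normalizer d x' hx' ζ
  · intro hζ
    have := h.conj_center_mem_of_mem_normalizer d x'⁻¹ (inv_mem hx') _ hζ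
    have e : x'⁻¹ * (x' * ζ * x'⁻¹) * x'⁻¹⁻¹ = ζ := by group
    rwa [e] at this

/-- `N_S(V_c)` is a Sylow 2-subgroup of `N_G(V_c)`. -/
theorem not_dvd_relIndex_normalizer_map_W (c : ℤ) :
    ¬ 2 ∣ ((S : Subgroup G) ⊓ normalizer
      (((h.W (n - 1) (2 * c)).map (S : Subgroup G).subtype : Subgroup G) : Set G)).relIndex
      (normalizer (((h.W (n - 1) (2 * c)).map (S : Subgroup G).subtype : Subgroup G) : Set G)) := by
  obtain ⟨Q₁, ⟨eQ₁⟩, hW⟩ := h.exists_quat_W c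
  have hQS : Q₁.map (S : Subgroup G).subtype ≤ (S : Subgroup G) := map_subtype_le _
  have eQ : ↥(Q₁.map (S : Subgroup G).subtype) ≃* QuaternionGroup 2 :=
    (Q₁.equivMapOfInjective _ (subtype_injective _)).symm.trans eQ₁
  have H3 := not_dvd_relIndex_of_fullyNormalized S
    (Q₁.map (S : Subgroup G).subtype ⊔ (center ↥(S : Subgroup G)).map (S : Subgroup G).subtype)
    (sup_le hQS (map_subtype_le _)) (fun g hg => h.card_inf_normalizer_cj_le _ hQS eQ g hg)
  rw [← Subgroup.map_sup, ← hW] at H3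
  exact H3

omit h in
theorem coe_mem_centralizer_center (s : G) (hs : s ∈ (S : Subgroup G)) :
    s ∈ centralizer
      (((center ↥(S : Subgroup G)).map (S : Subgroup G).subtype : Subgroup G) : Set G) := by
  rw [mem_centralizer_iff]
  rintro _ ⟨ζ₀, hζ₀, rfl⟩
  have h1 := Subgroup.mem_center_iff.mp hζ₀ ⟨s, hs⟩
  have h2 := congrArg (fun s : ↥(S : Subgroup G) => (s : G)) h1
  simpa using h2.symm

theorem card_mulAut_map_center : ∃ m : ℕ,
    Nat.card (MulAut ↥((center ↥(S : Subgroup G)).map (S : Subgroup G).subtype)) = 2 ^ m := by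
  have e := (center ↥(S : Subgroup G)).equivMapOfInjective (S : Subgroup G).subtype
    (subtype_injective _)
  have hc : IsCyclic ↥(center ↥(S : Subgroup G)) := by
    rw [h.center_eq_zpowers]; infer_instance
  have hc' : IsCyclic ↥((center ↥(S : Subgroup G)).map (S : Subgroup G).subtype) :=
    e.isCyclic.mp hc
  rw [IsCyclic.card_mulAut, ← Nat.card_congr e.toEquiv, h.card_center]
  have hn2 := h.hn
  obtain ⟨j, rfl⟩ : ∃ j, n = j + 1 := ⟨n - 1, by omega⟩
  exact ⟨j, by rw [Nat.totient_prime_pow_succ Nat.prime_two]; simp⟩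

/-- `N_G(V_c)` centralizes `Z(S)`. -/
theorem normalizer_map_W_le_centralizer_center (c : ℤ) :
    normalizer (((h.W (n - 1) (2 * c)).map (S : Subgroup G).subtype : Subgroup G) : Set G) ≤
      centralizer
        (((center ↥(S : Subgroup G)).map (S : Subgroup G).subtype : Subgroup G) : Set G) := by
  obtain ⟨N, hN⟩ : ∃ N : Subgroup G, N = normalizer
    (((h.W (n - 1) (2 * c)).map (S : Subgroup G).subtype : Subgroup G) : Set G) := ⟨_, rfl⟩
  obtain ⟨Zt, hZt⟩ : ∃ Zt : Subgroup G,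
    Zt = (center ↥(S : Subgroup G)).map (S : Subgroup G).subtype := ⟨_, rfl⟩
  have hNZ : N ≤ normalizer (Zt : Set G) := by
    rw [hN, hZt]; exact h.normalizer_map_W_le_normalizer_center _
  have hodd := h.not_dvd_relIndex_normalizer_map_W c
  obtain ⟨m, hm⟩ := h.card_mulAut_map_center
  rw [← hN] at hodd ⊢
  rw [← hZt] at hm ⊢
  have hSC : (S : Subgroup G) ⊓ N ≤ centralizer (Zt : Set G) := by
    intro s hs
    rw [hZt]
    exact coe_mem_centralizer_center s (Subgroup.mem_inf.mp hs).1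
  -- the `2^m`-th power of every element of `N` centralizes `Zt`
  have hpow : ∀ g ∈ N, g ^ (2 ^ m) ∈ centralizer (Zt : Set G) := by
    intro g hg
    obtain ⟨g', hg'⟩ : ∃ g' : normalizer (Zt : Set G), g' = ⟨g, hNZ hg⟩ := ⟨_, rfl⟩
    have h1 : (Zt.normalizerMonoidHom g') ^ (2 ^ m) = 1 := by
      rw [← hm]; exact pow_card_eq_one'
    rw [mem_centralizer_iff]
    intro ζ hζ
    have h2 := normalizerMonoidHom_pow_apply Zt g' (2 ^ m) ⟨ζ, hζ⟩
    rw [h1, hg'] at h2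
    simp only [MulAut.one_apply] at h2
    obtain ⟨γ, hγ⟩ : ∃ γ : G, γ = g ^ (2 ^ m) := ⟨_, rfl⟩
    rw [← hγ] at h2 ⊢
    calc ζ * γ = (γ * ζ * γ⁻¹) * γ := by rw [← h2]
      _ = γ * ζ := by group
  have hDn : ((centralizer (Zt : Set G)).subgroupOf N).Normal := by
    constructor
    intro a ha g
    rw [mem_subgroupOf] at ha ⊢
    rw [mem_centralizer_iff] at ha ⊢
    intro ζ hζ
    have hgN : ((g⁻¹ : ↥N) : G) ∈ normalizer (Zt : Set G) := hNZ (g⁻¹).2
    have h1 : (g : G)⁻¹ * ζ * (g : G) ∈ Zt := by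
      have := (mem_normalizer_iff.mp hgN ζ).mp hζ
      simpa using this
    have h2 := ha _ h1
    simp only [Subgroup.coe_mul, Subgroup.coe_inv]
    obtain ⟨γ, hγ⟩ : ∃ γ : G, γ = (g : G) := ⟨_, rfl⟩
    obtain ⟨α, hα⟩ : ∃ α : G, α = (a : G) := ⟨_, rfl⟩
    rw [← hγ, ← hα] at h2 ⊢
    calc ζ * (γ * α * γ⁻¹) = γ * ((γ⁻¹ * ζ * γ) * α) * γ⁻¹ := by group
      _ = γ * (α * (γ⁻¹ * ζ * γ)) * γ⁻¹ := by rw [h2]
      _ = γ * α * γ⁻¹ * ζ := by group
  have hP : IsPGroup 2 (↥N ⧸ (centralizer (Zt : Set G)).subgroupOf N) := by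
    intro q
    induction q using QuotientGroup.induction_on with
    | H g =>
      refine ⟨m, ?_⟩
      rw [← QuotientGroup.mk_pow, QuotientGroup.eq_one_iff, mem_subgroupOf]
      exact hpow _ g.2
  obtain ⟨j, hj⟩ := hP.exists_card_eq
  have h3 : (centralizer (Zt : Set G)).relIndex N = 2 ^ j := by
    rw [← hj]; exact Subgroup.index_eq_card _
  have h4 : (centralizer (Zt : Set G)).relIndex N ∣ ((S : Subgroup G) ⊓ N).relIndex N :=
    relIndex_dvd_of_le_left N hSC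
  rw [h3] at h4
  rcases j with _ | j
  · rw [pow_zero] at h3
    exact relIndex_eq_one.mp h3
  · exfalso
    apply hodd
    exact (dvd_pow_self 2 (Nat.succ_ne_zero j)).trans h4

/-- Conjugation by an element of `N_G(V_c)` fixes the elements of `Z(S)`. -/
theorem conj_center_eq (c : ℤ) (x' : G)
    (hx' : x' ∈ normalizer (((h.W (n - 1) (2 * c)).map (S : Subgroup G).subtype : Subgroup G) : Set G))
    (ζ₀ : ↥(S : Subgroup G)) (hζ₀ : ζ₀ ∈ center ↥(S : Subgroup G)) :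
    x'⁻¹ * (ζ₀ : G) * x' = (ζ₀ : G) := by
  have h1 := h.normalizer_map_W_le_centralizer_center c hx'
  exact conj_eq_of_mem_centralizer h1 ⟨ζ₀, hζ₀, rfl⟩

/-- Conjugation by an element of `N_G(V_c)` maps `Q ∩ V_c` into `Q`. -/
theorem conj_mem_Q (c : ℤ) (x' : G)
    (hx' : x' ∈ normalizer (((h.W (n - 1) (2 * c)).map (S : Subgroup G).subtype : Subgroup G) : Set G))
    (q : ↥(S : Subgroup G)) (hq : q ∈ h.Q) (hqW : q ∈ h.W (n - 1) (2 * c)) :
    ∃ q₁ ∈ h.Q, (q₁ : G) = x'⁻¹ * (q : G) * x' := by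
  have hqV : ((S : Subgroup G).subtype q : G) ∈ (h.W (n - 1) (2 * c)).map (S : Subgroup G).subtype :=
    ⟨q, hqW, rfl⟩
  obtain ⟨q₁, hq₁W, hq₁⟩ := (mem_normalizer_iff.mp (inv_mem hx') _).mp hqV
  have hq₁' : (q₁ : G) = x'⁻¹ * (q : G) * x' := by
    have : (q₁ : G) = x'⁻¹ * (q : G) * x'⁻¹⁻¹ := hq₁
    rw [this]; group
  by_cases hqc : q ∈ center ↥(S : Subgroup G)
  · refine ⟨q, hq, ?_⟩
    exact (h.conj_center_eq c x' hx' q hqc).symm
  · refine ⟨q₁, ?_, hq₁'⟩
    have hsq : q * q = h.b ((2 : ℤ) ^ (n - 1)) ((2 : ℤ) ^ (n - 1)) := by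
      rcases h.sq_of_mem_Q_W _ q hq hqW with h1 | h1
      · exact absurd h1 hqc
      · exact h1
    apply h.mem_Q_of_sq_eq_e
    · apply Subtype.ext
      rw [Subgroup.coe_mul, hq₁']
      have h2 := h.conj_center_eq c x' hx' _ h.e_mem_center
      rw [← hsq, Subgroup.coe_mul] at h2
      rw [← hsq, Subgroup.coe_mul, ← h2]
      group
    · intro hc
      apply hqc
      have h2 := h.conj_center_eq c x'⁻¹ (inv_mem hx') q₁ hc
      have h3 : (q₁ : G) = (q : G) := by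
        rw [← h2, hq₁']; group
      have : q₁ = q := Subtype.ext h3
      rwa [this] at hc

/-- Conjugation by an element of `N_G(V_c)` moves elements of `V_c` within their cosets of `Q`. -/
theorem normalizer_map_W_step (c : ℤ) (x' : G)
    (hx' : x' ∈ normalizer (((h.W (n - 1) (2 * c)).map (S : Subgroup G).subtype : Subgroup G) : Set G))
    (a : G) (ha : a ∈ (h.W (n - 1) (2 * c)).map (S : Subgroup G).subtype) :
    a⁻¹ * (x'⁻¹ * a * x') ∈ h.Q.map (S : Subgroup G).subtype := by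
  obtain ⟨a₀, ha₀, rfl⟩ := ha
  obtain ⟨q, hq, ζ, hζ, rfl⟩ := h.W_decomp c a₀ ha₀
  have hqW : q ∈ h.W (n - 1) (2 * c) := by
    have := (h.W (n - 1) (2 * c)).mul_mem ha₀ (inv_mem (h.center_le_W _ _ hζ))
    simpa using this
  obtain ⟨q₁, hq₁, hq₁e⟩ := h.conj_mem_Q c x' hx' q hq hqW
  have hζe := h.conj_center_eq c x' hx' ζ hζ
  refine ⟨q⁻¹ * q₁, h.Q.mul_mem (inv_mem hq) hq₁, ?_⟩
  have hcomm : ζ * (q⁻¹ * q₁) = (q⁻¹ * q₁) * ζ := (Subgroup.mem_center_iff.mp hζ _).symm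
  have hcomm' : (ζ : G) * ((q : G)⁻¹ * (q₁ : G)) = ((q : G)⁻¹ * (q₁ : G)) * (ζ : G) := by
    have := congrArg (fun s : ↥(S : Subgroup G) => (s : G)) hcomm
    simpa using this
  simp only [Subgroup.subtype_apply, Subgroup.coe_mul, Subgroup.coe_inv]
  have e : x'⁻¹ * ((q : G) * (ζ : G)) * x' = (x'⁻¹ * (q : G) * x') * (x'⁻¹ * (ζ : G) * x') := by
    group
  rw [e, hζe, ← hq₁e]
  calc (q : G)⁻¹ * (q₁ : G) = (ζ : G)⁻¹ * ((ζ : G) * ((q : G)⁻¹ * (q₁ : G))) := by group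
    _ = (ζ : G)⁻¹ * (((q : G)⁻¹ * (q₁ : G)) * (ζ : G)) := by rw [hcomm']
    _ = ((q : G) * (ζ : G))⁻¹ * ((q₁ : G) * (ζ : G)) := by group

/-- If `|N_G(U) : C_G(U)|` is a power of two then the focal subgroup of `S` lies in `Q`. -/
theorem focalSubgroupOf_le_Q
    (hU : ∃ k : ℕ,
      (centralizer ((h.B.map (S : Subgroup G).subtype : Subgroup G) : Set G)).relIndex
        (normalizer ((h.B.map (S : Subgroup G).subtype : Subgroup G) : Set G)) = 2 ^ k) :
    (S : Subgroup G).focalSubgroupOf ≤ h.Q := by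
  have hfoc : (S : Subgroup G).focalSubgroup ≤ h.Q.map (S : Subgroup G).subtype := by
    apply focalSubgroup_le_of_steps S
      (Set.range (fun c : ℤ => (h.W (n - 1) (2 * c)).map (S : Subgroup G).subtype))
      (h.Q.map (S : Subgroup G).subtype) ?_ h.normalizer_S_factor ?_ ?_ ?_
    · rintro T ⟨c, rfl⟩
      exact h.map_W_le _
    · intro a ha s hs
      obtain ⟨a', rfl⟩ : ∃ a' : ↥(S : Subgroup G), (a' : G) = a := ⟨⟨a, ha⟩, rfl⟩
      obtain ⟨s', rfl⟩ : ∃ s' : ↥(S : Subgroup G), (s' : G) = s := ⟨⟨s, hs⟩, rfl⟩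
      exact ⟨a'⁻¹ * (s'⁻¹ * a' * s'), h.comm_mem_Q a' s', by simp⟩
    · rintro T ⟨c, rfl⟩ x' hx' a ha
      exact h.normalizer_map_W_step c x' hx' a ha
    · intro A g hA hAg
      exact h.creach_wreathed
        (Set.range (fun c : ℤ => (h.W (n - 1) (2 * c)).map (S : Subgroup G).subtype))
        (Or.inr hU) (fun c => Or.inl ⟨c, rfl⟩) A g hA hAg
  intro s hs
  rw [Subgroup.focalSubgroupOf_def, Subgroup.mem_subgroupOf] at hs
  obtain ⟨b, hb, hbs⟩ := hfoc hs
  have hbs' : b = s := Subtype.ext hbs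
  exact hbs' ▸ hb

/-- The normal subgroup `K` of index `2^n` with `S ∩ K = Q`. -/
theorem exists_normal_Q
    (hU : ∃ k : ℕ,
      (centralizer ((h.B.map (S : Subgroup G).subtype : Subgroup G) : Set G)).relIndex
        (normalizer ((h.B.map (S : Subgroup G).subtype : Subgroup G) : Set G)) = 2 ^ k) :
    ∃ K : Subgroup G, K.Normal ∧ K.index = 2 ^ n ∧ h.Q.map (S : Subgroup G).subtype ≤ K ∧
      ∀ s : ↥(S : Subgroup G), (s : G) ∈ K → s ∈ h.Q := by
  obtain ⟨K, hKn, hKi, hQK, hK⟩ := exists_normal_of_focal_le S h.Q (h.focalSubgroupOf_le_Q hU)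
  refine ⟨K, hKn, ?_, hQK, ?_⟩
  · rw [hKi]
    have h1 := Subgroup.card_mul_index h.Q
    rw [h.card_Q, h.card] at h1
    have : 2 ^ (n + 1) * h.Q.index = 2 ^ (n + 1) * 2 ^ n := by
      rw [h1, ← pow_add]; congr 1; omega
    exact Nat.eq_of_mul_eq_mul_left (by positivity) this
  · intro s hs
    have h1 := hK s hs
    obtain ⟨j, hj⟩ := (IsPGroup.iff_orderOf.mp h.isPGroup_two) s
    have hcop : Nat.Coprime (S : Subgroup G).index (orderOf s) := by
      rw [hj]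
      apply Nat.Coprime.pow_right
      exact Nat.coprime_comm.mp ((Nat.Prime.coprime_iff_not_dvd Nat.prime_two).mpr S.not_dvd_index)
    obtain ⟨m', hm'⟩ := exists_pow_eq_self_of_coprime hcop
    rw [← hm']
    exact pow_mem h1 m'

theorem card_map_Q : Nat.card (h.Q.map (S : Subgroup G).subtype) = 2 ^ (n + 1) := by
  rw [← Nat.card_congr (h.Q.equivMapOfInjective (S : Subgroup G).subtype
    (subtype_injective _)).toEquiv, h.card_Q]

/-- The image of `Q` has odd index in `K`. -/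
theorem not_dvd_index_map_Q_subgroupOf (K : Subgroup G) (hKi : K.index = 2 ^ n)
    (hQK : h.Q.map (S : Subgroup G).subtype ≤ K) :
    ¬ 2 ∣ ((h.Q.map (S : Subgroup G).subtype).subgroupOf K).index := by
  obtain ⟨Qt, hQt⟩ : ∃ Qt : Subgroup G, Qt = h.Q.map (S : Subgroup G).subtype := ⟨_, rfl⟩
  have hcQt : Nat.card Qt = 2 ^ (n + 1) := by rw [hQt]; exact h.card_map_Q
  rw [← hQt] at hQK ⊢
  have hc0 : Nat.card (Qt.subgroupOf K) = 2 ^ (n + 1) := by
    rw [Nat.card_congr (subgroupOfEquivOfLe hQK).toEquiv]; exact hcQt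
  intro hd
  have c1 := Subgroup.card_mul_index (Qt.subgroupOf K)
  have c2 := Subgroup.card_mul_index K
  have c3 := Subgroup.card_mul_index (S : Subgroup G)
  rw [hc0] at c1
  rw [hKi, ← c1] at c2
  rw [h.card, ← c2] at c3
  have : (S : Subgroup G).index = (Qt.subgroupOf K).index := by
    have e : 2 ^ (2 * n + 1) = 2 ^ (n + 1) * 2 ^ n := by rw [← pow_add]; congr 1; omega
    rw [e] at c3
    have : 2 ^ (n + 1) * 2 ^ n * (S : Subgroup G).index =
        2 ^ (n + 1) * 2 ^ n * (Qt.subgroupOf K).index := by rw [c3]; ring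
    exact Nat.eq_of_mul_eq_mul_left (by positivity) this
  exact S.not_dvd_index (this ▸ hd)

/-- The Sylow 2-subgroups of `K` are generalized quaternion. -/
theorem sylow_equiv_quaternion (K : Subgroup G) (hKi : K.index = 2 ^ n)
    (hQK : h.Q.map (S : Subgroup G).subtype ≤ K) (P : Sylow 2 ↥K) :
    Nonempty (↥(P : Subgroup ↥K) ≃* QuaternionGroup (2 ^ (n - 1))) := by
  have hidx := h.not_dvd_index_map_Q_subgroupOf K hKi hQK
  obtain ⟨Qt, hQt⟩ : ∃ Qt : Subgroup G, Qt = h.Q.map (S : Subgroup G).subtype := ⟨_, rfl⟩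
  have hcQt : Nat.card Qt = 2 ^ (n + 1) := by rw [hQt]; exact h.card_map_Q
  have eQt : ↥Qt ≃* ↥h.Q := by
    rw [hQt]
    exact (h.Q.equivMapOfInjective (S : Subgroup G).subtype (subtype_injective _)).symm
  rw [← hQt] at hQK hidx
  have hc0 : Nat.card (Qt.subgroupOf K) = 2 ^ (n + 1) := by
    rw [Nat.card_congr (subgroupOfEquivOfLe hQK).toEquiv]; exact hcQt
  have hp0 : IsPGroup 2 (Qt.subgroupOf K) := IsPGroup.of_card hc0
  obtain ⟨P₀, hP₀⟩ : ∃ P₀ : Sylow 2 ↥K, (P₀ : Subgroup ↥K) = Qt.subgroupOf K :=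
    ⟨hp0.toSylow hidx, hp0.toSylow_coe hidx⟩
  obtain ⟨e⟩ := h.nonempty_Q_equiv
  have e1 : ↥(P : Subgroup ↥K) ≃* ↥(P₀ : Subgroup ↥K) := Sylow.equiv P P₀
  have e2 : ↥(P₀ : Subgroup ↥K) ≃* ↥(Qt.subgroupOf K) := MulEquiv.subgroupCongr hP₀
  exact ⟨((e1.trans e2).trans (subgroupOfEquivOfLe hQK)).trans (eQt.trans e)⟩

/-- An element of `N_G(V_d)` inducing an automorphism of order three moves `x^(2^(n-1))` out of
the base group. -/
theorem conj_out_of_B (d : ℤ)
    (g : normalizer (((h.W (n - 1) d).map (S : Subgroup G).subtype : Subgroup G) : Set G))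
    (hne : ((h.W (n - 1) d).map (S : Subgroup G).subtype).normalizerMonoidHom g ≠ 1)
    (hg3 : (((h.W (n - 1) d).map (S : Subgroup G).subtype).normalizerMonoidHom g) ^ 3 = 1) :
    ∃ w : ↥(S : Subgroup G), w ∉ h.B ∧
      (g : G) * ((h.b ((2 : ℤ) ^ (n - 1)) 0 : ↥(S : Subgroup G)) : G) * (g : G)⁻¹ = (w : G) := by
  obtain ⟨φ, hφ⟩ : ∃ φ : MulAut ↥((h.W (n - 1) d).map (S : Subgroup G).subtype),
    φ = ((h.W (n - 1) d).map (S : Subgroup G).subtype).normalizerMonoidHom g := ⟨_, rfl⟩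
  rw [← hφ] at hne hg3
  obtain ⟨tW, htW⟩ : ∃ tW : h.W (n - 1) d,
    tW = ⟨h.b ((2 : ℤ) ^ (n - 1)) 0, h.v_mem_W h.pred_le d⟩ := ⟨_, rfl⟩
  have hq := QZ.of_equiv (h.eW d) (h.qz_W d)
  rw [← htW] at hq
  have hc : IsCyclic (center ↥((h.W (n - 1) d).map (S : Subgroup G).subtype)) :=
    (centerCongr (h.eW d)).isCyclic.mpr (h.isCyclic_center_W d)
  have h2 : IsPGroup 2 (center ↥((h.W (n - 1) d).map (S : Subgroup G).subtype)) :=
    (h.isPGroup_center_W d).of_equiv (centerCongr (h.eW d)).symm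
  refine ⟨((h.eW d (φ ((h.eW d).symm tW)) : h.W (n - 1) d) : ↥(S : Subgroup G)), ?_, ?_⟩
  · intro hB
    have hB' := h.W_base_cases d _ hB
    have hnc := h.t_not_mem_center_W d
    rw [← htW] at hB' hnc
    rcases hB' with h1 | h1
    · have h4 : φ ((h.eW d).symm tW) ∈ center ↥((h.W (n - 1) d).map (S : Subgroup G).subtype) := by
        rw [mem_center_equiv (h.eW d)]; exact h1
      have h5 := aut_mem_center φ⁻¹ _ h4
      rw [MulAut.inv_apply_self, mem_center_equiv (h.eW d), MulEquiv.apply_symm_apply] at h5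
      exact hnc h5
    · apply hne
      apply hq.eq_one_of_fix hc h2 φ 3 (by decide) hg3
      rw [mem_center_equiv (h.eW d), map_mul, map_inv, MulEquiv.apply_symm_apply]
      exact h1
  · rw [h.coe_eW, hφ, normalizerMonoidHom_apply_apply_coe, h.coe_eW_symm, htW]

/-- If `3` divides `|N_G(V) : V C_G(V)|` then every subgroup of index two of a normal subgroup
`K` of index `2^n` contains `Q ∩ K`. -/
theorem map_Q_subgroupOf_le_of_index_two (c₀ : ℤ)
    (h3 : 3 ∣ ((h.W (n - 1) (2 * c₀)).map (S : Subgroup G).subtype ⊔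
      centralizer (((h.W (n - 1) (2 * c₀)).map (S : Subgroup G).subtype : Subgroup G) : Set G)).relIndex
      (normalizer (((h.W (n - 1) (2 * c₀)).map (S : Subgroup G).subtype : Subgroup G) : Set G)))
    (K : Subgroup G) (hKn : K.Normal) (hKi : K.index = 2 ^ n)
    (H : Subgroup ↥K) (hH : H.index = 2) :
    (h.Q.map (S : Subgroup G).subtype).subgroupOf K ≤ H := by
  have hHn : H.Normal := Subgroup.normal_of_index_eq_two hH
  have hodd : ∀ k : G, Odd (orderOf k) → ∃ hk : k ∈ K, (⟨k, hk⟩ : ↥K) ∈ H := by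
    intro k hk
    have hkK := mem_of_odd_orderOf K n hKi k hk
    refine ⟨hkK, mem_of_odd_orderOf H 1 (by rw [hH, pow_one]) _ ?_⟩
    rw [Subgroup.orderOf_mk]; exact hk
  have h3' := h3.trans (relIndex_dvd_of_le_left _ le_sup_right)
  obtain ⟨g, hne, hg3⟩ := exists_aut_order_three _ h3'
  obtain ⟨a, r, hr, hor⟩ := Nat.exists_eq_two_pow_mul_odd (orderOf_pos (g : G)).ne'
  obtain ⟨k, hk⟩ : ∃ k, 4 ^ a = 3 * k + 1 := by
    have : 4 ^ a % 3 = 1 := by rw [Nat.pow_mod]; simp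
    exact ⟨4 ^ a / 3, by omega⟩
  obtain ⟨ω, hω⟩ : ∃ ω : normalizer
    (((h.W (n - 1) (2 * c₀)).map (S : Subgroup G).subtype : Subgroup G) : Set G),
      ω = g ^ (4 ^ a) := ⟨_, rfl⟩
  have hφ : ((h.W (n - 1) (2 * c₀)).map (S : Subgroup G).subtype).normalizerMonoidHom ω =
      ((h.W (n - 1) (2 * c₀)).map (S : Subgroup G).subtype).normalizerMonoidHom g := by
    rw [hω, map_pow, hk, pow_succ, pow_mul, hg3, one_pow, one_mul]
  have hωodd : Odd (orderOf (ω : G)) := by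
    have h1 : (ω : G) ^ r = 1 := by
      rw [hω, Subgroup.coe_pow, ← pow_mul]
      have e : 4 ^ a * r = (2 ^ a * r) * 2 ^ a := by
        rw [show (4 : ℕ) = 2 * 2 from rfl, mul_pow]; ring
      rw [e, pow_mul, ← hor, pow_orderOf_eq_one, one_pow]
    exact Odd.of_dvd_nat hr (orderOf_dvd_of_pow_eq_one h1)
  rw [← hφ] at hne hg3
  obtain ⟨w, hwB, hw⟩ := h.conj_out_of_B (2 * c₀) ω hne hg3
  have ow : orderOf w = 2 := by
    rw [← Subgroup.orderOf_coe, ← hw]
    have e : (ω : G) * ((h.b ((2 : ℤ) ^ (n - 1)) 0 : ↥(S : Subgroup G)) : G) * (ω : G)⁻¹ =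
        MulAut.conj (ω : G) ((h.b ((2 : ℤ) ^ (n - 1)) 0 : ↥(S : Subgroup G)) : G) := by simp
    rw [e, MulEquiv.orderOf_eq, Subgroup.orderOf_coe]
    exact (orderOf_two_iff' _).mpr ⟨h.b_half_zero_ne_one, h.half_sq _ _ (dvd_refl _) (dvd_zero _)⟩
  obtain ⟨i, hi⟩ := h.exists_r_of_inv w ow hwB
  obtain ⟨L, hL⟩ : ∃ L : Subgroup G, L = (H.map K.subtype).normalCore := ⟨_, rfl⟩
  have hLn : L.Normal := by rw [hL]; infer_instance
  have hmemL : ∀ k : G, Odd (orderOf k) → k ∈ L := by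
    intro k hk
    rw [hL]
    intro b
    obtain ⟨hbK, hbH⟩ := hodd (b * k * b⁻¹) (by
      have e : b * k * b⁻¹ = MulAut.conj b k := by simp
      rw [e, MulEquiv.orderOf_eq]; exact hk)
    exact ⟨⟨_, hbK⟩, hbH, rfl⟩
  have hrL : ((h.b (i + (2 : ℤ) ^ (n - 1)) (-i) * z : ↥(S : Subgroup G)) : G) ∈ L := by
    rw [← hi, Subgroup.coe_mul, Subgroup.coe_inv, ← hw]
    obtain ⟨τ, hτ⟩ : ∃ τ : G, τ = ((h.b ((2 : ℤ) ^ (n - 1)) 0 : ↥(S : Subgroup G)) : G) := ⟨_, rfl⟩
    rw [← hτ]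
    have e : τ⁻¹ * ((ω : G) * τ * (ω : G)⁻¹) = (τ⁻¹ * (ω : G) * τ⁻¹⁻¹) * (ω : G)⁻¹ := by group
    rw [e]
    exact L.mul_mem (hLn.conj_mem _ (hmemL _ hωodd) _) (L.inv_mem (hmemL _ hωodd))
  have hQL : h.Q ≤ L.subgroupOf (S : Subgroup G) :=
    h.Q_le_of_normal (L.subgroupOf (S : Subgroup G)) (hLn.subgroupOf _) i (mem_subgroupOf.mpr hrL)
  intro q hq
  rw [mem_subgroupOf] at hq
  obtain ⟨q₀, hq₀, hq₀e⟩ := hq
  have h1 : (q₀ : G) ∈ L := hQL hq₀
  rw [hL] at h1
  obtain ⟨q', hq', hq'e⟩ := Subgroup.normalCore_le _ h1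
  have : q' = q := Subtype.ext (hq'e.trans hq₀e)
  exact this ▸ hq'

/-- Conjugations along a chain fix the elements of `Z(S)`. -/
theorem reach_fix_center {A : Set G} {g : G}
    (hr : Reach ({(S : Subgroup G)} ∪
      Set.range (fun c : ℤ => (h.W (n - 1) (2 * c)).map (S : Subgroup G).subtype)) A g) :
    ∀ a ∈ A, a ∈ (center ↥(S : Subgroup G)).map (S : Subgroup G).subtype → g⁻¹ * a * g = a := by
  induction hr with
  | nil A => intro a _ _; simp
  | cons A T x g hT hx hAT _ ih =>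
    intro a ha haZ
    have hstep : x⁻¹ * a * x = a := by
      rcases hT with hT | ⟨c, hT⟩
      · have hT' : T = (S : Subgroup G) := hT
        rw [hT'] at hx
        obtain ⟨c, hc, s, hs, rfl⟩ := h.normalizer_S_factor x hx
        have haS : a ∈ (S : Subgroup G) := map_subtype_le _ haZ
        have hca := conj_eq_of_mem_centralizer hc haS
        have hsa := conj_eq_of_mem_centralizer (coe_mem_centralizer_center s hs) haZ
        calc (c * s)⁻¹ * a * (c * s) = s⁻¹ * (c⁻¹ * a * c) * s := by group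
          _ = a := by rw [hca, hsa]
      · rw [← hT] at hx
        exact conj_eq_of_mem_centralizer (h.normalizer_map_W_le_centralizer_center c hx) haZ
    have h2 := ih (x⁻¹ * a * x) (conj_mem_rc ha) (by rw [hstep]; exact haZ)
    calc (x * g)⁻¹ * a * (x * g) = g⁻¹ * (x⁻¹ * a * x) * g := by group
      _ = x⁻¹ * a * x := h2
      _ = a := hstep

/-- `S` controls fusion of elements of its centre. -/
theorem conj_center_eq_of_mem
    (hU : ∃ k : ℕ,
      (centralizer ((h.B.map (S : Subgroup G).subtype : Subgroup G) : Set G)).relIndex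
        (normalizer ((h.B.map (S : Subgroup G).subtype : Subgroup G) : Set G)) = 2 ^ k)
    (a : G) (ha : a ∈ (center ↥(S : Subgroup G)).map (S : Subgroup G).subtype) (g : G)
    (hg : g⁻¹ * a * g ∈ (S : Subgroup G)) : g⁻¹ * a * g = a := by
  have hA : ({a} : Set G) ⊆ (S : Subgroup G) := by
    rintro _ rfl; exact map_subtype_le _ ha
  have hAg : rc g ({a} : Set G) ⊆ (S : Subgroup G) := by
    rintro _ ⟨_, rfl, rfl⟩; exact hg
  obtain ⟨g', hr, he⟩ := h.creach_wreathed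
    (Set.range (fun c : ℤ => (h.W (n - 1) (2 * c)).map (S : Subgroup G).subtype))
    (Or.inr hU) (fun c => Or.inl ⟨c, rfl⟩) _ g hA hAg
  rw [← he a rfl]
  exact h.reach_fix_center hr a rfl ha

/-- Every subgroup of `Z(S)` is weakly closed in `S`. -/
theorem weaklyClosed_of_le_center
    (hU : ∃ k : ℕ,
      (centralizer ((h.B.map (S : Subgroup G).subtype : Subgroup G) : Set G)).relIndex
        (normalizer ((h.B.map (S : Subgroup G).subtype : Subgroup G) : Set G)) = 2 ^ k)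
    (Z₀ : Subgroup G) (hZ₀ : Z₀ ≤ (center ↥(S : Subgroup G)).map (S : Subgroup G).subtype) :
    Z₀ ≤ (S : Subgroup G) ∧ ∀ g : G, Z₀.map (MulAut.conj g).toMonoidHom ≤ (S : Subgroup G) →
      Z₀.map (MulAut.conj g).toMonoidHom = Z₀ := by
  refine ⟨hZ₀.trans (map_subtype_le _), fun g hg => ?_⟩
  have hfix : ∀ a ∈ Z₀, g * a * g⁻¹ = a := by
    intro a ha
    have h1 : g * a * g⁻¹ ∈ (S : Subgroup G) := hg ⟨a, ha, by simp⟩
    have := h.conj_center_eq_of_mem hU a (hZ₀ ha) g⁻¹ (by simpa using h1)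
    simpa using this
  ext b
  constructor
  · rintro ⟨a, ha, rfl⟩
    show (MulAut.conj g) a ∈ Z₀
    rw [MulAut.conj_apply, hfix a ha]; exact ha
  · intro hb
    exact ⟨b, hb, by simp [hfix b hb]⟩

/-- In the quaternion case there are exactly two classes of involutions. -/
theorem card_involution_classes_Q
    (hU : ∃ k : ℕ,
      (centralizer ((h.B.map (S : Subgroup G).subtype : Subgroup G) : Set G)).relIndex
        (normalizer ((h.B.map (S : Subgroup G).subtype : Subgroup G) : Set G)) = 2 ^ k)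
    (c₀ : ℤ)
    (h3 : 3 ∣ ((h.W (n - 1) (2 * c₀)).map (S : Subgroup G).subtype ⊔
      centralizer (((h.W (n - 1) (2 * c₀)).map (S : Subgroup G).subtype : Subgroup G) : Set G)).relIndex
      (normalizer (((h.W (n - 1) (2 * c₀)).map (S : Subgroup G).subtype : Subgroup G) : Set G))) :
    Nat.card {C : ConjClasses G // ∃ t : G, orderOf t = 2 ∧ ConjClasses.mk t = C} = 2 := by
  have hBn : h.B.Normal := h.B_normal
  obtain ⟨t₁, ht₁⟩ : ∃ t₁ : G, t₁ = ((h.b ((2 : ℤ) ^ (n - 1)) 0 : ↥(S : Subgroup G)) : G) := ⟨_, rfl⟩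
  obtain ⟨e, he⟩ : ∃ e : G,
    e = ((h.b ((2 : ℤ) ^ (n - 1)) ((2 : ℤ) ^ (n - 1)) : ↥(S : Subgroup G)) : G) := ⟨_, rfl⟩
  have ot₁ : orderOf t₁ = 2 := by
    rw [ht₁, Subgroup.orderOf_coe, orderOf_two_iff']
    exact ⟨h.b_half_zero_ne_one, h.half_sq _ _ (dvd_refl _) (dvd_zero _)⟩
  have oe : orderOf e = 2 := by
    rw [he, Subgroup.orderOf_coe]; exact h.orderOf_e
  have oz : orderOf (z : G) = 2 := by
    rw [Subgroup.orderOf_coe]; exact h.oz
  -- `t₁` is conjugate to `z`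
  obtain ⟨k₁, hk₁⟩ : ∃ k₁ : G, k₁ * t₁ * k₁⁻¹ = (z : G) := by
    obtain ⟨g, w, hwB, hw⟩ := h.exists_conj_out_of_B (2 * c₀) h3
    rw [← ht₁] at hw
    have ow : orderOf w = 2 := by
      rw [← Subgroup.orderOf_coe, ← hw]
      have e' : g * t₁ * g⁻¹ = MulAut.conj g t₁ := by simp
      rw [e', MulEquiv.orderOf_eq]; exact ot₁
    obtain ⟨k, hk⟩ := h.inv_conj_cases w ow
    have hnB : k * w * k⁻¹ ∉ h.B := by
      intro hi
      apply hwB
      have := hBn.conj_mem _ hi k⁻¹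
      have e' : k⁻¹ * (k * w * k⁻¹) * k⁻¹⁻¹ = w := by group
      rwa [e'] at this
    rcases hk with hk | hk | hk
    · exact absurd (hk ▸ h.b_mem_B _ _) hnB
    · exact absurd (hk ▸ h.b_mem_B _ _) hnB
    · refine ⟨(k : G) * g, ?_⟩
      have hk' : (k : G) * (w : G) * (k : G)⁻¹ = (z : G) := by
        rw [← hk]; rfl
      rw [← hk', ← hw]; group
  have hset : {C : ConjClasses G | ∃ t : G, orderOf t = 2 ∧ ConjClasses.mk t = C} =
      {ConjClasses.mk e, ConjClasses.mk (z : G)} := by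
    ext C
    simp only [Set.mem_ofPred_eq, Set.mem_insert_iff, Set.mem_singleton_iff]
    constructor
    · rintro ⟨t, ht, rfl⟩
      obtain ⟨k, hk | hk | hk⟩ := h.inv_conj_cases_G t ht
      · right
        rw [ConjClasses.mk_eq_mk_iff_isConj, isConj_iff]
        refine ⟨k₁ * k, ?_⟩
        rw [← ht₁] at hk
        calc k₁ * k * t * (k₁ * k)⁻¹ = k₁ * (k * t * k⁻¹) * k₁⁻¹ := by group
          _ = (z : G) := by rw [hk, hk₁]
      · left; rw [ConjClasses.mk_eq_mk_iff_isConj, isConj_iff]; exact ⟨k, by rw [hk, he]⟩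
      · right
        rw [ConjClasses.mk_eq_mk_iff_isConj, isConj_iff]; exact ⟨k, hk⟩
    · rintro (rfl | rfl)
      · exact ⟨_, oe, rfl⟩
      · exact ⟨_, oz, rfl⟩
  have h12 : ConjClasses.mk e ≠ ConjClasses.mk (z : G) := by
    rw [Ne, ConjClasses.mk_eq_mk_iff_isConj, isConj_iff]
    rintro ⟨c, hc⟩
    have heZ : e ∈ (center ↥(S : Subgroup G)).map (S : Subgroup G).subtype :=
      ⟨_, h.e_mem_center, he.symm⟩
    have h1 := h.conj_center_eq_of_mem hU e heZ c⁻¹ (by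
      have : c⁻¹⁻¹ * e * c⁻¹ = (z : G) := by rw [← hc]; group
      rw [this]; exact z.2)
    have h2 : (z : G) = e := by
      rw [← hc]
      rw [inv_inv] at h1
      exact h1
    have h3 : z = h.b ((2 : ℤ) ^ (n - 1)) ((2 : ℤ) ^ (n - 1)) := Subtype.ext (h2.trans he)
    have hzB : h.b ((2 : ℤ) ^ (n - 1)) ((2 : ℤ) ^ (n - 1)) ∈ h.B := h.b_mem_B _ _
    rw [← h3] at hzB
    exact h.z_not_mem_B hzB
  show Nat.card ↥{C : ConjClasses G | ∃ t : G, orderOf t = 2 ∧ ConjClasses.mk t = C} = 2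
  rw [hset, Nat.card_coe_set_eq, Set.ncard_eq_two]
  exact ⟨_, _, h12, rfl⟩

end WrData

end Cfsg.Agent.Lib.Helper90
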