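import Mathlib
import Cfsg.Agent.Lib.Helper90.WreathedQFusion
import Cfsg.Agent.Lib.Helper90.WreathedEquiv

set_option autoImplicit false

namespace Cfsg.Agent.Lib.Helper90

open Subgroup Cfsg.Agent.Lib.Helper33 Cfsg.Agent.Lib.Helper2

/-- A normal subgroup of index `2^j`, `j ≥ 1`, gives a subgroup of index two. -/
theorem exists_index_two_of_normal_two_pow {G : Type*} [Group G] [Finite G] (K : Subgroup G)
    [K.Normal] (j : ℕ) (hj : 1 ≤ j) (hKi : K.index = 2 ^ j) : ∃ H : Subgroup G, H.index = 2 := by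
  have : Fact (Nat.Prime 2) := ⟨Nat.prime_two⟩
  have hc : Nat.card (G ⧸ K) = 2 ^ j := by rw [← Subgroup.index_eq_card, hKi]
  obtain ⟨H', hH'⟩ := Sylow.exists_subgroup_card_pow_prime 2 (n := j - 1) (G := G ⧸ K)
    (by rw [hc]; exact pow_dvd_pow 2 (by omega))
  have hi : H'.index = 2 := by
    have h1 := Subgroup.card_mul_index H'
    rw [hH', hc] at h1
    have e : (2 : ℕ) ^ j = 2 ^ (j - 1) * 2 := by
      rw [← pow_succ]; congr 1; omega
    rw [e] at h1
    exact Nat.eq_of_mul_eq_mul_left (by positivity) h1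
  refine ⟨H'.comap (QuotientGroup.mk' K), ?_⟩
  rw [Subgroup.index_comap_of_surjective _ (QuotientGroup.mk'_surjective K)]
  exact hi

namespace WrData

variable {G : Type*} [Group G] [Finite G] {S : Sylow 2 G} {n : ℕ} {x y z : ↥(S : Subgroup G)}
  (h : WrData ↥(S : Subgroup G) n x y z)
include h

/-- `|N_G(V_c) : V_c C_G(V_c)| ∈ {2, 6}`. -/
theorem relIndex_map_W_two_or_six (c : ℤ) :
    ((h.W (n - 1) (2 * c)).map (S : Subgroup G).subtype ⊔
      centralizer (((h.W (n - 1) (2 * c)).map (S : Subgroup G).subtype : Subgroup G) : Set G)).relIndex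
      (normalizer (((h.W (n - 1) (2 * c)).map (S : Subgroup G).subtype : Subgroup G) : Set G)) = 2 ∨
    ((h.W (n - 1) (2 * c)).map (S : Subgroup G).subtype ⊔
      centralizer (((h.W (n - 1) (2 * c)).map (S : Subgroup G).subtype : Subgroup G) : Set G)).relIndex
      (normalizer (((h.W (n - 1) (2 * c)).map (S : Subgroup G).subtype : Subgroup G) : Set G)) = 6 := by
  have H3 := h.not_dvd_relIndex_normalizer_map_W c
  obtain ⟨r, hr, hr2⟩ := exists_relIndex_eq_two_mul_odd (S : Subgroup G) _ _ _ (h.map_W_le _) rfl rfl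
    (h.relIndex_map_W _) (h.inf_centralizer_map_W_le _) H3
  rcases h.odd_dvd_relIndex_map_W _ r hr ⟨2, by rw [hr2]; ring⟩ with h1 | h1
  · left; rw [hr2, h1]
  · right; rw [hr2, h1]

/-- An element of odd order of `N_G(V_c)` acting non-trivially on `V_c` forces
`3 ∣ |N_G(V_c) : V_c C_G(V_c)|`. -/
theorem three_dvd_of_odd_action (c : ℤ) (ω : G)
    (hωN : ω ∈ normalizer (((h.W (n - 1) (2 * c)).map (S : Subgroup G).subtype : Subgroup G) : Set G))
    (hodd : Odd (orderOf ω)) (v : G) (hv : v ∈ (h.W (n - 1) (2 * c)).map (S : Subgroup G).subtype)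
    (hne : ω * v * ω⁻¹ ≠ v) :
    3 ∣ ((h.W (n - 1) (2 * c)).map (S : Subgroup G).subtype ⊔
      centralizer (((h.W (n - 1) (2 * c)).map (S : Subgroup G).subtype : Subgroup G) : Set G)).relIndex
      (normalizer (((h.W (n - 1) (2 * c)).map (S : Subgroup G).subtype : Subgroup G) : Set G)) := by
  rcases h.relIndex_map_W_two_or_six c with h2 | h6
  · exfalso
    obtain ⟨V, hV⟩ : ∃ V : Subgroup G, V = (h.W (n - 1) (2 * c)).map (S : Subgroup G).subtype :=
      ⟨_, rfl⟩
    rw [← hV] at h2 hωN hv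
    have hV2 : IsPGroup 2 ↥V := S.2.to_le (by rw [hV]; exact h.map_W_le _)
    obtain ⟨k, hk⟩ := relIndex_pow_two_of_two V hV2 h2
    rw [← card_range_normalizerMonoidHom'] at hk
    obtain ⟨φ, hφ⟩ : ∃ φ : MulAut ↥V, φ = V.normalizerMonoidHom ⟨ω, hωN⟩ := ⟨_, rfl⟩
    have h1 : φ ^ (2 ^ k) = 1 := by
      have hmem : φ ∈ (V.normalizerMonoidHom).range := ⟨_, hφ.symm⟩
      have h0 : (⟨φ, hmem⟩ : ↥(V.normalizerMonoidHom).range) ^
          Nat.card ↥(V.normalizerMonoidHom).range = 1 := pow_card_eq_one'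
      rw [hk] at h0
      have := congrArg Subtype.val h0
      simpa using this
    have h2' : φ ^ (orderOf ω) = 1 := by
      rw [hφ, ← map_pow]
      have : (⟨ω, hωN⟩ : normalizer (V : Set G)) ^ orderOf ω = 1 :=
        Subtype.ext (by simp [pow_orderOf_eq_one])
      rw [this, map_one]
    have h3 : φ = 1 := by
      have hd1 : orderOf φ ∣ 2 ^ k := orderOf_dvd_of_pow_eq_one h1
      have hd2 : orderOf φ ∣ orderOf ω := orderOf_dvd_of_pow_eq_one h2'
      have hc : Nat.Coprime (2 ^ k) (orderOf ω) := Nat.Coprime.pow_left k hodd.coprime_two_left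
      exact orderOf_eq_one_iff.mp (Nat.eq_one_of_dvd_coprimes hc hd1 hd2)
    apply hne
    have h4 := congrArg (fun ψ : MulAut ↥V => ((ψ ⟨v, hv⟩ : ↥V) : G)) (hφ.symm.trans h3)
    simpa [normalizerMonoidHom_apply_apply_coe] using h4
  · rw [h6]; norm_num

/-- If `3 ∣ |N_G(V_c) : V_c C_G(V_c)|` then some element of odd order of `N_G(V_c)` acts
non-trivially on `V_c`. -/
theorem exists_odd_action (c : ℤ)
    (h3 : 3 ∣ ((h.W (n - 1) (2 * c)).map (S : Subgroup G).subtype ⊔
      centralizer (((h.W (n - 1) (2 * c)).map (S : Subgroup G).subtype : Subgroup G) : Set G)).relIndex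
      (normalizer (((h.W (n - 1) (2 * c)).map (S : Subgroup G).subtype : Subgroup G) : Set G))) :
    ∃ ω : G, ω ∈ normalizer
        (((h.W (n - 1) (2 * c)).map (S : Subgroup G).subtype : Subgroup G) : Set G) ∧
      Odd (orderOf ω) ∧ ∃ v ∈ (h.W (n - 1) (2 * c)).map (S : Subgroup G).subtype,
        ω * v * ω⁻¹ ≠ v := by
  have h3' := h3.trans (relIndex_dvd_of_le_left _ le_sup_right)
  obtain ⟨g, hne, hg3⟩ := exists_aut_order_three _ h3'
  obtain ⟨a, r, hr, hor⟩ := Nat.exists_eq_two_pow_mul_odd (orderOf_pos (g : G)).ne'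
  obtain ⟨k, hk⟩ : ∃ k, 4 ^ a = 3 * k + 1 := by
    have : 4 ^ a % 3 = 1 := by rw [Nat.pow_mod]; simp
    exact ⟨4 ^ a / 3, by omega⟩
  obtain ⟨ω, hω⟩ : ∃ ω : normalizer
    (((h.W (n - 1) (2 * c)).map (S : Subgroup G).subtype : Subgroup G) : Set G),
      ω = g ^ (4 ^ a) := ⟨_, rfl⟩
  have hφ : ((h.W (n - 1) (2 * c)).map (S : Subgroup G).subtype).normalizerMonoidHom ω =
      ((h.W (n - 1) (2 * c)).map (S : Subgroup G).subtype).normalizerMonoidHom g := by
    rw [hω, map_pow, hk, pow_succ, pow_mul, hg3, one_pow, one_mul]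
  have hωodd : Odd (orderOf (ω : G)) := by
    have h1 : (ω : G) ^ r = 1 := by
      rw [hω, Subgroup.coe_pow, ← pow_mul]
      have e : 4 ^ a * r = (2 ^ a * r) * 2 ^ a := by
        rw [show (4 : ℕ) = 2 * 2 from rfl, mul_pow]; ring
      rw [e, pow_mul, ← hor, pow_orderOf_eq_one, one_pow]
    exact Odd.of_dvd_nat hr (orderOf_dvd_of_pow_eq_one h1)
  rw [← hφ] at hne
  refine ⟨ω, ω.2, hωodd, ?_⟩
  by_contra hcon
  push Not at hcon
  apply hne
  ext v
  have := hcon v v.2
  rw [normalizerMonoidHom_apply_apply_coe]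
  simpa using this

end WrData

end Cfsg.Agent.Lib.Helper90
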