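import Mathlib
import Cfsg.Agent.Lib.Helper90.WreathedInvCent
import Cfsg.Agent.S1208
import Cfsg.Agent.S1209
import Cfsg.Agent.S1210
import Cfsg.Agent.S1211
import Cfsg.Agent.S1212

set_option autoImplicit false

namespace Cfsg.Agent.Lib.Helper90

open Subgroup Cfsg.Agent.Lib.Helper33 Cfsg.Agent.Lib.Helper2

namespace WrData

variable {G : Type*} [Group G] [Finite G] {S : Sylow 2 G} {n : ℕ} {x y z : ↥(S : Subgroup G)}
  (h : WrData ↥(S : Subgroup G) n x y z)
include h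

theorem isWreathed : Cfsg.IsWreathed ↥(S : Subgroup G) :=
  ⟨n, h.hn, h.card, x, y, z, h.ox, h.comm, h.disj, h.oz, h.conj⟩

/-- Without subgroups of index two, both local indices are six: some `V_c` has an automorphism
of order three induced from `G`, and all involutions are conjugate. -/
theorem fusion_of_no_index_two (hG : ∀ H : Subgroup G, H.index ≠ 2) :
    (∃ c₀ : ℤ, 3 ∣ ((h.W (n - 1) (2 * c₀)).map (S : Subgroup G).subtype ⊔
      centralizer (((h.W (n - 1) (2 * c₀)).map (S : Subgroup G).subtype : Subgroup G) : Set G)).relIndex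
      (normalizer (((h.W (n - 1) (2 * c₀)).map (S : Subgroup G).subtype : Subgroup G) : Set G))) ∧
    Nat.card {C : ConjClasses G // ∃ t : G, orderOf t = 2 ∧ ConjClasses.mk t = C} = 1 := by
  have hS := h.isWreathed
  obtain ⟨Q₁, ⟨eQ₁⟩, hW⟩ := h.exists_quat_W 0
  obtain ⟨U, hU⟩ : ∃ U : Subgroup G, U = h.B.map (S : Subgroup G).subtype := ⟨_, rfl⟩
  have hUS : U ≤ (S : Subgroup G) := by rw [hU]; exact map_subtype_le _
  have hUab : IsMulCommutative ↥U := by
    refine ⟨⟨fun a b => Subtype.ext ?_⟩⟩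
    have ha : (a : G) ∈ h.B.map (S : Subgroup G).subtype := hU ▸ a.2
    have hb : (b : G) ∈ h.B.map (S : Subgroup G).subtype := hU ▸ b.2
    obtain ⟨a₀, ha₀, hae⟩ := ha
    obtain ⟨b₀, hb₀, hbe⟩ := hb
    have := congrArg (fun s : ↥(S : Subgroup G) => (s : G)) (h.B_comm a₀ b₀ ha₀ hb₀)
    rw [Subgroup.coe_mul, Subgroup.coe_mul, ← hae, ← hbe]
    simpa using this
  have hUcard : Nat.card U = 2 ^ (2 * n) := by
    rw [hU, ← Nat.card_congr (h.B.equivMapOfInjective (S : Subgroup G).subtype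
      (subtype_injective _)).toEquiv, h.card_B]
  obtain ⟨Q, hQ⟩ : ∃ Q : Subgroup G, Q = Q₁.map (S : Subgroup G).subtype := ⟨_, rfl⟩
  have hQS : Q ≤ (S : Subgroup G) := by rw [hQ]; exact map_subtype_le _
  have eQ : ↥Q ≃* QuaternionGroup 2 := by
    rw [hQ]
    exact (Q₁.equivMapOfInjective _ (subtype_injective _)).symm.trans eQ₁
  obtain ⟨c₀, hc⟩ := h.exists_eq_map_W Q hQS eQ
  obtain ⟨h1, h2⟩ := Cfsg.Agent.S1208.result S hS n h.card U hUS hUab hUcard Q hQS eQ
  rcases h1 with h1 | h1 <;> rcases h2 with h2 | h2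
  · exfalso
    obtain ⟨hnc, -⟩ := Cfsg.Agent.S1212.result S hS n h.card U hUS hUab hUcard Q hQS eQ h1 h2
    obtain ⟨N, hN, hc'⟩ := (hasNormalPComplement_iff S).mp hnc
    have hNi : N.index = 2 ^ (2 * n + 1) := by
      rw [← h.card]; exact hc'.symm.index_eq_card
    obtain ⟨H, hH⟩ := exists_index_two_of_normal_two_pow N (2 * n + 1) (by omega) hNi
    exact hG H hH
  · exfalso
    obtain ⟨⟨K, hKn, hKi, -, -⟩, -, -⟩ :=
      Cfsg.Agent.S1210.result S hS n h.card U hUS hUab hUcard Q hQS eQ h1 h2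
    obtain ⟨H, hH⟩ := exists_index_two_of_normal_two_pow K n (by have := h.hn; omega) hKi
    exact hG H hH
  · exfalso
    obtain ⟨⟨K, hKn, hKi, -, -⟩, -⟩ :=
      Cfsg.Agent.S1211.result S hS n h.card U hUS hUab hUcard Q hQS eQ h1 h2
    exact hG K hKi
  · obtain ⟨-, hcl⟩ := Cfsg.Agent.S1209.result S hS n h.card U hUS hUab hUcard Q hQS eQ h1 h2
    refine ⟨⟨c₀, ?_⟩, hcl⟩
    rw [← hc, h2]; norm_num

end WrData

end Cfsg.Agent.Lib.Helper90
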