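import Mathlib
import Cfsg.Agent.Lib.Helper90.WreathedNoIdx
import Cfsg.Agent.Lib.Helper20.ConjMap

set_option autoImplicit false

namespace Cfsg.Agent.Lib.Helper90

open Subgroup Cfsg.Agent.Lib.Helper33 Cfsg.Agent.Lib.Helper2

namespace WrData

variable {G : Type*} [Group G] [Finite G] {S : Sylow 2 G} {n : ℕ} {x y z : ↥(S : Subgroup G)}
  (h : WrData ↥(S : Subgroup G) n x y z)
include h

/-- If the central involution of `S` is central in `G`, then `|N_G(U) : C_G(U)| = 2`. -/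
theorem relIndex_map_B_of_central
    (hcen : ∀ g : G, g * ((h.b ((2 : ℤ) ^ (n - 1)) ((2 : ℤ) ^ (n - 1)) : ↥(S : Subgroup G)) : G) =
      ((h.b ((2 : ℤ) ^ (n - 1)) ((2 : ℤ) ^ (n - 1)) : ↥(S : Subgroup G)) : G) * g) :
    (centralizer ((h.B.map (S : Subgroup G).subtype : Subgroup G) : Set G)).relIndex
      (normalizer ((h.B.map (S : Subgroup G).subtype : Subgroup G) : Set G)) = 2 := by
  obtain ⟨U, hU⟩ : ∃ U : Subgroup G, U = h.B.map (S : Subgroup G).subtype := ⟨_, rfl⟩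
  have hUS : U ≤ (S : Subgroup G) := by rw [hU]; exact map_subtype_le _
  have hUab : IsMulCommutative ↥U := by
    refine ⟨⟨fun a b => Subtype.ext ?_⟩⟩
    have ha : (a : G) ∈ h.B.map (S : Subgroup G).subtype := hU ▸ a.2
    have hb : (b : G) ∈ h.B.map (S : Subgroup G).subtype := hU ▸ b.2
    obtain ⟨a₀, ha₀, hae⟩ := ha
    obtain ⟨b₀, hb₀, hbe⟩ := hb
    have := congrArg (fun s : ↥(S : Subgroup G) => (s : G)) (h.B_comm a₀ b₀ ha₀ hb₀)
    rw [Subgroup.coe_mul, Subgroup.coe_mul, ← hae, ← hbe]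
    simpa using this
  have hUcard : Nat.card U = 2 ^ (2 * n) := by
    rw [hU, ← Nat.card_congr (h.B.equivMapOfInjective (S : Subgroup G).subtype
      (subtype_injective _)).toEquiv, h.card_B]
  rw [← hU]
  rcases h.relIndex_U U hUS hUab hUcard with h2 | h6
  · exact h2
  · exfalso
    have h3U' := ThreeInv.of_equiv
      (h.B.equivMapOfInjective (S : Subgroup G).subtype (Subgroup.subtype_injective _)).symm
      h.threeInv_B
    obtain ⟨tU, uU, h3U⟩ : ∃ tU uU : ↥U, ThreeInv ↥U tU uU := by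
      subst hU
      exact ⟨_, _, h3U'⟩
    obtain ⟨g, hgne, hg3⟩ := exists_aut_order_three U (by rw [h6]; norm_num)
    obtain ⟨t₁, ht₁⟩ : ∃ t₁ : G, t₁ = ((h.b ((2 : ℤ) ^ (n - 1)) 0 : ↥(S : Subgroup G)) : G) :=
      ⟨_, rfl⟩
    obtain ⟨e, he⟩ : ∃ e : G,
      e = ((h.b ((2 : ℤ) ^ (n - 1)) ((2 : ℤ) ^ (n - 1)) : ↥(S : Subgroup G)) : G) := ⟨_, rfl⟩
    have ht₁U : t₁ ∈ U := by rw [hU]; exact ⟨_, h.b_mem_B _ _, ht₁.symm⟩
    have heU : e ∈ U := by rw [hU]; exact ⟨_, h.b_mem_B _ _, he.symm⟩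
    have ot₁ : orderOf t₁ = 2 := by
      rw [ht₁, Subgroup.orderOf_coe, orderOf_two_iff']
      exact ⟨h.b_half_zero_ne_one, h.half_sq _ _ (dvd_refl _) (dvd_zero _)⟩
    have oe : orderOf e = 2 := by
      rw [he, Subgroup.orderOf_coe]; exact h.orderOf_e
    obtain ⟨k₁, _, hk₁⟩ := h3U.exists_conj g hgne hg3 e t₁ heU ht₁U oe ot₁
    rw [← he] at hcen
    have h1 : t₁ = e := by
      rw [← hk₁, hcen k₁]; group
    have h2 : h.b ((2 : ℤ) ^ (n - 1)) 0 = h.b ((2 : ℤ) ^ (n - 1)) ((2 : ℤ) ^ (n - 1)) :=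
      Subtype.ext (by rw [← ht₁, ← he]; exact h1)
    rw [h.b_eq_b_iff] at h2
    have := h2.2
    rw [zero_sub, dvd_neg] at this
    exact h.not_dvd_half this

/-- The centralizer of the central involution of `S` in a group without subgroups of index two. -/
theorem centralizer_central_involution (hG : ∀ H : Subgroup G, H.index ≠ 2) (t : G)
    (ht : t = ((h.b ((2 : ℤ) ^ (n - 1)) ((2 : ℤ) ^ (n - 1)) : ↥(S : Subgroup G)) : G)) :
    ∃ R : Sylow 2 ↥(centralizer ({t} : Set G)), Nat.card R = Nat.card S ∧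
      (∃ K : Subgroup ↥(centralizer ({t} : Set G)), K.Normal ∧ (∃ a : ℕ, K.index = 2 ^ a) ∧
        (∀ H : Subgroup ↥K, H.index ≠ 2) ∧
        (∀ P : Sylow 2 ↥K, ∃ m : ℕ, 1 ≤ m ∧
          Nonempty ((P : Subgroup ↥K) ≃* QuaternionGroup (2 ^ m)))) ∧
      (∀ Z₀ : Subgroup ↥(centralizer ({t} : Set G)),
        Z₀ ≤ ((center (R : Subgroup ↥(centralizer ({t} : Set G)))).map
          (R : Subgroup ↥(centralizer ({t} : Set G))).subtype) →
        Z₀ ≤ (R : Subgroup ↥(centralizer ({t} : Set G))) ∧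
          ∀ g : ↥(centralizer ({t} : Set G)), Z₀.map (MulAut.conj g).toMonoidHom ≤
            (R : Subgroup ↥(centralizer ({t} : Set G))) →
            Z₀.map (MulAut.conj g).toMonoidHom = Z₀) := by
  obtain ⟨⟨c₀, h3⟩, -⟩ := h.fusion_of_no_index_two hG
  obtain ⟨ω, hωN, hωodd, v, hv, hne⟩ := h.exists_odd_action c₀ h3
  have htZ : t ∈ (center ↥(S : Subgroup G)).map (S : Subgroup G).subtype :=
    ⟨_, h.e_mem_center, ht.symm⟩
  have hmemC : ∀ g : G, g ∈ centralizer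
      (((center ↥(S : Subgroup G)).map (S : Subgroup G).subtype : Subgroup G) : Set G) →
      g ∈ centralizer ({t} : Set G) := by
    intro g hg
    rw [mem_centralizer_iff]
    intro u hu
    rw [Set.mem_singleton_iff] at hu
    rw [hu]
    exact (mem_centralizer_iff.mp hg) t htZ
  have hcenC : ∀ c : ↥(centralizer ({t} : Set G)), (c : G) * t = t * (c : G) := by
    intro c
    exact ((mem_centralizer_iff.mp c.2) t rfl).symm
  generalize hC : centralizer ({t} : Set G) = C at hmemC hcenC ⊢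
  have hle : (S : Subgroup G) ≤ C := fun s hs => hmemC s (coe_mem_centralizer_center s hs)
  have hωC : ω ∈ C := hmemC ω (h.normalizer_map_W_le_centralizer_center c₀ hωN)
  obtain ⟨R, hR⟩ : ∃ R : Sylow 2 ↥C, R = S.subtype hle := ⟨_, rfl⟩
  have hRcoe : (R : Subgroup ↥C) = (S : Subgroup G).subgroupOf C := by
    rw [hR]; exact Sylow.coe_subtype _ _
  obtain ⟨e₂, he₂⟩ : ∃ e₂ : ↥(S : Subgroup G) ≃* ↥(R : Subgroup ↥C),
      ∀ s, (((e₂ s : ↥(R : Subgroup ↥C)) : ↥C) : G) = (s : G) :=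
    ⟨(subgroupOfEquivOfLe hle).symm.trans (MulEquiv.subgroupCongr hRcoe.symm), fun s => rfl⟩
  have h' := h.of_equiv e₂
  have hbridge : ∀ (d : ℤ) (a' : ↥C),
      a' ∈ (h'.W (n - 1) d).map (R : Subgroup ↥C).subtype ↔
        (a' : G) ∈ (h.W (n - 1) d).map (S : Subgroup G).subtype := by
    intro d a'
    constructor
    · rintro ⟨r, hr, rfl⟩
      refine ⟨e₂.symm r, ?_, ?_⟩
      · show e₂.symm r ∈ h.W (n - 1) d
        rw [← h.mem_of_equiv_W e₂, e₂.apply_symm_apply]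
        exact hr
      · have := he₂ (e₂.symm r)
        rw [e₂.apply_symm_apply] at this
        exact this.symm
    · rintro ⟨s, hs, hse⟩
      refine ⟨e₂ s, (h.mem_of_equiv_W e₂ _ d s).mpr hs, ?_⟩
      apply Subtype.ext
      rw [← hse]
      exact he₂ s
  -- the element of odd order inside `C`
  obtain ⟨ω', hω'⟩ : ∃ ω' : ↥C, ω' = ⟨ω, hωC⟩ := ⟨_, rfl⟩
  have hω'N : ω' ∈ normalizer
      (((h'.W (n - 1) (2 * c₀)).map (R : Subgroup ↥C).subtype : Subgroup ↥C) : Set ↥C) := by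
    rw [mem_normalizer_iff]
    intro a'
    rw [hbridge, hbridge, hω']
    exact mem_normalizer_iff.mp hωN (a' : G)
  have hodd' : Odd (orderOf ω') := by
    rw [hω', Subgroup.orderOf_mk]; exact hωodd
  obtain ⟨v', hv'⟩ : ∃ v' : ↥C, v' = ⟨v, hle (h.map_W_le _ hv)⟩ := ⟨_, rfl⟩
  have hv'V : v' ∈ (h'.W (n - 1) (2 * c₀)).map (R : Subgroup ↥C).subtype := by
    rw [hbridge, hv']; exact hv
  have hne' : ω' * v' * ω'⁻¹ ≠ v' := by
    intro he
    apply hne
    have := congrArg (fun c : ↥C => (c : G)) he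
    rw [hω', hv'] at this
    exact this
  have h3' := h'.three_dvd_of_odd_action c₀ ω' hω'N hodd' v' hv'V hne'
  -- the central involution of `R` is central in `C`
  have hcen' : ∀ g : ↥C,
      g * ((h'.b ((2 : ℤ) ^ (n - 1)) ((2 : ℤ) ^ (n - 1)) : ↥(R : Subgroup ↥C)) : ↥C) =
      ((h'.b ((2 : ℤ) ^ (n - 1)) ((2 : ℤ) ^ (n - 1)) : ↥(R : Subgroup ↥C)) : ↥C) * g := by
    intro g
    apply Subtype.ext
    rw [Subgroup.coe_mul, Subgroup.coe_mul, h.of_equiv_b e₂, he₂, ← ht]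
    exact hcenC g
  have hU2' : ∃ k : ℕ,
      (centralizer ((h'.B.map (R : Subgroup ↥C).subtype : Subgroup ↥C) : Set ↥C)).relIndex
        (normalizer ((h'.B.map (R : Subgroup ↥C).subtype : Subgroup ↥C) : Set ↥C)) = 2 ^ k :=
    ⟨1, by rw [h'.relIndex_map_B_of_central hcen', pow_one]⟩
  obtain ⟨K, hKn, hKi, hQK, -⟩ := h'.exists_normal_Q hU2'
  refine ⟨R, ?_, ⟨K, hKn, ⟨n, hKi⟩, ?_, ?_⟩, ?_⟩
  · exact (Nat.card_congr e₂.toEquiv).symm
  · intro H hH
    have h1 := h'.map_Q_subgroupOf_le_of_index_two c₀ h3' K hKn hKi H hH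
    have h2 := Subgroup.index_dvd_of_le h1
    rw [hH] at h2
    exact h'.not_dvd_index_map_Q_subgroupOf K hKi hQK h2
  · intro P
    have hm2 := h.hn
    exact ⟨n - 1, by omega, h'.sylow_equiv_quaternion K hKi hQK P⟩
  · intro Z₀ hZ₀
    exact h'.weaklyClosed_of_le_center hU2' Z₀ hZ₀

end WrData

/-- The wreathed half of the theorem on centralizers of involutions in groups with quasi-dihedral
or wreathed Sylow 2-subgroups and no subgroup of index two. -/
theorem wreathed_centralizer_involution {G : Type*} [Group G] [Finite G] (S : Sylow 2 G)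
    (hS : Cfsg.IsWreathed ↥(S : Subgroup G)) (hG : ∀ H : Subgroup G, H.index ≠ 2) (t : G)
    (ht : orderOf t = 2) :
    ∃ R : Sylow 2 ↥(centralizer ({t} : Set G)), Nat.card R = Nat.card S ∧
      (∃ K : Subgroup ↥(centralizer ({t} : Set G)), K.Normal ∧ (∃ a : ℕ, K.index = 2 ^ a) ∧
        (∀ H : Subgroup ↥K, H.index ≠ 2) ∧
        (∀ P : Sylow 2 ↥K, ∃ m : ℕ, 1 ≤ m ∧
          Nonempty ((P : Subgroup ↥K) ≃* QuaternionGroup (2 ^ m)))) ∧
      (∀ Z₀ : Subgroup ↥(centralizer ({t} : Set G)),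
        Z₀ ≤ ((center (R : Subgroup ↥(centralizer ({t} : Set G)))).map
          (R : Subgroup ↥(centralizer ({t} : Set G))).subtype) →
        Cfsg.IsWeaklyClosed Z₀ (R : Subgroup ↥(centralizer ({t} : Set G)))) := by
  obtain ⟨n, x, y, z, h⟩ := exists_wrData hS
  obtain ⟨-, hcl⟩ := h.fusion_of_no_index_two hG
  obtain ⟨e, he⟩ : ∃ e : G,
    e = ((h.b ((2 : ℤ) ^ (n - 1)) ((2 : ℤ) ^ (n - 1)) : ↥(S : Subgroup G)) : G) := ⟨_, rfl⟩
  have oe : orderOf e = 2 := by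
    rw [he, Subgroup.orderOf_coe]; exact h.orderOf_e
  obtain ⟨g, hg⟩ : ∃ g : G, g * e * g⁻¹ = t := by
    have hsub : Subsingleton
        {C : ConjClasses G // ∃ t : G, orderOf t = 2 ∧ ConjClasses.mk t = C} :=
      (Nat.card_eq_one_iff_unique.mp hcl).1
    have h1 := Subsingleton.elim
      (⟨ConjClasses.mk e, e, oe, rfl⟩ :
        {C : ConjClasses G // ∃ t : G, orderOf t = 2 ∧ ConjClasses.mk t = C})
      ⟨ConjClasses.mk t, t, ht, rfl⟩
    have h2 := congrArg Subtype.val h1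
    rw [ConjClasses.mk_eq_mk_iff_isConj, isConj_iff] at h2
    exact h2
  obtain ⟨S', hS'⟩ : ∃ S' : Sylow 2 G, S' = g • S := ⟨_, rfl⟩
  have hS'coe : (S' : Subgroup G) = (S : Subgroup G).map (MulAut.conj g).toMonoidHom := by
    rw [hS']; exact Cfsg.Agent.Lib.Helper20.sylow_smul_coe S g
  obtain ⟨e₁, he₁⟩ : ∃ e₁ : ↥(S : Subgroup G) ≃* ↥(S' : Subgroup G),
      ∀ s, ((e₁ s : ↥(S' : Subgroup G)) : G) = g * (s : G) * g⁻¹ :=
    ⟨((S : Subgroup G).equivMapOfInjective (MulAut.conj g).toMonoidHom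
      (MulAut.conj g).injective).trans (MulEquiv.subgroupCongr hS'coe.symm), fun s => rfl⟩
  have h₁ := h.of_equiv e₁
  have ht' : t = ((h₁.b ((2 : ℤ) ^ (n - 1)) ((2 : ℤ) ^ (n - 1)) : ↥(S' : Subgroup G)) : G) := by
    rw [h.of_equiv_b e₁, he₁, ← he, hg]
  obtain ⟨R, hcard, hK, hZ⟩ := h₁.centralizer_central_involution hG t ht'
  refine ⟨R, ?_, hK, hZ⟩
  rw [hcard]
  exact (Nat.card_congr e₁.toEquiv).symm

end Cfsg.Agent.Lib.Helper90
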