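import Mathlib
import Cfsg.Agent.Lib.Helper90.WreathedAb

set_option autoImplicit false

namespace Cfsg.Agent.Lib.Helper90

namespace WrData

variable {S : Type*} [Group S] {n : ℕ} {x y z : S}

section iso
variable (h : WrData S n x y z)
include h

theorem nonempty_B_equiv [Finite S] :
    Nonempty (h.B ≃* Multiplicative (ZMod (2 ^ n) × ZMod (2 ^ n))) := by
  have : NeZero (2 ^ n) := ⟨by positivity⟩
  -- the product map
  let φ : Subgroup.zpowers x × Subgroup.zpowers y →* S :=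
    MonoidHom.noncommCoprod (Subgroup.zpowers x).subtype (Subgroup.zpowers y).subtype (by
      rintro ⟨a, ha⟩ ⟨c, hc⟩
      obtain ⟨i, rfl⟩ := Subgroup.mem_zpowers_iff.mp ha
      obtain ⟨j, rfl⟩ := Subgroup.mem_zpowers_iff.mp hc
      exact h.commute_xy.zpow_zpow i j)
  have hφ : ∀ p, φ p = (p.1 : S) * (p.2 : S) := fun p => rfl
  have hmem : ∀ p, φ p ∈ h.B := by
    intro p
    rw [hφ]
    exact Subgroup.mul_mem _ (Subgroup.mem_sup_left p.1.2) (Subgroup.mem_sup_right p.2.2)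
  let ψ : Subgroup.zpowers x × Subgroup.zpowers y →* h.B := φ.codRestrict h.B hmem
  have hinj : Function.Injective ψ := by
    rw [injective_iff_map_eq_one]
    rintro ⟨⟨a, ha⟩, ⟨c, hc⟩⟩ hp
    have hp' : a * c = 1 := by
      have := congrArg Subtype.val hp
      simpa [ψ, hφ] using this
    have h1 : a = c⁻¹ := eq_inv_of_mul_eq_one_left hp'
    have h2 : a ∈ Subgroup.zpowers x ⊓ Subgroup.zpowers y := ⟨ha, h1 ▸ Subgroup.inv_mem _ hc⟩
    rw [h.disj, Subgroup.mem_bot] at h2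
    subst h2
    have h3 : c = 1 := by simpa using hp'
    subst h3
    rfl
  have hsurj : Function.Surjective ψ := by
    rintro ⟨s, hs⟩
    obtain ⟨i, j, rfl⟩ := (h.mem_B_iff s).mp hs
    refine ⟨(⟨x ^ i, Subgroup.zpow_mem_zpowers x i⟩, ⟨y ^ j, Subgroup.zpow_mem_zpowers y j⟩), ?_⟩
    apply Subtype.ext
    rfl
  have e0 : Subgroup.zpowers x × Subgroup.zpowers y ≃* h.B := MulEquiv.ofBijective ψ ⟨hinj, hsurj⟩
  have cx : Nat.card (Subgroup.zpowers x) = Nat.card (Multiplicative (ZMod (2 ^ n))) := by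
    rw [Nat.card_zpowers, h.ox]; simp
  have cy : Nat.card (Subgroup.zpowers y) = Nat.card (Multiplicative (ZMod (2 ^ n))) := by
    rw [Nat.card_zpowers, h.oy]; simp
  have e1 : Subgroup.zpowers x ≃* Multiplicative (ZMod (2 ^ n)) := mulEquivOfCyclicCardEq cx
  have e2 : Subgroup.zpowers y ≃* Multiplicative (ZMod (2 ^ n)) := mulEquivOfCyclicCardEq cy
  exact ⟨e0.symm.trans ((MulEquiv.prodCongr e1 e2).trans (MulEquiv.prodMultiplicative _ _).symm)⟩

end iso

end WrData

end Cfsg.Agent.Lib.Helper90
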